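import Cfsg.Agent.S3963
import Cfsg.Agent.GStructB.StemExt
import Cfsg.Agent.Lib.Classical.SylowSL2
import Cfsg.Agent.Lib.Classical.GL2
import Mathlib.GroupTheory.Transfer
import Mathlib.FieldTheory.Finite.Basic

/-!
# The Schur multiplier of `SL₂(q)`, `q ∉ {4, 9}`

In a stem extension every Sylow subgroup meets the kernel inside its derived group. For `r ≠ p` the Sylow
subgroups of `SL₂` are cyclic or quaternion; for `r = p` the torus forces the preimage of the unitriangular group to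
be abelian.
-/

set_option autoImplicit false
set_option linter.unusedSectionVars false

namespace Cfsg.Agent.SimpleFacts.SLTwoMultiplier

open scoped MatrixGroups commutatorElement
open Cfsg.Agent.Classical

universe u v

section general

variable {Γ : Type u} [Group Γ] [Finite Γ] {G : Type v} [Group G]

/-- A central element of the derived group lying in a Sylow subgroup lies in its derived group. -/
theorem mem_commutator_sylow {r : ℕ} [Fact r.Prime] (P : Sylow r Γ) {z : Γ}
    (hc : z ∈ Subgroup.center Γ) (hd : z ∈ commutator Γ) (hz : z ∈ (P : Subgroup Γ)) :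
    (⟨z, hz⟩ : (P : Subgroup Γ)) ∈ commutator (P : Subgroup Γ) := by
  let ϕ : (P : Subgroup Γ) →* Abelianization (P : Subgroup Γ) := Abelianization.of
  have key : ∀ (k : ℕ) (g₀ : Γ), g₀⁻¹ * z ^ k * g₀ ∈ (P : Subgroup Γ) →
      g₀⁻¹ * z ^ k * g₀ = z ^ k := fun k g₀ _ => by
    rw [mul_assoc, ← Subgroup.mem_center_iff.1 (pow_mem hc k) g₀, inv_mul_cancel_left]
  have h1 := MonoidHom.transfer_eq_pow ϕ z key
  have h2 : MonoidHom.transfer ϕ z = 1 :=
    Abelianization.commutator_subset_ker (MonoidHom.transfer ϕ) hd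
  rw [h2] at h1
  have h3 : ((⟨z, hz⟩ : (P : Subgroup Γ)) ^ (P : Subgroup Γ).index) ∈ commutator (P : Subgroup Γ) := by
    rw [← Abelianization.ker_of, MonoidHom.mem_ker]
    exact h1.symm
  obtain ⟨k, hk⟩ := P.isPGroup' ⟨z, hz⟩
  have hco : Nat.Coprime (P : Subgroup Γ).index (r ^ k) :=
    Nat.Coprime.pow_right _ (((Fact.out : r.Prime).coprime_iff_not_dvd).2 P.not_dvd_index).symm
  set w : (P : Subgroup Γ) := ⟨z, hz⟩ with hw
  obtain ⟨a, ha⟩ := Nat.chineseRemainder hco 0 1
  obtain ⟨b, hb⟩ := Nat.modEq_zero_iff_dvd.1 ha.1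
  have h4 : w ^ a = w := by
    rw [pow_eq_pow_mod a hk, ha.2, ← pow_eq_pow_mod 1 hk, pow_one]
  rw [← h4, hb, pow_mul]
  exact pow_mem h3 b

/-- The kernel of a stem extension is trivial if no Sylow subgroup meets it nontrivially. -/
theorem ker_eq_bot (σ : Γ →* G)
    (h : ∀ (r : ℕ) (_ : Fact r.Prime) (P : Sylow r Γ), ∀ z ∈ σ.ker, z ∈ (P : Subgroup Γ) → z = 1) :
    σ.ker = ⊥ := by
  rw [eq_bot_iff]
  intro z hz
  rw [Subgroup.mem_bot]
  by_contra hne
  obtain ⟨r, hr, hrz⟩ := Nat.exists_prime_and_dvd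
    (show orderOf z ≠ 1 from fun h => hne (orderOf_eq_one_iff.1 h))
  haveI : Fact r.Prime := ⟨hr⟩
  set y := z ^ (orderOf z / r) with hy
  have hord : orderOf y = r := orderOf_pow_orderOf_div (orderOf_pos z).ne' hrz
  obtain ⟨P, hP⟩ := (IsPGroup.of_card (G := Subgroup.zpowers y) (n := 1)
    (by rw [Nat.card_zpowers, hord, pow_one])).exists_le_sylow
  have := h r inferInstance P y (pow_mem hz _) (hP (Subgroup.mem_zpowers y))
  rw [this, orderOf_one] at hord
  exact hr.one_lt.ne hord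

/-- A stem extension of a quaternion group is trivial. -/
theorem quaternion_stem (n : ℕ) [NeZero n] (σ : Γ →* QuaternionGroup n)
    (hσ : Cfsg.IsStemExtension σ) : σ.ker = ⊥ := by
  have hn : 0 < n := Nat.pos_of_ne_zero (NeZero.ne n)
  have hsq : (2 * n - 1) ^ 2 ≡ 1 [MOD 2 * n] := by
    rw [← ZMod.natCast_eq_natCast_iff, Nat.cast_pow, Nat.cast_sub (by omega), ZMod.natCast_self]
    simp
  have hgcd : Nat.gcd (2 * n) (2 * n - 1 - 1) = 2 := by
    rw [show 2 * n - 1 - 1 = 2 * (n - 1) by omega, Nat.gcd_mul_left,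
      Nat.gcd_self_sub_right (show 1 ≤ n by omega)]
    simp
  obtain ⟨d, hle, hd⟩ := GStructB.StemExt.ker_le_zpowers σ hσ (QuaternionGroup.a 1)
    (QuaternionGroup.xa 0) (S3963.gen_aux n) (2 * n) 2 (2 * n - 1) 1 QuaternionGroup.orderOf_a_one
    (by omega) (by omega) hsq
    (by
      rw [mul_inv_eq_iff_eq_mul, QuaternionGroup.a_one_pow, QuaternionGroup.xa_mul_a,
        QuaternionGroup.a_mul_xa, Nat.cast_sub (by omega), ZMod.natCast_self]
      congr 1
      simp)
    (by
      rw [QuaternionGroup.xa_sq, hgcd, QuaternionGroup.a_one_pow]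
      simp)
  rw [Nat.gcd_one_left, Nat.dvd_one, orderOf_eq_one_iff] at hd
  rw [eq_bot_iff]
  exact hle.trans (by simp [hd])

/-- A Sylow subgroup mapping onto a cyclic group meets the kernel of a stem extension trivially. -/
theorem eq_one_of_abelian (σ : Γ →* G) (hσ : Cfsg.IsStemExtension σ) {r : ℕ} [Fact r.Prime]
    (P : Sylow r Γ) (hab : ∀ a ∈ (P : Subgroup Γ), ∀ b ∈ (P : Subgroup Γ), a * b = b * a)
    {z : Γ} (hz : z ∈ σ.ker) (hzP : z ∈ (P : Subgroup Γ)) : z = 1 := by
  have h := mem_commutator_sylow P (hσ.2.1 hz) (hσ.2.2 hz) hzP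
  have hbot : commutator (P : Subgroup Γ) = ⊥ := by
    rw [commutator_def, Subgroup.commutator_eq_bot_iff_le_centralizer]
    intro a _
    rw [Subgroup.mem_centralizer_iff]
    intro b _
    exact Subtype.ext (hab b.1 b.2 a.1 a.2)
  rw [hbot, Subgroup.mem_bot] at h
  exact congrArg Subtype.val h

end general

/-! ### The pairing on the unitriangular group -/

section pairing

variable {F : Type u} [Field F] [Fintype F] {Z : Type v} [CommGroup Z]
variable (c : F → F → Z) (hadd : ∀ x y z, c (x + y) z = c x z * c y z)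
  (hanti : ∀ x y, c y x = (c x y)⁻¹) (htor : ∀ a x y : F, a ≠ 0 → c (a * a * x) (a * a * y) = c x y)

include hadd hanti htor

theorem add_right (x y z : F) : c x (y + z) = c x y * c x z := by
  rw [hanti (y + z) x, hadd, mul_inv, ← hanti, ← hanti]

theorem quad_card_le (b e : F) [DecidableEq F] :
    (Finset.univ.filter fun x : F => x * x + b * x + e = 0).card ≤ 2 := by
  by_contra h
  rw [not_le, Finset.two_lt_card] at h
  obtain ⟨x, hx, y, hy, z, hz, hxy, hxz, hyz⟩ := h
  simp only [Finset.mem_filter, Finset.mem_univ, true_and] at hx hy hz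
  have h1 : (x - y) * (x + y + b) = 0 := by linear_combination hx - hy
  have h2 : (x - z) * (x + z + b) = 0 := by linear_combination hx - hz
  have e1 := (mul_eq_zero.1 h1).resolve_left (sub_ne_zero.2 hxy)
  have e2 := (mul_eq_zero.1 h2).resolve_left (sub_ne_zero.2 hxz)
  exact hyz (by linear_combination e1 - e2)

theorem pairing_trivial (p : ℕ) [Fact p.Prime] [CharP F p]
    (hq : if p = 2 then 4 < Fintype.card F else 10 < Fintype.card F) : ∀ x y, c x y = 1 := by
  classical
  by_contra hne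
  push Not at hne
  obtain ⟨x₀, y₀, hc0⟩ := hne
  have h0l : ∀ y, c 0 y = 1 := fun y => by
    have := hadd 0 0 y
    rwa [add_zero, left_eq_mul] at this
  have hr := add_right c hadd hanti htor
  have h0r : ∀ x, c x 0 = 1 := fun x => by
    have := hr x 0 0
    rwa [add_zero, left_eq_mul] at this
  have hneg : ∀ x y, c (-x) y = (c x y)⁻¹ := fun x y => by
    rw [eq_inv_iff_mul_eq_one, ← hadd, neg_add_cancel, h0l]
  have hnegr : ∀ x y, c x (-y) = (c x y)⁻¹ := fun x y => by
    rw [eq_inv_iff_mul_eq_one, ← hr, neg_add_cancel, h0r]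
  -- pairs of adjoint multiplications
  let A : F → F → Prop := fun l m => ∀ x y, c (l * x) y = c x (m * y)
  have Aadd : ∀ {l m l' m'}, A l m → A l' m' → A (l + l') (m + m') := fun {l m l' m'} h h' x y => by
    rw [add_mul, add_mul, hadd, hr, h, h']
  have Amul : ∀ {l m l' m'}, A l m → A l' m' → A (l * l') (m * m') := fun {l m l' m'} h h' x y => by
    rw [mul_comm l l', mul_assoc, h', h, ← mul_assoc]
  have Aneg : ∀ {l m}, A l m → A (-l) (-m) := fun {l m} h x y => by
    rw [neg_mul, neg_mul, hneg, hnegr, h]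
  have Asq : ∀ a : F, a ≠ 0 → A (a * a) (a⁻¹ * a⁻¹) := fun a ha x y => by
    rw [← htor a x (a⁻¹ * a⁻¹ * y) ha]
    congr 1
    field_simp
  have Aone : A 1 1 := fun x y => by rw [one_mul, one_mul]
  have Auniq : ∀ {l m m'}, A l m → A l m' → m = m' := by
    intro l m m' h h'
    by_contra hd
    refine hc0 ?_
    have key : ∀ x y, c x ((m - m') * y) = 1 := fun x y => by
      rw [sub_mul, sub_eq_add_neg, hr, hnegr, ← h, ← h', mul_inv_cancel]
    have := key x₀ ((m - m')⁻¹ * y₀)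
    rwa [← mul_assoc, mul_inv_cancel₀ (sub_ne_zero.2 hd), one_mul] at this
  have Azero : A 0 0 := fun x y => by rw [zero_mul, zero_mul, h0l, h0r]
  have Asq' : ∀ a : F, ∃ m, A (a * a) m := fun a => by
    by_cases ha : a = 0
    · exact ⟨0, by rw [ha, mul_zero]; exact Azero⟩
    · exact ⟨_, Asq a ha⟩
  have Aall : ∀ x : F, ∃ m, A x m := by
    intro x
    by_cases h2 : (2 : F) = 0
    · obtain ⟨a, ha⟩ := FiniteField.isSquare_of_char_two
        (ringChar.eq_iff.2 (by
          have : ringChar F ∣ 2 := (ringChar.spec F 2).1 (by exact_mod_cast h2)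
          rcases (Nat.dvd_prime Nat.prime_two).1 this with h | h
          · exact absurd h CharP.ringChar_ne_one
          · exact ringChar.of_eq h)) x
      rw [ha]
      exact Asq' a
    · obtain ⟨m₁, hm₁⟩ := Asq' ((x + 1) / 2)
      obtain ⟨m₂, hm₂⟩ := Asq' ((x - 1) / 2)
      refine ⟨m₁ + -m₂, ?_⟩
      have e : x = (x + 1) / 2 * ((x + 1) / 2) + -((x - 1) / 2 * ((x - 1) / 2)) := by
        field_simp
        ring
      rw [e]
      exact Aadd hm₁ (Aneg hm₂)
  choose s hs using Aall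
  have hsq : ∀ x : F, x ≠ 0 → s x = x⁻¹ ∨ (s x = -x⁻¹ ∧ (2 : F) ≠ 0) := fun x hx => by
    have h := Auniq (Amul (hs x) (hs x)) (Asq x hx)
    rcases mul_self_eq_mul_self_iff.1 h with h' | h'
    · exact Or.inl h'
    · by_cases h2 : (2 : F) = 0
      · refine Or.inl (h'.trans ?_)
        linear_combination (-x⁻¹) * h2
      · exact Or.inr ⟨h', h2⟩
  have hstep : ∀ x : F, s (x + 1) = s x + 1 := fun x => Auniq (hs _) (Aadd (hs x) Aone)
  let Q : F → F → Finset F := fun b e => Finset.univ.filter fun x : F => x * x + b * x + e = 0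
  let R : Finset F := if (2 : F) = 0 then {0, -1} ∪ Q 1 1
    else {0, -1} ∪ Q 1 1 ∪ Q (-1) (-1) ∪ Q 3 1 ∪ Q 1 (-1)
  have hR : ∀ x : F, x ∈ R := by
    intro x
    by_cases hx0 : x = 0
    · simp only [R]; split_ifs <;> simp [hx0]
    by_cases hx1 : x + 1 = 0
    · simp only [R]; split_ifs <;> simp [eq_neg_of_add_eq_zero_left hx1]
    have e := hstep x
    rcases hsq x hx0 with h1 | ⟨h1, t1⟩ <;> rcases hsq (x + 1) hx1 with h2 | ⟨h2, t2⟩ <;>
      rw [h1, h2] at e <;> field_simp at e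
    · have : x ∈ Q 1 1 := by simp [Q]; linear_combination -e
      simp only [R]; split_ifs <;> simp [this]
    · have : x ∈ Q 3 1 := by simp [Q]; linear_combination -e
      simp only [R]; rw [if_neg t2]; simp [this]
    · have : x ∈ Q (-1) (-1) := by simp [Q]; linear_combination -e
      simp only [R]; rw [if_neg t1]; simp [this]
    · have : x ∈ Q 1 (-1) := by simp [Q]; linear_combination -e
      simp only [R]; rw [if_neg t1]; simp [this]
  have hcard : Fintype.card F ≤ R.card := by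
    rw [← Finset.card_univ]
    exact Finset.card_le_card fun x _ => hR x
  have hQ := quad_card_le c hadd hanti htor
  have h01 : ({0, -1} : Finset F).card ≤ 2 := Finset.card_le_two
  have u2 : ∀ s t : Finset F, (s ∪ t).card ≤ s.card + t.card := fun s t => Finset.card_union_le s t
  by_cases hp : p = 2
  · subst hp
    rw [if_pos rfl] at hq
    have h2 : (2 : F) = 0 := by
      have := CharP.cast_eq_zero F 2
      exact_mod_cast this
    have : R.card ≤ 4 := by
      simp only [R, if_pos h2]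
      have := u2 {0, -1} (Q 1 1)
      have := hQ 1 1
      simp only [Q] at *
      omega
    omega
  · rw [if_neg hp] at hq
    have h2 : (2 : F) ≠ 0 := Ring.two_ne_zero (by rwa [ringChar.eq F p])
    have : R.card ≤ 10 := by
      simp only [R, if_neg h2]
      have := u2 ({0, -1} ∪ Q 1 1 ∪ Q (-1) (-1) ∪ Q 3 1) (Q 1 (-1))
      have := u2 ({0, -1} ∪ Q 1 1 ∪ Q (-1) (-1)) (Q 3 1)
      have := u2 ({0, -1} ∪ Q 1 1) (Q (-1) (-1))
      have := u2 {0, -1} (Q 1 1)
      have := hQ 1 1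
      have := hQ (-1) (-1)
      have := hQ 3 1
      have := hQ 1 (-1)
      simp only [Q] at *
      omega
    omega

end pairing

/-! ### The theorem -/

section SL2

variable {F : Type u} [Field F] [Fintype F]

theorem conj_uni (a : Fˣ) (x : F) :
    Torus.diagHom a * GL2.uniSL x * (Torus.diagHom a)⁻¹ = GL2.uniSL ((a : F) * (a : F) * x) := by
  rw [mul_inv_eq_iff_eq_mul]
  have hd : (Torus.diagHom a : Matrix (Fin 2) (Fin 2) F) = !![(a : F), 0; 0, ((a⁻¹ : Fˣ) : F)] := rfl
  refine GL2.sl_ext ?_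
  rw [Matrix.SpecialLinearGroup.coe_mul, Matrix.SpecialLinearGroup.coe_mul, hd, GL2.coe_uniSL,
    GL2.coe_uniSL]
  ext i j
  fin_cases i <;> fin_cases j <;> simp [Matrix.mul_apply, Fin.sum_univ_two]
  field_simp

variable {Γ : Type v} [Group Γ] [Finite Γ] (σ : Γ →* SL(2, F)) (hσ : Cfsg.IsStemExtension σ)

include hσ

/-- The preimage of the unitriangular group is abelian. -/
theorem preimage_abelian (p : ℕ) [Fact p.Prime] [CharP F p] (h4 : Fintype.card F ≠ 4)
    (h9 : Fintype.card F ≠ 9) (a b : Γ) (ha : σ a ∈ GL2.U F) (hb : σ b ∈ GL2.U F) :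
    a * b = b * a := by
  classical
  obtain ⟨xa, hxa⟩ := ha
  obtain ⟨xb, hxb⟩ := hb
  have hsurj := hσ.1
  choose u hu using fun x : F => hsurj (GL2.uniSL x)
  have hker : ∀ {g h : Γ}, σ g = σ h → ∃ z ∈ Subgroup.center Γ, g = z * h := fun {g h} e =>
    ⟨g * h⁻¹, hσ.2.1 (by rw [MonoidHom.mem_ker, map_mul, map_inv, e, mul_inv_cancel]), by group⟩
  have hcomm : ∀ g h, σ g ∈ GL2.U F → σ h ∈ GL2.U F → ⁅g, h⁆ ∈ Subgroup.center Γ := by
    intro g h hg hh
    refine hσ.2.1 ?_
    obtain ⟨x, hx⟩ := hg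
    obtain ⟨y, hy⟩ := hh
    rw [MonoidHom.mem_ker, map_commutatorElement, ← hx, ← hy, ← map_commutatorElement,
      commutatorElement_eq_one_iff_mul_comm.2 (mul_comm x y), map_one]
  have hU : ∀ x, σ (u x) ∈ GL2.U F := fun x => ⟨Multiplicative.ofAdd x, (hu x).symm⟩
  have hcongr : ∀ {g g' h h' : Γ}, σ g = σ g' → σ h = σ h' → ⁅g, h⁆ = ⁅g', h'⁆ := by
    intro g g' h h' e1 e2
    obtain ⟨z, hz, rfl⟩ := hker e1
    obtain ⟨w, hw, rfl⟩ := hker e2
    have hz' := Subgroup.mem_center_iff.1 hz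
    have hw' := Subgroup.mem_center_iff.1 hw
    simp only [commutatorElement_def, mul_inv_rev]
    calc z * g' * (w * h') * (g'⁻¹ * z⁻¹) * (h'⁻¹ * w⁻¹)
        = (g' * z) * (h' * w) * (g'⁻¹ * z⁻¹) * (h'⁻¹ * w⁻¹) := by rw [hz' g', hw' h']
      _ = g' * (z * (h' * w * g'⁻¹)) * z⁻¹ * (h'⁻¹ * w⁻¹) := by group
      _ = g' * ((h' * w * g'⁻¹) * z) * z⁻¹ * (h'⁻¹ * w⁻¹) := by rw [hz' (h' * w * g'⁻¹)]
      _ = g' * h' * (w * (g'⁻¹ * h'⁻¹)) * w⁻¹ := by group
      _ = g' * h' * ((g'⁻¹ * h'⁻¹) * w) * w⁻¹ := by rw [hw' (g'⁻¹ * h'⁻¹)]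
      _ = g' * h' * g'⁻¹ * h'⁻¹ := by group
  letI : CommGroup (Subgroup.center Γ) :=
    { (inferInstance : Group (Subgroup.center Γ)) with
      mul_comm := fun a b => Subtype.ext (Subgroup.mem_center_iff.1 b.2 a.1) }
  let c : F → F → Subgroup.center Γ := fun x y => ⟨⁅u x, u y⁆, hcomm _ _ (hU x) (hU y)⟩
  have hab : a * b = b * a ↔ (c xa.toAdd xb.toAdd : Γ) = 1 := by
    rw [← commutatorElement_eq_one_iff_mul_comm]
    have : ⁅a, b⁆ = ⁅u xa.toAdd, u xb.toAdd⁆ :=
      hcongr (by rw [hu, ← hxa]; rfl) (by rw [hu, ← hxb]; rfl)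
    rw [this]
  rw [hab]
  have hanti : ∀ x y, c y x = (c x y)⁻¹ := fun x y =>
    Subtype.ext (commutatorElement_inv (u x) (u y)).symm
  have hadd : ∀ x y z, c (x + y) z = c x z * c y z := by
    intro x y z
    refine Subtype.ext ?_
    show ⁅u (x + y), u z⁆ = ⁅u x, u z⁆ * ⁅u y, u z⁆
    rw [hcongr (g' := u x * u y) (h' := u z) (by rw [map_mul, hu, hu, hu, GL2.uniSL_mul]) rfl]
    have h1 := Subgroup.mem_center_iff.1 (hcomm _ _ (hU y) (hU z))
    have h2 := Subgroup.mem_center_iff.1 (hcomm _ _ (hU x) (hU z))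
    calc ⁅u x * u y, u z⁆ = u x * ⁅u y, u z⁆ * (u z * (u x)⁻¹ * (u z)⁻¹) := by
          simp only [commutatorElement_def]; group
      _ = ⁅u y, u z⁆ * u x * (u z * (u x)⁻¹ * (u z)⁻¹) := by rw [h1 (u x)]
      _ = ⁅u y, u z⁆ * ⁅u x, u z⁆ := by simp only [commutatorElement_def]; group
      _ = _ := h2 _
  have htor : ∀ a x y : F, a ≠ 0 → c (a * a * x) (a * a * y) = c x y := by
    intro a x y ha
    obtain ⟨t, ht⟩ := hsurj (Torus.diagHom (Units.mk0 a ha))
    refine Subtype.ext ?_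
    show ⁅u (a * a * x), u (a * a * y)⁆ = ⁅u x, u y⁆
    have e : ∀ x, σ (u (a * a * x)) = σ (t * u x * t⁻¹) := fun x => by
      rw [map_mul, map_mul, map_inv, hu, hu, ht, conj_uni]; rfl
    rw [hcongr (e x) (e y)]
    have h1 := Subgroup.mem_center_iff.1 (hcomm _ _ (hU x) (hU y)) t
    calc ⁅t * u x * t⁻¹, t * u y * t⁻¹⁆ = t * ⁅u x, u y⁆ * t⁻¹ := by
          simp only [commutatorElement_def]; group
      _ = ⁅u x, u y⁆ * t * t⁻¹ := by rw [h1]
      _ = _ := mul_inv_cancel_right _ _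
  -- prime fields give a cyclic group, larger ones a trivial pairing
  obtain ⟨f, hp, hf⟩ := FiniteField.card F p
  have hcases : (f : ℕ) = 1 ∨ (if p = 2 then 4 < Fintype.card F else 10 < Fintype.card F) := by
    by_contra h
    rw [not_or] at h
    obtain ⟨hf1, h⟩ := h
    have hf2 : 2 ≤ (f : ℕ) := by have := f.pos; omega
    rw [hf] at h h4 h9
    split_ifs at h with hp2
    · subst hp2
      have h22 : 2 ^ 2 ≤ 2 ^ (f : ℕ) := Nat.pow_le_pow_right (by norm_num) hf2
      omega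
    · have h3 : 3 ≤ p := by have := hp.two_le; omega
      have hle : 3 ^ 2 ≤ p ^ (f : ℕ) :=
        (Nat.pow_le_pow_left h3 2).trans (Nat.pow_le_pow_right (by omega) hf2)
      have hev : Odd (p ^ (f : ℕ)) := (hp.odd_of_ne_two hp2).pow
      obtain ⟨k, hk⟩ := hev
      omega
  rcases hcases with hf1 | hbig
  · have hcard : Fintype.card F = p := by rw [hf, hf1, pow_one]
    have hz : ∀ x : F, ∃ k : ℕ, x = (k : F) := by
      intro x
      haveI : NeZero p := ⟨hp.ne_zero⟩
      obtain ⟨k, hk⟩ := (ZMod.ringEquiv F hcard).surjective x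
      exact ⟨k.val, by rw [← hk, ← map_natCast (ZMod.ringEquiv F hcard), ZMod.natCast_zmod_val]⟩
    have h0 : ∀ y, c 0 y = 1 := fun y => by
      have := hadd 0 0 y
      rwa [add_zero, left_eq_mul] at this
    have hnat : ∀ (k : ℕ) (x y : F), c ((k : F) * x) y = c x y ^ k := by
      intro k x y
      induction k with
      | zero => rw [Nat.cast_zero, zero_mul, h0, pow_zero]
      | succ k ih => rw [Nat.cast_succ, add_mul, one_mul, hadd, ih, pow_succ]
    have h11 : ∀ x, c x x = 1 := fun x => Subtype.ext (commutatorElement_self (u x))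
    have hone : ∀ y, c 1 y = 1 := fun y => by
      obtain ⟨k, rfl⟩ := hz y
      rw [hanti, ← mul_one (k : F), hnat, h11, one_pow, inv_one]
    obtain ⟨k, hk⟩ := hz xa.toAdd
    rw [hk, ← mul_one (k : F), hnat, hone, one_pow]
    rfl
  · exact congrArg Subtype.val (pairing_trivial c hadd hanti htor p hbig _ _)

theorem ker_bot (h4 : Fintype.card F ≠ 4) (h9 : Fintype.card F ≠ 9) : σ.ker = ⊥ := by
  obtain ⟨p, hpc⟩ := CharP.exists F
  haveI : CharP F p := hpc
  haveI : Fact p.Prime := ⟨CharP.char_is_prime F p⟩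
  refine ker_eq_bot σ fun r _ P z hz hzP => ?_
  -- a Sylow subgroup of `SL₂` below
  set R : Sylow r SL(2, F) := P.mapSurjective hσ.1 with hR
  let π : (P : Subgroup Γ) →* (R : Subgroup SL(2, F)) :=
    (σ.comp (P : Subgroup Γ).subtype).codRestrict _ fun x => ⟨x.1, x.2, rfl⟩
  have hπs : Function.Surjective π := by
    rintro ⟨y, x, hx, rfl⟩
    exact ⟨⟨x, hx⟩, rfl⟩
  have hπk : π.ker ≤ Subgroup.center (P : Subgroup Γ) := fun x hx => by
    rw [Subgroup.mem_center_iff]
    intro y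
    exact Subtype.ext (Subgroup.mem_center_iff.1 (hσ.2.1 (MonoidHom.mem_ker.2
      (congrArg Subtype.val (MonoidHom.mem_ker.1 hx)))) y.1)
  have hcyc : IsCyclic (R : Subgroup SL(2, F)) → z = 1 := fun hc => by
    refine eq_one_of_abelian σ hσ P (fun a ha b hb => ?_) hz hzP
    have := π.isMulCommutative_of_isCyclic_of_ker_le_center hπk
    exact congrArg Subtype.val (this.is_comm.comm ⟨a, ha⟩ ⟨b, hb⟩)
  by_cases hrp : r = p
  · subst hrp
    obtain ⟨g, hg⟩ := GL2.exists_eq_conj_U r R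
    obtain ⟨gl, hgl⟩ := hσ.1 g
    refine eq_one_of_abelian σ hσ P (fun a ha b hb => ?_) hz hzP
    have key : ∀ a ∈ (P : Subgroup Γ), σ (gl⁻¹ * a * gl) ∈ GL2.U F := by
      intro a ha
      have h1 : σ a ∈ (R : Subgroup SL(2, F)) := ⟨a, ha, rfl⟩
      rw [hg, Sylow.coe_subgroup_smul] at h1
      obtain ⟨w, hw, hwa⟩ := h1
      rw [map_mul, map_mul, map_inv, hgl, ← hwa]
      show g⁻¹ * (g * w * g⁻¹) * g ∈ GL2.U F
      rw [show g⁻¹ * (g * w * g⁻¹) * g = w by group]
      exact hw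
    have := preimage_abelian σ hσ r h4 h9 _ _ (key a ha) (key b hb)
    calc a * b = gl * ((gl⁻¹ * a * gl) * (gl⁻¹ * b * gl)) * gl⁻¹ := by group
      _ = gl * ((gl⁻¹ * b * gl) * (gl⁻¹ * a * gl)) * gl⁻¹ := by rw [this]
      _ = b * a := by group
  · by_cases hr2 : r = 2
    · subst hr2
      have hodd : Odd (Fintype.card F) := by
        obtain ⟨f, hp, hf⟩ := FiniteField.card F p
        rw [hf]
        exact (hp.odd_of_ne_two (Ne.symm hrp)).pow
      obtain ⟨⟨e⟩, -⟩ := SylowSL2.sylow_two hodd R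
      haveI : NeZero (2 ^ ((Nat.card SL(2, F)).factorization 2 - 2)) := ⟨pow_ne_zero _ two_ne_zero⟩
      let τ := e.toMonoidHom.comp π
      have hk : τ.ker = π.ker := by
        ext x
        simp [τ, MonoidHom.mem_ker]
      have hstem : Cfsg.IsStemExtension τ := by
        refine ⟨e.surjective.comp hπs, hk.le.trans hπk, fun x hx => ?_⟩
        have hx1 : π x = 1 := MonoidHom.mem_ker.1 (hk.le hx)
        have hx' : σ x.1 = 1 := congrArg Subtype.val hx1
        exact mem_commutator_sylow P (hσ.2.1 (MonoidHom.mem_ker.2 hx'))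
          (hσ.2.2 (MonoidHom.mem_ker.2 hx')) x.2
      have hbot := quaternion_stem _ τ hstem
      have hmem : (⟨z, hzP⟩ : (P : Subgroup Γ)) ∈ τ.ker := by
        rw [hk, MonoidHom.mem_ker]
        exact Subtype.ext (MonoidHom.mem_ker.1 hz)
      rw [hbot, Subgroup.mem_bot] at hmem
      exact congrArg Subtype.val hmem
    · exact hcyc (SylowSL2.isCyclic_sylow p r hr2 hrp R)

end SL2

/-- The multiplier of `SL₂(q)` is trivial for `q ∉ {4, 9}`. -/
theorem main {F : Type u} [Field F] [Fintype F] (h4 : Fintype.card F ≠ 4) (h9 : Fintype.card F ≠ 9) :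
    Cfsg.HasCyclicSchurMultiplier (Matrix.SpecialLinearGroup (Fin 2) F) 1 :=
  GStructB.StemExt.hasCyclicSchurMultiplier_one fun _ _ _ σ hσ => ker_bot σ hσ h4 h9

end Cfsg.Agent.SimpleFacts.SLTwoMultiplier
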