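import Cfsg.Agent.Lib.Chevalley.Parabolic
import Cfsg.Agent.Lib.Chevalley.NormalForm
import Cfsg.Agent.Lib.Chevalley.Count
import Cfsg.Agent.Lib.CharP.CharP

/-!
A parabolic subgroup contains the centraliser of its unipotent radical in that radical.
-/

set_option autoImplicit false

open scoped Matrix

namespace Cfsg.Agent.SimpleFacts.ChevalleyRadical

open Cfsg.Lie Cfsg.Agent.Chevalley.Eval Cfsg.Agent.Chevalley.Table Cfsg.Agent.Chevalley.Check Cfsg.Agent.Chevalley.Cert
  Cfsg.Agent.Chevalley.Group Cfsg.Agent.Chevalley.Borel Cfsg.Agent.Chevalley.Bruhat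
  Cfsg.Agent.Chevalley.Weyl Cfsg.Agent.Chevalley.Unip Cfsg.Agent.Chevalley.NormalForm
  Cfsg.Agent.Chevalley.Diag Cfsg.Agent.Chevalley.Coef

/-- For distinct fundamental roots `i`, `j`: some root `r` through `i` can be raised by `α_j`, staying
a root through `i`. -/
noncomputable def stepChk (T : Tab) : Bool :=
  allR T.l fun i => allR T.l fun j => Nat.beq i j || !(allR T.n fun r =>
    !(iblt 0 (T.phi r) && (!isZ (T.C r i) && (List.rec false (fun q _ _ => !isZ (T.C q.1 i))
      (T.E (T.simple j) r) : Bool))))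

theorem allR_of_forall {n : ℕ} {p : ℕ → Bool} (h : ∀ i < n, p i = true) : allR n p = true := by
  induction n with
  | zero => rfl
  | succ n ih =>
    show (bif p n then allR n p else false) = true
    rw [h n (Nat.lt_succ_self n), cond_true]
    exact ih fun i hi => h i (Nat.lt_succ_of_lt hi)

variable {D : ChevalleyDatum} {F : Type*} [Field F] {T : Tab} (hC : Certified D T)
include hC

theorem exists_step (hS : stepChk T = true) {i j : ℕ} (hi : i < D.rank) (hj : j < D.rank)
    (hij : i ≠ j) : ∃ (r : ℕ) (q : ℕ × ℤ), r < D.nroots ∧ 0 < T.phi r ∧ cor D r i ≠ 0 ∧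
      (D.chainEntry (D.simple j) r)[0]? = some q ∧ cor D q.1 i ≠ 0 := by
  have h := of_allR (of_allR hS i (by rw [hC.l_eq]; exact hi)) j (by rw [hC.l_eq]; exact hj)
  simp only [Bool.or_eq_true, Nat.beq_eq, hij, false_or, Bool.not_eq_true'] at h
  by_contra hcon
  have : allR T.n (fun r => !(iblt 0 (T.phi r) && (!isZ (T.C r i) &&
      (List.rec false (fun q _ _ => !isZ (T.C q.1 i)) (T.E (T.simple j) r) : Bool)))) = true := by
    refine allR_of_forall fun r hr => ?_
    rw [hC.n_eq] at hr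
    rw [Bool.not_eq_true', ← Bool.not_eq_true]
    intro hb
    simp only [Bool.and_eq_true, Bool.not_eq_true'] at hb
    obtain ⟨h1, h2, h3⟩ := hb
    rw [hC.simple_eq hj, hC.linked.E_eq _ (hC.simple_lt hj) r hr] at h3
    rcases hE : D.chainEntry (D.simple j) r with _ | ⟨q, L⟩
    · rw [hE] at h3; exact Bool.noConfusion h3
    · rw [hE] at h3
      have hq : (D.chainEntry (D.simple j) r)[0]? = some q := by rw [hE]; rfl
      have hql := (hC.chain_step (hC.simple_lt hj) hq).1
      have hz1 : T.C r i ≠ 0 := fun e => by rw [(isZ_iff _).2 e] at h2; exact Bool.noConfusion h2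
      have hz2 : T.C q.1 i ≠ 0 := fun e => by
        simp only [(isZ_iff _).2 e] at h3
        exact Bool.noConfusion h3
      rw [hC.linked.C_eq r hr i hi] at hz1
      rw [hC.linked.C_eq _ hql i hi] at hz2
      exact hcon ⟨r, q, hr, (iblt_iff _ _).1 h1, hz1, hq, hz2⟩
  rw [this] at h
  exact Bool.noConfusion h

theorem parabolic_le_group (J : Set ℕ) : D.parabolicSubgroup F J ≤ D.group F :=
  sup_le (B_le_group hC) ((Subgroup.closure_le _).2 fun g ⟨j, _, hj, hg⟩ => by
    rw [show g = ng hC (D.simple j) 1 from Units.ext (hg.trans (coe_ng hC _ _).symm)]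
    exact N_le_group hC (ng_mem_N hC hj))

theorem radical_le_U (J : Set ℕ) : D.unipotentRadical F J ≤ D.posUnipotent F :=
  Subgroup.closure_mono fun _ ⟨r, t, hr, _, hg⟩ => ⟨r, t, hr, hg⟩

theorem isPGroup_U [Finite F] (p : ℕ) [Fact p.Prime] [CharP F p] :
    IsPGroup p ↥(D.posUnipotent F) := by
  haveI : Fintype F := Fintype.ofFinite F
  obtain ⟨n, -, hq⟩ := FiniteField.card F p
  refine IsPGroup.of_card (n := (n : ℕ) * D.posRoots.length) ?_
  rw [Cfsg.Agent.Chevalley.Count.card_U hC, Nat.card_eq_fintype_card, hq, ← pow_mul]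

theorem not_mem_Uge {s : ℕ} (hs : s < D.nroots) (hp : 0 < T.phi s) {η : F}
    (h : xg hC s η ∈ Uge hC F (s + 1)) : η = 0 := by
  classical
  obtain ⟨f, hf⟩ := split_decomp hC (fun _ => true) (s + 1) _ h
  rw [List.filter_true, show (posFrom D (s + 1)).filter (fun r => !((fun _ => true) r)) = [] by simp,
    List.reverse_nil] at hf
  have hs' : ∀ x ∈ posFrom D (s + 1), x ≠ s := fun x hx e => by
    have := ((mem_posFrom hC).1 hx).2.2; omega
  have e : prodX hC (s :: posFrom D (s + 1)) (Function.update f s (-η)) =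
      prodX hC (s :: posFrom D (s + 1)) (fun _ => 0) := by
    have h0 : prodX hC (s :: posFrom D (s + 1)) (fun _ => (0 : F)) = 1 := by
      simp [prodX, xg_zero hC]
    have h1 : prodX hC (s :: posFrom D (s + 1)) (Function.update f s (-η)) =
        xg hC s (-η) * prodX hC (posFrom D (s + 1)) f := by
      rw [← prodX_congr hC (t := Function.update f s (-η)) (t' := f)
        fun x hx => Function.update_of_ne (hs' x hx) _ _]
      simp [prodX]
    have h2 : prodX hC (posFrom D (s + 1)) f = xg hC s η := by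
      simpa [prodX] using hf.symm
    rw [h0, h1, h2, ← xg_add hC, neg_add_cancel, xg_zero hC]
  have h3 := prodX_inj hC (List.pairwise_cons.2
    ⟨fun x hx => by have := ((mem_posFrom hC).1 hx).2.2; omega, posFrom_sorted (s + 1)⟩)
    (fun r hr => by
      rcases List.mem_cons.1 hr with rfl | hr
      · exact ⟨hs, hp⟩
      · exact ⟨((mem_posFrom hC).1 hr).1, ((mem_posFrom hC).1 hr).2.1⟩) e s List.mem_cons_self
  simpa using h3

/-- Conjugation in `U` moves `x_r(t)` only upwards. -/
theorem conj_xg_Uge {r : ℕ} (hr : r < D.nroots) (hp : 0 < T.phi r) {u : GL D.Idx F}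
    (hu : u ∈ D.posUnipotent F) :
    ∀ t : F, u * xg hC r t * u⁻¹ * (xg hC r t)⁻¹ ∈ Uge hC F (r + 1) := by
  have hUge : ∀ {s : ℕ} (c : F), s < D.nroots → 0 < T.phi s → xg hC s c ∈ D.posUnipotent F :=
    fun c hs hps => xg_mem_U hC hs hps c
  rw [U_eq_closure hC] at hu
  induction hu using Subgroup.closure_induction with
  | mem x hx =>
    obtain ⟨s, c, hs, hps, rfl⟩ := hx
    intro t
    by_cases hsr : s = r
    · subst hsr
      rw [xg_inv hC, xg_inv hC, ← xg_add hC, ← xg_add hC, ← xg_add hC,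
        show c + t + -c + -t = (0 : F) by ring, xg_zero hC]
      exact one_mem _
    · have hsn : s ≠ D.neg r := by
        rintro rfl
        rw [hC.phi_neg hr] at hps
        omega
      have hW := commWord_mem (F := F) (a := r + 1) hC hr hs hp hps (by omega) t c
      have h1 := conj_Uge_of_mem hC (hUge t hr hp) (conj_Uge_of_mem hC (hUge c hs hps) hW)
      have e : xg hC s c * xg hC r t * (xg hC s c)⁻¹ * (xg hC r t)⁻¹ = xg hC r t *
          (xg hC s c * ((D.commWord F r s t c).map fun p => xg hC p.1 p.2).prod *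
            (xg hC s c)⁻¹) * (xg hC r t)⁻¹ := by
        rw [xg_comm hC hr hs hsr hsn t c]; group
      rw [e]; exact h1
  | one => intro t; simp
  | mul a b ha hb iha ihb =>
    intro t
    have e : a * b * xg hC r t * (a * b)⁻¹ * (xg hC r t)⁻¹ =
        a * (b * xg hC r t * b⁻¹ * (xg hC r t)⁻¹) * a⁻¹ *
          (a * xg hC r t * a⁻¹ * (xg hC r t)⁻¹) := by group
    rw [e]
    rw [← U_eq_closure hC] at ha
    exact mul_mem (conj_Uge_of_mem hC ha (ihb t)) (iha t)
  | inv a ha iha =>
    intro t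
    have e : a⁻¹ * xg hC r t * a⁻¹⁻¹ * (xg hC r t)⁻¹ =
        (a⁻¹ * (a * xg hC r t * a⁻¹ * (xg hC r t)⁻¹) * a⁻¹⁻¹)⁻¹ := by group
    rw [e]
    rw [← U_eq_closure hC] at ha
    exact inv_mem (conj_Uge_of_mem hC (inv_mem ha) (iha t))

/-- The subgroup generated by the root elements of `U_J` above `r`. -/
abbrev Zgt (hC : Certified D T) (F : Type*) [Field F] (J : Set ℕ) (r : ℕ) :
    Subgroup (GL D.Idx F) :=
  Subgroup.closure {g : GL D.Idx F | ∃ (s : ℕ) (t : F), s < D.nroots ∧
    (0 < T.phi s ∧ ¬ D.InRootSub J s ∧ r < s) ∧ g = xg hC s t}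

theorem Zgt_le_Uge (J : Set ℕ) (r : ℕ) : Zgt hC F J r ≤ Uge hC F (r + 1) := by
  refine Subgroup.closure_mono ?_
  rintro g ⟨s, t, hs, ⟨hp, -, hrs⟩, rfl⟩
  exact ⟨s, t, hs, hp, hrs, rfl⟩

theorem Zgt_le_radical (J : Set ℕ) (r : ℕ) : Zgt hC F J r ≤ D.unipotentRadical F J := by
  refine Subgroup.closure_mono ?_
  rintro g ⟨s, t, hs, ⟨hp, hJ, -⟩, rfl⟩
  exact ⟨s, t, (hC.posRoot_iff hs).2 hp, hJ, coe_xg hC s t⟩

variable {N : List (List ℤ)} (hN : coefChk T N = true)
include hN

theorem radical_inter_Uge (J : Set ℕ) (r : ℕ) {g : GL D.Idx F}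
    (h1 : g ∈ D.unipotentRadical F J) (h2 : g ∈ Uge hC F (r + 1)) : g ∈ Zgt hC F J r := by
  classical
  obtain ⟨f, hf⟩ := split_decomp hC (fun s => decide (¬ D.InRootSub J s)) (r + 1) _ h2
  obtain ⟨A, hA⟩ : ∃ A : GL D.Idx F, A = prodX hC
      ((posFrom D (r + 1)).filter fun s => decide (¬ D.InRootSub J s)) f := ⟨_, rfl⟩
  obtain ⟨B, hB⟩ : ∃ B : GL D.Idx F, B = prodX hC
      ((posFrom D (r + 1)).filter fun s => !decide (¬ D.InRootSub J s)).reverse f := ⟨_, rfl⟩
  rw [← hA, ← hB] at hf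
  have hAZ : A ∈ Zgt hC F J r := by
    rw [hA]
    refine list_prod_mem fun y hy => ?_
    obtain ⟨s, hs, rfl⟩ := List.mem_map.1 hy
    obtain ⟨hs', hq⟩ := List.mem_filter.1 hs
    obtain ⟨h3, h4, h5⟩ := (mem_posFrom hC).1 hs'
    exact Subgroup.subset_closure ⟨s, _, h3, ⟨h4, of_decide_eq_true hq, h5⟩, rfl⟩
  have hBL : B ∈ D.leviSubgroup F J := by
    rw [hB]
    refine list_prod_mem fun y hy => ?_
    obtain ⟨s, hs, rfl⟩ := List.mem_map.1 hy
    obtain ⟨-, hq⟩ := List.mem_filter.1 (List.mem_reverse.1 hs)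
    refine Subgroup.mem_sup_right (Subgroup.subset_closure ⟨s, f s, ?_, coe_xg hC s _⟩)
    simpa using hq
  have hBU : B ∈ D.unipotentRadical F J := by
    have : B = A⁻¹ * g := by rw [hf]; group
    rw [this]
    exact mul_mem (inv_mem (Zgt_le_radical hC J r hAZ)) h1
  have hB1 : B ∈ (⊥ : Subgroup (GL D.Idx F)) := by
    rw [← Cfsg.Agent.Chevalley.Parabolic.radical_inf_levi hC hN J]; exact ⟨hBU, hBL⟩
  rw [Subgroup.mem_bot] at hB1
  rw [hf, hB1, mul_one]
  exact hAZ

theorem root_of_mem (J : Set ℕ) {s : ℕ} (hs : s < D.nroots) {η : F} (hη : η ≠ 0)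
    (h : xg hC s η ∈ D.unipotentRadical F J) : 0 < T.phi s ∧ ¬ D.InRootSub J s := by
  have hne : xg hC s η ≠ 1 := fun e => by
    rw [← xg_zero hC s] at e; exact hη (xg_injective hC hs e)
  have hp : 0 < T.phi s := by
    by_contra hcon
    have := hC.phi_ne_zero hs
    exact hne (U_inf_V hC (radical_le_U hC J h) (xg_mem_V hC hs (by omega) η))
  refine ⟨hp, fun hJ => hne ?_⟩
  have hmem : xg hC s η ∈ (⊥ : Subgroup (GL D.Idx F)) := by
    rw [← Cfsg.Agent.Chevalley.Parabolic.radical_inf_levi hC hN J]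
    exact ⟨h, Subgroup.mem_sup_right (Subgroup.subset_closure ⟨s, η, hJ, coe_xg hC s η⟩)⟩
  exact Subgroup.mem_bot.1 hmem

variable (hS : stepChk T = true)
include hS

/-- An element of `P_J` commuting with `x_r(1)` for the roots of `U_J` lies in `U`. -/
theorem centralizer_roots_le_U {J : Set ℕ} (hJ : ∃ i, i < D.rank ∧ i ∉ J) {g : GL D.Idx F}
    (hgP : g ∈ D.parabolicSubgroup F J)
    (hc : ∀ r < D.nroots, 0 < T.phi r → ¬ D.InRootSub J r →
      g * xg hC r (1 : F) = xg hC r 1 * g) : g ∈ D.posUnipotent F := by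
  obtain ⟨i₀, hi₀, hi₀J⟩ := hJ
  have hnorm := Cfsg.Agent.Chevalley.Parabolic.normalizes (F := F) hC hN J
  have hBP : D.borelSubgroup F ≤ D.parabolicSubgroup F J := le_sup_left
  obtain ⟨b, hb, n, hn, u, hu, hg⟩ := exists_form hC (parabolic_le_group hC J hgP)
  have huU : u ∈ D.posUnipotent F := Uminus_le_U hC _ hu
  have hnP : n ∈ D.parabolicSubgroup F J := by
    have : n = b⁻¹ * g * u⁻¹ := by rw [hg]; group
    rw [this]
    exact mul_mem (mul_mem (inv_mem (hBP hb)) hgP) (inv_mem (hBP (Subgroup.mem_sup_left huU)))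
  obtain ⟨c, L, hL, hnd⟩ := (mem_N_iff hC).1 hn
  have hrad : ∀ {s : ℕ}, s < D.nroots → 0 < T.phi s → ¬ D.InRootSub J s → ∀ t : F,
      xg hC s t ∈ D.unipotentRadical F J := fun {s} hs hp hJ' t =>
    Subgroup.subset_closure ⟨s, t, (hC.posRoot_iff hs).2 hp, hJ', coe_xg hC s t⟩
  -- `w` fixes every root of `U_J`
  have hfix : ∀ m r, D.nroots ≤ r + m → r < D.nroots → 0 < T.phi r → ¬ D.InRootSub J r →
      wL D L r = r := by
    intro m
    induction m with
    | zero => intro r h1 h2; omega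
    | succ m ih =>
      intro r hrm hr hp hrJ
      by_contra hne
      obtain ⟨η, hη, e⟩ := conj_xg (F := F) hC hL c hr
      have hwl := wL_lt hC hL hr
      have hmem : xg hC (wL D L r) η ∈ D.unipotentRadical F J := by
        have h1 := (Subgroup.mem_normalizer_iff.1 (hnorm hnP) _).1 (hrad hr hp hrJ 1)
        rw [hnd, e 1, mul_one] at h1
        exact h1
      obtain ⟨hwp, hwJ⟩ := root_of_mem hC hN J hwl hη hmem
      have hlt : wL D L r < r := by
        rcases lt_trichotomy (wL D L r) r with h | h | h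
        · exact h
        · exact absurd h hne
        · have h2 := ih _ (by omega) hwl hwp hwJ
          have h3 := congrArg (wL D L.reverse) h2
          rw [wL_reverse hC hL hwl, wL_reverse hC hL hr] at h3
          omega
      obtain ⟨v, hv, h, hh, hbv⟩ := (mem_B_iff hC).1 hb
      obtain ⟨d, rfl⟩ := (mem_H_iff hC).1 hh
      obtain ⟨x, hx⟩ : ∃ x : GL D.Idx F, x = xg hC r 1 := ⟨_, rfl⟩
      have hxR : x ∈ D.unipotentRadical F J := hx ▸ hrad hr hp hrJ 1
      have hcx : g * x = x * g := hx ▸ hc r hr hp hrJ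
      have hcomm : ∀ w ∈ D.posUnipotent F, w * x * w⁻¹ * x⁻¹ ∈ Zgt hC F J r := fun w hw => by
        refine radical_inter_Uge hC hN J r ?_ (hx ▸ conj_xg_Uge hC hr hp hw 1)
        exact mul_mem ((Subgroup.mem_normalizer_iff.1
          (hnorm (hBP (Subgroup.mem_sup_left hw))) x).1 hxR) (inv_mem hxR)
      -- conjugation by `n` preserves `Z`
      have hnZ : ∀ z ∈ Zgt hC F J r, n * z * n⁻¹ ∈ Zgt hC F J r := by
        refine conj_closure_le ?_
        rintro _ ⟨s, t, hs, ⟨hps, hsJ, hrs⟩, rfl⟩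
        obtain ⟨η', -, e'⟩ := conj_xg (F := F) hC hL c hs
        rw [hnd, e', ih s (by omega) hs hps hsJ]
        exact Subgroup.subset_closure ⟨s, _, hs, ⟨hps, hsJ, hrs⟩, rfl⟩
      have hhZ : ∀ z ∈ Zgt hC F J r, (tor D d)⁻¹ * z * tor D d ∈ Zgt hC F J r := fun z hz => by
        have h1 : (tor D d)⁻¹ ∈ Subgroup.normalizer (Zgt hC F J r : Set (GL D.Idx F)) :=
          H_le_normalizer hC (inv_mem (tor_mem_H hC d))
        simpa using (Subgroup.mem_normalizer_iff.1 h1 z).1 hz
      have e1 : n * (u * x * u⁻¹ * x⁻¹) * n⁻¹ * (n * x * n⁻¹) =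
          (tor D d)⁻¹ * (v⁻¹ * x * v * x⁻¹) * tor D d * ((tor D d)⁻¹ * x * tor D d) := by
        calc _ = b⁻¹ * (g * x) * g⁻¹ * b := by rw [hg]; group
          _ = b⁻¹ * x * b := by rw [hcx]; group
          _ = _ := by rw [hbv]; group
      have hz1 := hnZ _ (hcomm u huU)
      have hz2 : (tor D d)⁻¹ * (v⁻¹ * x * v * x⁻¹) * tor D d ∈ Zgt hC F J r := by
        refine hhZ _ ?_
        simpa using hcomm v⁻¹ (inv_mem hv)
      have hnx : n * x * n⁻¹ = xg hC (wL D L r) η := by rw [hnd, hx, e 1, mul_one]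
      have hdx : ∃ χ : F, (tor D d)⁻¹ * x * tor D d = xg hC r χ := by
        refine ⟨(torChar D d⁻¹ r : F) * 1, ?_⟩
        rw [← tor_conj_x hC d⁻¹ r 1 hr, hx, ← tor_inv, inv_inv]
      obtain ⟨χ, hχ⟩ := hdx
      rw [hnx, hχ] at e1
      have h4 : xg hC (wL D L r) η ∈ Uge hC F (wL D L r + 1) := by
        have : xg hC (wL D L r) η = (n * (u * x * u⁻¹ * x⁻¹) * n⁻¹)⁻¹ *
            ((tor D d)⁻¹ * (v⁻¹ * x * v * x⁻¹) * tor D d * xg hC r χ) :=
          eq_inv_mul_of_mul_eq e1
        rw [this]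
        have hle : Zgt hC F J r ≤ Uge hC F (wL D L r + 1) :=
          (Zgt_le_Uge hC J r).trans (Uge_mono hC (by omega))
        exact mul_mem (inv_mem (hle hz1)) (mul_mem (hle hz2) (xg_mem_Uge hC hr hp (by omega) χ))
      exact hη (not_mem_Uge hC hwl hwp h4)
  have hfix' : ∀ r < D.nroots, 0 < T.phi r → ¬ D.InRootSub J r → wL D L r = r :=
    fun r hr => hfix D.nroots r (by omega) hr
  have hout : ∀ r i : ℕ, i < D.rank → i ∉ J → cor D r i ≠ 0 → ¬ D.InRootSub J r :=
    fun r i hi hiJ hne h => hne (h.2 i hi hiJ)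
  -- hence `w = 1`
  have hsimp : ∀ j < D.rank, wL D L (D.simple j) = D.simple j ∨
      (∃ (r : ℕ) (q : ℕ × ℤ), r < D.nroots ∧ 0 < T.phi r ∧ ¬ D.InRootSub J r ∧
        (D.chainEntry (D.simple j) r)[0]? = some q ∧ ¬ D.InRootSub J q.1 ∧
          cor D r i₀ ≠ 0 ∧ cor D q.1 i₀ ≠ 0 ∧ j ≠ i₀) := by
    intro j hj
    by_cases hji : j = i₀
    · subst hji
      refine Or.inl (hfix' _ (hC.simple_lt hj) (hC.phi_simple hj) (hout _ j hj hi₀J ?_))
      rw [hC.cor_simple hj hj, if_pos rfl]; exact one_ne_zero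
    · obtain ⟨r, q, hr, hp, h1, hq, h2⟩ := exists_step hC hS hi₀ hj (Ne.symm hji)
      exact Or.inr ⟨r, q, hr, hp, hout r i₀ hi₀ hi₀J h1, hq, hout q.1 i₀ hi₀ hi₀J h2, h1, h2, hji⟩
  have hqpos : ∀ {j r : ℕ} {q : ℕ × ℤ}, j < D.rank → 0 < T.phi r →
      (D.chainEntry (D.simple j) r)[0]? = some q → q.1 < D.nroots ∧ 0 < T.phi q.1 := by
    intro j r q hj hp hq
    obtain ⟨h1, -, h2⟩ := hC.chain_step (hC.simple_lt hj) hq
    refine ⟨h1, ?_⟩
    have := hC.phi_simple hj
    rw [h2]; push_cast; omega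
  have hpos : ∀ j < D.rank, 0 < T.phi (wL D L (D.simple j)) := by
    intro j hj
    rcases hsimp j hj with h | ⟨r, q, hr, hp, hrJ, hq, hqJ, hc1, hc2, hji⟩
    · rw [h]; exact hC.phi_simple hj
    · obtain ⟨hql, hqp⟩ := hqpos hj hp hq
      have hcase : ∀ s < D.nroots, 0 < T.phi s → ¬ D.InRootSub J s → cor D s i₀ ≠ 0 →
          D.cartan j s ≠ 0 → T.phi (wL D L (D.simple j)) = T.phi (D.simple j) := by
        intro s hs hps hsJ hsc hA
        have hne : s ≠ D.simple j := by
          rintro rfl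
          exact hsc (by rw [hC.cor_simple hj hi₀, if_neg hji])
        have h1 : T.phi (wL D L (D.reflectRoot j s)) =
            T.phi (wL D L s) - D.cartan j s * T.phi (wL D L (D.simple j)) :=
          phi_wL_additive hC hL j hj s hs
        have h2 : wL D L (D.reflectRoot j s) = D.reflectRoot j s := by
          refine hfix' _ (hC.reflect_lt hj hs) (hC.reflect_pos hj hs hne hps)
            (hout _ i₀ hi₀ hi₀J ?_)
          rw [hC.cor_reflect hj hi₀ hs, if_neg (Ne.symm hji)]
          exact hsc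
        rw [h2, hfix' s hs hps hsJ, hC.phi_reflect hj hs] at h1
        have h3 : D.cartan j s * (T.phi (wL D L (D.simple j)) - T.phi (D.simple j)) = 0 := by
          rw [mul_sub]; omega
        rcases mul_eq_zero.1 h3 with h | h
        · exact absurd h hA
        · omega
      by_cases hA : D.cartan j r = 0
      · rw [hcase q.1 hql hqp hqJ hc2 ?_]
        · exact hC.phi_simple hj
        · rw [cartan_chain hC hj (hC.simple_lt hj) hq, hA, hC.cartan_simple hj]
          norm_num
      · rw [hcase r hr hp hrJ hc1 hA]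
        exact hC.phi_simple hj
  obtain ⟨c', hc'⟩ := exists_tor_of_pos (F := F) hC hL hpos
  have hgB : g ∈ D.borelSubgroup F := by
    rw [hg, hnd, hc']
    exact mul_mem (mul_mem hb (mul_mem (Subgroup.mem_sup_right (tor_mem_H hC c))
      (Subgroup.mem_sup_right (tor_mem_H hC c')))) (Subgroup.mem_sup_left huU)
  obtain ⟨v, hv, h, hh, hgv⟩ := (mem_B_iff hC).1 hgB
  obtain ⟨d, rfl⟩ := (mem_H_iff hC).1 hh
  -- the torus part is trivial
  have hone : ∀ r < D.nroots, 0 < T.phi r → ¬ D.InRootSub J r → torChar D d r = 1 := by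
    intro r hr hp hrJ
    have e := tor_conj_x hC d r (1 : F) hr
    rw [mul_one] at e
    have hcx := hc r hr hp hrJ
    have e1 : xg hC r (1 : F) = v * xg hC r ((torChar D d r : Fˣ) : F) * v⁻¹ := by
      rw [← e]
      calc xg hC r (1 : F) = g * xg hC r 1 * g⁻¹ := by rw [hcx]; group
        _ = _ := by rw [hgv]; group
    have h1 := conj_xg_Uge hC hr hp hv ((torChar D d r : Fˣ) : F)
    rw [← e1, xg_inv hC, ← xg_add hC] at h1
    have h2 := not_mem_Uge hC hr hp h1
    rw [← sub_eq_add_neg, sub_eq_zero] at h2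
    exact Units.ext h2.symm
  have htriv : ∀ j < D.rank, torChar D d (D.simple j) = 1 := by
    intro j hj
    by_cases hji : j = i₀
    · subst hji
      refine hone _ (hC.simple_lt hj) (hC.phi_simple hj) (hout _ j hj hi₀J ?_)
      rw [hC.cor_simple hj hj, if_pos rfl]; exact one_ne_zero
    · obtain ⟨r, q, hr, hp, h1, hq, h2⟩ := exists_step hC hS hi₀ hj (Ne.symm hji)
      obtain ⟨hql, hqp⟩ := hqpos hj hp hq
      have h3 := (torChar_isMulChar hC d).2 (D.simple j) (hC.simple_lt hj) r 0 q hq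
      simp only [hone r hr hp (hout r i₀ hi₀ hi₀J h1), hone q.1 hql hqp (hout q.1 i₀ hi₀ hi₀J h2),
        Units.val_one, pow_one, zero_add, mul_one] at h3
      exact Units.ext h3.symm
  have hall : ∀ r < D.nroots, torChar D d r = 1 := by
    refine Cfsg.Agent.Chevalley.Root.simple_induction hC (P := fun r => torChar D d r = 1)
      (fun i hi => htriv i hi) fun r hr i hi ih => ?_
    have e : ∀ s, s < D.nroots → torChar D d (D.reflectRoot i s) =
        torChar D d s * torChar D d (D.simple i) ^ (-D.cartan i s) := by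
      intro s hs
      simp only [torChar, ← Finset.prod_zpow, ← Finset.prod_mul_distrib, ← zpow_mul, ← zpow_add]
      refine Finset.prod_congr rfl fun k hk => ?_
      rw [hC.cartan_reflect hi (Finset.mem_range.1 hk) hs]
      congr 1; ring
    rw [e r hr, ih, htriv i hi, one_zpow, mul_one]
  have hd1 : tor D d = 1 := by
    rw [tor, ← dg_one]
    exact dg_congr fun s hs => hall s hs
  rw [hgv, hd1, mul_one]
  exact hv

/-- An element of `P_J` centralising `U_J` lies in `U`. -/
theorem centralizer_le_U {J : Set ℕ} (hJ : ∃ i, i < D.rank ∧ i ∉ J) {g : GL D.Idx F}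
    (hgP : g ∈ D.parabolicSubgroup F J)
    (hc : ∀ x ∈ D.unipotentRadical F J, g * x = x * g) : g ∈ D.posUnipotent F :=
  centralizer_roots_le_U hC hN hS hJ hgP fun r hr hp hrJ =>
    hc _ (Subgroup.subset_closure ⟨r, 1, (hC.posRoot_iff hr).2 hp, hrJ, coe_xg hC r 1⟩)

omit hN hS in
/-- A word in `J` sending every positive root of the subsystem to a negative one. -/
theorem exists_longest_sub (J : Set ℕ) :
    ∃ L : List ℕ, (∀ i ∈ L, i < D.rank ∧ i ∈ J) ∧
      ∀ r, D.InRootSub J r → 0 < T.phi r → T.phi (wL D L r) < 0 := by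
  classical
  let inv : List ℕ → ℕ := fun L =>
    ((Finset.range D.nroots).filter fun r => 0 < T.phi r ∧ T.phi (wL D L r) < 0).card
  have step : ∀ k, ∀ L : List ℕ, (∀ i ∈ L, i < D.rank ∧ i ∈ J) → D.nroots < inv L + k →
      ∃ L : List ℕ, (∀ i ∈ L, i < D.rank ∧ i ∈ J) ∧
        ∀ r, D.InRootSub J r → 0 < T.phi r → T.phi (wL D L r) < 0 := by
    intro k
    induction k with
    | zero =>
      intro L hL h
      have h1 : inv L ≤ D.nroots := (Finset.card_filter_le _ _).trans (Finset.card_range _).le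
      omega
    | succ k ih =>
      intro L hL h
      have hL0 : ∀ i ∈ L, i < D.rank := fun i hi => (hL i hi).1
      by_cases hall : ∀ r, D.InRootSub J r → 0 < T.phi r → T.phi (wL D L r) < 0
      · exact ⟨L, hL, hall⟩
      obtain ⟨j, hj, hjJ, hpos⟩ : ∃ j < D.rank, j ∈ J ∧ 0 < T.phi (wL D L (D.simple j)) := by
        by_contra hcon
        simp only [not_exists, not_and, not_lt] at hcon
        refine hall fun r hr hp => ?_
        clear hall
        induction r using Nat.strong_induction_on with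
        | _ r ihr =>
          obtain ⟨j, hj, hjJ, h | ⟨hlt, hp', hJ'⟩⟩ :=
            Cfsg.Agent.Chevalley.Parabolic.descend_inRootSub hC hr hp
          · subst h
            have := hcon j hj hjJ
            have := hC.phi_ne_zero (wL_lt hC hL0 (hC.simple_lt hj))
            omega
          · have h2 := ihr _ hlt hJ' hp'
            have h3 : T.phi (wL D L (D.reflectRoot j r)) =
                T.phi (wL D L r) - D.cartan j r * T.phi (wL D L (D.simple j)) :=
              phi_wL_additive hC hL0 j hj r hr.1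
            have h4 : T.phi (D.reflectRoot j r) < T.phi r :=
              hC.phi_lt hlt hr.1
            rw [hC.phi_reflect hj hr.1] at h4
            have hA : 0 < D.cartan j r := by
              by_contra hA
              have := mul_nonpos_of_nonpos_of_nonneg (not_lt.1 hA) (hC.phi_simple hj).le
              omega
            have := mul_nonpos_of_nonneg_of_nonpos hA.le (hcon j hj hjJ)
            omega
      refine ih (L ++ [j]) (fun i hi => (List.mem_append.1 hi).elim (hL i)
        fun hi => (List.mem_singleton.1 hi) ▸ ⟨hj, hjJ⟩) ?_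
      have hw : ∀ r, wL D (L ++ [j]) r = wL D L (D.reflectRoot j r) := fun r => wL_append L [j] r
      have hlt : inv L + 1 ≤ inv (L ++ [j]) := by
        simp only [inv]
        have hnot : D.simple j ∉ ((Finset.range D.nroots).filter
            fun r => 0 < T.phi r ∧ T.phi (wL D L r) < 0).image (D.reflectRoot j) := by
          simp only [Finset.mem_image, Finset.mem_filter, Finset.mem_range, not_exists, not_and]
          rintro s ⟨hs, hps, -⟩ he
          have := hC.reflect_reflect hj hs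
          rw [he, hC.reflect_simple hj] at this
          rw [← this, hC.phi_neg (hC.simple_lt hj)] at hps
          have := hC.phi_simple hj
          omega
        have hinj : Set.InjOn (D.reflectRoot j) ((Finset.range D.nroots).filter
            fun r => 0 < T.phi r ∧ T.phi (wL D L r) < 0 : Finset ℕ) := by
          intro a ha b hb e
          simp only [Finset.coe_filter, Finset.mem_range, Set.mem_setOf_eq] at ha hb
          rw [← hC.reflect_reflect hj ha.1, e, hC.reflect_reflect hj hb.1]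
        rw [← Finset.card_image_of_injOn hinj, ← Finset.card_insert_of_notMem hnot]
        refine Finset.card_le_card fun r hr => ?_
        simp only [Finset.mem_filter, Finset.mem_range]
        rcases Finset.mem_insert.1 hr with rfl | hr
        · refine ⟨hC.simple_lt hj, hC.phi_simple hj, ?_⟩
          rw [hw, hC.reflect_simple hj, wL_neg hC hL0 (hC.simple_lt hj),
            hC.phi_neg (wL_lt hC hL0 (hC.simple_lt hj))]
          omega
        · obtain ⟨s, hs, rfl⟩ := Finset.mem_image.1 hr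
          simp only [Finset.mem_filter, Finset.mem_range] at hs
          refine ⟨hC.reflect_lt hj hs.1, hC.reflect_pos hj hs.1 ?_ hs.2.1, ?_⟩
          · rintro rfl; omega
          · rw [hw, hC.reflect_reflect hj hs.1]; exact hs.2.2
      omega
  exact step (D.nroots + 1) [] (by simp) (Nat.lt_of_lt_of_le (Nat.lt_succ_self _) (Nat.le_add_left _ _))

/-- **The centraliser of `U_J` in `P_J` lies in `U_J`.** -/
theorem centralizer_le_radical {J : Set ℕ} (hJ : ∃ i, i < D.rank ∧ i ∉ J) {g : GL D.Idx F}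
    (hgP : g ∈ D.parabolicSubgroup F J)
    (hc : ∀ x ∈ D.unipotentRadical F J, g * x = x * g) : g ∈ D.unipotentRadical F J := by
  classical
  have hgU := centralizer_le_U hC hN hS hJ hgP hc
  have hnorm := Cfsg.Agent.Chevalley.Parabolic.normalizes (F := F) hC hN J
  obtain ⟨L, hL, hneg⟩ := exists_longest_sub hC J
  have hL0 : ∀ i ∈ L, i < D.rank := fun i hi => (hL i hi).1
  obtain ⟨n, hnd⟩ : ∃ n, n = nL hC F L := ⟨_, rfl⟩
  have hnP : n ∈ D.parabolicSubgroup F J := by
    rw [hnd]
    refine list_prod_mem fun x hx => ?_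
    obtain ⟨i, hi, rfl⟩ := List.mem_map.1 hx
    exact Cfsg.Agent.Chevalley.Parabolic.ng_mem_parabolic hC (hL i hi).1 (hL i hi).2
  have hgn : n * g * n⁻¹ ∈ D.posUnipotent F := by
    refine centralizer_le_U hC hN hS hJ (mul_mem (mul_mem hnP hgP) (inv_mem hnP)) fun x hx => ?_
    have hx' : n⁻¹ * x * n ∈ D.unipotentRadical F J := by
      simpa using (Subgroup.mem_normalizer_iff.1 (inv_mem (hnorm hnP)) x).1 hx
    calc n * g * n⁻¹ * x = n * (g * (n⁻¹ * x * n)) * n⁻¹ := by group
      _ = _ := by rw [hc _ hx']; group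
  rw [← Uge_zero hC] at hgU
  obtain ⟨f, hf⟩ := split_decomp hC (fun s => decide (¬ D.InRootSub J s)) 0 _ hgU
  obtain ⟨A, hA⟩ : ∃ A : GL D.Idx F, A = prodX hC
      ((posFrom D 0).filter fun s => decide (¬ D.InRootSub J s)) f := ⟨_, rfl⟩
  obtain ⟨B, hB⟩ : ∃ B : GL D.Idx F, B = prodX hC
      ((posFrom D 0).filter fun s => !decide (¬ D.InRootSub J s)).reverse f := ⟨_, rfl⟩
  rw [← hA, ← hB] at hf
  have hAR : A ∈ D.unipotentRadical F J := by
    rw [hA]
    refine list_prod_mem fun y hy => ?_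
    obtain ⟨s, hs, rfl⟩ := List.mem_map.1 hy
    obtain ⟨hs', hq⟩ := List.mem_filter.1 hs
    obtain ⟨h3, h4, -⟩ := (mem_posFrom hC).1 hs'
    exact Subgroup.subset_closure
      ⟨s, _, (hC.posRoot_iff h3).2 h4, of_decide_eq_true hq, coe_xg hC _ _⟩
  have hB1 : n * B * n⁻¹ = 1 := by
    refine U_inf_V hC ?_ ?_
    · have e : n * B * n⁻¹ = (n * A * n⁻¹)⁻¹ * (n * g * n⁻¹) := by rw [hf]; group
      rw [e]
      exact mul_mem
        (inv_mem (radical_le_U hC J ((Subgroup.mem_normalizer_iff.1 (hnorm hnP) A).1 hAR))) hgn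
    · have : B ∈ (D.negUnipotent F).comap (MulAut.conj n).toMonoidHom := by
        rw [hB]
        refine list_prod_mem fun y hy => ?_
        obtain ⟨s, hs, rfl⟩ := List.mem_map.1 hy
        obtain ⟨hs', hq⟩ := List.mem_filter.1 (List.mem_reverse.1 hs)
        obtain ⟨h3, h4, -⟩ := (mem_posFrom hC).1 hs'
        obtain ⟨η, -, e⟩ := nL_conj_x (F := F) hC hL0 h3
        show n * xg hC s (f s) * n⁻¹ ∈ D.negUnipotent F
        rw [hnd, e]
        exact xg_mem_V hC (wL_lt hC hL0 h3) (hneg s (by simpa using hq) h4) _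
      exact this
  rw [mul_inv_eq_one, mul_eq_left] at hB1
  rw [hf, hB1, mul_one]
  exact hAR

/-- **The generalised Fitting subgroup of a proper parabolic subgroup is a `p`-group.** -/
theorem genFitting_isPGroup [Finite F] (p : ℕ) [Fact p.Prime] [CharP F p] {J : Set ℕ}
    (hJ : ∃ i, i < D.rank ∧ i ∉ J) :
    IsPGroup p ↥(Cfsg.generalizedFittingSubgroup ↥(D.parabolicSubgroup F J)) := by
  classical
  haveI : Fintype F := Fintype.ofFinite F
  obtain ⟨R, hR⟩ : ∃ R, R = (D.unipotentRadical F J).subgroupOf (D.parabolicSubgroup F J) := ⟨_, rfl⟩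
  have hRP : D.unipotentRadical F J ≤ D.parabolicSubgroup F J :=
    (radical_le_U hC J).trans (le_sup_left.trans le_sup_left)
  have hRn : R.Normal := by
    rw [hR, Subgroup.normal_subgroupOf_iff_le_normalizer hRP]
    exact Cfsg.Agent.Chevalley.Parabolic.normalizes hC hN J
  have hRp : IsPGroup p ↥R := by
    rw [hR]
    exact ((isPGroup_U hC p).to_le (radical_le_U hC J)).of_equiv
      (Subgroup.subgroupOfEquivOfLe hRP).symm
  have hRc : R ≤ Cfsg.pCore p ↥(D.parabolicSubgroup F J) := Cfsg.Agent.CharP.le_pCore hRn hRp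
  rw [Cfsg.Agent.CharP.genFitting_eq_pCore_iff.2 fun g hg => hRc ?_]
  · exact Cfsg.Agent.CharP.isPGroup_pCore p _
  · rw [hR, Subgroup.mem_subgroupOf]
    refine centralizer_le_radical hC hN hS hJ g.2 fun x hx => ?_
    have h1 := hg (⟨x, hRP hx⟩ : ↥(D.parabolicSubgroup F J))
      (hRc (by rw [hR, Subgroup.mem_subgroupOf]; exact hx))
    exact (congrArg Subtype.val h1).symm

end Cfsg.Agent.SimpleFacts.ChevalleyRadical
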