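import Mathlib.Data.Nat.Factorization.Basic
import Mathlib.FieldTheory.Finite.Basic
import Mathlib.Data.Nat.Choose.Basic
import Cfsg.Prelude.Def_LieTypeChar
import Cfsg.Agent.S0243
import Cfsg.Agent.S0245
import Cfsg.Agent.S0280
import Cfsg.Agent.S0292
import Cfsg.Agent.S0293
import Cfsg.Agent.S0294
import Cfsg.Agent.S0324
import Cfsg.Agent.S1059
import Cfsg.Agent.S1062
import Cfsg.Agent.S1063
import Cfsg.Agent.S1064
import Cfsg.Agent.S1065
import Cfsg.Agent.S1066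
import Cfsg.Agent.S1067
import Cfsg.Agent.S1068
import Cfsg.Agent.S1069
import Cfsg.Agent.Lib.Classical.Symplectic
import Cfsg.Agent.Lib.Suzuki.LieEquiv

/-!
# The shape of the orders of the groups of Lie type

`|G| * d = q ^ N * M` with `d`, `M` prime to the characteristic and `M < q ^ e`, `e ≤ 2N`, and `3e ≤ 5N` outside
`PSL₂`.
-/

set_option autoImplicit false

namespace Cfsg.Agent.SimpleFacts.LieOrderBounds

variable {p f : ℕ}

theorem not_dvd_pow_sub_one (hp : p.Prime) (hf : 1 ≤ f) {a : ℕ} (ha : 1 ≤ a) :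
    ¬ p ∣ (p ^ f) ^ a - 1 := by
  intro h
  have hd : p ∣ (p ^ f) ^ a := dvd_pow (dvd_pow_self _ (by omega)) (by omega)
  have hpos : 1 ≤ (p ^ f) ^ a := Nat.one_le_pow _ _ (pow_pos hp.pos _)
  have := Nat.dvd_sub hd h
  rw [Nat.sub_sub_self hpos] at this
  exact hp.not_dvd_one this

theorem not_dvd_pow_add_one (hp : p.Prime) (hf : 1 ≤ f) {a : ℕ} (ha : 1 ≤ a) :
    ¬ p ∣ (p ^ f) ^ a + 1 := by
  intro h
  have hd : p ∣ (p ^ f) ^ a := dvd_pow (dvd_pow_self _ (by omega)) (by omega)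
  exact hp.not_dvd_one ((Nat.dvd_add_right hd).1 h)

theorem not_dvd_mul (hp : p.Prime) {a b : ℕ} (ha : ¬ p ∣ a) (hb : ¬ p ∣ b) : ¬ p ∣ a * b :=
  fun h => (hp.dvd_mul.1 h).elim ha hb

theorem not_dvd_prod (hp : p.Prime) {ι : Type*} (s : Finset ι) {g : ι → ℕ}
    (h : ∀ i ∈ s, ¬ p ∣ g i) : ¬ p ∣ ∏ i ∈ s, g i := fun hd => by
  obtain ⟨i, hi, hid⟩ := hp.prime.exists_mem_finset_dvd hd
  exact h i hi hid

theorem not_dvd_gcd {k a : ℕ} (ha : ¬ p ∣ a) : ¬ p ∣ Nat.gcd k a := fun h =>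
  ha (h.trans (Nat.gcd_dvd_right _ _))

/-! ### Products of cyclotomic factors -/

theorem sub_one_lt {q : ℕ} (hq : 2 ≤ q) (a : ℕ) : q ^ a - 1 < q ^ a :=
  Nat.sub_lt (pow_pos (by omega) _) one_pos

theorem mul_lt_pow {q a b x y : ℕ} (hx : x < q ^ a) (hy : y < q ^ b) : x * y < q ^ (a + b) := by
  rw [pow_add]; exact Nat.mul_lt_mul'' hx hy

theorem add_one_le {q : ℕ} (hq : 2 ≤ q) (a : ℕ) : q ^ a + 1 ≤ q ^ (a + 1) := by
  have h1 : 1 ≤ q ^ a := Nat.one_le_pow _ _ (by omega)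
  calc q ^ a + 1 ≤ q ^ a * 2 := by omega
    _ ≤ q ^ a * q := Nat.mul_le_mul le_rfl hq
    _ = q ^ (a + 1) := (pow_succ _ _).symm

theorem le_mul_lt_pow {q a b x y : ℕ} (hq : 2 ≤ q) (hx : x ≤ q ^ a) (hy : y < q ^ b) :
    x * y < q ^ (a + b) := by
  rw [pow_add]
  exact lt_of_le_of_lt (Nat.mul_le_mul hx le_rfl)
    (Nat.mul_lt_mul_of_pos_left hy (pow_pos (by omega) _))

theorem pair_lt {q a b : ℕ} (hq : 2 ≤ q) (hab : a ≤ b) :
    (q ^ a - 1) * (q ^ b + 1) < q ^ (a + b) := by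
  have h1 : q ^ a ≤ q ^ b := Nat.pow_le_pow_right (by omega) hab
  have h0 : 1 ≤ q ^ a := Nat.one_le_pow _ _ (by omega)
  obtain ⟨x, hx⟩ : ∃ x, q ^ a = x + 1 := ⟨q ^ a - 1, by omega⟩
  rw [pow_add, hx, Nat.add_sub_cancel]
  nlinarith

/-- `∏_{i<n} (q^n - q^i) = q^C(n,2) * ∏_{i<n} (q^(i+1) - 1)`. -/
theorem prod_sub_pow (q : ℕ) : ∀ n : ℕ, ∏ i : Fin n, (q ^ n - q ^ (i : ℕ)) =
    q ^ (n.choose 2) * ∏ i ∈ Finset.range n, (q ^ (i + 1) - 1) := by
  intro n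
  induction n with
  | zero => simp
  | succ n ih =>
    have h2 : ∀ i : Fin n, q ^ (n + 1) - q ^ ((i.succ : Fin (n + 1)) : ℕ) =
        q * (q ^ n - q ^ (i : ℕ)) := by
      intro i
      rw [Fin.val_succ, pow_succ', pow_succ', Nat.mul_sub]
    rw [Fin.prod_univ_succ, Finset.prod_congr rfl fun i _ => h2 i, Finset.prod_mul_distrib,
      Finset.prod_const, Finset.card_univ, Fintype.card_fin, ih, Finset.prod_range_succ,
      Nat.choose_succ_succ' n 1, Nat.choose_one_right, pow_add]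
    simp only [Fin.val_zero, pow_zero]
    ring

theorem prod_two_lt {q : ℕ} (hq : 2 ≤ q) : ∀ k, 1 ≤ k → ∃ e, 2 * e = k * (k + 3) ∧
    ∏ i ∈ Finset.range k, (q ^ (i + 2) - 1) < q ^ e := by
  intro k hk
  induction k, hk using Nat.le_induction with
  | base => exact ⟨2, rfl, by simpa using sub_one_lt hq 2⟩
  | succ k _ ih =>
    obtain ⟨e, he, hlt⟩ := ih
    refine ⟨e + (k + 2), ?_, ?_⟩
    · rw [mul_add, he]; ring
    · rw [Finset.prod_range_succ]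
      exact mul_lt_pow hlt (sub_one_lt hq _)

theorem prod_even_le {q : ℕ} (hq : 2 ≤ q) : ∀ m, ∏ i ∈ Finset.range m, (q ^ (2 * (i + 1)) - 1) ≤
    q ^ (m * (m + 1)) := by
  intro m
  induction m with
  | zero => simp
  | succ m ih =>
    rw [Finset.prod_range_succ]
    refine (Nat.mul_le_mul ih (Nat.sub_le _ _)).trans_eq ?_
    rw [← pow_add]
    congr 1
    ring

theorem prod_even_lt {q m : ℕ} (hq : 2 ≤ q) (hm : 1 ≤ m) :
    ∏ i ∈ Finset.range m, (q ^ (2 * (i + 1)) - 1) < q ^ (m * (m + 1)) := by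
  obtain ⟨k, rfl⟩ : ∃ k, m = k + 1 := ⟨m - 1, by omega⟩
  rw [Finset.prod_range_succ, show (k + 1) * (k + 1 + 1) = k * (k + 1) + 2 * (k + 1) by ring, pow_add]
  exact lt_of_le_of_lt (Nat.mul_le_mul (prod_even_le hq k) le_rfl)
    (Nat.mul_lt_mul_of_pos_left (sub_one_lt hq _) (pow_pos (by omega) _))

/-- The unitary product without its first factor. -/
def uProd (q k : ℕ) : ℕ :=
  ∏ i ∈ Finset.range k, (if Even (i + 1) then q ^ (i + 2) + 1 else q ^ (i + 2) - 1)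

theorem uProd_succ (q k : ℕ) : uProd q (k + 1) =
    uProd q k * (if Even (k + 1) then q ^ (k + 2) + 1 else q ^ (k + 2) - 1) :=
  Finset.prod_range_succ _ _

theorem uProd_even {q : ℕ} (hq : 2 ≤ q) : ∀ j, ∃ e, 2 * e = 2 * j * (2 * j + 3) ∧
    uProd q (2 * j) ≤ q ^ e ∧ uProd q (2 * j + 1) < q ^ (e + (2 * j + 2)) ∧
      (1 ≤ j → uProd q (2 * j) < q ^ e) := by
  intro j
  have hodd : ∀ j e, uProd q (2 * j) ≤ q ^ e → uProd q (2 * j + 1) < q ^ (e + (2 * j + 2)) := by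
    intro j e h
    rw [uProd_succ, if_neg (by simp)]
    exact le_mul_lt_pow hq h (sub_one_lt hq _)
  induction j with
  | zero => exact ⟨0, rfl, by simp [uProd], hodd 0 0 (by simp [uProd]), by omega⟩
  | succ j ih =>
    obtain ⟨e, he, hle, -, -⟩ := ih
    have h : uProd q (2 * (j + 1)) < q ^ (e + ((2 * j + 2) + (2 * j + 3))) := by
      rw [show 2 * (j + 1) = 2 * j + 1 + 1 from by ring, uProd_succ, uProd_succ,
        if_neg (by simp), if_pos (by simp [Nat.even_add_one]), mul_assoc]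
      exact le_mul_lt_pow hq hle (pair_lt hq (show 2 * j + 2 ≤ 2 * j + 1 + 2 by omega))
    refine ⟨_, ?_, h.le, hodd _ _ h.le, fun _ => h⟩
    rw [mul_add, he]; ring

theorem uProd_lt {q : ℕ} (hq : 2 ≤ q) {k : ℕ} (hk : 1 ≤ k) :
    ∃ e, 2 * e = k * (k + 3) ∧ uProd q k < q ^ e := by
  obtain ⟨j, rfl | rfl⟩ := Nat.even_or_odd' k
  · obtain ⟨e, he, -, -, h⟩ := uProd_even hq j
    exact ⟨e, he, h (by omega)⟩
  · obtain ⟨e, he, -, h, -⟩ := uProd_even hq j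
    refine ⟨_, ?_, h⟩
    rw [mul_add, he]; ring

/-! ### The shape of the order -/

/-- `|G|` has characteristic-prime part `q ^ N` and cofactor at most `q ^ e`. -/
def Shape (p : ℕ) (G : Type*) [Group G] : Prop :=
  ∃ f N e d M : ℕ, 1 ≤ f ∧ 1 ≤ N ∧ ¬ p ∣ d ∧ ¬ p ∣ M ∧ M < (p ^ f) ^ e ∧
    Nat.card G * d = (p ^ f) ^ N * M ∧ e ≤ 2 * N ∧
    (3 * e ≤ 5 * N ∨ (N = 1 ∧ ∃ (F : Type) (_ : Field F) (_ : Fintype F), Fintype.card F = p ^ f ∧
      Nonempty (G ≃* Matrix.ProjectiveSpecialLinearGroup (Fin 2) F)))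

theorem card_eq_pow (hp : p.Prime) {F : Type*} [Field F] [Fintype F] [CharP F p] :
    ∃ f, 1 ≤ f ∧ Fintype.card F = p ^ f := by
  obtain ⟨n, -, hn⟩ := FiniteField.card F p
  exact ⟨n, n.pos, hn⟩

theorem base_eq_pow (hp : p.Prime) {F : Type*} [Field F] [Fintype F] [CharP F p] {q r : ℕ}
    (hr : 1 ≤ r) (hF : Fintype.card F = q ^ r) : ∃ f, 1 ≤ f ∧ q = p ^ f := by
  obtain ⟨g, hg, hgF⟩ := card_eq_pow (F := F) hp
  have hd : q ∣ p ^ g := by rw [← hgF, hF]; exact dvd_pow_self _ (by omega)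
  obtain ⟨f, -, rfl⟩ := (Nat.dvd_prime_pow hp).1 hd
  refine ⟨f, Nat.one_le_iff_ne_zero.2 fun h => ?_, rfl⟩
  have := Fintype.one_lt_card (α := F)
  rw [hF, h, pow_zero, one_pow] at this
  omega

variable {G : Type*} [Group G]

theorem two_le_q (hp : p.Prime) (hf : 1 ≤ f) : 2 ≤ p ^ f :=
  hp.two_le.trans (Nat.le_self_pow (by omega) p)

theorem not_dvd_even_prod (hp : p.Prime) (hf : 1 ≤ f) (m : ℕ) :
    ¬ p ∣ ∏ i ∈ Finset.range m, ((p ^ f) ^ (2 * (i + 1)) - 1) :=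
  not_dvd_prod hp _ fun _ _ => not_dvd_pow_sub_one hp hf (by omega)

theorem shape_PSL (hp : p.Prime) (h : Cfsg.IsPSLChar p G) : Shape p G := by
  obtain ⟨F, iF, iFt, iC, n, hn, -, ⟨e0⟩⟩ := h
  obtain ⟨f, hf, hF⟩ := card_eq_pow (F := F) hp
  have hq := two_le_q hp hf
  have h0 := Cfsg.Agent.S0243.result hF n hn
  rw [← Nat.card_congr e0.toEquiv, prod_sub_pow] at h0
  obtain ⟨k, rfl⟩ : ∃ k, n = k + 1 := ⟨n - 1, by omega⟩
  obtain ⟨e, he, hlt⟩ := prod_two_lt hq k (by omega)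
  have hN : 2 * ((k + 1).choose 2) = (k + 1) * k := by
    rw [Nat.choose_two_right, Nat.add_sub_cancel, Nat.mul_comm 2,
      Nat.div_mul_cancel (even_iff_two_dvd.1 (by simpa [Nat.mul_comm] using Nat.even_mul_succ_self k))]
  refine ⟨f, (k + 1).choose 2, e, Nat.gcd (k + 1) (p ^ f - 1),
    ∏ i ∈ Finset.range k, ((p ^ f) ^ (i + 2) - 1), hf, by nlinarith, ?_, ?_, hlt, ?_, by nlinarith, ?_⟩
  · exact not_dvd_gcd (by simpa using not_dvd_pow_sub_one hp hf (a := 1) le_rfl)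
  · exact not_dvd_prod hp _ fun _ _ => not_dvd_pow_sub_one hp hf (by omega)
  · rw [Finset.prod_range_succ' _ k] at h0
    refine Nat.eq_of_mul_eq_mul_left (show 0 < p ^ f - 1 by omega) ?_
    simp only [zero_add, pow_one] at h0
    calc (p ^ f - 1) * (Nat.card G * Nat.gcd (k + 1) (p ^ f - 1))
        = Nat.gcd (k + 1) (p ^ f - 1) * ((p ^ f - 1) * Nat.card G) := by ring
      _ = _ := by rw [h0]; ring
  · rcases (show k = 1 ∨ 2 ≤ k by omega) with rfl | hk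
    · exact Or.inr ⟨rfl, F, iF, iFt, hF, ⟨e0⟩⟩
    · exact Or.inl (by nlinarith)

theorem shape_PSp (hp : p.Prime) (h : Cfsg.IsPSpChar p G) : Shape p G := by
  obtain ⟨F, iF, iFt, iC, m, hm, -, ⟨e0⟩⟩ := h
  obtain ⟨f, hf, hF⟩ := card_eq_pow (F := F) hp
  have hq := two_le_q hp hf
  have h0 := Cfsg.Agent.S0245.result hF m
  have h1 : Nat.card (Subgroup.center (Matrix.symplecticGroup (Fin m) F)) *
      Nat.card (Cfsg.PSp m F) = Nat.card (Matrix.symplecticGroup (Fin m) F) :=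
    Subgroup.card_mul_index _
  rw [Cfsg.Agent.Classical.Symplectic.natCard_center (by omega), hF, h0,
    ← Nat.card_congr e0.toEquiv] at h1
  refine ⟨f, m ^ 2, m * (m + 1), _, _, hf, by nlinarith, not_dvd_gcd (k := 2) ?_,
    not_dvd_even_prod hp hf m, prod_even_lt hq (by omega), (mul_comm _ _).trans h1, by nlinarith,
    Or.inl (by nlinarith)⟩
  simpa using not_dvd_pow_sub_one hp hf (a := 1) le_rfl

theorem shape_PSU (hp : p.Prime) (h : Cfsg.IsPSUChar p G) : Shape p G := by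
  obtain ⟨F, iF, iFt, iC, n, q, hF, hn, -, ⟨e0⟩⟩ := h
  obtain ⟨f, hf, rfl⟩ := base_eq_pow hp (by norm_num) hF
  have hq := two_le_q hp hf
  have h0 := Cfsg.Agent.S0280.result hF n (by omega)
  rw [← Nat.card_congr e0.toEquiv] at h0
  obtain ⟨k, rfl⟩ : ∃ k, n = k + 1 := ⟨n - 1, by omega⟩
  obtain ⟨e, he, hlt⟩ := uProd_lt hq (show 1 ≤ k by omega)
  have hN : 2 * ((k + 1) * (k + 1 - 1) / 2) = (k + 1) * k := by
    rw [Nat.add_sub_cancel, Nat.mul_comm 2,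
      Nat.div_mul_cancel (even_iff_two_dvd.1 (by simpa [Nat.mul_comm] using Nat.even_mul_succ_self k))]
  refine ⟨f, (k + 1) * (k + 1 - 1) / 2, e, Nat.gcd (k + 1) (p ^ f + 1), uProd (p ^ f) k, hf,
    by nlinarith, not_dvd_gcd (by simpa using not_dvd_pow_add_one hp hf (a := 1) le_rfl), ?_, hlt, ?_,
    by nlinarith, Or.inl (by nlinarith)⟩
  · refine not_dvd_prod hp _ fun i _ => ?_
    split_ifs
    · exact not_dvd_pow_add_one hp hf (by omega)
    · exact not_dvd_pow_sub_one hp hf (by omega)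
  · rw [Finset.prod_range_succ' _ k] at h0
    refine Nat.eq_of_mul_eq_mul_left (show 0 < p ^ f + 1 by omega) ?_
    simp only [Even.zero, if_true, zero_add, pow_one] at h0
    calc (p ^ f + 1) * (Nat.card G * Nat.gcd (k + 1) (p ^ f + 1))
        = Nat.gcd (k + 1) (p ^ f + 1) * ((p ^ f + 1) * Nat.card G) := by ring
      _ = _ := by rw [h0, uProd]; ring

theorem shape_POmegaOdd (hp : p.Prime) (h : Cfsg.IsPOmegaOddChar p G) : Shape p G := by
  obtain ⟨F, iF, iFt, iC, m, hm, hodd, ⟨e0⟩⟩ := h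
  obtain ⟨f, hf, hF⟩ := card_eq_pow (F := F) hp
  have hq := two_le_q hp hf
  rw [hF] at hodd
  have h0 := Cfsg.Agent.S0292.result hF hodd m hm
  rw [← Nat.card_congr e0.toEquiv] at h0
  refine ⟨f, m ^ 2, m * (m + 1), 2, _, hf, by nlinarith, ?_,
    not_dvd_even_prod hp hf m, prod_even_lt hq (by omega), (mul_comm _ _).trans h0, by nlinarith,
    Or.inl (by nlinarith)⟩
  intro h2
  have := (Nat.prime_dvd_prime_iff_eq hp Nat.prime_two).1 h2
  subst this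
  exact Nat.not_odd_iff_even.2 (even_two.pow_of_ne_zero (by omega)) hodd

theorem shape_POmegaPlus (hp : p.Prime) (h : Cfsg.IsPOmegaPlusChar p G) : Shape p G := by
  obtain ⟨F, iF, iFt, iC, m, hm, ⟨e0⟩⟩ := h
  obtain ⟨f, hf, hF⟩ := card_eq_pow (F := F) hp
  have hq := two_le_q hp hf
  have h0 := Cfsg.Agent.S0293.result hF m hm
  rw [← Nat.card_congr e0.toEquiv] at h0
  obtain ⟨k, rfl⟩ : ∃ k, m = k + 1 := ⟨m - 1, by omega⟩
  rw [Nat.add_sub_cancel] at h0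
  refine ⟨f, (k + 1) * k, (k + 1) + k * (k + 1), Nat.gcd 4 ((p ^ f) ^ (k + 1) - 1),
    ((p ^ f) ^ (k + 1) - 1) * ∏ i ∈ Finset.range k, ((p ^ f) ^ (2 * (i + 1)) - 1), hf, by nlinarith,
    not_dvd_gcd (not_dvd_pow_sub_one hp hf (by omega)),
    not_dvd_mul hp (not_dvd_pow_sub_one hp hf (by omega)) (not_dvd_even_prod hp hf k),
    mul_lt_pow (sub_one_lt hq _) (prod_even_lt hq (by omega)), ?_, by nlinarith, Or.inl (by nlinarith)⟩
  rw [mul_comm, h0, mul_assoc]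

theorem shape_POmegaMinus (hp : p.Prime) (h : Cfsg.IsPOmegaMinusChar p G) : Shape p G := by
  obtain ⟨F, iF, iFt, iC, m, a, b, hm, hab, ⟨e0⟩⟩ := h
  obtain ⟨f, hf, hF⟩ := card_eq_pow (F := F) hp
  have hq := two_le_q hp hf
  have h0 := Cfsg.Agent.S0294.result hF m hm a b hab
  rw [← Nat.card_congr e0.toEquiv] at h0
  obtain ⟨k, rfl⟩ : ∃ k, m = k + 1 := ⟨m - 1, by omega⟩
  rw [Nat.add_sub_cancel] at h0
  refine ⟨f, (k + 1) * k, (k + 1 + 1) + k * (k + 1), Nat.gcd 4 ((p ^ f) ^ (k + 1) + 1),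
    ((p ^ f) ^ (k + 1) + 1) * ∏ i ∈ Finset.range k, ((p ^ f) ^ (2 * (i + 1)) - 1), hf, by nlinarith,
    not_dvd_gcd (not_dvd_pow_add_one hp hf (by omega)),
    not_dvd_mul hp (not_dvd_pow_add_one hp hf (by omega)) (not_dvd_even_prod hp hf k),
    ?_, ?_, by nlinarith, Or.inl (by nlinarith)⟩
  · exact le_mul_lt_pow hq (add_one_le hq _) (prod_even_lt hq (show 1 ≤ k by omega))
  · rw [mul_comm, h0, mul_assoc]

theorem shape_exceptional (hp : p.Prime) (h : Cfsg.IsExceptionalChevChar p G) : Shape p G := by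
  obtain ⟨F, iF, iFt, iC, h⟩ := h
  obtain ⟨f, hf, hF⟩ := card_eq_pow (F := F) hp
  have hq := two_le_q hp hf
  have hm : ∀ a, 1 ≤ a → ¬ p ∣ (p ^ f) ^ a - 1 := fun a => not_dvd_pow_sub_one hp hf
  have s := sub_one_lt hq
  have hg : ∀ k, ¬ p ∣ Nat.gcd k (p ^ f - 1) := fun k =>
    not_dvd_gcd (by simpa using hm 1 le_rfl)
  rcases h with ⟨-, ⟨e0⟩⟩ | ⟨⟨e0⟩⟩ | ⟨⟨e0⟩⟩ | ⟨⟨e0⟩⟩ | ⟨⟨e0⟩⟩
  · have h0 := Cfsg.Agent.S1059.result hF
    rw [← Nat.card_congr e0.toEquiv] at h0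
    exact ⟨f, 6, 2 + 6, 1, _, hf, by norm_num, hp.not_dvd_one,
      not_dvd_mul hp (hm 2 (by norm_num)) (hm 6 (by norm_num)), mul_lt_pow (s 2) (s 6),
      by rw [mul_one, h0, mul_assoc], by norm_num, Or.inl (by norm_num)⟩
  · have h0 := Cfsg.Agent.S1062.result hF
    rw [← Nat.card_congr e0.toEquiv] at h0
    refine ⟨f, 24, 2 + 6 + 8 + 12, 1, _, hf, by norm_num, hp.not_dvd_one, ?_,
      mul_lt_pow (mul_lt_pow (mul_lt_pow (s 2) (s 6)) (s 8)) (s 12),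
      by rw [mul_one, h0]; simp only [mul_assoc], by norm_num, Or.inl (by norm_num)⟩
    repeat' apply not_dvd_mul hp
    all_goals exact hm _ (by norm_num)
  · have h0 := Cfsg.Agent.S1063.result hF
    rw [← Nat.card_congr e0.toEquiv] at h0
    refine ⟨f, 36, 2 + 5 + 6 + 8 + 9 + 12, _, _, hf, by norm_num, hg 3, ?_,
      mul_lt_pow (mul_lt_pow (mul_lt_pow (mul_lt_pow (mul_lt_pow (s 2) (s 5)) (s 6)) (s 8)) (s 9)) (s 12),
      by rw [mul_comm, h0]; simp only [mul_assoc], by norm_num, Or.inl (by norm_num)⟩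
    repeat' apply not_dvd_mul hp
    all_goals exact hm _ (by norm_num)
  · have h0 := Cfsg.Agent.S1064.result hF
    rw [← Nat.card_congr e0.toEquiv] at h0
    refine ⟨f, 63, 2 + 6 + 8 + 10 + 12 + 14 + 18, _, _, hf, by norm_num, hg 2, ?_,
      mul_lt_pow (mul_lt_pow (mul_lt_pow (mul_lt_pow (mul_lt_pow (mul_lt_pow (s 2) (s 6)) (s 8)) (s 10))
        (s 12)) (s 14)) (s 18),
      by rw [mul_comm, h0]; simp only [mul_assoc], by norm_num, Or.inl (by norm_num)⟩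
    repeat' apply not_dvd_mul hp
    all_goals exact hm _ (by norm_num)
  · have h0 := Cfsg.Agent.S1065.result hF
    rw [← Nat.card_congr e0.toEquiv] at h0
    refine ⟨f, 120, 2 + 8 + 12 + 14 + 18 + 20 + 24 + 30, 1, _, hf, by norm_num, hp.not_dvd_one, ?_,
      mul_lt_pow (mul_lt_pow (mul_lt_pow (mul_lt_pow (mul_lt_pow (mul_lt_pow (mul_lt_pow (s 2) (s 8))
        (s 12)) (s 14)) (s 18)) (s 20)) (s 24)) (s 30),
      by rw [mul_one, h0]; simp only [mul_assoc], by norm_num, Or.inl (by norm_num)⟩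
    repeat' apply not_dvd_mul hp
    all_goals exact hm _ (by norm_num)

theorem shape_twisted (hp : p.Prime) (h : Cfsg.IsTwistedE6D4Char p G) : Shape p G := by
  obtain ⟨K, iK, iKt, iC, q, hq, ⟨hK, ⟨e0⟩⟩ | ⟨hK, ⟨e0⟩⟩⟩ := h
  · obtain ⟨f, hf, rfl⟩ := base_eq_pow hp (by norm_num) hK
    have h2 := two_le_q hp hf
    have h0 := Cfsg.Agent.S1066.result hq hK
    rw [← Nat.card_congr e0.toEquiv] at h0
    refine ⟨f, 36, (2 + 5) + (6 + 9) + 8 + 12, Nat.gcd 3 (p ^ f + 1),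
      ((p ^ f) ^ 2 - 1) * ((p ^ f) ^ 5 + 1) * (((p ^ f) ^ 6 - 1) * ((p ^ f) ^ 9 + 1)) *
        ((p ^ f) ^ 8 - 1) * ((p ^ f) ^ 12 - 1), hf, by norm_num,
      not_dvd_gcd (by simpa using not_dvd_pow_add_one hp hf (a := 1) le_rfl), ?_,
      mul_lt_pow (mul_lt_pow (mul_lt_pow (pair_lt h2 (by norm_num)) (pair_lt h2 (by norm_num)))
        (sub_one_lt h2 8)) (sub_one_lt h2 12),
      by rw [mul_comm, h0]; ring, by norm_num, Or.inl (by norm_num)⟩
    repeat' apply not_dvd_mul hp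
    all_goals first
      | exact not_dvd_pow_sub_one hp hf (by norm_num)
      | exact not_dvd_pow_add_one hp hf (by norm_num)
  · obtain ⟨f, hf, rfl⟩ := base_eq_pow hp (by norm_num) hK
    have h2 := two_le_q hp hf
    have h0 := Cfsg.Agent.S1067.result hq hK
    rw [← Nat.card_congr e0.toEquiv] at h0
    refine ⟨f, 12, 2 + 6 + 9, 1,
      ((p ^ f) ^ 2 - 1) * ((p ^ f) ^ 6 - 1) * ((p ^ f) ^ 8 + (p ^ f) ^ 4 + 1), hf, by norm_num,
      hp.not_dvd_one, ?_, mul_lt_pow (mul_lt_pow (sub_one_lt h2 2) (sub_one_lt h2 6)) ?_,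
      by rw [mul_one, h0]; ring, by norm_num, Or.inl (by norm_num)⟩
    · refine not_dvd_mul hp (not_dvd_mul hp (not_dvd_pow_sub_one hp hf (by norm_num))
        (not_dvd_pow_sub_one hp hf (by norm_num))) fun hd => ?_
      have hd' : ∀ a, 1 ≤ a → p ∣ (p ^ f) ^ a := fun a ha =>
        dvd_pow (dvd_pow_self _ (by omega)) (by omega)
      exact hp.not_dvd_one ((Nat.dvd_add_right ((hd' 8 (by norm_num)).add (hd' 4 (by norm_num)))).1 hd)
    · have h4 : (p ^ f) ^ 4 < (p ^ f) ^ 8 := Nat.pow_lt_pow_right (by omega) (by norm_num)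
      have h8 : (p ^ f) ^ 8 * 2 ≤ (p ^ f) ^ 9 := by
        rw [pow_succ _ 8]; exact Nat.mul_le_mul le_rfl h2
      have h1 : 2 ≤ (p ^ f) ^ 4 := h2.trans (Nat.le_self_pow (by norm_num) _)
      have : (p ^ f) ^ 4 + 1 < (p ^ f) ^ 8 := by
        calc (p ^ f) ^ 4 + 1 < (p ^ f) ^ 4 * 2 := by omega
          _ ≤ (p ^ f) ^ 4 * (p ^ f) ^ 4 := Nat.mul_le_mul le_rfl h1
          _ = (p ^ f) ^ 8 := by ring
      omega

theorem shape_suzuki (h : Cfsg.Lie.IsoSuzuki G) : Shape 2 G := by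
  obtain ⟨F, iF, iFt, m, hm, hF, ⟨e0⟩⟩ := h
  haveI : CharP F 2 := charP_of_card_eq_prime_pow hF
  obtain ⟨ψ⟩ := Cfsg.Agent.Suzuki.lieEquiv (F := F) hm hF
  have h0 := Cfsg.Agent.S0324.result hm hF
  rw [← Nat.card_congr (e0.trans ψ.symm).toEquiv] at h0
  have hf : 1 ≤ 2 * m + 1 := by omega
  have hq := two_le_q Nat.prime_two hf
  refine ⟨2 * m + 1, 2, 1 + 2, 1, ((2 ^ (2 * m + 1)) ^ 1 - 1) * ((2 ^ (2 * m + 1)) ^ 2 + 1), hf,
    by norm_num, Nat.prime_two.not_dvd_one,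
    not_dvd_mul Nat.prime_two (not_dvd_pow_sub_one Nat.prime_two hf le_rfl)
      (not_dvd_pow_add_one Nat.prime_two hf (by norm_num)),
    pair_lt hq (by norm_num), ?_, by norm_num, Or.inl (by norm_num)⟩
  rw [mul_one, h0, pow_one]; ring

theorem shape_twistedF4 (h : Cfsg.Lie.Iso2F4 G) : Shape 2 G := by
  obtain ⟨F, iF, iFt, m, hm, hF, ⟨e0⟩⟩ := h
  have h0 := Cfsg.Agent.S1068.result hF
  rw [← Nat.card_congr e0.toEquiv] at h0
  have hf : 1 ≤ 2 * m + 1 := by omega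
  have hq := two_le_q Nat.prime_two hf
  refine ⟨2 * m + 1, 12, (1 + 3) + (4 + 6), 1,
    (((2 ^ (2 * m + 1)) ^ 1 - 1) * ((2 ^ (2 * m + 1)) ^ 3 + 1)) *
      (((2 ^ (2 * m + 1)) ^ 4 - 1) * ((2 ^ (2 * m + 1)) ^ 6 + 1)), hf,
    by norm_num, Nat.prime_two.not_dvd_one, ?_,
    mul_lt_pow (pair_lt hq (by norm_num)) (pair_lt hq (by norm_num)), ?_, by norm_num,
    Or.inl (by norm_num)⟩
  · repeat' apply not_dvd_mul Nat.prime_two
    all_goals first
      | exact not_dvd_pow_sub_one Nat.prime_two hf (by norm_num)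
      | exact not_dvd_pow_add_one Nat.prime_two hf (by norm_num)
  · rw [mul_one, h0, pow_one]; ring

theorem shape_ree (h : Cfsg.Lie.IsoRee G) : Shape 3 G := by
  obtain ⟨F, iF, iFt, m, hm, hF, ⟨e0⟩⟩ := h
  have h0 := Cfsg.Agent.S1069.result hF
  rw [← Nat.card_congr e0.toEquiv] at h0
  have hf : 1 ≤ 2 * m + 1 := by omega
  have hq := two_le_q Nat.prime_three hf
  refine ⟨2 * m + 1, 3, 1 + 3, 1, ((3 ^ (2 * m + 1)) ^ 1 - 1) * ((3 ^ (2 * m + 1)) ^ 3 + 1), hf,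
    by norm_num, Nat.prime_three.not_dvd_one,
    not_dvd_mul Nat.prime_three (not_dvd_pow_sub_one Nat.prime_three hf le_rfl)
      (not_dvd_pow_add_one Nat.prime_three hf (by norm_num)),
    pair_lt hq (by norm_num), ?_, by norm_num, Or.inl (by norm_num)⟩
  rw [mul_one, h0, pow_one]; ring

/-- Every group of Lie type in characteristic `p` has the shape. -/
theorem shape (hp : p.Prime) (h : Cfsg.IsLieTypeChar p G) : Shape p G := by
  rcases h with h | h | h | h | h | h | h | h | ⟨rfl, h⟩ | ⟨rfl, h⟩ | ⟨rfl, h⟩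
  · exact shape_PSL hp h
  · exact shape_PSp hp h
  · exact shape_PSU hp h
  · exact shape_POmegaOdd hp h
  · exact shape_POmegaPlus hp h
  · exact shape_POmegaMinus hp h
  · exact shape_exceptional hp h
  · exact shape_twisted hp h
  · exact shape_suzuki h
  · exact shape_twistedF4 h
  · exact shape_ree h

end Cfsg.Agent.SimpleFacts.LieOrderBounds
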