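import Cfsg.Agent.Lib.Chevalley.Count
import Cfsg.Agent.Lib.Chevalley.Types.All
import Cfsg.Agent.Lib.Chevalley.Types.OrderG2
import Cfsg.Agent.Lib.Chevalley.Types.OrderB2
import Cfsg.Agent.Lib.Chevalley.Types.OrderD4
import Cfsg.Agent.Lib.Chevalley.Types.OrderF4
import Cfsg.Agent.Lib.Chevalley.Types.OrderE6
import Cfsg.Agent.Lib.Chevalley.Types.OrderE7
import Cfsg.Agent.Lib.Chevalley.Types.OrderE8

/-!
`U` is a Sylow subgroup in the natural characteristic.
-/

set_option autoImplicit false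

namespace Cfsg.Agent.SimpleFacts.ChevalleySylow

open Cfsg.Lie Cfsg.Agent.Chevalley.Table Cfsg.Agent.Chevalley.Cert

theorem prime_not_dvd {p q : ℕ} (hp : p.Prime) (hq : 0 < q) (hpq : p ∣ q) (l : List ℕ) (hl : 0 ∉ l) :
    ¬ p ∣ (l.map fun d => q ^ d - 1).prod := by
  induction l with
  | nil => simpa using hp.ne_one
  | cons d l ih =>
    rw [List.map_cons, List.prod_cons, hp.dvd_mul, not_or]
    refine ⟨fun h => ?_, ih fun h => hl (List.mem_cons_of_mem d h)⟩
    have hd : d ≠ 0 := fun h => hl (h ▸ List.mem_cons_self)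
    have h1 : p ∣ q ^ d := hpq.trans (dvd_pow_self q hd)
    have hpos := Nat.pow_pos (n := d) hq
    have h2 : p ∣ q ^ d - (q ^ d - 1) := Nat.dvd_sub h1 h
    rw [show q ^ d - (q ^ d - 1) = 1 by omega, Nat.dvd_one] at h2
    exact hp.ne_one h2

theorem card_group_form {F : Type*} [Field F] [Fintype F] {D : ChevalleyDatum}
    (hD : D ∈ [chevG2, chevB2, chevD4, chevF4, chevE6, chevE7, chevE8]) :
    ∃ (k : ℕ) (l : List ℕ), 0 ∉ l ∧ k * Nat.card (D.group F) =
      Fintype.card F ^ (D.nroots / 2) * (l.map fun d => Fintype.card F ^ d - 1).prod := by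
  simp only [List.mem_cons, List.not_mem_nil, or_false] at hD
  rcases hD with rfl | rfl | rfl | rfl | rfl | rfl | rfl
  · refine ⟨_, _, ?_, (Cfsg.Agent.Chevalley.Types.OrderG2.card_group F).trans
      (by rw [show chevG2.nroots / 2 = 6 by decide +kernel])⟩ <;> simp
  · refine ⟨_, _, ?_, (Cfsg.Agent.Chevalley.Types.OrderB2.card_group F).trans
      (by rw [show chevB2.nroots / 2 = 4 by decide +kernel])⟩ <;> simp
  · refine ⟨_, _, ?_, (Cfsg.Agent.Chevalley.Types.OrderD4.card_group F).trans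
      (by rw [show chevD4.nroots / 2 = 12 by decide +kernel])⟩ <;> simp
  · refine ⟨_, _, ?_, (Cfsg.Agent.Chevalley.Types.OrderF4.card_group F).trans
      (by rw [show chevF4.nroots / 2 = 24 by decide +kernel])⟩ <;> simp
  · refine ⟨_, _, ?_, (Cfsg.Agent.Chevalley.Types.OrderE6.card_group F).trans
      (by rw [show chevE6.nroots / 2 = 36 by decide +kernel])⟩ <;> simp
  · refine ⟨_, _, ?_, (Cfsg.Agent.Chevalley.Types.OrderE7.card_group F).trans
      (by rw [show chevE7.nroots / 2 = 63 by decide +kernel])⟩ <;> simp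
  · refine ⟨_, _, ?_, (Cfsg.Agent.Chevalley.Types.OrderE8.card_group F).trans
      (by rw [show chevE8.nroots / 2 = 120 by decide +kernel])⟩ <;> simp

theorem exists_sylow {F : Type*} [Field F] [Fintype F] (p : ℕ) [Fact p.Prime] [CharP F p]
    (D : ChevalleyDatum) (hD : D ∈ [chevG2, chevB2, chevD4, chevF4, chevE6, chevE7, chevE8]) :
    ∃ P : Sylow p ↥(D.group F), (P : Subgroup ↥(D.group F)) =
      (D.posUnipotent F).subgroupOf (D.group F) := by
  classical
  haveI : Finite (D.group F) := inferInstance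
  obtain ⟨T, hC⟩ := Cfsg.Agent.Chevalley.Types.All.exists_certified hD
  obtain ⟨n, hp, hq⟩ := FiniteField.card F p
  obtain ⟨k, l, hl, hG⟩ := card_group_form (F := F) hD
  have hU : Nat.card ((D.posUnipotent F).subgroupOf (D.group F)) = p ^ ((n : ℕ) * (D.nroots / 2)) := by
    rw [Nat.card_congr (Subgroup.subgroupOfEquivOfLe
        ((le_sup_left).trans (Cfsg.Agent.Chevalley.Borel.U_sup_V hC).le)).toEquiv,
      Cfsg.Agent.Chevalley.Count.card_U hC, Cfsg.Agent.Chevalley.Count.card_posRoots hC,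
      Nat.card_eq_fintype_card, hq, ← pow_mul]
  refine ⟨(IsPGroup.of_card hU).toSylow fun h => ?_, IsPGroup.toSylow_coe _ _⟩
  rw [← Subgroup.card_mul_index ((D.posUnipotent F).subgroupOf (D.group F)), hU, hq, ← pow_mul,
    mul_left_comm] at hG
  exact prime_not_dvd hp (pow_pos hp.pos _) (dvd_pow_self p n.2.ne') l hl
    (Nat.eq_of_mul_eq_mul_left (pow_pos hp.pos _) hG ▸ h.mul_left k)

end Cfsg.Agent.SimpleFacts.ChevalleySylow
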