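import Mathlib

/-!
# Automorphisms of alternating groups of degree other than six
-/

set_option autoImplicit false

open Equiv

namespace Cfsg.Agent.SimpleFacts.AutAlt

variable {α : Type*} [DecidableEq α]

/-- The 3-cycle `a → b → c → a`. -/
def cyc (a b c : α) : Perm α := swap a b * swap b c

theorem cyc_apply {a b c : α} (hab : a ≠ b) (hbc : b ≠ c) (hac : a ≠ c) :
    cyc a b c a = b ∧ cyc a b c b = c ∧ cyc a b c c = a := by
  refine ⟨?_, ?_, ?_⟩ <;>
    simp [cyc, swap_apply_def, hab, hab.symm, hbc, hbc.symm, hac, hac.symm]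

theorem cyc_apply_of_ne {a b c x : α} (ha : x ≠ a) (hb : x ≠ b) (hc : x ≠ c) : cyc a b c x = x := by
  simp [cyc, swap_apply_of_ne_of_ne, ha, hb, hc]

theorem conj_cyc (σ : Perm α) (a b c : α) : σ * cyc a b c * σ⁻¹ = cyc (σ a) (σ b) (σ c) := by
  rw [mul_inv_eq_iff_eq_mul, cyc, cyc, ← mul_assoc, mul_swap_eq_swap_mul σ a b, mul_assoc,
    mul_swap_eq_swap_mul σ b c, mul_assoc]

theorem map_cyc {β : Type*} [DecidableEq β] {f : β → α} (hf : Function.Injective f) (a b c i : β) :
    cyc (f a) (f b) (f c) (f i) = f (cyc a b c i) := by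
  simp only [cyc, Perm.coe_mul, Function.comp_apply, hf.swap_apply]

/-- A permutation of order three. -/
structure IsOrd3 (T : Perm α) : Prop where
  cube : ∀ x, T (T (T x)) = x

theorem IsOrd3.of_orderOf {T : Perm α} (h : orderOf T = 3) : IsOrd3 T :=
  ⟨fun x => by
    have := Perm.congr_fun (h ▸ pow_orderOf_eq_one T : T ^ 3 = 1) x
    simpa [pow_succ] using this⟩

theorem IsOrd3.symm_apply {T : Perm α} (hT : IsOrd3 T) (x : α) : T⁻¹ x = T (T x) := by
  rw [Perm.inv_eq_iff_eq, hT.cube]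

theorem IsOrd3.inj3 {T : Perm α} (hT : IsOrd3 T) {x : α} (hx : T x ≠ x) :
    T (T x) ≠ x ∧ T (T x) ≠ T x := by
  refine ⟨fun h => hx ?_, fun h => hx (T.injective h)⟩
  have := hT.cube x
  rw [h] at this
  exact this

variable [Fintype α]

theorem support_eq {T : Perm α} (hT : T.IsThreeCycle) (h3 : IsOrd3 T) {x : α} (hx : T x ≠ x) :
    ({x, T x, T (T x)} : Finset α) = T.support := by
  obtain ⟨h1, h2⟩ := h3.inj3 hx
  refine Finset.eq_of_subset_of_card_le ?_ ?_
  · intro y hy
    simp only [Finset.mem_insert, Finset.mem_singleton] at hy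
    rcases hy with rfl | rfl | rfl <;> simp [hx, h2, h3.cube, Ne.symm h1]
  · rw [hT.card_support, Finset.card_insert_of_notMem (by simp [Ne.symm hx, Ne.symm h1]),
      Finset.card_pair (Ne.symm h2)]

theorem cases_of_ne {T : Perm α} (hT : T.IsThreeCycle) (h3 : IsOrd3 T) {x y : α} (hx : T x ≠ x)
    (hy : T y ≠ y) : y = x ∨ y = T x ∨ y = T (T x) := by
  have := (support_eq hT h3 hx) ▸ (Perm.mem_support.2 hy)
  simpa using this

theorem eq_cyc {T : Perm α} (hT : T.IsThreeCycle) (h3 : IsOrd3 T) {x : α} (hx : T x ≠ x) :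
    T = cyc x (T x) (T (T x)) := by
  obtain ⟨h1, h2⟩ := h3.inj3 hx
  obtain ⟨e1, e2, e3⟩ := cyc_apply (Ne.symm hx) (Ne.symm h2) (Ne.symm h1)
  refine Perm.ext fun y => ?_
  by_cases hy : T y = y
  · rw [hy, cyc_apply_of_ne (fun e => hx (by rw [e] at hy; exact hy))
      (fun e => h2 (by rw [e] at hy; exact hy)) (fun e => ?_)]
    rw [e, h3.cube] at hy
    exact h1 hy.symm
  · rcases cases_of_ne hT h3 hx hy with rfl | rfl | rfl
    · exact e1.symm
    · exact e2.symm
    · rw [e3, h3.cube]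

omit [Fintype α] in
theorem isOrd3_cyc {a b c : α} (hab : a ≠ b) (hbc : b ≠ c) (hac : a ≠ c) : IsOrd3 (cyc a b c) := by
  obtain ⟨e1, e2, e3⟩ := cyc_apply hab hbc hac
  refine ⟨fun x => ?_⟩
  by_cases h1 : x = a
  · subst h1; rw [e1, e2, e3]
  by_cases h2 : x = b
  · subst h2; rw [e2, e3, e1]
  by_cases h3 : x = c
  · subst h3; rw [e3, e1, e2]
  rw [cyc_apply_of_ne h1 h2 h3, cyc_apply_of_ne h1 h2 h3, cyc_apply_of_ne h1 h2 h3]

theorem isThreeCycle_cyc {a b c : α} (hab : a ≠ b) (hbc : b ≠ c) (hac : a ≠ c) :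
    (cyc a b c).IsThreeCycle := by
  have h : (swap b a * swap b c).IsThreeCycle :=
    Perm.isThreeCycle_swap_mul_swap_same (Ne.symm hab) hbc hac
  rwa [cyc, swap_comm a b]

/-- Two 3-cycles whose product is an involution share an edge. -/
theorem common_edge {T U : Perm α} (hT : T.IsThreeCycle) (hU : U.IsThreeCycle) (hT3 : IsOrd3 T)
    (hU3 : IsOrd3 U) (h2 : (T * U) * (T * U) = 1) (h1 : T * U ≠ 1) :
    ∃ y, T y ≠ y ∧ U y = T y := by
  have hrel : ∀ x, T (U (T x)) = U⁻¹ x := by
    intro x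
    have := Perm.congr_fun h2 (U⁻¹ x)
    simpa using this
  by_cases hex : ∃ x, U x ≠ x ∧ T x = x
  · obtain ⟨x, hx, hxT⟩ := hex
    have h := hrel x
    rw [hxT, hU3.symm_apply] at h
    refine ⟨U x, fun hy => ?_, h.symm⟩
    rw [hy] at h
    exact (hU3.inj3 hx).2 h.symm
  · push Not at hex
    have hsub : U.support ⊆ T.support := fun x hx =>
      Perm.mem_support.2 (hex x (Perm.mem_support.1 hx))
    have heq : U.support = T.support :=
      Finset.eq_of_subset_of_card_le hsub (by rw [hT.card_support, hU.card_support])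
    by_contra hc
    push Not at hc
    refine h1 ?_
    refine Perm.ext fun y => ?_
    rw [Perm.mul_apply, Perm.one_apply]
    by_cases hy : T y = y
    · have : U y = y := by
        rw [← Perm.notMem_support, heq, Perm.notMem_support]
        exact hy
      rw [this, hy]
    · have hUy : U y ≠ y := by
        rw [← Perm.mem_support, heq, Perm.mem_support]
        exact hy
      have hUy' : T (U y) ≠ U y := hex _ (fun e => hUy (U.injective e))
      rcases cases_of_ne hT hT3 hy hUy' with h | h | h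
      · exact absurd h hUy
      · exact absurd h (hc y hy)
      · rw [h, hT3.cube]

theorem no_two_edges {T₀ U V : Perm α} (hT : T₀.IsThreeCycle) (hU : U.IsThreeCycle)
    (hV : V.IsThreeCycle) (h0 : IsOrd3 T₀) (hU3 : IsOrd3 U) (hV3 : IsOrd3 V) (hUne : U ≠ T₀)
    (hVne : V ≠ T₀) (h2 : (U * V) * (U * V) = 1) (h1 : U * V ≠ 1) {x : α} (hx : T₀ x ≠ x)
    (hUx : U x = T₀ x) (hVx : V (T₀ x) = T₀ (T₀ x)) : False := by
  obtain ⟨q1, q2⟩ := h0.inj3 hx
  have hUx' : U x ≠ x := by rw [hUx]; exact hx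
  have hVq : V (T₀ x) ≠ T₀ x := by rw [hVx]; exact q2
  obtain ⟨s1, s2⟩ := hU3.inj3 hUx'
  have hs : U (U x) ≠ T₀ (T₀ x) := fun e => hUne (by
    rw [eq_cyc hU hU3 hUx', e, hUx, ← eq_cyc hT h0 hx])
  have ht : V (V (T₀ x)) ≠ x := fun e => hVne (by
    rw [eq_cyc hV hV3 hVq, e, hVx]
    conv_rhs => rw [eq_cyc hT h0 q2, h0.cube])
  obtain ⟨y, hy, hyV⟩ := common_edge hU hV hU3 hV3 h2 h1
  have hy' : V y ≠ y := by rw [hyV]; exact hy
  rcases cases_of_ne hU hU3 hUx' hy with rfl | rfl | rfl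
  · rcases cases_of_ne hV hV3 hVq hy' with h | h | h
    · exact hx h.symm
    · rw [hVx] at h; exact q1 h.symm
    · exact ht h.symm
  · rw [hUx] at hyV hs
    rw [hVx] at hyV
    exact hs hyV.symm
  · rw [hU3.cube] at hyV
    rcases cases_of_ne hV hV3 hVq hy' with h | h | h
    · rw [← hUx] at h; exact s2 h
    · rw [hVx] at h; exact hs h
    · rw [h, hV3.cube] at hyV
      exact hx hyV

/-- Order-three permutations that are not 3-cycles, in degree at least seven, have a conjugate by an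
even permutation with product of order outside `{1, 2, 3, 5}`. -/
theorem exists_bad_conj {x : Perm α} (hx : orderOf x = 3) (hnot : ¬ x.IsThreeCycle)
    (h6 : Fintype.card α ≠ 6) :
    ∃ z : Perm α, Perm.sign z = 1 ∧ ∀ j ∈ ({1, 2, 3, 5} : Finset ℕ), (x * (z * x * z⁻¹)) ^ j ≠ 1 := by
  have h3 := IsOrd3.of_orderOf hx
  have hx1 : x ≠ 1 := fun h => by rw [h, orderOf_one] at hx; omega
  obtain ⟨p, hp⟩ : ∃ p, x p ≠ p := by
    by_contra h
    push Not at h
    exact hx1 (Perm.ext h)
  obtain ⟨p1, p2⟩ := h3.inj3 hp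
  have hp' : ∀ y ∈ ({p, x p, x (x p)} : Finset α), x y ∈ ({p, x p, x (x p)} : Finset α) := by
    intro y hy
    simp only [Finset.mem_insert, Finset.mem_singleton] at hy ⊢
    rcases hy with rfl | rfl | rfl
    · exact Or.inr (Or.inl rfl)
    · exact Or.inr (Or.inr rfl)
    · exact Or.inl (h3.cube p)
  obtain ⟨r, hr, hr'⟩ : ∃ r, x r ≠ r ∧ r ∉ ({p, x p, x (x p)} : Finset α) := by
    by_contra h
    push Not at h
    have hsub : x.support ⊆ ({p, x p, x (x p)} : Finset α) := fun y hy => h y (Perm.mem_support.1 hy)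
    refine hnot (_root_.card_support_eq_three_iff.1 (le_antisymm
      ((Finset.card_le_card hsub).trans Finset.card_le_three) ?_))
    refine le_trans ?_ (Finset.card_le_card (s := {p, x p, x (x p)}) ?_)
    · rw [Finset.card_insert_of_notMem (by simp [Ne.symm hp, Ne.symm p1]), Finset.card_pair (Ne.symm p2)]
    · intro y hy
      simp only [Finset.mem_insert, Finset.mem_singleton] at hy
      rcases hy with rfl | rfl | rfl <;> simp [hp, p2, h3.cube, Ne.symm p1]
  obtain ⟨r1, r2⟩ := h3.inj3 hr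
  simp only [Finset.mem_insert, Finset.mem_singleton, not_or] at hr'
  obtain ⟨a1, a2, a3⟩ := hr'
  have b1 : x r ≠ p := fun e => a3 (by rw [← e, h3.cube])
  have b2 : x r ≠ x p := fun e => a1 (x.injective e)
  have b3 : x r ≠ x (x p) := fun e => a2 (x.injective e)
  have c1 : x (x r) ≠ p := fun e => a2 (by rw [← e, h3.cube])
  have c2 : x (x r) ≠ x p := fun e => a3 (by rw [← x.injective e, h3.cube])
  have c3 : x (x r) ≠ x (x p) := fun e => a1 (x.injective (x.injective e))
  set S : Finset α := {p, x p, x (x p), r, x r, x (x r)} with hS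
  have hS6 : S.card ≤ 6 := Finset.card_le_six
  have hcard : 6 ≤ Fintype.card α := by
    have : S.card = 6 := by
      rw [hS, Finset.card_insert_of_notMem, Finset.card_insert_of_notMem, Finset.card_insert_of_notMem,
        Finset.card_insert_of_notMem, Finset.card_pair] <;>
        simp [Ne.symm hp, Ne.symm p1, Ne.symm p2, Ne.symm a1, Ne.symm a2, Ne.symm a3, Ne.symm b1,
          Ne.symm b2, Ne.symm b3, Ne.symm c1, Ne.symm c2, Ne.symm c3, Ne.symm hr, Ne.symm r1, Ne.symm r2]
    rw [← this]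
    exact Finset.card_le_univ S
  obtain ⟨w, hw⟩ : ∃ w, w ∉ S := by
    by_contra h
    push Not at h
    have := Finset.card_le_card (show (Finset.univ : Finset α) ⊆ S from fun y _ => h y)
    rw [Finset.card_univ] at this
    omega
  simp only [hS, Finset.mem_insert, Finset.mem_singleton, not_or] at hw
  obtain ⟨w1, w2, w3, w4, w5, w6⟩ := hw
  have key : ∀ {m : ℕ} (f : Fin m → α) (a b : Perm (Fin m)) (z : Perm α), (∀ i, x (f i) = f (a i)) →
      (∀ i, z (f i) = f (b i)) → Function.Injective f → ∀ j : ℕ, (a * (b * a * b⁻¹)) ^ j ≠ 1 →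
        (x * (z * x * z⁻¹)) ^ j ≠ 1 := by
    intro m f a b z ha hb hf j hj h
    refine hj (Perm.ext fun i => hf ?_)
    have hzi : ∀ i, z⁻¹ (f i) = f (b⁻¹ i) := fun i => by
      rw [Perm.inv_eq_iff_eq, hb]
      exact congrArg f (b.apply_symm_apply i).symm
    have hs : ∀ i, (x * (z * x * z⁻¹)) (f i) = f ((a * (b * a * b⁻¹)) i) := fun i => by
      simp only [Perm.mul_apply, hzi, ha, hb]
    have hn : ∀ n : ℕ, ((x * (z * x * z⁻¹)) ^ n) (f i) = f (((a * (b * a * b⁻¹)) ^ n) i) := by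
      intro n
      induction n with
      | zero => rfl
      | succ n ih => rw [pow_succ', pow_succ', Perm.mul_apply, ih, hs, ← Perm.mul_apply]
    rw [Perm.one_apply, ← hn j, h, Perm.one_apply]
  by_cases hw' : x w = w
  · let f : Fin 7 → α := ![p, x p, x (x p), r, x r, x (x r), w]
    have hf : Function.Injective f := by
      intro i j
      fin_cases i <;> fin_cases j <;>
        simp [f, hp, Ne.symm hp, p1, Ne.symm p1, p2, Ne.symm p2, hr, Ne.symm hr, r1, Ne.symm r1, r2,
          Ne.symm r2, a1, Ne.symm a1, a2, Ne.symm a2, a3, Ne.symm a3, b1, Ne.symm b1, b2, Ne.symm b2,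
          b3, Ne.symm b3, c1, Ne.symm c1, c2, Ne.symm c2, c3, Ne.symm c3, w1, Ne.symm w1, w2, Ne.symm w2,
          w3, Ne.symm w3, w4, Ne.symm w4, w5, Ne.symm w5, w6, Ne.symm w6]
    let a : Perm (Fin 7) := cyc 0 1 2 * cyc 3 4 5
    refine ⟨cyc (f 2) (f 3) (f 6), ?_, fun j hj => key f a (cyc 2 3 6) _ ?_ (map_cyc hf 2 3 6) hf j ?_⟩
    · exact (isThreeCycle_cyc (hf.ne (by decide)) (hf.ne (by decide)) (hf.ne (by decide))).sign
    · intro i
      fin_cases i <;> simp [f, a, cyc, swap_apply_def, h3.cube, hw'] <;> rfl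
    · simp only [Finset.mem_insert, Finset.mem_singleton] at hj
      rcases hj with rfl | rfl | rfl | rfl <;> decide +kernel
  · obtain ⟨w7, w8⟩ := h3.inj3 hw'
    have d1 : x w ≠ p := fun e => w3 (by rw [← e, h3.cube])
    have d2 : x w ≠ x p := fun e => w1 (x.injective e)
    have d3 : x w ≠ x (x p) := fun e => w2 (x.injective e)
    have d4 : x w ≠ r := fun e => w6 (by rw [← e, h3.cube])
    have d5 : x w ≠ x r := fun e => w4 (x.injective e)
    have d6 : x w ≠ x (x r) := fun e => w5 (x.injective e)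
    have e1 : x (x w) ≠ p := fun e => w2 (by rw [← e, h3.cube])
    have e2 : x (x w) ≠ x p := fun e => w3 (by rw [← x.injective e, h3.cube])
    have e3 : x (x w) ≠ x (x p) := fun e => w1 (x.injective (x.injective e))
    have e4 : x (x w) ≠ r := fun e => w5 (by rw [← e, h3.cube])
    have e5 : x (x w) ≠ x r := fun e => w6 (by rw [← x.injective e, h3.cube])
    have e6 : x (x w) ≠ x (x r) := fun e => w4 (x.injective (x.injective e))
    let f : Fin 9 → α := ![p, x p, x (x p), r, x r, x (x r), w, x w, x (x w)]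
    have hf : Function.Injective f := by
      intro i j
      fin_cases i <;> fin_cases j <;>
        simp [f, hp, Ne.symm hp, p1, Ne.symm p1, p2, Ne.symm p2, hr, Ne.symm hr, r1, Ne.symm r1, r2,
          Ne.symm r2, a1, Ne.symm a1, a2, Ne.symm a2, a3, Ne.symm a3, b1, Ne.symm b1, b2, Ne.symm b2,
          b3, Ne.symm b3, c1, Ne.symm c1, c2, Ne.symm c2, c3, Ne.symm c3, w1, Ne.symm w1, w2, Ne.symm w2,
          w3, Ne.symm w3, w4, Ne.symm w4, w5, Ne.symm w5, w6, Ne.symm w6, w7, Ne.symm w7, w8, Ne.symm w8,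
          hw', Ne.symm hw', d1, Ne.symm d1, d2, Ne.symm d2, d3, Ne.symm d3, d4, Ne.symm d4, d5, Ne.symm d5,
          d6, Ne.symm d6, e1, Ne.symm e1, e2, Ne.symm e2, e3, Ne.symm e3, e4, Ne.symm e4, e5, Ne.symm e5,
          e6, Ne.symm e6]
    let a : Perm (Fin 9) := cyc 0 1 2 * cyc 3 4 5 * cyc 6 7 8
    refine ⟨cyc (f 5) (f 6) (f 7), ?_, fun j hj => key f a (cyc 5 6 7) _ ?_ (map_cyc hf 5 6 7) hf j ?_⟩
    · exact (isThreeCycle_cyc (hf.ne (by decide)) (hf.ne (by decide)) (hf.ne (by decide))).sign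
    · intro i
      fin_cases i <;> simp [f, a, cyc, swap_apply_def, h3.cube] <;> rfl
    · simp only [Finset.mem_insert, Finset.mem_singleton] at hj
      rcases hj with rfl | rfl | rfl | rfl <;> decide +kernel

/-- The product of two 3-cycles has order in `{1, 2, 3, 5}`. -/
theorem three_cycle_product {x y : Perm α} (hx : x.IsThreeCycle) (hy : y.IsThreeCycle) :
    ∃ j ∈ ({1, 2, 3, 5} : Finset ℕ), (x * y) ^ j = 1 := by
  have hx3 := IsOrd3.of_orderOf hx.orderOf
  have hy3 := IsOrd3.of_orderOf hy.orderOf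
  set S : Finset α := x.support ∪ y.support with hS
  have hS6 : S.card ≤ 6 := (Finset.card_union_le _ _).trans (by rw [hx.card_support, hy.card_support])
  obtain ⟨p, hp⟩ : ∃ p, p ∈ x.support := Finset.card_pos.1 (by rw [hx.card_support]; norm_num)
  obtain ⟨r, hr⟩ : ∃ r, r ∈ y.support := Finset.card_pos.1 (by rw [hy.card_support]; norm_num)
  obtain ⟨g, hg⟩ : ∃ g : α → Fin 6, Set.InjOn g S := by
    obtain ⟨e⟩ := Function.Embedding.nonempty_of_card_le (α := S) (β := Fin 6) (by simpa using hS6)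
    exact ⟨fun z => if h : z ∈ S then e ⟨z, h⟩ else 0, fun z hz w hw h => by
      simp only [dif_pos (Finset.mem_coe.1 hz), dif_pos (Finset.mem_coe.1 hw)] at h
      exact congrArg Subtype.val (e.injective h)⟩
  have hxS : ∀ z ∈ S, x z ∈ S := fun z hz => by
    by_cases h : x z = z
    · rw [h]; exact hz
    · exact Finset.mem_union_left _ (Perm.apply_mem_support.2 (Perm.mem_support.2 h))
  have hyS : ∀ z ∈ S, y z ∈ S := fun z hz => by
    by_cases h : y z = z
    · rw [h]; exact hz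
    · exact Finset.mem_union_right _ (Perm.apply_mem_support.2 (Perm.mem_support.2 h))
  have himg : ∀ T : Perm α, T.IsThreeCycle → T.support ⊆ S → ∀ q ∈ T.support,
      ∀ z ∈ S, g (T z) = cyc (g q) (g (T q)) (g (T (T q))) (g z) := by
    intro T hT hTS q hq z hz
    have hT3 := IsOrd3.of_orderOf hT.orderOf
    have hq' := Perm.mem_support.1 hq
    obtain ⟨h1, h2⟩ := hT3.inj3 hq'
    have m1 : T q ∈ T.support := Perm.apply_mem_support.2 hq
    have m2 : T (T q) ∈ T.support := Perm.apply_mem_support.2 m1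
    have hne : ∀ u ∈ T.support, ∀ v ∈ T.support, u ≠ v → g u ≠ g v := fun u hu v hv huv e =>
      huv (hg (hTS hu) (hTS hv) e)
    obtain ⟨e1, e2, e3⟩ := cyc_apply (hne _ hq _ m1 (Ne.symm hq')) (hne _ m1 _ m2 (Ne.symm h2))
      (hne _ hq _ m2 (Ne.symm h1))
    by_cases hTz : T z = z
    · rw [hTz, cyc_apply_of_ne (fun e => ?_) (fun e => ?_) (fun e => ?_)]
      · exact hq' (hg hz (hTS hq) e ▸ hTz)
      · exact h2 (hg hz (hTS m1) e ▸ hTz)
      · have h := hg hz (hTS m2) e ▸ hTz
        rw [hT3.cube] at h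
        exact h1 h.symm
    · rcases cases_of_ne hT hT3 hq' hTz with rfl | rfl | rfl
      · rw [e1]
      · rw [e2]
      · rw [e3, hT3.cube]
  have hne3 : ∀ T : Perm α, T.IsThreeCycle → T.support ⊆ S → ∀ q ∈ T.support,
      g q ≠ g (T q) ∧ g (T q) ≠ g (T (T q)) ∧ g q ≠ g (T (T q)) := by
    intro T hT hTS q hq
    have hT3 := IsOrd3.of_orderOf hT.orderOf
    obtain ⟨h1, h2⟩ := hT3.inj3 (Perm.mem_support.1 hq)
    have m1 : T q ∈ T.support := Perm.apply_mem_support.2 hq
    have m2 : T (T q) ∈ T.support := Perm.apply_mem_support.2 m1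
    exact ⟨fun e => Perm.mem_support.1 hq (hg (hTS hq) (hTS m1) e).symm,
      fun e => h2 (hg (hTS m1) (hTS m2) e).symm, fun e => h1 (hg (hTS hq) (hTS m2) e).symm⟩
  have small : ∀ a b c : Fin 6, a ≠ b → b ≠ c → a ≠ c →
      ((cyc 0 1 2 * cyc a b c) ^ 1 = 1 ∨ (cyc 0 1 2 * cyc a b c) ^ 2 = 1 ∨
        (cyc 0 1 2 * cyc a b c) ^ 3 = 1 ∨ (cyc 0 1 2 * cyc a b c) ^ 5 = 1) := by decide +kernel
  obtain ⟨n1, n2, n3⟩ := hne3 x hx Finset.subset_union_left p hp
  obtain ⟨m1, m2, m3⟩ := hne3 y hy Finset.subset_union_right r hr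
  obtain ⟨σ, s1, s2, s3⟩ : ∃ σ : Perm (Fin 6), σ (g p) = 0 ∧ σ (g (x p)) = 1 ∧ σ (g (x (x p))) = 2 := by
    have : ∀ a b c : Fin 6, a ≠ b → b ≠ c → a ≠ c →
        let σ1 := swap a 0; let σ2 := swap (σ1 b) 1; let σ3 := swap (σ2 (σ1 c)) 2
        σ3 (σ2 (σ1 a)) = 0 ∧ σ3 (σ2 (σ1 b)) = 1 ∧ σ3 (σ2 (σ1 c)) = 2 := by decide +kernel
    refine ⟨swap (swap (swap (g p) 0 (g (x p))) 1 (swap (g p) 0 (g (x (x p))))) 2 *
      swap (swap (g p) 0 (g (x p))) 1 * swap (g p) 0, ?_⟩
    simpa using this _ _ _ n1 n2 n3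
  obtain ⟨j, hj, hpow⟩ : ∃ j ∈ ({1, 2, 3, 5} : Finset ℕ),
      (cyc (g p) (g (x p)) (g (x (x p))) * cyc (g r) (g (y r)) (g (y (y r)))) ^ j = 1 := by
    have hc : σ * (cyc (g p) (g (x p)) (g (x (x p))) * cyc (g r) (g (y r)) (g (y (y r)))) * σ⁻¹ =
        cyc 0 1 2 * cyc (σ (g r)) (σ (g (y r))) (σ (g (y (y r)))) := by
      rw [← s1, ← s2, ← s3, ← conj_cyc, ← conj_cyc]
      group
    have key : ∀ j : ℕ, (cyc 0 1 2 * cyc (σ (g r)) (σ (g (y r))) (σ (g (y (y r))))) ^ j = 1 →
        (cyc (g p) (g (x p)) (g (x (x p))) * cyc (g r) (g (y r)) (g (y (y r)))) ^ j = 1 := by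
      intro j h
      rw [← hc, conj_pow, mul_inv_eq_one, mul_eq_left] at h
      exact h
    rcases small _ _ _ (σ.injective.ne m1) (σ.injective.ne m2) (σ.injective.ne m3) with h | h | h | h
    exacts [⟨1, by simp, key 1 h⟩, ⟨2, by simp, key 2 h⟩, ⟨3, by simp, key 3 h⟩, ⟨5, by simp, key 5 h⟩]
  refine ⟨j, hj, Perm.ext fun z => ?_⟩
  rw [Perm.one_apply]
  by_cases hz : z ∈ S
  · have hstep : ∀ n : ℕ, ((x * y) ^ n) z ∈ S ∧ g (((x * y) ^ n) z) =
        ((cyc (g p) (g (x p)) (g (x (x p))) * cyc (g r) (g (y r)) (g (y (y r)))) ^ n) (g z) := by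
      intro n
      induction n with
      | zero => exact ⟨hz, rfl⟩
      | succ n ih =>
        rw [pow_succ', pow_succ', Perm.mul_apply, Perm.mul_apply, Perm.mul_apply, Perm.mul_apply]
        refine ⟨hxS _ (hyS _ ih.1), ?_⟩
        rw [himg x hx Finset.subset_union_left p hp _ (hyS _ ih.1),
          himg y hy Finset.subset_union_right r hr _ ih.1, ih.2]
    obtain ⟨h1, h2⟩ := hstep j
    rw [hpow, Perm.one_apply] at h2
    exact hg h1 hz h2
  · have hfix : (x * y) z = z := by
      have h1 : y z = z := Perm.notMem_support.1 fun h => hz (Finset.mem_union_right _ h)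
      have h2 : x z = z := Perm.notMem_support.1 fun h => hz (Finset.mem_union_left _ h)
      rw [Perm.mul_apply, h1, h2]
    exact Function.IsFixedPt.perm_pow hfix j

/-- A subgroup containing all `(a b i)` contains the alternating group. -/
theorem alternating_le {H : Subgroup (Perm α)} (hH : H ≤ alternatingGroup α) {a b : α} (hab : a ≠ b)
    (h : ∀ i, i ≠ a → i ≠ b → cyc a b i ∈ H) : alternatingGroup α ≤ H := by
  have hs : ∀ i, i ≠ a → swap a b * swap a i ∈ H := by
    intro i hia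
    by_cases hib : i = b
    · subst hib; rw [swap_mul_self]; exact H.one_mem
    have he : swap a b * swap a i = (cyc a b i)⁻¹ := by
      rw [eq_inv_iff_mul_eq_one, cyc]
      have h1 : swap a i * swap a b = swap a b * swap b i := by
        rw [mul_swap_eq_swap_mul (swap a b) b i, swap_apply_right,
          swap_apply_of_ne_of_ne hia hib]
      rw [mul_assoc, ← mul_assoc (swap a i), h1, mul_assoc (swap a b) (swap b i), swap_mul_self,
        mul_one, swap_mul_self]
    rw [he]
    exact H.inv_mem (h i hia hib)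
  have key : ∀ σ : Perm α, σ ∈ H ∨ swap a b * σ ∈ H := by
    have step : ∀ i, i ≠ a → ∀ σ : Perm α, (σ ∈ H ∨ swap a b * σ ∈ H) →
        (swap a i * σ ∈ H ∨ swap a b * (swap a i * σ) ∈ H) := by
      rintro i hia σ (hσ | hσ)
      · exact Or.inr (by rw [← mul_assoc]; exact H.mul_mem (hs i hia) hσ)
      · left
        have : swap a i * σ = (swap a b * swap a i)⁻¹ * (swap a b * σ) * 1 := by
          rw [mul_inv_rev, swap_inv, swap_inv, mul_one, mul_assoc, ← mul_assoc (swap a b), swap_mul_self,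
            one_mul]
        rw [this, mul_one]
        exact H.mul_mem (H.inv_mem (hs i hia)) hσ
    intro σ
    induction σ using Perm.swap_induction_on with
    | one => exact Or.inl H.one_mem
    | swap_mul σ x y hxy ih =>
      by_cases hx : x = a
      · subst hx; exact step y hxy.symm σ ih
      by_cases hy : y = a
      · subst hy; rw [swap_comm]; exact step x hxy σ ih
      have hd : swap x y = swap a x * swap a y * swap a x := by
        rw [mul_swap_eq_swap_mul (swap a x) a y, swap_apply_left,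
          swap_apply_of_ne_of_ne hy hxy.symm, mul_assoc, swap_mul_self, mul_one]
      rw [hd, mul_assoc, mul_assoc]
      exact step x hx _ (step y hy _ (step x hx _ ih))
  intro σ hσ
  refine (key σ).resolve_right fun hc => ?_
  have h1 := Perm.mem_alternatingGroup.1 (hH hc)
  rw [Perm.sign_mul, Perm.sign_swap hab, Perm.mem_alternatingGroup.1 hσ] at h1
  exact absurd h1 (by decide)

end Cfsg.Agent.SimpleFacts.AutAlt
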