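import Mathlib
import Cfsg.Agent.S2587
import Cfsg.Agent.S2588
import Cfsg.Agent.Lib.Classical.SemisimpleConj

/-!
Semisimple elements of the unitary groups: the characteristic polynomials that occur, and the
surjectivity of the determinant on centralizers.
-/

set_option autoImplicit false
set_option linter.style.haveILetI false
set_option linter.unusedSectionVars false
set_option maxHeartbeats 1000000

namespace Cfsg.Agent.SimpleFacts.UnitarySemisimple

open Polynomial Matrix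
open Cfsg.Agent.Classical Cfsg.Agent.Classical.SemisimpleConj
open Cfsg.Agent.Forms

/-! ### The twisted reciprocal of a polynomial -/

theorem map_reverse {K L : Type*} [Field K] [Field L] (f : K →+* L) (p : K[X]) :
    p.reverse.map f = (p.map f).reverse := by
  ext i
  rw [coeff_map, coeff_reverse, coeff_reverse, coeff_map, natDegree_map]

theorem natDegree_reverse {K : Type*} [Field K] {p : K[X]} (h : p.coeff 0 ≠ 0) :
    p.reverse.natDegree = p.natDegree := by
  have := natDegree_eq_reverse_natDegree_add_natTrailingDegree p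
  rw [natTrailingDegree_eq_zero.2 (Or.inr h)] at this
  omega

theorem reverse_reverse {K : Type*} [Field K] {p : K[X]} (h : p.coeff 0 ≠ 0) :
    p.reverse.reverse = p := by
  ext i
  rw [coeff_reverse, coeff_reverse, natDegree_reverse h, revAt_invol]

variable {K : Type*} [Field K] [Fintype K] {q : ℕ} (hK : Fintype.card K = q ^ 2)

/-- The monic polynomial whose roots are the `(-q)`-th powers of the roots. -/
noncomputable def ti (p : K[X]) : K[X] :=
  C ((p.coeff 0) ^ q)⁻¹ * (p.map (HermStd.qHom hK)).reverse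

theorem ti_mul (a b : K[X]) : ti hK (a * b) = ti hK a * ti hK b := by
  rw [ti, ti, ti, mul_coeff_zero, mul_pow, mul_inv, C_mul, Polynomial.map_mul, reverse_mul_of_domain]
  ring

theorem ti_one : ti hK 1 = 1 := by
  rw [ti, coeff_one_zero, one_pow, inv_one, C_1, one_mul, Polynomial.map_one, ← C_1, reverse_C]

theorem ti_monic {p : K[X]} (h : p.coeff 0 ≠ 0) : (ti hK p).Monic := by
  show (ti hK p).leadingCoeff = 1
  rw [ti, leadingCoeff_mul, leadingCoeff_C, reverse_leadingCoeff, trailingCoeff,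
    natTrailingDegree_eq_zero.2 (Or.inr ?_), coeff_map, HermStd.qHom_apply,
    inv_mul_cancel₀ (pow_ne_zero _ h)]
  rw [coeff_map, HermStd.qHom_apply]
  exact pow_ne_zero _ h

theorem natDegree_ti {p : K[X]} (h : p.coeff 0 ≠ 0) : (ti hK p).natDegree = p.natDegree := by
  rw [ti, natDegree_C_mul (inv_ne_zero (pow_ne_zero _ h)), natDegree_reverse, natDegree_map]
  rw [coeff_map, HermStd.qHom_apply]
  exact pow_ne_zero _ h

theorem ti_coeff_zero {p : K[X]} (hp : p.Monic) : (ti hK p).coeff 0 = ((p.coeff 0) ^ q)⁻¹ := by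
  rw [ti, coeff_C_mul, coeff_zero_reverse, (hp.map _).leadingCoeff, mul_one]

theorem ti_ti {p : K[X]} (hp : p.Monic) (h : p.coeff 0 ≠ 0) : ti hK (ti hK p) = p := by
  have h1 : (p.map (HermStd.qHom hK)).map (HermStd.qHom hK) = p := by
    ext i
    rw [coeff_map, coeff_map, HermStd.qHom_qHom]
  rw [ti, ti_coeff_zero hK hp, inv_pow, HermStd.pow_q_q hK, inv_inv, ti, Polynomial.map_mul, map_C,
    map_reverse, h1, reverse_mul_of_domain, reverse_C, reverse_reverse h, ← mul_assoc, ← C_mul,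
    map_inv₀, HermStd.qHom_apply, HermStd.pow_q_q hK, mul_inv_cancel₀ h, C_1, one_mul]

/-! ### Determinants of polynomials in a matrix -/

theorem map_det_aeval {ι : Type*} [Fintype ι] [DecidableEq ι] {L : Type*} [Field L] (f : K →+* L)
    (M : Matrix ι ι K) (r : K[X]) :
    f (aeval M r).det = (aeval (f.mapMatrix M) (r.map f)).det := by
  rw [RingHom.map_det]
  congr 1
  refine map_aeval_eq_aeval_map (φ := f) (ψ := f.mapMatrix) ?_ r M
  ext a i j
  simp [Matrix.algebraMap_eq_diagonal, Matrix.diagonal_apply]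
  split_ifs <;> simp

theorem det_aeval_eq {ι ι' : Type*} [Fintype ι] [DecidableEq ι] [Fintype ι'] [DecidableEq ι']
    (A : Matrix ι ι K) (B : Matrix ι' ι' K) (h : A.charpoly = B.charpoly) (r : K[X]) :
    (aeval A r).det = (aeval B r).det := by
  classical
  have hcard : Fintype.card ι = Fintype.card ι' := by
    rw [← A.charpoly_natDegree_eq_dim, h, B.charpoly_natDegree_eq_dim]
  let f := algebraMap K (AlgebraicClosure K)
  apply f.injective
  rw [map_det_aeval, map_det_aeval]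
  let μA := (Matrix.detMonoidHom).comp (aeval (R := AlgebraicClosure K) (f.mapMatrix A)).toMonoidHom
  let μB := (Matrix.detMonoidHom).comp (aeval (R := AlgebraicClosure K) (f.mapMatrix B)).toMonoidHom
  show μA (r.map f) = μB (r.map f)
  have hC : ∀ a, μA (C a) = μB (C a) := fun a => by
    show (aeval (f.mapMatrix A) (C a)).det = (aeval (f.mapMatrix B) (C a)).det
    rw [aeval_C, aeval_C, Algebra.algebraMap_eq_smul_one, Algebra.algebraMap_eq_smul_one, det_smul,
      det_smul, det_one, det_one, hcard]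
  have hX : ∀ a, μA (X - C a) = μB (X - C a) := fun a => by
    show (aeval (f.mapMatrix A) (X - C a)).det = (aeval (f.mapMatrix B) (X - C a)).det
    rw [map_sub, map_sub, aeval_X, aeval_X, aeval_C, aeval_C, ← neg_sub, det_neg,
      ← neg_sub _ (f.mapMatrix B), det_neg, hcard]
    congr 1
    rw [Matrix.algebraMap_eq_diagonal, Matrix.algebraMap_eq_diagonal]
    show (Matrix.scalar ι a - _).det = (Matrix.scalar ι' a - _).det
    rw [← eval_charpoly, ← eval_charpoly, RingHom.mapMatrix_apply, RingHom.mapMatrix_apply,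
      charpoly_map, charpoly_map, h]
  have hs := IsAlgClosed.splits (r.map f)
  rw [hs.eq_prod_roots, map_mul, map_mul, hC, map_multiset_prod, map_multiset_prod, Multiset.map_map,
    Multiset.map_map]
  congr 2
  exact Multiset.map_congr rfl fun a _ => hX a

theorem exists_det_aeval {p m : K[X]} (hp : Irreducible p) (hpm : p.Monic) (hm : m.Monic)
    (hcop : IsCoprime p m) {ι : Type*} [Fintype ι] [DecidableEq ι] (B : Matrix ι ι K)
    (hB : B.charpoly = p * m) (c : K) : ∃ r : K[X], (aeval B r).det = c := by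
  classical
  haveI : Fact (Irreducible p) := ⟨hp⟩
  haveI : Module.Finite K (AdjoinRoot p) := (AdjoinRoot.powerBasis' hpm).finite
  haveI : Module.Finite K (AdjoinRoot m) := (AdjoinRoot.powerBasis' hm).finite
  haveI : Finite (AdjoinRoot p) := Module.finite_of_finite K
  obtain ⟨a, ha⟩ := FiniteField.norm_surjective K (AdjoinRoot p) c
  obtain ⟨a', rfl⟩ := AdjoinRoot.mk_surjective a
  obtain ⟨s, t, hst⟩ := hcop
  obtain ⟨r, hr⟩ : ∃ r, r = a' * (t * m) + s * p := ⟨_, rfl⟩
  refine ⟨r, ?_⟩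
  let f : Module.End K (AdjoinRoot p × AdjoinRoot m) := (rootEnd p).prodMap (rootEnd m)
  let b := Module.finBasis K (AdjoinRoot p × AdjoinRoot m)
  have hf : (LinearMap.toMatrixAlgEquiv b f).charpoly = B.charpoly := by
    refine (LinearMap.charpoly_toMatrix f b).trans ?_
    rw [hB, LinearMap.charpoly_prodMap, charpoly_rootEnd hpm.ne_zero, charpoly_rootEnd hm.ne_zero,
      hpm.leadingCoeff, hm.leadingCoeff, inv_one, C_1, mul_one, mul_one]
  rw [← det_aeval_eq _ B hf, ← AlgEquiv.coe_algHom, aeval_algHom_apply]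
  refine (LinearMap.det_toMatrix b _).trans ?_
  have he : aeval f r = (aeval (rootEnd p) r).prodMap (aeval (rootEnd m) r) := by
    have h1 := aeval_algHom_apply (LinearMap.prodMapAlgHom K (AdjoinRoot p) (AdjoinRoot m))
      ((rootEnd p, rootEnd m) : Module.End K (AdjoinRoot p) × Module.End K (AdjoinRoot m)) r
    have h2 : aeval ((rootEnd p, rootEnd m) : Module.End K (AdjoinRoot p) × Module.End K (AdjoinRoot m)) r
        = (aeval (rootEnd p) r, aeval (rootEnd m) r) := Prod.ext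
      (aeval_algHom_apply (AlgHom.fst K _ _) _ r).symm (aeval_algHom_apply (AlgHom.snd K _ _) _ r).symm
    rw [h2] at h1
    exact h1
  rw [he, LinearMap.det_prodMap]
  have hl : ∀ g : K[X], aeval (rootEnd g) r = Algebra.lmul K _ (AdjoinRoot.mk g r) := fun g => by
    rw [rootEnd, aeval_algHom_apply, AdjoinRoot.aeval_eq]
  rw [hl, hl, ← Algebra.norm_apply, ← Algebra.norm_apply]
  have h1 : AdjoinRoot.mk p r = AdjoinRoot.mk p a' := by
    rw [AdjoinRoot.mk_eq_mk]
    exact ⟨s * (1 - a'), by rw [hr]; linear_combination a' * hst⟩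
  have h2 : AdjoinRoot.mk m r = 1 := by
    rw [← map_one (AdjoinRoot.mk m), AdjoinRoot.mk_eq_mk]
    exact ⟨t * (a' - 1), by rw [hr]; linear_combination hst⟩
  rw [h1, h2, map_one, mul_one, ha]

/-! ### Unitary matrices -/

section

variable {n : ℕ}

local notation "Mat" => Matrix (Fin n) (Fin n) K

theorem adj_pow (A : Mat) (k : ℕ) : UnitaryConj.adj hK (A ^ k) = UnitaryConj.adj hK A ^ k := by
  induction k with
  | zero => simp [UnitaryConj.adj_one]
  | succ k ih => rw [pow_succ, UnitaryConj.adj_mul, ih, pow_succ']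

theorem det_adj (A : Mat) : (UnitaryConj.adj hK A).det = A.det ^ q := by
  rw [UnitaryConj.adj, det_transpose, ← RingHom.mapMatrix_apply, ← RingHom.map_det,
    HermStd.qHom_apply]

theorem coeff_zero_ne {A : Mat} (hA : A.det ≠ 0) : A.charpoly.coeff 0 ≠ 0 := fun h =>
  hA (by rw [det_eq_sign_charpoly_coeff, h, mul_zero])

theorem charpoly_inv_adj (A : Mat) (hA : A.det ≠ 0) :
    ((UnitaryConj.adj hK A)⁻¹).charpoly = ti hK A.charpoly := by
  have hd : (UnitaryConj.adj hK A).det ≠ 0 := by rw [det_adj]; exact pow_ne_zero _ hA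
  rw [charpoly_inv _ ((isUnit_iff_isUnit_det _).2 (Ne.isUnit hd)), ← reverse_charpoly,
    UnitaryConj.adj, charpoly_transpose, charpoly_map, det_transpose, ← RingHom.mapMatrix_apply,
    ← RingHom.map_det, HermStd.qHom_apply, det_eq_sign_charpoly_coeff, Fintype.card_fin,
    Ring.inverse_eq_inv', ti, mul_pow, mul_inv]
  congr 1
  rw [show ((-1 : K[X]) ^ n) = C ((-1 : K) ^ n) by rw [C_pow, C_neg, C_1], ← C_mul]
  congr 1
  rw [← mul_assoc]
  have h1 : ((-1 : K) ^ n) ^ q = (-1) ^ n := by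
    rw [← HermStd.qHom_apply hK, map_pow, map_neg, map_one]
  rw [h1, mul_inv_cancel₀ (pow_ne_zero _ (neg_ne_zero.2 one_ne_zero)), one_mul]

theorem ti_charpoly {A : Mat} (hA : UnitaryConj.adj hK A * A = 1) :
    ti hK A.charpoly = A.charpoly := by
  have hd : A.det ≠ 0 := fun h => by
    have := congrArg Matrix.det hA
    rw [det_mul, h, mul_zero, det_one] at this
    exact zero_ne_one this
  rw [← charpoly_inv_adj hK A hd, Matrix.inv_eq_right_inv hA]

theorem exists_unitary (c : K[X]) (hc : c.Monic) (hd : c.natDegree = n) (h0 : c.coeff 0 ≠ 0)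
    (hti : ti hK c = c) : ∃ (B : Mat) (k : ℕ),
      (k : K) ≠ 0 ∧ B ^ k = 1 ∧ UnitaryConj.adj hK B * B = 1 ∧ B.charpoly = c := by
  obtain ⟨A, k, hk, hA, hAc⟩ := exists_matrix n c hd hc h0
  obtain ⟨u, rfl⟩ : IsUnit A := IsUnit.of_pow_eq_one hA fun h => hk (by rw [h, Nat.cast_zero])
  have hud : (u : Mat).det ≠ 0 := ((isUnit_iff_isUnit_det _).1 u.isUnit).ne_zero
  obtain ⟨M, hM⟩ := exists_matrix_conj (u : Mat) (UnitaryConj.adj hK (u : Mat))⁻¹ hk hA
    (by rw [Matrix.inv_pow', ← adj_pow, hA, UnitaryConj.adj_one, inv_one])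
    (by rw [charpoly_inv_adj hK _ hud, hAc, hti])
  obtain ⟨B, hB⟩ := (Cfsg.Agent.S2588.result hK u).2 ⟨M, hM⟩
  obtain ⟨g, hg⟩ := isConj_iff.1 hB
  refine ⟨((B : GL (Fin n) K) : Mat), k, hk, ?_, (UnitaryConj.mem_GU_iff hK _).1 B.2, ?_⟩
  · rw [← Units.val_pow_eq_pow_val, ← hg, conj_pow,
      show u ^ k = 1 from Units.ext (by rw [Units.val_pow_eq_pow_val, hA, Units.val_one]), mul_one,
      mul_inv_cancel, Units.val_one]
  · rw [← hg, Units.val_mul, Units.val_mul, Matrix.coe_units_inv, charpoly_units_conj, hAc]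

theorem commute_aeval {z B : Mat} (h : Commute z B) (r : K[X]) : Commute z (aeval B r) := by
  induction r using Polynomial.induction_on' with
  | add a b ha hb => rw [map_add]; exact ha.add_right hb
  | monomial i a =>
    rw [aeval_monomial]
    exact (Algebra.commute_algebraMap_right a z).mul_right (h.pow_right i)

include hK in
theorem exists_unit_root {l : K} (hl : l ^ q * l = 1) : ∃ a : K, a ≠ 0 ∧ a * (a ^ q)⁻¹ = l := by
  obtain ⟨c, hc⟩ : ∃ c : K, c + l * c ^ q ≠ 0 := by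
    by_contra h
    push Not at h
    have h1 := h 1
    rw [one_pow, mul_one] at h1
    refine HermStd.qHom_ne_id hK (RingHom.ext fun c => ?_)
    show c ^ q = c
    linear_combination c ^ q * h1 - h c
  refine ⟨c + l * c ^ q, hc, ?_⟩
  have h2 : l * (c + l * c ^ q) ^ q = c + l * c ^ q := by
    rw [HermStd.add_pow_q hK, mul_pow, HermStd.pow_q_q hK]
    linear_combination c * hl
  have hq : (c + l * c ^ q) ^ q ≠ 0 := pow_ne_zero _ hc
  calc (c + l * c ^ q) * ((c + l * c ^ q) ^ q)⁻¹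
      = l * (c + l * c ^ q) ^ q * ((c + l * c ^ q) ^ q)⁻¹ := by rw [h2]
    _ = l := by rw [mul_assoc, mul_inv_cancel₀ hq, mul_one]

end

/-- Two block-diagonal blocks as one matrix. -/
noncomputable def dg (d e : ℕ) :
    Matrix (Fin d) (Fin d) K × Matrix (Fin e) (Fin e) K →*
      Matrix (Fin (d + e)) (Fin (d + e)) K where
  toFun x := Matrix.reindexAlgEquiv K K finSumFinEquiv (fromBlocks x.1 0 0 x.2)
  map_one' := by
    show Matrix.reindexAlgEquiv K K finSumFinEquiv (fromBlocks 1 0 0 1) = 1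
    rw [fromBlocks_one, map_one]
  map_mul' x y := by
    rw [← map_mul, fromBlocks_multiply]
    simp

theorem det_dg {d e : ℕ} (x : Matrix (Fin d) (Fin d) K × Matrix (Fin e) (Fin e) K) :
    (dg d e x).det = x.1.det * x.2.det := by
  show (Matrix.reindexAlgEquiv K K finSumFinEquiv (fromBlocks x.1 0 0 x.2)).det = _
  rw [det_reindexAlgEquiv, det_fromBlocks_zero₁₂]

theorem charpoly_dg {d e : ℕ} (x : Matrix (Fin d) (Fin d) K × Matrix (Fin e) (Fin e) K) :
    (dg d e x).charpoly = x.1.charpoly * x.2.charpoly := by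
  show (Matrix.reindexAlgEquiv K K finSumFinEquiv (fromBlocks x.1 0 0 x.2)).charpoly = _
  rw [Matrix.coe_reindexAlgEquiv, charpoly_reindex, charpoly_fromBlocks_zero₁₂]

theorem adj_dg {d e : ℕ} (x : Matrix (Fin d) (Fin d) K × Matrix (Fin e) (Fin e) K) :
    UnitaryConj.adj hK (dg d e x) = dg d e (UnitaryConj.adj hK x.1, UnitaryConj.adj hK x.2) := by
  show UnitaryConj.adj hK (Matrix.reindexAlgEquiv K K finSumFinEquiv (fromBlocks x.1 0 0 x.2)) =
    Matrix.reindexAlgEquiv K K finSumFinEquiv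
      (fromBlocks (UnitaryConj.adj hK x.1) 0 0 (UnitaryConj.adj hK x.2))
  simp only [UnitaryConj.adj, Matrix.coe_reindexAlgEquiv, reindex_apply, ← submatrix_map,
    transpose_submatrix, fromBlocks_map, fromBlocks_transpose, Matrix.map_zero _ (map_zero _),
    transpose_zero]

include hK in
/-- On the centralizer of a semisimple unitary matrix the determinant takes every norm-one value. -/
theorem exists_commute_det {n : ℕ} (hn : 1 ≤ n) (g : ↥(Cfsg.GU n K q)) {k : ℕ}
    (hk : (k : K) ≠ 0) (hg : g ^ k = 1) {l : K} (hl : l ^ q * l = 1) :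
    ∃ C : ↥(Cfsg.GU n K q), C * g = g * C ∧
      ((C : GL (Fin n) K) : Matrix (Fin n) (Fin n) K).det = l := by
  classical
  obtain ⟨a, ha, hal⟩ := exists_unit_root hK hl
  obtain ⟨c, hcdef⟩ : ∃ c, c = ((g : GL (Fin n) K) : Matrix (Fin n) (Fin n) K).charpoly := ⟨_, rfl⟩
  have hcm : c.Monic := hcdef ▸ charpoly_monic _
  have hcd : c.natDegree = n := by rw [hcdef, charpoly_natDegree_eq_dim, Fintype.card_fin]
  have hc0 : c.coeff 0 ≠ 0 := by
    rw [hcdef]
    exact coeff_zero_ne ((isUnit_iff_isUnit_det _).1 (g : GL (Fin n) K).isUnit).ne_zero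
  have hct : ti hK c = c := by
    rw [hcdef]
    exact ti_charpoly hK ((UnitaryConj.mem_GU_iff hK _).1 g.2)
  obtain ⟨p, hpm, hp, r₀, hr₀⟩ := exists_monic_irreducible_factor c fun h => by
    have := natDegree_eq_zero_of_isUnit h
    omega
  have hp0 : p.coeff 0 ≠ 0 := fun h => hc0 (by rw [hr₀, mul_coeff_zero, h, zero_mul])
  obtain ⟨m, hmm, hcop, hm1, hdvd⟩ : ∃ m : K[X], m.Monic ∧ IsCoprime p m ∧
      ti hK (p * m) = p * m ∧ p * m ∣ c := by
    by_cases h : ti hK p = p
    · exact ⟨1, monic_one, isCoprime_one_right, by rw [mul_one, h], by rw [mul_one]; exact ⟨r₀, hr₀⟩⟩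
    · have hcop : IsCoprime p (ti hK p) := hp.coprime_iff_not_dvd.2 fun hd => h
        (eq_of_monic_of_dvd_of_natDegree_le hpm (ti_monic hK hp0) hd
          (natDegree_ti hK hp0).le)
      exact ⟨ti hK p, ti_monic hK hp0, hcop, by rw [ti_mul, ti_ti hK hpm hp0, mul_comm],
        hcop.mul_dvd ⟨r₀, hr₀⟩ ⟨ti hK r₀, by rw [← ti_mul, ← hr₀, hct]⟩⟩
  obtain ⟨c₂, hc₂⟩ := hdvd
  have h1m : (p * m).Monic := hpm.mul hmm
  have h2m : c₂.Monic := h1m.of_mul_monic_left (hc₂ ▸ hcm)
  have h00 : (p * m).coeff 0 * c₂.coeff 0 ≠ 0 := by rw [← mul_coeff_zero, ← hc₂]; exact hc0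
  have h2t : ti hK c₂ = c₂ := mul_left_cancel₀ h1m.ne_zero (by
    conv_lhs => rw [← hm1, ← ti_mul, ← hc₂, hct, hc₂])
  obtain rfl : n = (p * m).natDegree + c₂.natDegree := by
    rw [← hcd, hc₂, h1m.natDegree_mul h2m]
  obtain ⟨B₁, k₁, hk₁, hB₁k, hB₁, hB₁c⟩ :=
    exists_unitary hK (p * m) h1m rfl (mul_ne_zero_iff.1 h00).1 hm1
  obtain ⟨B₂, k₂, hk₂, hB₂k, hB₂, hB₂c⟩ :=
    exists_unitary hK c₂ h2m rfl (mul_ne_zero_iff.1 h00).2 h2t
  obtain ⟨r, hr⟩ := exists_det_aeval hp hpm hmm hcop B₁ hB₁c a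
  -- the element of the first block
  set C₁ := aeval B₁ r with hC₁
  have hu1 : IsUnit C₁ := (isUnit_iff_isUnit_det _).2 (hr ▸ Ne.isUnit ha)
  have hua : IsUnit (UnitaryConj.adj hK C₁) := UnitaryConj.isUnit_adj hK hu1
  have hC₁B : Commute C₁ B₁ := (commute_aeval (Commute.refl B₁) r).symm
  have haB : Commute (UnitaryConj.adj hK C₁) B₁ := by
    have h : Commute (UnitaryConj.adj hK C₁) (UnitaryConj.adj hK B₁) := by
      show _ * _ = _ * _
      rw [← UnitaryConj.adj_mul, ← UnitaryConj.adj_mul, hC₁B.eq]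
    have hB' : B₁ * UnitaryConj.adj hK B₁ = 1 := mul_eq_one_comm.1 hB₁
    show UnitaryConj.adj hK C₁ * B₁ = B₁ * UnitaryConj.adj hK C₁
    calc UnitaryConj.adj hK C₁ * B₁
        = B₁ * (UnitaryConj.adj hK B₁ * UnitaryConj.adj hK C₁) * B₁ := by
          rw [← mul_assoc, hB', one_mul]
      _ = B₁ * UnitaryConj.adj hK C₁ := by
          rw [← h.eq, mul_assoc, mul_assoc, hB₁, mul_one]
  have haC : Commute (UnitaryConj.adj hK C₁) C₁ := commute_aeval haB r
  set X := C₁ * (UnitaryConj.adj hK C₁)⁻¹ with hX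
  have hinvc : ∀ z, Commute (UnitaryConj.adj hK C₁) z → Commute (UnitaryConj.adj hK C₁)⁻¹ z := by
    intro z hz
    obtain ⟨u, hu⟩ := hua
    rw [← hu] at hz ⊢
    rw [← Matrix.coe_units_inv]
    exact hz.units_inv_left
  have hXB : Commute X B₁ := hC₁B.mul_left (hinvc _ haB)
  have hXd : X.det = l := by
    rw [hX, det_mul, det_nonsing_inv, det_adj, hr, Ring.inverse_eq_inv', hal]
  have hXu : UnitaryConj.adj hK X * X = 1 := by
    have e1 : UnitaryConj.adj hK (UnitaryConj.adj hK C₁)⁻¹ = C₁⁻¹ := by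
      refine (Matrix.inv_eq_left_inv ?_).symm
      have h := congrArg (UnitaryConj.adj hK)
        (Matrix.mul_nonsing_inv _ ((isUnit_iff_isUnit_det _).1 hua))
      rwa [UnitaryConj.adj_mul, UnitaryConj.adj_one, UnitaryConj.adj_adj] at h
    rw [hX, UnitaryConj.adj_mul, e1, mul_assoc, ← mul_assoc (UnitaryConj.adj hK C₁), haC.eq,
      mul_assoc, Matrix.mul_nonsing_inv _ ((isUnit_iff_isUnit_det _).1 hua), mul_one,
      Matrix.nonsing_inv_mul _ ((isUnit_iff_isUnit_det _).1 hu1)]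
  -- transport to `g`
  obtain ⟨D, hD⟩ : ∃ D : ↥(Cfsg.GU ((p * m).natDegree + c₂.natDegree) K q),
      ((D : GL (Fin ((p * m).natDegree + c₂.natDegree)) K) : Matrix _ _ K) =
        dg (p * m).natDegree c₂.natDegree (B₁, B₂) := by
    have h : UnitaryConj.adj hK (dg _ _ (B₁, B₂)) * dg _ _ (B₁, B₂) = 1 := by
      rw [adj_dg hK, ← map_mul, Prod.mk_mul_mk, hB₁, hB₂]
      exact map_one _
    exact ⟨⟨⟨_, _, mul_eq_one_comm.1 h, h⟩, (UnitaryConj.mem_GU_iff hK _).2 h⟩, rfl⟩
  obtain ⟨Y, hY⟩ : ∃ Y : ↥(Cfsg.GU ((p * m).natDegree + c₂.natDegree) K q),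
      ((Y : GL (Fin ((p * m).natDegree + c₂.natDegree)) K) : Matrix _ _ K) =
      dg (p * m).natDegree c₂.natDegree (X, 1) := by
    have h : UnitaryConj.adj hK (dg (p * m).natDegree c₂.natDegree (X, 1)) * dg _ _ (X, 1) = 1 := by
      rw [adj_dg hK, ← map_mul, Prod.mk_mul_mk, hXu, UnitaryConj.adj_one, one_mul]
      exact map_one _
    exact ⟨⟨⟨_, _, mul_eq_one_comm.1 h, h⟩, (UnitaryConj.mem_GU_iff hK _).2 h⟩, rfl⟩
  have hgk : ((g : GL (Fin ((p * m).natDegree + c₂.natDegree)) K) : Matrix (Fin ((p * m).natDegree + c₂.natDegree)) (Fin ((p * m).natDegree + c₂.natDegree)) K) ^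
      (k * (k₁ * k₂)) = 1 := by
    rw [← Units.val_pow_eq_pow_val, ← Subgroup.coe_pow, pow_mul, hg, one_pow, Subgroup.coe_one,
      Units.val_one]
  have hDk : dg _ _ (B₁, B₂) ^ (k * (k₁ * k₂)) = 1 := by
    rw [← map_pow, Prod.pow_mk, show k * (k₁ * k₂) = k₁ * (k * k₂) by ring, pow_mul B₁, hB₁k, one_pow,
      show k₁ * (k * k₂) = k₂ * (k * k₁) by ring, pow_mul B₂, hB₂k, one_pow]
    exact map_one _
  obtain ⟨M, hM⟩ := exists_matrix_conj _ _ (k := k * (k₁ * k₂))
    (by rw [Nat.cast_mul, Nat.cast_mul]; exact mul_ne_zero hk (mul_ne_zero hk₁ hk₂)) hDk hgk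
    (by rw [charpoly_dg, hB₁c, hB₂c, ← hc₂, hcdef])
  have hconj : IsConj (D : GL (Fin ((p * m).natDegree + c₂.natDegree)) K) (g : GL (Fin ((p * m).natDegree + c₂.natDegree)) K) := by
    refine isConj_iff.2 ⟨M, mul_inv_eq_iff_eq_mul.2 (Units.ext ?_)⟩
    rw [Units.val_mul, Units.val_mul, hD, hM]
  obtain ⟨u, hu⟩ := isConj_iff.1 ((Cfsg.Agent.S2587.result hK D g).2 hconj)
  have hYD : Y * D = D * Y := by
    refine Subtype.ext (Units.ext ?_)
    simp only [Subgroup.coe_mul, Units.val_mul, hY, hD]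
    rw [← map_mul, ← map_mul, Prod.mk_mul_mk, Prod.mk_mul_mk, hXB.eq, one_mul, mul_one]
  refine ⟨u * Y * u⁻¹, ?_, ?_⟩
  · rw [← hu, show u * Y * u⁻¹ * (u * D * u⁻¹) = u * (Y * D) * u⁻¹ by group, hYD]
    group
  · simp only [Subgroup.coe_mul, Units.val_mul, Subgroup.coe_inv, Matrix.coe_units_inv, hY]
    rw [Matrix.det_conj (Units.isUnit _), det_dg, hXd, det_one, mul_one]

include hK in
/-- Semisimple special unitary elements are conjugate when their characteristic polynomials agree. -/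
theorem conj_of_charpoly {n : ℕ} {p : ℕ} [Fact p.Prime] [CharP K p]
    (g h : ↥(Cfsg.SU n K q)) (hg : (orderOf g).Coprime p) (hh : (orderOf h).Coprime p)
    (hc : ((g : Matrix.SpecialLinearGroup (Fin n) K) : Matrix (Fin n) (Fin n) K).charpoly =
      ((h : Matrix.SpecialLinearGroup (Fin n) K) : Matrix (Fin n) (Fin n) K).charpoly) :
    IsConj g h := by
  classical
  rcases Nat.eq_zero_or_pos n with rfl | hn
  · rw [Subsingleton.elim g h]
  have hcast : ∀ {x : ℕ}, x.Coprime p → (x : K) ≠ 0 := fun {x} hx h0 =>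
    ((Fact.out : p.Prime).coprime_iff_not_dvd.1 hx.symm) ((CharP.cast_eq_zero_iff K p _).1 h0)
  let ι : ↥(Cfsg.SU n K q) →* ↥(Cfsg.GU n K q) :=
    (Matrix.SpecialLinearGroup.toGL.comp (Cfsg.SU n K q).subtype).codRestrict _ fun x => x.2
  obtain ⟨k, hkdef⟩ : ∃ k, k = orderOf g * orderOf h := ⟨_, rfl⟩
  have hk : (k : K) ≠ 0 := by rw [hkdef, Nat.cast_mul]; exact mul_ne_zero (hcast hg) (hcast hh)
  have hgk : g ^ k = 1 := by rw [hkdef, pow_mul, pow_orderOf_eq_one, one_pow]
  have hhk : h ^ k = 1 := by rw [hkdef, mul_comm, pow_mul, pow_orderOf_eq_one, one_pow]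
  obtain ⟨M, hM⟩ := exists_matrix_conj ((ι g : GL (Fin n) K) : Matrix (Fin n) (Fin n) K)
    ((ι h : GL (Fin n) K) : Matrix (Fin n) (Fin n) K) hk
    (by rw [← Units.val_pow_eq_pow_val, ← Subgroup.coe_pow, ← map_pow, hgk, map_one, Subgroup.coe_one,
      Units.val_one])
    (by rw [← Units.val_pow_eq_pow_val, ← Subgroup.coe_pow, ← map_pow, hhk, map_one, Subgroup.coe_one,
      Units.val_one])
    hc
  obtain ⟨u, hu⟩ := isConj_iff.1 ((Cfsg.Agent.S2587.result hK (ι g) (ι h)).2
    (isConj_iff.2 ⟨M, mul_inv_eq_iff_eq_mul.2 (Units.ext (by rw [Units.val_mul, Units.val_mul, hM]))⟩))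
  have hud := congrArg Matrix.det ((UnitaryConj.mem_GU_iff hK (u : GL (Fin n) K)).1 u.2)
  rw [det_mul, det_adj, det_one] at hud
  obtain ⟨C, hC, hCd⟩ := exists_commute_det hK hn (ι g) hk (by rw [← map_pow, hgk, map_one])
    (l := (((u : GL (Fin n) K) : Matrix (Fin n) (Fin n) K).det)⁻¹)
    (by rw [inv_pow, ← mul_inv, hud, inv_one])
  have hwd : (((u * C : ↥(Cfsg.GU n K q)) : GL (Fin n) K) : Matrix (Fin n) (Fin n) K).det = 1 := by
    rw [Subgroup.coe_mul, Units.val_mul, det_mul, hCd, mul_inv_cancel₀]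
    exact ((isUnit_iff_isUnit_det _).1 (u : GL (Fin n) K).isUnit).ne_zero
  let w : ↥(Cfsg.SU n K q) := ⟨⟨_, hwd⟩, (u * C).2⟩
  have hw : ι w = u * C := Subtype.ext (Units.ext rfl)
  refine isConj_iff.2 ⟨w, ?_⟩
  have hinj : Function.Injective ι := fun x y e =>
    Subtype.ext (Matrix.SpecialLinearGroup.toGL_injective (congrArg Subtype.val e))
  apply hinj
  rw [map_mul, map_mul, map_inv, hw, ← hu, _root_.mul_inv_rev,
    show u * C * ι g * (C⁻¹ * u⁻¹) = u * (C * ι g) * C⁻¹ * u⁻¹ by group, hC]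
  group

end Cfsg.Agent.SimpleFacts.UnitarySemisimple
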