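import Cfsg.Agent.SimpleFacts.SLnSystem
import Cfsg.Agent.SimpleFacts.SLTwoMultiplier
import Mathlib

/-!
A family of lifts with Steinberg's relations and faithful rank-one blocks is faithful: the cosets of the
stabiliser of a vector are parametrised by the vectors.
-/

set_option autoImplicit false
set_option linter.unusedSectionVars false

namespace Cfsg.Agent.SimpleFacts.SLnCosets

open Matrix Cfsg.Agent.SimpleFacts.SLnRootLifts Cfsg.Agent.SimpleFacts.SLnSystem
open scoped commutatorElement

universe u v w

variable {n : Type u} [Fintype n] [DecidableEq n] {F : Type v} [Field F] {Γ : Type w} [Group Γ]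
  {σ : Γ →* SpecialLinearGroup n F} {X : n → n → F → Γ}

/-- The embedding of two points. -/
def pair {a b : n} (hab : a ≠ b) : Fin 2 ↪ n :=
  ⟨![a, b], by intro i j; fin_cases i <;> fin_cases j <;> simp [hab, hab.symm]⟩

theorem range_pair {a b : n} (hab : a ≠ b) : Set.range (pair hab) = {a, b} := by
  change Set.range ![a, b] = _
  simp [Set.pair_comm]

variable (hX : IsSystem σ X)
include hX

/-- Rank-one blocks meet the kernel trivially. -/
theorem two_block [Fintype F] [Finite Γ] (p : ℕ) [Fact p.Prime] [CharP F p]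
    (hcen : σ.ker ≤ Subgroup.center Γ) (hp' : ∀ z ∈ σ.ker, (∃ k : ℕ, z ^ p ^ k = 1) → z = 1)
    {a b : n} (hab : a ≠ b) {x : Γ} (hx : x ∈ blockLift X {a, b}) (h1 : σ x = 1) : x = 1 := by
  classical
  rw [← range_pair hab] at hx
  generalize pair hab = e at hx
  set B := blockLift X (Set.range e) with hB
  let π : B →* (blockHom (R := F) e).range := (σ.comp B.subtype).codRestrict _ fun y =>
    map_blockLift hX e ▸ Subgroup.mem_map_of_mem σ y.2
  have hπ : Function.Surjective π := by
    rintro ⟨g, hg⟩
    rw [← map_blockLift hX e] at hg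
    obtain ⟨y, hy, e'⟩ := hg
    exact ⟨⟨y, hy⟩, Subtype.ext e'⟩
  let ε := (MonoidHom.ofInjective (blockHom_injective (R := F) e)).symm
  let τ : B →* SpecialLinearGroup (Fin 2) F := ε.toMonoidHom.comp π
  have hτ : ∀ y : B, τ y = 1 ↔ σ y.1 = 1 := fun y => by
    change ε (π y) = 1 ↔ _
    rw [ε.map_eq_one_iff, Subtype.ext_iff]
    rfl
  -- no element of the characteristic order in the kernel
  have hcop : ∀ z ∈ σ.ker, ¬ p ∣ orderOf z := fun z hz hdvd => by
    have hord : orderOf (z ^ (orderOf z / p)) = p := orderOf_pow_orderOf_div (orderOf_pos z).ne' hdvd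
    have := hp' _ (pow_mem hz (orderOf z / p)) ⟨1, by rw [pow_one]; exact orderOf_dvd_iff_pow_eq_one.1 (by rw [hord])⟩
    rw [this, orderOf_one] at hord
    exact (Fact.out : p.Prime).one_lt.ne hord
  have hstem : Cfsg.IsStemExtension τ := by
    refine ⟨ε.surjective.comp hπ, fun y hy => Subgroup.mem_center_iff.2 fun g => Subtype.ext
      (Subgroup.mem_center_iff.1 (hcen (MonoidHom.mem_ker.2 ((hτ y).1 hy))) g.1), fun y hy => ?_⟩
    have hall : ∀ g : B, Abelianization.of g ^ p = 1 := by
      rintro ⟨g, hg⟩
      induction hg using Subgroup.closure_induction with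
      | mem y hy' =>
        obtain ⟨i, j, -, -, hij, c, rfl⟩ := hy'
        rw [← map_pow]
        exact (congrArg Abelianization.of (Subtype.ext (X_pow_char hX p hij c))).trans (map_one _)
      | one => rw [show (⟨1, _⟩ : B) = 1 from rfl, map_one, one_pow]
      | mul y z hy' hz' h₁ h₂ =>
        rw [show (⟨y * z, _⟩ : B) = ⟨y, hy'⟩ * ⟨z, hz'⟩ from rfl, map_mul, mul_pow, h₁, h₂, one_mul]
      | inv y hy' h₁ =>
        rw [show (⟨y⁻¹, _⟩ : B) = (⟨y, hy'⟩ : B)⁻¹ from rfl, map_inv, inv_pow, h₁, inv_one]
    rw [← Abelianization.ker_of, MonoidHom.mem_ker, ← orderOf_eq_one_iff]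
    have h2 : orderOf (Abelianization.of y) ∣ orderOf y.1 := by
      rw [Subgroup.orderOf_coe]
      exact orderOf_map_dvd _ y
    rcases (Nat.dvd_prime Fact.out).1 (orderOf_dvd_of_pow_eq_one (hall y)) with h | h
    · exact h
    · exact absurd (h ▸ h2) (hcop y.1 (MonoidHom.mem_ker.2 ((hτ y).1 hy)))
  suffices hbot : τ.ker = ⊥ by
    have hm : (⟨x, hx⟩ : B) ∈ τ.ker := (hτ ⟨x, hx⟩).2 h1
    rw [hbot, Subgroup.mem_bot] at hm
    exact congrArg Subtype.val hm
  refine SLTwoMultiplier.ker_eq_bot τ fun r _ P z hz hzP => ?_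
  by_cases hrp : r = p
  · subst hrp
    obtain ⟨k, hk⟩ := P.isPGroup' ⟨z, hzP⟩
    exact Subtype.ext (hp' z.1 (MonoidHom.mem_ker.2 ((hτ z).1 hz))
      ⟨k, congrArg (fun w : (P : Subgroup B) => w.1.1) hk⟩)
  set R : Sylow r (SpecialLinearGroup (Fin 2) F) := P.mapSurjective hstem.1 with hR
  let ρ : (P : Subgroup B) →* (R : Subgroup (SpecialLinearGroup (Fin 2) F)) :=
    (τ.comp (P : Subgroup B).subtype).codRestrict _ fun y => ⟨y.1, y.2, rfl⟩
  have hρs : Function.Surjective ρ := by
    rintro ⟨y, w, hw, rfl⟩
    exact ⟨⟨w, hw⟩, rfl⟩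
  have hρk : ρ.ker ≤ Subgroup.center (P : Subgroup B) := fun y hy => by
    rw [Subgroup.mem_center_iff]
    intro w
    exact Subtype.ext (Subgroup.mem_center_iff.1 (hstem.2.1 (MonoidHom.mem_ker.2
      (congrArg Subtype.val (MonoidHom.mem_ker.1 hy)))) w.1)
  by_cases hr2 : r = 2
  · subst hr2
    have hodd : Odd (Fintype.card F) := by
      obtain ⟨f, hp, hf⟩ := FiniteField.card F p
      rw [hf]
      exact (hp.odd_of_ne_two (Ne.symm hrp)).pow
    obtain ⟨⟨d⟩, -⟩ := Cfsg.Agent.Classical.SylowSL2.sylow_two hodd R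
    haveI : NeZero (2 ^ ((Nat.card (SpecialLinearGroup (Fin 2) F)).factorization 2 - 2)) :=
      ⟨pow_ne_zero _ two_ne_zero⟩
    let θ := d.toMonoidHom.comp ρ
    have hk : θ.ker = ρ.ker := by
      ext y
      simp [θ, MonoidHom.mem_ker]
    have hθ : Cfsg.IsStemExtension θ := by
      refine ⟨d.surjective.comp hρs, hk.le.trans hρk, fun y hy => ?_⟩
      have hy' : τ y.1 = 1 := congrArg Subtype.val (MonoidHom.mem_ker.1 (hk.le hy))
      exact SLTwoMultiplier.mem_commutator_sylow P (hstem.2.1 (MonoidHom.mem_ker.2 hy'))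
        (hstem.2.2 (MonoidHom.mem_ker.2 hy')) y.2
    have hbot := SLTwoMultiplier.quaternion_stem _ θ hθ
    have hm : (⟨z, hzP⟩ : (P : Subgroup B)) ∈ θ.ker := by
      rw [hk, MonoidHom.mem_ker]
      exact Subtype.ext (MonoidHom.mem_ker.1 hz)
    rw [hbot, Subgroup.mem_bot] at hm
    exact congrArg Subtype.val hm
  · refine SLTwoMultiplier.eq_one_of_abelian τ hstem P (fun s hs t ht => ?_) hz hzP
    have := Cfsg.Agent.Classical.SylowSL2.isCyclic_sylow p r hr2 hrp R
    have hc := ρ.isMulCommutative_of_isCyclic_of_ker_le_center hρk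
    exact congrArg Subtype.val (hc.is_comm.comm ⟨s, hs⟩ ⟨t, ht⟩)

/-! ### Monomial words -/

omit hX in
/-- Weyl word. -/
def wWord (X : n → n → F → Γ) (i j : n) (u : F) : Γ := X i j u * X j i (-u⁻¹) * X i j u

omit hX in
/-- Torus word. -/
def hWord (X : n → n → F → Γ) (i j : n) (u : F) : Γ := wWord X i j u * wWord X i j (-1)

omit hX in
theorem wWord_mem {S : Set n} {i j : n} (hi : i ∈ S) (hj : j ∈ S) (h : i ≠ j) (u : F) :
    wWord X i j u ∈ blockLift X S :=
  mul_mem (mul_mem (X_mem_blockLift hi hj h _) (X_mem_blockLift hj hi h.symm _)) (X_mem_blockLift hi hj h _)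

omit hX in
theorem hWord_mem {S : Set n} {i j : n} (hi : i ∈ S) (hj : j ∈ S) (h : i ≠ j) (u : F) :
    hWord X i j u ∈ blockLift X S :=
  mul_mem (wWord_mem hi hj h _) (wWord_mem hi hj h _)

/-- The matrix of a product acting on vectors. -/
theorem coe_mulVec_mul (g h : Γ) (v : n → F) :
    (σ (g * h) : Matrix n n F) *ᵥ v = (σ g : Matrix n n F) *ᵥ ((σ h : Matrix n n F) *ᵥ v) := by
  rw [map_mul, Matrix.mulVec_mulVec]
  rfl

theorem X_mulVec {i j : n} (h : i ≠ j) (a : F) (v : n → F) (k : n) :
    ((σ (X i j a) : Matrix n n F) *ᵥ v) k = v k + if k = i then a * v j else 0 := by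
  rw [hX.lift i j h, T_coe h, Classical.Linear.transvection_mulVec_apply]

theorem w_mulVec {i j : n} (h : i ≠ j) {u : F} (hu : u ≠ 0) (v : n → F) (k : n) :
    ((σ (wWord X i j u) : Matrix n n F) *ᵥ v) k =
      if k = i then u * v j else if k = j then -u⁻¹ * v i else v k := by
  rw [wWord]
  simp only [coe_mulVec_mul hX, X_mulVec hX h, X_mulVec hX h.symm]
  by_cases hki : k = i
  · subst hki
    simp [h, h.symm]
    field_simp
    ring
  · by_cases hkj : k = j
    · subst hkj
      simp [h, h.symm]
      field_simp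
      ring
    · simp [hki, hkj]

theorem h_mulVec {i j : n} (h : i ≠ j) {u : F} (hu : u ≠ 0) (v : n → F) (k : n) :
    ((σ (hWord X i j u) : Matrix n n F) *ᵥ v) k =
      if k = i then u * v i else if k = j then u⁻¹ * v j else v k := by
  rw [hWord]
  simp only [coe_mulVec_mul hX, w_mulVec hX h hu, w_mulVec hX h (neg_ne_zero.2 one_ne_zero)]
  by_cases hki : k = i
  · subst hki; simp [h, h.symm]
  · by_cases hkj : k = j
    · subst hkj; simp [h, h.symm]
    · simp [hki, hkj]

omit hX in
theorem entry_eq (g : SpecialLinearGroup n F) (k l : n) :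
    (g : Matrix n n F) k l = ((g : Matrix n n F) *ᵥ Pi.single l 1) k := by
  rw [Matrix.mulVec_single_one, Matrix.col_apply]

theorem w_monomial {i j : n} (h : i ≠ j) {u : F} (hu : u ≠ 0) :
    IsMonomial (σ (wWord X i j u)) (Equiv.swap i j) fun k => if k = j then u else if k = i then -u⁻¹ else 1 := by
  refine ⟨fun k => ?_, fun k l => ?_⟩
  · beta_reduce
    split_ifs <;> simp [hu]
  · rw [entry_eq, w_mulVec hX h hu, Equiv.swap_apply_def]
    simp only [Pi.single_apply]
    by_cases hli : l = i
    · subst hli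
      by_cases hkl : k = l <;> by_cases hkj : k = j <;> simp [hkl, hkj, h, h.symm]
    · by_cases hlj : l = j
      · subst hlj
        by_cases hki : k = i <;> by_cases hkl : k = l <;> simp [hki, hkl, h, h.symm, hli, Ne.symm hli]
      · by_cases hki : k = i <;> by_cases hkj : k = j <;>
          simp [hki, hkj, h, h.symm, hli, hlj, Ne.symm hli, Ne.symm hlj]

theorem h_monomial {i j : n} (h : i ≠ j) {u : F} (hu : u ≠ 0) :
    IsMonomial (σ (hWord X i j u)) 1 fun k => if k = i then u else if k = j then u⁻¹ else 1 := by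
  refine ⟨fun k => ?_, fun k l => ?_⟩
  · beta_reduce
    split_ifs <;> simp [hu]
  · rw [entry_eq, h_mulVec hX h hu]
    simp only [Pi.single_apply, Equiv.Perm.one_apply]
    split_ifs <;> simp_all

omit hX in
/-- A Weyl or torus word. -/
def IsWord (X : n → n → F → Γ) (g : Γ) : Prop :=
  ∃ i j u, i ≠ j ∧ u ≠ 0 ∧ (g = wWord X i j u ∨ g = hWord X i j u)

omit hX in
/-- The Weyl and torus words conjugate the lifts as their images do. -/
def ConjWords (σ : Γ →* SpecialLinearGroup n F) (X : n → n → F → Γ) : Prop :=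
  ∀ g, IsWord X g → ∀ (π : Equiv.Perm n) (d : n → F), IsMonomial (σ g) π d → ∀ i j : n, i ≠ j → ∀ a : F,
    g * X i j a * g⁻¹ = X (π i) (π j) (d i / d j * a)

omit hX in
theorem isWord_w {i j : n} (h : i ≠ j) {u : F} (hu : u ≠ 0) : IsWord X (wWord X i j u) :=
  ⟨i, j, u, h, hu, Or.inl rfl⟩

omit hX in
theorem isWord_h {i j : n} (h : i ≠ j) {u : F} (hu : u ≠ 0) : IsWord X (hWord X i j u) :=
  ⟨i, j, u, h, hu, Or.inr rfl⟩

variable (hcj : ConjWords σ X) (h3 : 3 ≤ Fintype.card n)

include hcj h3

theorem conj_w {g : Γ} (hgW : IsWord X g) {π : Equiv.Perm n} {d : n → F} (hg : IsMonomial (σ g) π d) {i j : n} (h : i ≠ j)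
    (u : F) : g * wWord X i j u * g⁻¹ = wWord X (π i) (π j) (d i / d j * u) := by
  rw [wWord, show g * (X i j u * X j i (-u⁻¹) * X i j u) * g⁻¹ =
    (g * X i j u * g⁻¹) * (g * X j i (-u⁻¹) * g⁻¹) * (g * X i j u * g⁻¹) by group,
    hcj g hgW π d hg i j h, hcj g hgW π d hg j i h.symm, wWord]
  congr 3
  rw [mul_inv, inv_div, mul_neg]

variable (hB : ∀ a b : n, a ≠ b → ∀ x ∈ blockLift X {a, b}, σ x = 1 → x = 1)
include hB

theorem block_ext {a b : n} (hab : a ≠ b) {x y : Γ} (hx : x ∈ blockLift X {a, b}) (hy : y ∈ blockLift X {a, b})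
    (h : σ x = σ y) : x = y :=
  mul_inv_eq_one.1 (hB a b hab _ (mul_mem hx (inv_mem hy)) (by rw [map_mul, map_inv, h, mul_inv_cancel]))

/-- An element of a rank-one block fixing a vector is a root element. -/
theorem fix_eq {a b : n} (hab : a ≠ b) {x : Γ} (hx : x ∈ blockLift X {a, b})
    (hfix : (σ x : Matrix n n F) *ᵥ Pi.single a 1 = Pi.single a 1) : ∃ t, x = X a b t := by
  have hm : σ x ∈ (blockHom (R := F) (pair hab)).range := by
    rw [← map_blockLift hX, range_pair hab]
    exact Subgroup.mem_map_of_mem σ hx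
  obtain ⟨g, hg⟩ := hm
  have h00 : (g : Matrix (Fin 2) (Fin 2) F) 0 0 = 1 := by
    rw [← blockHom_apply_emb (pair hab), hg, entry_eq, show pair hab 0 = a from rfl, hfix]
    simp
  have h10 : (g : Matrix (Fin 2) (Fin 2) F) 1 0 = 0 := by
    rw [← blockHom_apply_emb (pair hab), hg, entry_eq, show pair hab 0 = a from rfl,
      show pair hab 1 = b from rfl, hfix]
    simp [hab.symm]
  have h11 : (g : Matrix (Fin 2) (Fin 2) F) 1 1 = 1 := by
    have := g.2
    rw [Matrix.det_fin_two, h00, h10, one_mul, mul_zero, sub_zero] at this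
    exact this
  have hgT : g = T (0 : Fin 2) (1 : Fin 2) ((g : Matrix (Fin 2) (Fin 2) F) 0 1) := by
    apply Subtype.ext
    change (g : Matrix (Fin 2) (Fin 2) F) =
      ((T (0 : Fin 2) (1 : Fin 2) ((g : Matrix (Fin 2) (Fin 2) F) 0 1) : SpecialLinearGroup (Fin 2) F) :
        Matrix (Fin 2) (Fin 2) F)
    rw [T_coe (by decide)]
    ext i j
    fin_cases i <;> fin_cases j <;> simp [Matrix.transvection, h00, h10, h11]
  refine ⟨(g : Matrix (Fin 2) (Fin 2) F) 0 1, block_ext hX hcj h3 hB hab hx
    (X_mem_blockLift (by simp) (by simp) hab _) ?_⟩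
  rw [hX.lift a b hab, ← hg]
  nth_rw 1 [hgT]
  rw [blockHom_T (pair hab) (by decide)]
  rfl

theorem hWord_inv {i j : n} (h : i ≠ j) {u : F} (hu : u ≠ 0) : hWord X i j u⁻¹ = (hWord X i j u)⁻¹ := by
  refine block_ext hX hcj h3 hB h (hWord_mem (by simp) (by simp) h _)
    (inv_mem (hWord_mem (by simp) (by simp) h _)) ?_
  rw [map_inv, eq_inv_iff_mul_eq_one, ← map_mul]
  apply Subtype.ext
  refine Matrix.ext fun k l => ?_
  rw [entry_eq, coe_mulVec_mul hX, h_mulVec hX h (inv_ne_zero hu), h_mulVec hX h hu, h_mulVec hX h hu,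
    h_mulVec hX h hu, Matrix.SpecialLinearGroup.coe_one, Matrix.one_apply, Pi.single_apply, Pi.single_apply,
    Pi.single_apply]
  split_ifs <;> simp_all

theorem hWord_mul_inv_mem {o a b : n} (hoa : o ≠ a) (hob : o ≠ b) (hab : a ≠ b) {u : F} (hu : u ≠ 0) :
    hWord X o a u * (hWord X o b u)⁻¹ ∈ blockLift X {a, b} := by
  have h1 : hWord X o a u * wWord X a b 1 * (hWord X o a u)⁻¹ = wWord X a b u⁻¹ := by
    rw [conj_w hX hcj h3 (isWord_h hoa hu) (h_monomial hX hoa hu) hab]
    simp [hoa.symm, hab.symm, hob.symm]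
  have h2 : wWord X a b 1 * hWord X o a u * (wWord X a b 1)⁻¹ = hWord X o b u := by
    have hm : wWord X a b 1 * hWord X o a u * (wWord X a b 1)⁻¹ =
        wWord X o b (-u) * wWord X o b 1 := by
      have e : hWord X o a u = wWord X o a u * wWord X o a (-1) := rfl
      rw [e, show wWord X a b 1 * (wWord X o a u * wWord X o a (-1)) * (wWord X a b 1)⁻¹ =
        (wWord X a b 1 * wWord X o a u * (wWord X a b 1)⁻¹) *
          (wWord X a b 1 * wWord X o a (-1) * (wWord X a b 1)⁻¹) by group,
        conj_w hX hcj h3 (isWord_w hab one_ne_zero) (w_monomial hX hab one_ne_zero) hoa,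
        conj_w hX hcj h3 (isWord_w hab one_ne_zero) (w_monomial hX hab one_ne_zero) hoa]
      simp [hoa, hob, hab, Equiv.swap_apply_of_ne_of_ne]
    rw [hm]
    refine block_ext hX hcj h3 hB hob (mul_mem (wWord_mem (by simp) (by simp) hob _)
      (wWord_mem (by simp) (by simp) hob _)) (hWord_mem (by simp) (by simp) hob _) ?_
    apply Subtype.ext
    refine Matrix.ext fun k l => ?_
    rw [entry_eq, entry_eq (σ (hWord X o b u)), coe_mulVec_mul hX, h_mulVec hX hob hu,
      w_mulVec hX hob (neg_ne_zero.2 hu), w_mulVec hX hob one_ne_zero, w_mulVec hX hob one_ne_zero,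
      w_mulVec hX hob one_ne_zero]
    split_ifs <;> simp_all
  have e : hWord X o a u * (hWord X o b u)⁻¹ = wWord X a b u⁻¹ * (wWord X a b 1)⁻¹ := by
    rw [← h1, ← h2]; group
  rw [e]
  exact mul_mem (wWord_mem (by simp) (by simp) hab _) (inv_mem (wWord_mem (by simp) (by simp) hab _))

/-! ### Fans of roots -/

omit hcj h3 hB

/-- A root as a homomorphism. -/
def root {i j : n} (h : i ≠ j) : Multiplicative F →* Γ where
  toFun a := X i j a.toAdd
  map_one' := X_zero hX h
  map_mul' a b := hX.add i j h a.toAdd b.toAdd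

/-- The roots into one index from a set, extended by zero. -/
def colRoot (S : Finset n) (c k : n) : Multiplicative F →* Γ :=
  if h : k ∈ S ∧ k ≠ c then root hX h.2 else 1

/-- The roots out of one index into a set, extended by zero. -/
def rowRoot (S : Finset n) (o k : n) : Multiplicative F →* Γ :=
  if h : k ∈ S ∧ k ≠ o then root hX h.2.symm else 1

theorem colRoot_commute (S : Finset n) (c : n) : Pairwise fun k l =>
    ∀ a b, Commute (colRoot hX S c k a) (colRoot hX S c l b) := by
  intro k l _ a b
  unfold colRoot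
  split_ifs with hk hl
  · exact hX.comm k c l c hk.2 hl.2 hk.2 hl.2.symm _ _
  · exact Commute.one_right _
  · exact Commute.one_left _
  · exact Commute.one_left _

theorem rowRoot_commute (S : Finset n) (o : n) : Pairwise fun k l =>
    ∀ a b, Commute (rowRoot hX S o k a) (rowRoot hX S o l b) := by
  intro k l _ a b
  unfold rowRoot
  split_ifs with hk hl
  · exact hX.comm o k o l hk.2.symm hl.2.symm hl.2.symm hk.2 _ _
  · exact Commute.one_right _
  · exact Commute.one_left _
  · exact Commute.one_left _

/-- A column. -/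
noncomputable def col (S : Finset n) (c : n) (v : n → F) : Γ :=
  MonoidHom.noncommPiCoprod (colRoot hX S c) (colRoot_commute hX S c) fun k => Multiplicative.ofAdd (v k)

/-- A row. -/
noncomputable def row (S : Finset n) (o : n) (v : n → F) : Γ :=
  MonoidHom.noncommPiCoprod (rowRoot hX S o) (rowRoot_commute hX S o) fun k => Multiplicative.ofAdd (v k)

variable (S : Finset n)

theorem col_zero (c : n) : col hX S c 0 = 1 := map_one _

theorem col_add (c : n) (v v' : n → F) : col hX S c (v + v') = col hX S c v * col hX S c v' := map_mul _ _ _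

theorem row_zero (o : n) : row hX S o 0 = 1 := map_one _

theorem row_add (o : n) (v v' : n → F) : row hX S o (v + v') = row hX S o v * row hX S o v' := map_mul _ _ _

theorem col_single (c k : n) (a : F) :
    col hX S c (Pi.single k a) = if k ∈ S ∧ k ≠ c then X k c a else 1 := by
  refine (MonoidHom.noncommPiCoprod_mulSingle (N := fun _ => Multiplicative F) _ k (Multiplicative.ofAdd a)).trans ?_
  unfold colRoot
  split_ifs <;> rfl

theorem row_single (o k : n) (a : F) :
    row hX S o (Pi.single k a) = if k ∈ S ∧ k ≠ o then X o k a else 1 := by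
  refine (MonoidHom.noncommPiCoprod_mulSingle (N := fun _ => Multiplicative F) _ k (Multiplicative.ofAdd a)).trans ?_
  unfold rowRoot
  split_ifs <;> rfl

theorem col_mask (c : n) (v : n → F) :
    col hX S c (fun k => if k ∈ S ∧ k ≠ c then v k else 0) = col hX S c v := by
  induction v using Pi.single_induction with
  | zero => congr 1; funext k; simp
  | add f g hf hg =>
    rw [col_add, ← hf, ← hg, ← col_add]
    congr 1; funext k
    simp only [Pi.add_apply]
    split_ifs <;> simp
  | single i m =>
    by_cases hi : i ∈ S ∧ i ≠ c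
    · congr 1; funext k
      rcases eq_or_ne k i with rfl | hk
      · rw [if_pos hi]
      · simp [Pi.single_eq_of_ne hk]
    · rw [col_single, if_neg hi, ← col_zero hX S c]
      congr 1; funext k
      rcases eq_or_ne k i with rfl | hk
      · rw [if_neg hi]; rfl
      · simp [Pi.single_eq_of_ne hk]

theorem col_congr (c : n) {v v' : n → F} (h : ∀ k ∈ S, k ≠ c → v k = v' k) : col hX S c v = col hX S c v' := by
  rw [← col_mask hX S c v, ← col_mask hX S c v']
  congr 1; funext k
  split_ifs with hk
  · exact h k hk.1 hk.2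
  · rfl

/-- The mask off two indices. -/
def off (c d : n) (t : n → F) : n → F := fun k => if k = c ∨ k = d then 0 else t k

omit hX in
theorem off_add (c d : n) (t t' : n → F) : off c d (t + t') = off c d t + off c d t' := by
  funext k
  simp only [off, Pi.add_apply]
  split_ifs <;> simp

omit hX in
theorem off_single (c d k : n) (a : F) :
    off c d (Pi.single k a) = if k = c ∨ k = d then 0 else Pi.single k a := by
  funext l
  unfold off
  rcases eq_or_ne l k with rfl | hlk
  · split_ifs <;> simp
  · simp [hlk]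
    split_ifs <;> simp [hlk]

theorem col_commute {c d : n} (hcd : c ≠ d) (t t' : n → F) :
    Commute (col hX S c (off c d t)) (col hX S d (off c d t')) := by
  induction t using Pi.single_induction with
  | zero => rw [show off c d (0 : n → F) = 0 by funext k; simp [off], col_zero]; exact Commute.one_left _
  | add f g hf hg => rw [off_add, col_add]; exact hf.mul_left hg
  | single k a =>
    rw [off_single]
    split_ifs with hk
    · rw [col_zero]; exact Commute.one_left _
    rw [col_single]
    split_ifs with hkS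
    swap; · exact Commute.one_left _
    induction t' using Pi.single_induction with
    | zero => rw [show off c d (0 : n → F) = 0 by funext k; simp [off], col_zero]; exact Commute.one_right _
    | add f g hf hg => rw [off_add, col_add]; exact hf.mul_right hg
    | single l b =>
      rw [off_single]
      split_ifs with hl
      · rw [col_zero]; exact Commute.one_right _
      rw [col_single]
      split_ifs with hlS
      swap; · exact Commute.one_right _
      push Not at hk hl
      exact hX.comm k c l d hkS.2 hlS.2 hk.2 hl.1.symm _ _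

theorem col_moves {c d : n} (hcd : c ≠ d) (s : F) (t : n → F) :
    col hX S c (off c d t) * X c d s = col hX S d (s • off c d t) * X c d s * col hX S c (off c d t) := by
  induction t using Pi.single_induction with
  | zero =>
    rw [show off c d (0 : n → F) = 0 by funext k; simp [off], smul_zero, col_zero, col_zero, one_mul, mul_one]
  | add f g hf hg =>
    rw [off_add, smul_add, col_add, col_add, mul_assoc (col hX S c (off c d f)), hg]
    have hc : Commute (col hX S c (off c d f)) (col hX S d (s • off c d g)) := by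
      rw [show s • off c d g = off c d (s • g) by funext k; simp [off, mul_ite]]
      exact col_commute hX S hcd f (s • g)
    calc col hX S c (off c d f) * (col hX S d (s • off c d g) * X c d s * col hX S c (off c d g))
        = col hX S d (s • off c d g) * (col hX S c (off c d f) * X c d s) * col hX S c (off c d g) := by
          rw [← mul_assoc, ← mul_assoc, hc.eq, mul_assoc (col hX S d _)]
      _ = _ := by
          rw [hf, mul_assoc (col hX S d (s • off c d f)) (col hX S d (s • off c d g)) (X c d s),
            ← mul_assoc (col hX S d (s • off c d g)) (col hX S d (s • off c d f) * X c d s) (col hX S c _),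
            ← mul_assoc (col hX S d (s • off c d g)) (col hX S d (s • off c d f)) (X c d s),
            ← mul_assoc (col hX S d (s • off c d f)) (col hX S d (s • off c d g)) (X c d s),
            ← col_add, ← col_add, add_comm (s • off c d g), mul_assoc]
  | single k a =>
    rw [off_single]
    split_ifs with hk
    · rw [smul_zero, col_zero, col_zero, one_mul, mul_one]
    rw [← Pi.single_smul, col_single, col_single]
    push Not at hk
    by_cases hkS : k ∈ S
    · rw [if_pos ⟨hkS, hk.1⟩, if_pos ⟨hkS, hk.2⟩, smul_eq_mul, mul_comm s a, ← hX.bracket k c d hk.1 hcd hk.2]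
      rw [commutatorElement_def]; group
    · rw [if_neg (fun h => hkS h.1), if_neg (fun h => hkS h.1), one_mul, mul_one]

/-! ### The cosets -/

variable (o p₀ : n)

/-- The group of all rows out of the pivot. -/
noncomputable def rowGrp : Subgroup Γ :=
  (MonoidHom.noncommPiCoprod (rowRoot hX S o) (rowRoot_commute hX S o)).range

theorem row_mem (v : n → F) : row hX S o v ∈ rowGrp hX S o := ⟨_, rfl⟩

theorem mem_rowGrp {x : Γ} (hx : x ∈ rowGrp hX S o) : ∃ v, row hX S o v = x := by
  obtain ⟨f, rfl⟩ := hx
  exact ⟨fun k => (f k).toAdd, rfl⟩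

/-- Root elements off the pivot normalise the rows. -/
theorem row_conj {i j : n} (hij : i ≠ j) (hj : j ∈ S) (hjo : j ≠ o) (hio : i ≠ o) (a : F) (v : n → F) :
    X i j a * row hX S o v * (X i j a)⁻¹ ∈ rowGrp hX S o := by
  induction v using Pi.single_induction with
  | zero => rw [row_zero, mul_one, mul_inv_cancel]; exact one_mem _
  | add f g hf hg =>
    rw [row_add, show X i j a * (row hX S o f * row hX S o g) * (X i j a)⁻¹ =
      (X i j a * row hX S o f * (X i j a)⁻¹) * (X i j a * row hX S o g * (X i j a)⁻¹) by group]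
    exact mul_mem hf hg
  | single k b =>
    rw [row_single]
    split_ifs with hk
    · rcases eq_or_ne k i with rfl | hki
      · have e : X k j a * X o k b * (X k j a)⁻¹ = (X o j (b * a))⁻¹ * X o k b := by
          have hb := hX.bracket o k j hk.2.symm hij hjo.symm b a
          rw [← hb, commutatorElement_def]; group
        rw [e]
        refine mul_mem (inv_mem ⟨fun l => Multiplicative.ofAdd ((Pi.single j (b * a) : n → F) l), ?_⟩)
          ⟨fun l => Multiplicative.ofAdd ((Pi.single k b : n → F) l), ?_⟩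
        · show row hX S o _ = _
          rw [row_single, if_pos ⟨hj, hjo⟩]
        · show row hX S o _ = _
          rw [row_single, if_pos hk]
      · rw [(hX.comm i j o k hij hk.2.symm hki.symm hjo a b).eq, mul_inv_cancel_right]
        refine ⟨fun l => Multiplicative.ofAdd ((Pi.single k b : n → F) l), ?_⟩
        show row hX S o _ = _
        rw [row_single, if_pos hk]
    · rw [mul_one, mul_inv_cancel]; exact one_mem _

/-- The stabiliser of the pivot vector. -/
noncomputable def K : Subgroup Γ := rowGrp hX S o ⊔ blockLift X (↑(S.erase o) : Set n)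

theorem X_mem_K {i j : n} (hi : i ∈ S) (hj : j ∈ S) (hij : i ≠ j) (hjo : j ≠ o) (a : F) :
    X i j a ∈ K hX S o := by
  by_cases hio : i = o
  · subst hio
    refine Subgroup.mem_sup_left ?_
    have := row_mem hX S i (Pi.single j a)
    rwa [row_single, if_pos ⟨hj, hjo⟩] at this
  · exact Subgroup.mem_sup_right (X_mem_blockLift (by simp [hio, hi]) (by simp [hjo, hj]) hij a)

/-- The representative moving the pivot to a multiple of a basis vector. -/
def rep (X : n → n → F → Γ) (o p₀ c : n) (u : F) : Γ := if c = o then hWord X o p₀ u else wWord X c o u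

/-- Its coset. -/
noncomputable def C (c : n) (u : F) : Γ ⧸ K hX S o := (rep X o p₀ c u : Γ)

/-- The coset attached to a vector seen at one of its nonzero coordinates. -/
noncomputable def Φ (c : n) (v : n → F) : Γ ⧸ K hX S o := col hX S c ((v c)⁻¹ • v) • C hX S o p₀ c (v c)

variable {S o p₀} (hoS : o ∈ S) (hpS : p₀ ∈ S) (hop : o ≠ p₀)
include hoS hpS hop

theorem rep_monomial {c : n} {u : F} (hu : u ≠ 0) :
    IsWord X (rep X o p₀ c u) ∧ ∃ d, IsMonomial (σ (rep X o p₀ c u)) (Equiv.swap c o) d := by
  unfold rep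
  split_ifs with hc
  · subst hc
    exact ⟨isWord_h hop hu, _, by rw [Equiv.swap_self]; exact h_monomial hX hop hu⟩
  · exact ⟨isWord_w hc hu, _, w_monomial hX hc hu⟩

include hcj h3

theorem X_fix {c i j : n} (hc : c ∈ S) (hi : i ∈ S) (hj : j ∈ S) (hij : i ≠ j) (hjc : j ≠ c) {u : F}
    (hu : u ≠ 0) (a : F) : X i j a • C hX S o p₀ c u = C hX S o p₀ c u := by
  obtain ⟨hw, d, hd⟩ := rep_monomial hX hoS hpS hop (c := c) hu
  have hsw : ∀ {k : n}, k ∈ S → Equiv.swap c o k ∈ S := fun {k} hk => by
    rw [Equiv.swap_apply_def]; split_ifs <;> assumption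
  set i' := Equiv.swap c o i
  set j' := Equiv.swap c o j
  have hij' : i' ≠ j' := (Equiv.injective _).ne hij
  have hjo : j' ≠ o := fun e => hjc ((Equiv.injective _) (e.trans (Equiv.swap_apply_left c o).symm))
  have e := hcj _ hw _ _ hd i' j' hij' (d j' / d i' * a)
  rw [Equiv.swap_apply_self, Equiv.swap_apply_self, ← mul_assoc, div_mul_div_cancel₀ (hd.1 j'), div_self (hd.1 i'),
    one_mul] at e
  rw [C, MulAction.Quotient.smul_coe, smul_eq_mul, ← e, inv_mul_cancel_right, QuotientGroup.eq, _root_.mul_inv_rev,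
    inv_mul_cancel_right]
  exact inv_mem (X_mem_K hX S o (hsw hi) (hsw hj) hij' hjo _)

theorem col_fix {c d : n} (hc : c ∈ S) (hd : d ∈ S) (hcd : c ≠ d) {u : F} (hu : u ≠ 0) (t : n → F) :
    col hX S c t • C hX S o p₀ d u = C hX S o p₀ d u := by
  induction t using Pi.single_induction with
  | zero => rw [col_zero, one_smul]
  | add f g hf hg => rw [col_add, mul_smul, hg, hf]
  | single k a =>
    rw [col_single]
    split_ifs with hk
    · exact X_fix hX hcj h3 hoS hpS hop hd hk.1 hc hk.2 hcd hu a
    · rw [one_smul]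

include hB

/-- Elements of a pivot block with the same effect on the pivot agree modulo the stabiliser. -/
theorem coe_eq_of_block {c : n} (hc : c ∈ S) (hco : o ≠ c) {x y : Γ} (hx : x ∈ blockLift X {o, c})
    (hy : y ∈ blockLift X {o, c})
    (h : (σ x : Matrix n n F) *ᵥ Pi.single o 1 = (σ y : Matrix n n F) *ᵥ Pi.single o 1) :
    (x : Γ ⧸ K hX S o) = y := by
  rw [QuotientGroup.eq]
  obtain ⟨t, ht⟩ := fix_eq hX hcj h3 hB hco (mul_mem (inv_mem hx) hy) (by
    rw [coe_mulVec_mul hX, ← h, ← coe_mulVec_mul hX, inv_mul_cancel, map_one]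
    exact Matrix.one_mulVec _)
  rw [ht]
  exact X_mem_K hX S o hoS hc hco hco.symm t

theorem C_pivot {c : n} (hc : c ∈ S) (hco : o ≠ c) {u : F} (hu : u ≠ 0) :
    C hX S o p₀ o u = (hWord X o c u : Γ) := by
  rw [C, rep, if_pos rfl]
  by_cases hcp : p₀ = c
  · rw [hcp]
  have h := hWord_mul_inv_mem hX hcj h3 hB hop hco hcp (inv_ne_zero hu)
  rw [hWord_inv hX hcj h3 hB hop hu, hWord_inv hX hcj h3 hB hco hu, inv_inv] at h
  rw [QuotientGroup.eq]
  exact Subgroup.mem_sup_right (blockLift_mono (by
    rintro k (rfl | rfl) <;> simp [hpS, hc, hop.symm, hco.symm]) h)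

theorem pair_eq {c d : n} (hc : c ∈ S) (hd : d ∈ S) (hcd : c ≠ d) {u b : F} (hu : u ≠ 0) (hb : b ≠ 0) :
    X d c b • C hX S o p₀ c u = X c d b⁻¹ • C hX S o p₀ d (b * u) := by
  by_cases hco : c = o
  · subst hco
    rw [C_pivot hX hcj h3 hB hoS hpS hop hd hcd hu, C, rep, if_neg hcd.symm, MulAction.Quotient.smul_coe,
      MulAction.Quotient.smul_coe, smul_eq_mul, smul_eq_mul]
    refine coe_eq_of_block hX hcj h3 hB hoS hpS hop hd hcd
      (mul_mem (X_mem_blockLift (by simp) (by simp) hcd.symm _) (hWord_mem (by simp) (by simp) hcd _))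
      (mul_mem (X_mem_blockLift (by simp) (by simp) hcd _) (wWord_mem (by simp) (by simp) hcd.symm _)) ?_
    funext k
    rw [coe_mulVec_mul hX, coe_mulVec_mul hX, X_mulVec hX hcd.symm, X_mulVec hX hcd,
      h_mulVec hX hcd hu, h_mulVec hX hcd hu, w_mulVec hX hcd.symm (mul_ne_zero hb hu),
      w_mulVec hX hcd.symm (mul_ne_zero hb hu)]
    split_ifs <;> simp_all
  by_cases hdo : d = o
  · subst hdo
    rw [C_pivot hX hcj h3 hB hoS hpS hop hc (Ne.symm hco) (mul_ne_zero hb hu), C, rep, if_neg hco,
      MulAction.Quotient.smul_coe, MulAction.Quotient.smul_coe, smul_eq_mul, smul_eq_mul]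
    refine coe_eq_of_block hX hcj h3 hB hoS hpS hop hc (Ne.symm hco)
      (mul_mem (X_mem_blockLift (by simp) (by simp) hcd.symm _) (wWord_mem (by simp) (by simp) hcd _))
      (mul_mem (X_mem_blockLift (by simp) (by simp) hcd _) (hWord_mem (by simp) (by simp) hcd.symm _)) ?_
    funext k
    rw [coe_mulVec_mul hX, coe_mulVec_mul hX, X_mulVec hX hcd.symm, X_mulVec hX hcd,
      h_mulVec hX hcd.symm (mul_ne_zero hb hu), h_mulVec hX hcd.symm (mul_ne_zero hb hu),
      w_mulVec hX hcd hu, w_mulVec hX hcd hu]
    split_ifs <;> simp_all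
  -- both indices off the pivot
  have hC : C hX S o p₀ d (b * u) = wWord X d c b • C hX S o p₀ c u := by
    have e := conj_w hX hcj h3 (isWord_w hcd.symm hb) (w_monomial hX hcd.symm hb) hco u
    rw [Equiv.swap_apply_right, Equiv.swap_apply_of_ne_of_ne (Ne.symm hdo) (Ne.symm hco)] at e
    simp only [Ne.symm hco, Ne.symm hdo, if_true, if_false, div_one] at e
    rw [C, C, rep, rep, if_neg hdo, if_neg hco, MulAction.Quotient.smul_coe, smul_eq_mul, ← e, QuotientGroup.eq,
      _root_.mul_inv_rev, inv_inv, inv_mul_cancel_right]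
    exact Subgroup.mem_sup_right (wWord_mem (by simp [hd, hdo]) (by simp [hc, hco]) hcd.symm _)
  obtain ⟨t, ht⟩ := fix_eq hX hcj h3 hB hcd
    (x := (X d c b)⁻¹ * (X c d b⁻¹ * wWord X d c b))
    (mul_mem (inv_mem (X_mem_blockLift (by simp) (by simp) hcd.symm _))
      (mul_mem (X_mem_blockLift (by simp) (by simp) hcd _) (wWord_mem (by simp) (by simp) hcd.symm _))) (by
    funext k
    rw [X_inv hX hcd.symm, coe_mulVec_mul hX, coe_mulVec_mul hX, X_mulVec hX hcd.symm, X_mulVec hX hcd,
      X_mulVec hX hcd, w_mulVec hX hcd.symm hb, w_mulVec hX hcd.symm hb, w_mulVec hX hcd.symm hb]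
    split_ifs <;> simp_all)
  rw [hC, ← mul_smul, show X c d b⁻¹ * wWord X d c b = X d c b * X c d t by rw [← ht]; group, mul_smul,
    X_fix hX hcj h3 hoS hpS hop hc hc hd hcd hcd.symm hu]

theorem Φ_agree {c d : n} (hc : c ∈ S) (hd : d ∈ S) {v : n → F} (hvc : v c ≠ 0) (hvd : v d ≠ 0) :
    Φ hX S o p₀ c v = Φ hX S o p₀ d v := by
  rcases eq_or_ne c d with rfl | hcd
  · rfl
  set t := (v c)⁻¹ • v with ht
  have e1 : col hX S c t = col hX S c (off c d t) * X d c (t d) := by
    have hx : X d c (t d) = col hX S c (Pi.single d (t d)) := by rw [col_single, if_pos ⟨hd, hcd.symm⟩]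
    rw [hx, ← col_add]
    refine col_congr hX S c fun k _ hkc => ?_
    rcases eq_or_ne k d with rfl | hkd
    · simp [off]
    · simp [off, hkc, hkd]
  have e2 : col hX S d ((v d)⁻¹ • v) = col hX S d ((t d)⁻¹ • off c d t) * X c d (t d)⁻¹ := by
    have hx : X c d (t d)⁻¹ = col hX S d (Pi.single c (t d)⁻¹) := by rw [col_single, if_pos ⟨hc, hcd⟩]
    rw [hx, ← col_add]
    refine col_congr hX S d fun k _ hkd => ?_
    rcases eq_or_ne k c with rfl | hkc
    · simp [off, ht]
    · simp [off, ht, hkc, hkd]
      field_simp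
  have htd : t d = (v c)⁻¹ * v d := rfl
  have hu : t d * v c = v d := by rw [htd]; field_simp
  unfold Φ
  rw [← ht, e1, e2, mul_smul, pair_eq hX hcj h3 hB hoS hpS hop hc hd hcd hvc
      (show t d ≠ 0 by rw [htd]; exact mul_ne_zero (inv_ne_zero hvc) hvd), hu, ← mul_smul, col_moves hX S hcd,
    mul_smul, col_fix hX hcj h3 hoS hpS hop hc hd hcd hvd]

/-- The generators respect the parametrisation. -/
theorem Φ_step {i j : n} (hi : i ∈ S) (hj : j ∈ S) (hij : i ≠ j) (a : F) {c : n} (hc : c ∈ S) {v : n → F}
    (hvc : v c ≠ 0) : ∃ d ∈ S, ((σ (X i j a) : Matrix n n F) *ᵥ v) d ≠ 0 ∧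
      X i j a • Φ hX S o p₀ c v = Φ hX S o p₀ d ((σ (X i j a) : Matrix n n F) *ᵥ v) := by
  set w := (σ (X i j a) : Matrix n n F) *ᵥ v with hw
  have hwk : ∀ k, w k = v k + if k = i then a * v j else 0 := fun k => X_mulVec hX hij a v k
  by_cases hex : ∃ d ∈ S, d ≠ i ∧ v d ≠ 0
  · obtain ⟨d, hd, hdi, hvd⟩ := hex
    have hwd : w d = v d := by rw [hwk, if_neg hdi, add_zero]
    refine ⟨d, hd, hwd ▸ hvd, ?_⟩
    rw [Φ_agree hX hcj h3 hB hoS hpS hop hc hd hvc hvd]
    unfold Φ
    rw [hwd]
    set t := (v d)⁻¹ • v with ht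
    have hwt : col hX S d ((v d)⁻¹ • w) = col hX S d (t + Pi.single i (a * t j)) := by
      refine col_congr hX S d fun k _ _ => ?_
      simp only [ht, Pi.add_apply, Pi.smul_apply, smul_eq_mul, hwk, Pi.single_apply]
      split_ifs <;> ring
    rw [hwt, ← mul_smul]
    by_cases hjd : j = d
    · subst hjd
      have htj : t j = 1 := by rw [ht]; simp [hvd]
      rw [htj, mul_one, add_comm t, col_add, col_single, if_pos ⟨hi, hij⟩]
    · have key : ∀ t : n → F, X i j a * col hX S d t = col hX S d (t + Pi.single i (a * t j)) * X i j a := by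
        intro t
        induction t using Pi.single_induction with
        | zero => simp [col_zero]
        | add f g hf hg =>
          rw [col_add, ← mul_assoc, hf, mul_assoc, hg, ← mul_assoc, ← col_add]
          congr 2
          rw [Pi.add_apply, mul_add, Pi.single_add]
          abel
        | single k b =>
          rw [col_add, col_single, col_single]
          by_cases hk : k ∈ S ∧ k ≠ d
          · rw [if_pos hk, if_pos ⟨hi, hdi.symm⟩]
            rcases eq_or_ne j k with rfl | hjk
            · rw [Pi.single_eq_same]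
              have hb := hX.bracket i j d hij hjd hdi.symm a b
              have hcm : Commute (X i d (a * b)) (X j d b) := hX.comm i d j d hdi.symm hk.2 hdi.symm (Ne.symm hjd) _ _
              rw [← hcm.eq, ← hb, commutatorElement_def]; group
            · rw [Pi.single_eq_of_ne hjk, mul_zero, X_zero hX hdi.symm, mul_one]
              exact hX.comm i j k d hij hk.2 hdi.symm hjk a b
          · have hkj : j ≠ k := by rintro rfl; exact hk ⟨hj, hjd⟩
            rw [if_neg hk, Pi.single_eq_of_ne hkj, mul_zero, if_pos ⟨hi, hdi.symm⟩, X_zero hX hdi.symm,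
              one_mul, mul_one, one_mul]
      rw [key, mul_smul, X_fix hX hcj h3 hoS hpS hop hd hi hj hij hjd hvd]
  · push Not at hex
    have hci : c = i := by
      by_contra h
      exact hvc (hex c hc h)
    subst hci
    have hwv : w = v := by
      funext k
      rw [hwk, hex j hj hij.symm, mul_zero]; simp
    have hcol : col hX S c ((v c)⁻¹ • v) = 1 := by
      rw [← col_zero hX S c]
      exact col_congr hX S c fun k hk hkc => by simp [hex k hk hkc]
    refine ⟨c, hc, hwv ▸ hvc, ?_⟩
    rw [hwv]
    unfold Φ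
    rw [hcol, one_smul, X_fix hX hcj h3 hoS hpS hop hc hc hj hij hij.symm hvc]

/-- Elements of a block fixing the pivot lie in the stabiliser. -/
theorem mem_K {g : Γ} (hg : g ∈ blockLift X (↑S : Set n))
    (hfix : (σ g : Matrix n n F) *ᵥ Pi.single o 1 = Pi.single o 1) : g ∈ K hX S o := by
  have h0 : Φ hX S o p₀ o (Pi.single o 1) = ((1 : Γ) : Γ ⧸ K hX S o) := by
    have h1 : hWord X o p₀ (1 : F) = 1 := hB o p₀ hop _ (hWord_mem (by simp) (by simp) hop _) (by
      apply Subtype.ext
      refine Matrix.ext fun k l => ?_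
      rw [entry_eq, h_mulVec hX hop one_ne_zero, Matrix.SpecialLinearGroup.coe_one, Matrix.one_apply,
        Pi.single_apply, Pi.single_apply, Pi.single_apply]
      split_ifs <;> simp_all)
    have hcol : col hX S o (((Pi.single o (1 : F) : n → F) o)⁻¹ • Pi.single o 1) = 1 := by
      rw [← col_zero hX S o]
      exact col_congr hX S o fun k _ hko => by simp [hko]
    unfold Φ
    rw [hcol, one_smul, Pi.single_eq_same, C, rep, if_pos rfl, h1]
  have main : ∃ c ∈ S, ((σ g : Matrix n n F) *ᵥ Pi.single o 1) c ≠ 0 ∧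
      (g : Γ ⧸ K hX S o) = Φ hX S o p₀ c ((σ g : Matrix n n F) *ᵥ Pi.single o 1) := by
    clear hfix
    induction hg using Subgroup.closure_induction_left with
    | one =>
      rw [map_one, Matrix.SpecialLinearGroup.coe_one, Matrix.one_mulVec]
      exact ⟨o, hoS, by simp, h0.symm⟩
    | mul_left x hx y _ ih =>
      obtain ⟨i, j, hi, hj, hij, a, rfl⟩ := hx
      obtain ⟨c, hc, hv, e⟩ := ih
      obtain ⟨d, hd, hw, e'⟩ := Φ_step hX hcj h3 hB hoS hpS hop hi hj hij a hc hv
      exact ⟨d, hd, by rwa [coe_mulVec_mul hX], by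
        rw [coe_mulVec_mul hX, ← e', ← e, MulAction.Quotient.smul_coe, smul_eq_mul]⟩
    | inv_mul_cancel x hx y _ ih =>
      obtain ⟨i, j, hi, hj, hij, a, rfl⟩ := hx
      obtain ⟨c, hc, hv, e⟩ := ih
      rw [X_inv hX hij]
      obtain ⟨d, hd, hw, e'⟩ := Φ_step hX hcj h3 hB hoS hpS hop hi hj hij (-a) hc hv
      exact ⟨d, hd, by rwa [coe_mulVec_mul hX], by
        rw [coe_mulVec_mul hX, ← e', ← e, MulAction.Quotient.smul_coe, smul_eq_mul]⟩
  obtain ⟨c, hc, hv, e⟩ := main
  rw [hfix] at hv e
  rw [Φ_agree hX hcj h3 hB hoS hpS hop hc hoS hv (by simp), h0, eq_comm, QuotientGroup.eq, inv_one,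
    one_mul] at e
  exact e

omit hX hcj h3 hB hoS hpS hop
include hX hcj h3 hB

/-- Every block meets the kernel trivially. -/
theorem block_inj : ∀ (S : Finset n), ∀ z ∈ blockLift X (↑S : Set n), σ z = 1 → z = 1 := by
  intro S
  induction S using Finset.strongInduction with
  | _ S ih =>
    intro z hz h1
    rcases le_or_gt S.card 1 with hS | hS
    · have : blockLift X (↑S : Set n) = ⊥ := by
        rw [blockLift, eq_bot_iff, Subgroup.closure_le]
        rintro _ ⟨i, j, hi, hj, hij, -⟩
        exact absurd (Finset.card_le_one.1 hS i hi j hj) hij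
      rwa [this, Subgroup.mem_bot] at hz
    obtain ⟨o, ho, p₁, hp, hop⟩ := Finset.one_lt_card.1 hS
    have hK := mem_K hX hcj h3 hB ho hp hop hz (by rw [h1]; exact Matrix.one_mulVec _)
    have hnorm : blockLift X (↑(S.erase o) : Set n) ≤ Subgroup.normalizer (rowGrp hX S o : Set Γ) := by
      rw [blockLift, Subgroup.closure_le]
      rintro _ ⟨i, j, hi, hj, hij, a, rfl⟩
      rw [Finset.coe_erase, Set.mem_diff, Set.mem_singleton_iff, Finset.mem_coe] at hi hj
      rw [SetLike.mem_coe, Subgroup.mem_normalizer_iff]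
      refine fun h => ⟨fun hh => ?_, fun hh => ?_⟩
      · obtain ⟨v, rfl⟩ := mem_rowGrp hX S o hh
        exact row_conj hX S o hij hj.1 hj.2 hi.2 a v
      · obtain ⟨v, hv⟩ := mem_rowGrp hX S o hh
        have := row_conj hX S o hij hj.1 hj.2 hi.2 (-a) v
        rw [← X_inv hX hij, hv, inv_inv] at this
        simpa [mul_assoc] using this
    rw [K, ← SetLike.mem_coe, Subgroup.coe_mul_of_right_le_normalizer_left _ _ hnorm] at hK
    obtain ⟨x, hx, y, hy, hxy⟩ := hK
    obtain ⟨v, rfl⟩ := mem_rowGrp hX S o hx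
    have hy1 : Pi.single o 1 ᵥ* (σ y : Matrix n n F) = Pi.single o 1 := by
      clear hxy
      induction hy using Subgroup.closure_induction with
      | mem g hg =>
        obtain ⟨i, j, hi, -, hij, a, rfl⟩ := hg
        rw [Finset.coe_erase, Set.mem_diff, Set.mem_singleton_iff, Finset.mem_coe] at hi
        rw [hX.lift i j hij, T_coe hij, Matrix.single_one_vecMul]
        funext k
        simp [Matrix.transvection, Matrix.row, Matrix.one_apply, hi.2, Ne.symm hi.2, Pi.single_apply, eq_comm]
      | one => rw [map_one]; exact Matrix.vecMul_one _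
      | mul g h _ _ hg hh =>
        rw [map_mul]
        change Pi.single o 1 ᵥ* ((σ g : Matrix n n F) * (σ h : Matrix n n F)) = _
        rw [← Matrix.vecMul_vecMul, hg, hh]
      | inv g _ hg =>
        nth_rw 1 [← hg]
        rw [Matrix.vecMul_vecMul]
        change Pi.single o 1 ᵥ* ((σ g * σ g⁻¹ : SpecialLinearGroup n F) : Matrix n n F) = _
        rw [← map_mul, mul_inv_cancel, map_one]
        exact Matrix.vecMul_one _
    have hrow : ∀ v : n → F, Pi.single o 1 ᵥ* (σ (row hX S o v) : Matrix n n F) =
        Pi.single o 1 + fun k => if k ∈ S ∧ k ≠ o then v k else 0 := by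
      intro v
      induction v using Pi.single_induction with
      | zero =>
        rw [row_zero, map_one]
        funext k
        simp [Matrix.SpecialLinearGroup.coe_one]
      | add f g hf hg =>
        rw [row_add, map_mul]
        change Pi.single o 1 ᵥ* ((σ (row hX S o f) : Matrix n n F) * (σ (row hX S o g) : Matrix n n F)) = _
        have hg' : ∀ w : n → F, w o = 0 → w ᵥ* (σ (row hX S o g) : Matrix n n F) = w := by
          intro w hw
          clear hg
          induction g using Pi.single_induction with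
          | zero => rw [row_zero, map_one]; exact Matrix.vecMul_one _
          | add g g' h h' =>
            rw [row_add, map_mul]
            change w ᵥ* ((σ (row hX S o g) : Matrix n n F) * (σ (row hX S o g') : Matrix n n F)) = _
            rw [← Matrix.vecMul_vecMul, h, h']
          | single k b =>
            rw [row_single]
            split_ifs with hk
            · rw [hX.lift o k hk.2.symm, T_coe hk.2.symm, Matrix.transvection, Matrix.vecMul_add, Matrix.vecMul_one]
              funext l
              simp [Matrix.vecMul, dotProduct, Matrix.single_apply, hw, ite_and]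
            · rw [map_one]; exact Matrix.vecMul_one _
        rw [← Matrix.vecMul_vecMul, hf, Matrix.add_vecMul, hg, hg' _ (by simp)]
        funext k
        simp only [Pi.add_apply]
        split_ifs <;> ring
      | single k b =>
        rw [row_single]
        split_ifs with hk
        · rw [hX.lift o k hk.2.symm, T_coe hk.2.symm, Matrix.single_one_vecMul]
          funext l
          rcases eq_or_ne l k with rfl | hlk
          · simp [Matrix.transvection, Matrix.row, hk.2, hk.2.symm, hk.1]
          · simp [Matrix.transvection, Matrix.row, Matrix.one_apply, hlk, Ne.symm hlk, Pi.single_apply, eq_comm]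
        · rw [map_one]
          funext l
          rcases eq_or_ne l k with rfl | hlk
          · rw [Matrix.SpecialLinearGroup.coe_one, Matrix.vecMul_one, Pi.add_apply, if_neg hk, add_zero]
          · simp [Matrix.SpecialLinearGroup.coe_one, hlk]
    have hrow0 : row hX S o v = 1 := by
      have h2 := congrArg (fun g : SpecialLinearGroup n F => Pi.single o 1 ᵥ* (g : Matrix n n F))
        (show σ (row hX S o v) * σ y = 1 by rw [← map_mul]; exact (congrArg σ hxy).trans h1)
      simp only [Matrix.SpecialLinearGroup.coe_mul, Matrix.SpecialLinearGroup.coe_one, Matrix.vecMul_one] at h2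
      rw [← Matrix.vecMul_vecMul, hrow, Matrix.add_vecMul, hy1, add_eq_left] at h2
      have hinj : Function.Injective (fun w : n → F => w ᵥ* (σ y : Matrix n n F)) := fun w w' e => by
        have e2 := congrArg (fun w : n → F => w ᵥ* ((σ y)⁻¹ : SpecialLinearGroup n F).1) e
        simp only [Matrix.vecMul_vecMul, ← Matrix.SpecialLinearGroup.coe_mul, mul_inv_cancel,
          Matrix.SpecialLinearGroup.coe_one, Matrix.vecMul_one] at e2
        exact e2
      have h4 := hinj (h2.trans (Matrix.zero_vecMul (σ y : Matrix n n F)).symm)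
      have hmask : row hX S o v = row hX S o (fun k => if k ∈ S ∧ k ≠ o then v k else 0) := by
        clear h2 h4 hxy hx h1
        induction v using Pi.single_induction with
        | zero => congr 1; funext k; simp
        | add f g hf hg =>
          rw [row_add, hf, hg, ← row_add]
          congr 1; funext k
          simp only [Pi.add_apply]
          split_ifs <;> simp
        | single i m =>
          by_cases hi : i ∈ S ∧ i ≠ o
          · congr 1; funext k
            rcases eq_or_ne k i with rfl | hk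
            · rw [if_pos hi]
            · simp [Pi.single_eq_of_ne hk]
          · rw [row_single, if_neg hi, ← row_zero hX S o]
            congr 1; funext k
            rcases eq_or_ne k i with rfl | hk
            · rw [if_neg hi]; rfl
            · simp [Pi.single_eq_of_ne hk]
      rw [hmask, h4, row_zero]
    have hzy : y = z := by rw [← hxy]; simp [hrow0]
    subst hzy
    exact ih _ (Finset.erase_ssubset ho) _ hy h1

end Cfsg.Agent.SimpleFacts.SLnCosets
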