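import Cfsg.Agent.SimpleFacts.SLnUnipotent
import Cfsg.Agent.SimpleFacts.SLnCosets
import Cfsg.Agent.GStructB.StemExt
import Mathlib

/-!
The Schur multiplier of `SL_n(q)` is trivial for `n ≥ 3` and `(n,q) ≠ (3,2), (3,4), (4,2)`.
-/

set_option autoImplicit false

namespace Cfsg.Agent.SimpleFacts.SLnMultiplier

open Matrix

universe u v

variable {F : Type u} [Field F] [Fintype F] {N : ℕ} {Γ : Type v} [Group Γ] [Finite Γ]

/-- A stem extension of `SL_n(q)` is trivial. -/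
theorem ker_bot (σ : Γ →* SpecialLinearGroup (Fin N) F) (hσ : Cfsg.IsStemExtension σ) (hN : 3 ≤ N)
    (hex : (N = 3 → Fintype.card F ≠ 2 ∧ Fintype.card F ≠ 4) ∧ (N = 4 → Fintype.card F ≠ 2)) : σ.ker = ⊥ := by
  classical
  obtain ⟨p, hpc⟩ := CharP.exists F
  have : Fact p.Prime := ⟨CharP.char_is_prime F p⟩
  have h3 : 3 ≤ Fintype.card (Fin N) := by rw [Fintype.card_fin]; exact hN
  obtain ⟨X, hX⟩ := SLnRootLifts.exists_system σ hσ.1 hσ.2.1 h3 (by rwa [Fintype.card_fin])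
  have hp : ∀ z ∈ σ.ker, (∃ k : ℕ, z ^ p ^ k = 1) → z = 1 := fun z hz hzp =>
    SLnUnipotent.eq_one hX hσ.1 hσ.2.1 (by omega) p hz (hσ.2.2 hz) hzp
  have hB : ∀ a b : Fin N, a ≠ b → ∀ x ∈ SLnSystem.blockLift X {a, b}, σ x = 1 → x = 1 :=
    fun a b hab x hx h1 => SLnCosets.two_block hX p hσ.2.1 hp hab hx h1
  rw [eq_bot_iff]
  intro z hz
  refine SLnCosets.block_inj hX (fun g _ _ _ hg i j hij a => SLnSystem.conj_X hX hσ.1 hσ.2.1 h3 hg hij a) h3 hB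
    Finset.univ z ?_ hz
  rw [Finset.coe_univ]
  exact SLnSystem.commutator_le hX hσ.1 hσ.2.1 (hσ.2.2 hz)

/-- The multiplier of `SL_n(q)` is trivial. -/
theorem main (F : Type u) [Field F] [Fintype F] (hN : 3 ≤ N)
    (hex : (N = 3 → Fintype.card F ≠ 2 ∧ Fintype.card F ≠ 4) ∧ (N = 4 → Fintype.card F ≠ 2)) :
    Cfsg.HasCyclicSchurMultiplier (SpecialLinearGroup (Fin N) F) 1 :=
  GStructB.StemExt.hasCyclicSchurMultiplier_one fun _ _ _ σ hσ => ker_bot σ hσ hN hex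

end Cfsg.Agent.SimpleFacts.SLnMultiplier
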