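import Cfsg.Agent.S3958
import Mathlib

/-!
The multiplier of a group read off from a cover with trivial multiplier.
-/

set_option autoImplicit false

namespace Cfsg.Agent.SimpleFacts.SchurFromCover

universe u v

/-- A stem extension by a group of trivial multiplier with kernel cyclic of order `n` gives multiplier `n`. -/
theorem hasCyclic_of_cover {G : Type u} [Group G] [Finite G] {C : Type v} [Group C] [Finite C] (θ : C →* G)
    (hθ : Cfsg.IsStemExtension θ) (hC : Cfsg.HasCyclicSchurMultiplier C 1) [IsCyclic θ.ker] (n : ℕ)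
    (hn : Nat.card θ.ker = n) : Cfsg.HasCyclicSchurMultiplier G n := by
  let e : θ.ker ≃* Multiplicative (ZMod n) := (hn ▸ (zmodCyclicMulEquiv (G := θ.ker) inferInstance)).symm
  have hsmall : Small.{u} C := by
    obtain ⟨k, ⟨f⟩⟩ := Finite.exists_equiv_fin C
    exact small_map f
  refine ⟨⟨Shrink.{u} C, inferInstance, inferInstance, θ.comp (Shrink.mulEquiv (α := C)).toMonoidHom, ?_, ?_⟩,
    fun Δ _ _ τ hτ => ?_⟩
  · obtain ⟨h1, h2, h3⟩ := hθ
    refine ⟨h1.comp (Shrink.mulEquiv (α := C)).surjective, fun x hx => ?_, fun x hx => ?_⟩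
    · rw [Subgroup.mem_center_iff]
      intro y
      apply (Shrink.mulEquiv (α := C)).injective
      rw [map_mul, map_mul]
      exact Subgroup.mem_center_iff.1 (h2 hx) _
    · have := Subgroup.mem_map_of_mem (Shrink.mulEquiv (α := C)).symm.toMonoidHom
        (h3 (show Shrink.mulEquiv x ∈ θ.ker from hx))
      rw [_root_.commutator_def, Subgroup.map_commutator,
        Subgroup.map_top_of_surjective _ (Shrink.mulEquiv (α := C)).symm.surjective,
        ← _root_.commutator_def] at this
      simpa using this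
  · refine ⟨MulEquiv.trans ?_ e⟩
    refine MulEquiv.ofBijective (((Shrink.mulEquiv (α := C)).toMonoidHom.comp
      (θ.comp (Shrink.mulEquiv (α := C)).toMonoidHom).ker.subtype).codRestrict θ.ker fun x => x.2)
      ⟨fun x y h => Subtype.ext ((Shrink.mulEquiv (α := C)).injective (congrArg Subtype.val h)), fun y => ?_⟩
    exact ⟨⟨(Shrink.mulEquiv (α := C)).symm y.1, by
      show θ (Shrink.mulEquiv ((Shrink.mulEquiv (α := C)).symm y.1)) = 1
      rw [MulEquiv.apply_symm_apply]; exact y.2⟩, Subtype.ext ((Shrink.mulEquiv (α := C)).apply_symm_apply y.1)⟩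
  · obtain ⟨π, hπ⟩ := S3958.result θ hθ hC Δ τ hτ
    exact ⟨π.comp e.symm.toMonoidHom, hπ.comp e.symm.surjective⟩

end Cfsg.Agent.SimpleFacts.SchurFromCover
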