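import Cfsg.Agent.SimpleFacts.UnitaryThreeReflection
import Cfsg.Agent.Techniques.SL2.Qd
import Cfsg.Prelude.Def_PLocal

/-!
# `Qd(p)` is not a section of `PSU₃(p^n)`

A nontrivial `p`-subgroup of `SU₃` fixes exactly one isotropic point and the `p`-elements fixing a point form
a group.
-/

set_option autoImplicit false
set_option linter.unusedSectionVars false

namespace Cfsg.Agent.SimpleFacts.UnitaryThreeSections

open Matrix Cfsg.Agent.Classical.Unitary
open Cfsg.Agent.SimpleFacts.UnitaryThreeReflection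
open Cfsg.Agent.Techniques.SL2.Qd
open scoped MatrixGroups

variable {F : Type*} [Field F] [Fintype F] {q : ℕ} (hF : Fintype.card F = q ^ 2)
  {p : ℕ} [Fact p.Prime] [CharP F p]

local notation "Vec" => (Fin 3 → F)
local notation "H" => Cfsg.hermForm 3 F q

include hF

/-- Orthogonal isotropic vectors are dependent. -/
theorem iso_orth_smul {v u : Vec} (hv : v ≠ 0) (hvv : H v v = 0) (huu : H u u = 0)
    (huv : H u v = 0) : ∃ a : F, u = a • v := by
  by_contra h
  push Not at h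
  obtain ⟨a, ha⟩ := exists_smul_of_perp hF hv h hvv ((H_eq_zero_comm hF).1 huv)
  obtain ⟨b, hb⟩ := exists_smul_of_perp hF hv h huv huu
  have ha0 : a ≠ 0 := fun h0 => hv (by rw [ha, h0, zero_smul])
  refine h (b / a) ?_
  conv_rhs => rw [ha]
  rw [smul_smul, div_mul_cancel₀ _ ha0]
  exact hb

omit hF in
/-- A `p`-element is unipotent. -/
theorem sub_one_nilpotent {g : Cfsg.SU 3 F q} {k : ℕ} (hg : g ^ p ^ k = 1) :
    IsNilpotent (mat g - 1) := by
  haveI : CharP (Matrix (Fin 3) (Fin 3) F) p :=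
    charP_of_injective_algebraMap (algebraMap F (Matrix (Fin 3) (Fin 3) F)).injective p
  refine ⟨p ^ k, ?_⟩
  have h : mat g ^ p ^ k = 1 := by
    have := congrArg ((Cfsg.slToMat 3 F).comp (Cfsg.SU 3 F q).subtype) hg
    rwa [map_pow, map_one] at this
  rw [sub_pow_char_pow_of_commute (p := p) _ (Commute.one_right _), h, one_pow, sub_self]

omit hF in
theorem eq_one_of_smul {g : Cfsg.SU 3 F q} (hg : IsNilpotent (mat g - 1)) {v : Vec} (hv : v ≠ 0)
    {c : F} (h : mat g *ᵥ v = c • v) : c = 1 := by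
  obtain ⟨N, hN⟩ := hg
  have h1 : (mat g - 1) *ᵥ v = (c - 1) • v := by
    rw [Matrix.sub_mulVec, Matrix.one_mulVec, h, sub_smul, one_smul]
  have h2 : ∀ j, ((mat g - 1) ^ j) *ᵥ v = (c - 1) ^ j • v := by
    intro j
    induction j with
    | zero => simp
    | succ j ih => rw [pow_succ, ← Matrix.mulVec_mulVec, h1, Matrix.mulVec_smul, ih, smul_smul, pow_succ']
  have h3 := h2 N
  rw [hN, Matrix.zero_mulVec] at h3
  rcases smul_eq_zero.1 h3.symm with h4 | h4
  · exact sub_eq_zero.1 (eq_zero_of_pow_eq_zero h4)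
  · exact absurd h4 hv

theorem H_fix_sub (g : Cfsg.SU 3 F q) {u : Vec} (hu : mat g *ᵥ u = u) (x : Vec) :
    H (mat g *ᵥ x - x) u = 0 := by
  rw [H_sub_left]
  conv_lhs => arg 1; rw [← hu, SU_H]
  rw [sub_self]

/-- A nontrivial unipotent element has a unique fixed isotropic point. -/
theorem exists_fixed {g : Cfsg.SU 3 F q} (hg : IsNilpotent (mat g - 1)) (hg1 : g ≠ 1) :
    ∃ v : Vec, v ≠ 0 ∧ H v v = 0 ∧ mat g *ᵥ v = v ∧
      ∀ u : Vec, H u u = 0 → mat g *ᵥ u = u → ∃ a : F, u = a • v := by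
  classical
  set N := mat g - 1 with hN
  have hN0 : N ≠ 0 := fun h => hg1 (SU_ext fun x => by rw [sub_eq_zero.1 h, mat_one])
  have hex : ∃ k, N ^ (k + 1) = 0 := by
    obtain ⟨k, hk⟩ := hg
    exact ⟨k, by rw [pow_succ, hk, zero_mul]⟩
  obtain ⟨j, hj, hmin⟩ : ∃ j, N ^ (j + 1) = 0 ∧ ∀ i < j, N ^ (i + 1) ≠ 0 :=
    ⟨Nat.find hex, Nat.find_spec hex, fun i hi => Nat.find_min hex hi⟩
  rcases j with _ | i
  · exact absurd (by simpa using hj) hN0
  have hne := hmin i (Nat.lt_succ_self i)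
  obtain ⟨x, hx⟩ : ∃ x : Vec, (N ^ (i + 1)) *ᵥ x ≠ 0 := by
    by_contra h
    push Not at h
    exact hne (mat_ext fun x => by rw [h, Matrix.zero_mulVec])
  set v := (N ^ (i + 1)) *ᵥ x with hv
  have hfix : mat g *ᵥ v = v := by
    have : N *ᵥ v = 0 := by rw [hv, Matrix.mulVec_mulVec, ← pow_succ', hj, Matrix.zero_mulVec]
    rwa [hN, Matrix.sub_mulVec, Matrix.one_mulVec, sub_eq_zero] at this
  have him : ∀ u : Vec, mat g *ᵥ u = u → H v u = 0 := by
    intro u hu
    rw [hv, pow_succ', ← Matrix.mulVec_mulVec, hN, Matrix.sub_mulVec, Matrix.one_mulVec]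
    exact H_fix_sub hF g hu _
  refine ⟨v, hx, him v hfix, hfix, fun u huu hu => ?_⟩
  exact iso_orth_smul hF hx (him v hfix) huu ((H_eq_zero_comm hF).1 (him u hu))

/-- The unipotent elements of a point stabiliser. -/
def Uni (v : Fin 3 → F) (g : Cfsg.SU 3 F q) : Prop :=
  mat g *ᵥ v = v ∧ ∀ w, H w v = 0 → ∃ a : F, mat g *ᵥ w = w + a • v

theorem uni_mul {v : Vec} {g h : Cfsg.SU 3 F q} (hg : Uni v g) (hh : Uni v h) : Uni v (g * h) := by
  refine ⟨by rw [mul_mulVec, hh.1, hg.1], fun w hw => ?_⟩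
  obtain ⟨a, ha⟩ := hh.2 w hw
  obtain ⟨b, hb⟩ := hg.2 w hw
  refine ⟨b + a, ?_⟩
  rw [mul_mulVec, ha, Matrix.mulVec_add, Matrix.mulVec_smul, hg.1, hb, add_smul]
  abel

theorem uni_pow {v : Vec} {g : Cfsg.SU 3 F q} (hg : Uni v g) : ∃ k : ℕ, g ^ p ^ k = 1 := by
  haveI : CharP (Matrix (Fin 3) (Fin 3) F) p :=
    charP_of_injective_algebraMap (algebraMap F (Matrix (Fin 3) (Fin 3) F)).injective p
  have h3 : (mat g - 1) ^ 3 = 0 := by
    refine mat_ext fun x => ?_
    rw [Matrix.zero_mulVec, pow_succ, pow_succ, pow_one, ← Matrix.mulVec_mulVec,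
      ← Matrix.mulVec_mulVec]
    have e : ∀ y, (mat g - 1) *ᵥ y = mat g *ᵥ y - y := fun y => by
      rw [Matrix.sub_mulVec, Matrix.one_mulVec]
    obtain ⟨a, ha⟩ := hg.2 _ (H_fix_sub hF g hg.1 x)
    rw [e x, e (mat g *ᵥ x - x), ha, add_sub_cancel_left, Matrix.mulVec_smul, e, hg.1, sub_self, smul_zero]
  obtain ⟨k, hk⟩ : ∃ k, 3 ≤ p ^ k := ⟨3, (Nat.lt_pow_self (Fact.out : p.Prime).one_lt).le⟩
  refine ⟨k, ?_⟩
  have h1 : (mat g - 1) ^ (p ^ k) = 0 := pow_eq_zero_of_le hk h3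
  rw [sub_pow_char_pow_of_commute (p := p) _ (Commute.one_right _), one_pow, sub_eq_zero] at h1
  have hinj : Function.Injective ((Cfsg.slToMat 3 F).comp (Cfsg.SU 3 F q).subtype) :=
    fun a b h => Subtype.ext (Subtype.ext h)
  refine hinj ?_
  rw [map_pow, map_one]
  exact h1

theorem uni_of_nilpotent {v : Vec} (hv : v ≠ 0) (hvv : H v v = 0) {g : Cfsg.SU 3 F q}
    (hg : IsNilpotent (mat g - 1)) {c : F} (hgv : mat g *ᵥ v = c • v) : Uni v g := by
  have hfix : mat g *ᵥ v = v := by rw [hgv, eq_one_of_smul hg hv hgv, one_smul]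
  refine ⟨hfix, fun w hw => ?_⟩
  set y := mat g *ᵥ w - w with hy
  by_cases hyv : ∃ a : F, y = a • v
  · obtain ⟨a, ha⟩ := hyv
    exact ⟨a, by rw [← ha, hy]; abel⟩
  exfalso
  push Not at hyv
  have hwv : ∀ a : F, w ≠ a • v := fun a h => hyv 0 (by
    rw [hy, h, Matrix.mulVec_smul, hfix, sub_self, zero_smul])
  have hyp : H y v = 0 := H_fix_sub hF g hfix w
  obtain ⟨c', hc'⟩ := exists_smul_of_perp hF hv hwv hvv ((H_eq_zero_comm hF).1 hw)
  have hc0 : c' ≠ 0 := fun h => hv (by rw [hc', h, zero_smul])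
  have hyz : H y (perp q v w) = 0 := by
    rw [hc', H_smul_right] at hyp
    exact (mul_eq_zero.1 hyp).resolve_left (pow_ne_zero _ hc0)
  -- hence `y` lies in the span of `v` and `w`
  have hdet : (!![y 0, v 0, w 0; y 1, v 1, w 1; y 2, v 2, w 2]).det = 0 := by
    rw [H_perp hF] at hyz
    simp [cr] at hyz
    simp [Matrix.det_fin_three]
    linear_combination hyz
  obtain ⟨a, ha, hav⟩ := Matrix.exists_mulVec_eq_zero_iff.2 hdet
  have hlin : a 0 • y + a 1 • v + a 2 • w = 0 := by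
    funext i
    have := congrFun hav i
    fin_cases i <;> simp [Matrix.mulVec, dotProduct, Fin.sum_univ_three] at this ⊢ <;>
      linear_combination this
  have ha0 : a 0 ≠ 0 := by
    intro h0
    rw [h0, zero_smul, zero_add] at hlin
    by_cases h2 : a 2 = 0
    · rw [h2, zero_smul, add_zero] at hlin
      have h1 := (smul_eq_zero.1 hlin).resolve_right hv
      refine ha (funext fun i => ?_)
      fin_cases i <;> simp [h0, h1, h2]
    · refine hwv (-(a 1) / a 2) ?_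
      rw [div_eq_inv_mul, mul_smul, neg_smul, eq_inv_smul_iff₀ h2]
      exact eq_neg_of_add_eq_zero_right hlin
  -- `g - 1` multiplies `y` by the coefficient of `w`, hence by zero
  set b := -(a 2) / a 0 with hb
  set a' := -(a 1) / a 0 with ha'
  have hy' : y = a' • v + b • w := by
    refine smul_right_injective _ ha0 ?_
    simp only [smul_add, smul_smul, ha', hb, mul_div_cancel₀ _ ha0, neg_smul]
    linear_combination (norm := module) hlin
  have hgy : mat g *ᵥ y = (1 + b) • y := by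
    conv_lhs => rw [hy', Matrix.mulVec_add, Matrix.mulVec_smul, Matrix.mulVec_smul, hfix,
      show mat g *ᵥ w = w + y by rw [hy]; abel]
    conv_rhs => rw [add_smul, one_smul]; arg 1; rw [hy']
    rw [smul_add]
    abel
  have hy0 : y ≠ 0 := fun h => hyv 0 (by rw [h, zero_smul])
  have := eq_one_of_smul hg hy0 hgy
  rw [add_eq_left] at this
  rw [this, zero_smul, add_zero] at hy'
  exact hyv a' hy'

/-! ### The section -/

theorem not_involves_SU : ¬ Cfsg.Involves ↥(Cfsg.qd p) ↥(Cfsg.SU 3 F q) := by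
  classical
  intro h
  obtain ⟨K, f, hf⟩ := exists_surj h
  -- the translations
  let j : Multiplicative (Fin 2 → ZMod p) →* ↥(Cfsg.qd p) :=
    MonoidHom.mk' (fun x => ⟨aff 1 x.toAdd, aff_mem_qd _ _⟩) fun x y => Subtype.ext (by
      show aff 1 (x * y).toAdd = aff 1 x.toAdd * aff 1 y.toAdd
      rw [aff_mul, mul_one]; simp)
  let E := j.range
  have hEn : E.Normal := by
    refine ⟨fun M hM g => ?_⟩
    obtain ⟨x, rfl⟩ := hM
    obtain ⟨A, a, hA⟩ := exists_aff_eq g.2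
    refine ⟨Multiplicative.ofAdd (A.1 *ᵥ x.toAdd), ?_⟩
    rw [eq_mul_inv_iff_mul_eq]
    refine Subtype.ext ?_
    show aff 1 _ * g.1 = g.1 * aff 1 _
    rw [← hA, aff_mul, aff_mul, one_mul, mul_one]
    simp [add_comm]
  have hEp : IsPGroup p E := by
    refine IsPGroup.of_card (n := 2) ?_
    have hj : Function.Injective j := fun x y h => by
      have h' : (aff 1 x.toAdd).1 = (aff 1 y.toAdd).1 := congrArg (fun u : ↥(Cfsg.qd p) => u.1.1) h
      have a2 := congrFun (congrFun h' 0) 2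
      have a3 := congrFun (congrFun h' 1) 2
      simp [aff] at a2 a3
      refine Multiplicative.toAdd.injective (funext fun i => ?_)
      fin_cases i <;> assumption
    rw [← Nat.card_congr (MonoidHom.ofInjective hj).toEquiv,
      Nat.card_congr Multiplicative.toAdd, Nat.card_fun, Nat.card_zmod, Nat.card_fin]
  -- its preimage and a Sylow subgroup of it
  set M := E.comap f with hM
  obtain ⟨P⟩ := (inferInstance : Nonempty (Sylow p M))
  set PK : Subgroup K := (P : Subgroup M).map M.subtype with hPK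
  have hfr : Subgroup.normalizer (PK : Set K) ⊔ M = ⊤ := Sylow.normalizer_sup_eq_top P
  have hPp : IsPGroup p PK := P.isPGroup'.map _
  have hPne : PK ≠ ⊥ := by
    intro hbot
    have h1 : (P : Subgroup M) = ⊥ := Subgroup.map_eq_bot_iff_of_injective _ M.subtype_injective |>.1 hbot
    have hs : Function.Surjective (f.subgroupComap E) :=
      MonoidHom.subgroupComap_surjective_of_surjective f E hf
    have h2 : ((P.mapSurjective hs : Sylow p E) : Subgroup E) = ⊥ := by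
      rw [Sylow.coe_mapSurjective, h1, Subgroup.map_bot]
    have h3 : (⊤ : Subgroup E) = ⊥ := h2 ▸
      (P.mapSurjective hs).is_maximal' (hEp.to_subgroup ⊤) le_top
    have hx : (⟨j (Multiplicative.ofAdd ![1, 0]), ⟨_, rfl⟩⟩ : E) = 1 :=
      Subgroup.mem_bot.1 (h3 ▸ Subgroup.mem_top _)
    have h4 := congrArg (fun u : E => ((u : ↥(Cfsg.qd p)) : SL(3, ZMod p)).1 0 2) hx
    simp [j, aff] at h4
  -- the point fixed by `P`
  obtain ⟨z, hz1⟩ : ∃ z : Subgroup.center PK, z ≠ 1 := by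
    haveI : Nontrivial PK := (Subgroup.nontrivial_iff_ne_bot _).2 hPne
    haveI : Nontrivial (Subgroup.center PK) := hPp.center_nontrivial
    exact exists_ne 1
  set g : Cfsg.SU 3 F q := (((z : PK) : K) : Cfsg.SU 3 F q) with hg
  have hpel : ∀ x : PK, ∃ k : ℕ, (((x : PK) : K) : Cfsg.SU 3 F q) ^ p ^ k = 1 := fun x => by
    obtain ⟨k, hk⟩ := hPp x
    exact ⟨k, congrArg (fun u : PK => ((u : K) : Cfsg.SU 3 F q)) hk⟩
  have hgn : IsNilpotent (mat g - 1) := sub_one_nilpotent (hpel z).choose_spec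
  have hg1 : g ≠ 1 := fun h => hz1 (Subtype.ext (Subtype.ext (Subtype.ext h)))
  obtain ⟨v, hv0, hvv, hgv, huniq⟩ := exists_fixed hF hgn hg1
  have hPfix : ∀ x : PK, mat ((x : K) : Cfsg.SU 3 F q) *ᵥ v = v := by
    intro x
    set y : Cfsg.SU 3 F q := ((x : K) : Cfsg.SU 3 F q) with hy
    have hc : g * y = y * g :=
      congrArg (fun u : PK => ((u : K) : Cfsg.SU 3 F q)) (Subgroup.mem_center_iff.1 z.2 x).symm
    obtain ⟨a, ha⟩ := huniq (mat y *ᵥ v) (by rw [SU_H, hvv])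
      (by rw [← mul_mulVec, hc, mul_mulVec, hgv])
    rw [ha, eq_one_of_smul (sub_one_nilpotent (hpel x).choose_spec) hv0 ha, one_smul]
  have hNfix : ∀ x ∈ Subgroup.normalizer (PK : Set K),
      ∃ c : F, mat (x : Cfsg.SU 3 F q) *ᵥ v = c • v := by
    intro x hx
    refine huniq _ (by rw [SU_H, hvv]) ?_
    have hw : x⁻¹ * ((z : PK) : K) * x ∈ PK := by
      have := (Subgroup.mem_normalizer_iff.1 (inv_mem hx) ((z : PK) : K)).1 (z : PK).2
      simpa using this
    have e : g * (x : Cfsg.SU 3 F q) =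
        (x : Cfsg.SU 3 F q) * ((⟨_, hw⟩ : PK) : K) := by
      show g * (x : Cfsg.SU 3 F q) = (x : Cfsg.SU 3 F q) *
        ((x : Cfsg.SU 3 F q)⁻¹ * g * (x : Cfsg.SU 3 F q))
      group
    rw [← mul_mulVec, e, mul_mulVec, hPfix]
  -- products of `p`-elements of the image are `p`-elements
  have hlift : ∀ y : ↥(Cfsg.qd p), (∃ k, y ^ p ^ k = 1) →
      ∃ x : K, f x = y ∧ Uni v (x : Cfsg.SU 3 F q) := by
    rintro y ⟨k, hk⟩
    obtain ⟨x₀, hx₀⟩ := hf y
    have hmem : x₀ ∈ Subgroup.normalizer (PK : Set K) ⊔ M := hfr ▸ Subgroup.mem_top x₀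
    have hMn : M.Normal := hEn.comap f
    rw [← SetLike.mem_coe, Subgroup.mul_normal, Set.mem_mul] at hmem
    obtain ⟨n₁, hn₁, m₁, hm₁, hprod⟩ := hmem
    rw [SetLike.mem_coe] at hn₁ hm₁
    -- correct by an element of `P`
    have hs : Function.Surjective (f.subgroupComap E) :=
      MonoidHom.subgroupComap_surjective_of_surjective f E hf
    have htop : ((P.mapSurjective hs : Sylow p E) : Subgroup E) = ⊤ :=
      ((P.mapSurjective hs).is_maximal' (hEp.to_subgroup ⊤) le_top).symm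
    obtain ⟨m₂, hm₂, hm₂e⟩ : (⟨f m₁, hm₁⟩ : E) ∈ (P : Subgroup M).map (f.subgroupComap E) := by
      rw [← Sylow.coe_mapSurjective hs P, htop]; exact Subgroup.mem_top _
    set x₁ : K := n₁ * (m₂ : K) with hx₁
    have hx₁N : x₁ ∈ Subgroup.normalizer (PK : Set K) :=
      mul_mem hn₁ (Subgroup.le_normalizer ⟨m₂, hm₂, rfl⟩)
    have hfx₁ : f x₁ = y := by
      have h' : f (m₂ : K) = f m₁ := congrArg Subtype.val hm₂e
      rw [hx₁, map_mul, h', ← map_mul, hprod, hx₀]
    -- pass to the `p`-part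
    obtain ⟨a, b, hb, hab⟩ := Nat.exists_eq_pow_mul_and_not_dvd (orderOf_pos x₁).ne' p
      (Fact.out : p.Prime).ne_one
    have hcop : Nat.Coprime (p ^ k) b :=
      Nat.Coprime.pow_left _ ((Fact.out : p.Prime).coprime_iff_not_dvd.2 hb)
    obtain ⟨e, he1, he2⟩ := Nat.chineseRemainder hcop 1 0
    refine ⟨x₁ ^ e, by rw [map_pow, hfx₁, pow_eq_pow_mod e hk, he1, ← pow_eq_pow_mod 1 hk, pow_one], ?_⟩
    have hpow : (((x₁ ^ e : K)) : Cfsg.SU 3 F q) ^ p ^ a = 1 := by
      obtain ⟨l, hl⟩ := Nat.modEq_zero_iff_dvd.1 he2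
      have h' : (x₁ ^ e) ^ p ^ a = 1 := by
        rw [← pow_mul, hl, show b * l * p ^ a = p ^ a * b * l by ring, ← hab, pow_mul,
          pow_orderOf_eq_one, one_pow]
      exact congrArg Subtype.val h'
    obtain ⟨c, hc⟩ := hNfix _ (pow_mem hx₁N e)
    exact uni_of_nilpotent hF hv0 hvv (sub_one_nilpotent hpow) hc
  -- two elements of order `p` whose product is not a `p`-element
  let U1 : SL(2, ZMod p) := ⟨!![1, 1; 0, 1], by simp [Matrix.det_fin_two]⟩
  let L1 : SL(2, ZMod p) := ⟨!![1, 0; 1, 1], by simp [Matrix.det_fin_two]⟩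
  have hord : ∀ A : SL(2, ZMod p), ((A.1 : Matrix (Fin 2) (Fin 2) (ZMod p)) - 1) ^ 2 = 0 →
      ∃ k, (⟨aff A 0, aff_mem_qd A 0⟩ : ↥(Cfsg.qd p)) ^ p ^ k = 1 := by
    intro A hA
    obtain ⟨k, hk⟩ : ∃ k, 2 ≤ p ^ k := ⟨1, by simpa using (Fact.out : p.Prime).two_le⟩
    refine ⟨k, ?_⟩
    have h1 : ((A.1 : Matrix (Fin 2) (Fin 2) (ZMod p)) - 1) ^ (p ^ k) = 0 := pow_eq_zero_of_le hk hA
    rw [sub_pow_char_pow_of_commute (p := p) _ (Commute.one_right _), one_pow, sub_eq_zero] at h1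
    have hA1 : A ^ p ^ k = 1 := Subtype.ext (by rw [Matrix.SpecialLinearGroup.coe_pow]; exact h1)
    let L : SL(2, ZMod p) →* ↥(Cfsg.qd p) :=
      MonoidHom.mk' (fun A => ⟨aff A 0, aff_mem_qd A 0⟩) fun A B => Subtype.ext (by
        show aff (A * B) 0 = aff A 0 * aff B 0
        rw [aff_mul]; simp)
    show L A ^ p ^ k = 1
    rw [← map_pow, hA1, map_one]
  obtain ⟨x, hxU, hx⟩ := hlift _ (hord U1 (by simp [U1, pow_two]; ext i j; fin_cases i <;> fin_cases j <;> simp [Matrix.mul_apply, Fin.sum_univ_two]))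
  obtain ⟨y, hyL, hy⟩ := hlift _ (hord L1 (by simp [L1, pow_two]; ext i j; fin_cases i <;> fin_cases j <;> simp [Matrix.mul_apply, Fin.sum_univ_two]))
  obtain ⟨k, hk⟩ := uni_pow (p := p) hF (uni_mul hF hx hy)
  have hk' : (x * y) ^ p ^ k = 1 := Subtype.ext hk
  have h1 := congrArg f hk'
  rw [map_pow, map_mul, hxU, hyL, map_one] at h1
  let τ : ↥(Cfsg.qd p) →* Matrix (Fin 3) (Fin 3) (ZMod p) :=
    (Cfsg.slToMat 3 (ZMod p)).comp (Cfsg.qd p).subtype
  have h2 := congrArg τ h1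
  rw [map_pow, map_mul, map_one] at h2
  have hτ : τ ⟨aff U1 0, aff_mem_qd U1 0⟩ * τ ⟨aff L1 0, aff_mem_qd L1 0⟩ =
      1 + !![1, 1, 0; 1, 0, 0; 0, 0, 0] := by
    show (aff U1 0).1 * (aff L1 0).1 = _
    ext i j
    fin_cases i <;> fin_cases j <;> simp [aff, U1, L1, Matrix.mul_apply, Fin.sum_univ_three]
  rw [hτ] at h2
  set N : Matrix (Fin 3) (Fin 3) (ZMod p) := !![1, 1, 0; 1, 0, 0; 0, 0, 0] with hNdef
  have hnil : IsNilpotent N := by
    refine ⟨p ^ k, ?_⟩
    have := add_pow_char_pow_of_commute (p := p) k (Commute.one_left N)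
    rw [h2, one_pow, left_eq_add] at this
    exact this
  have hrel : N * (N * N - N - 1) = 0 := by
    ext i j
    fin_cases i <;> fin_cases j <;> simp [hNdef, Matrix.mul_apply, Fin.sum_univ_three]
  have hu : IsUnit (N * N - N - 1) := by
    refine IsNilpotent.isUnit_sub_one ?_
    rw [show N * N - N = N * (N - 1) by rw [mul_sub, mul_one]]
    exact (((Commute.refl N).sub_right (Commute.one_right N))).isNilpotent_mul_right hnil
  rw [hu.mul_left_eq_zero] at hrel
  have := congrFun (congrFun hrel 0) 1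
  simp [hNdef] at this

theorem not_involves_PSU : ¬ Cfsg.Involves ↥(Cfsg.qd p) (Cfsg.PSU 3 F q) := fun h =>
  not_involves_SU (p := p) hF (involves_trans (L := (⊤ : Subgroup (Cfsg.SU 3 F q)))
    ((QuotientGroup.mk' (Subgroup.center (Cfsg.SU 3 F q))).comp (⊤ : Subgroup (Cfsg.SU 3 F q)).subtype)
    (fun y => by
      obtain ⟨x, rfl⟩ := QuotientGroup.mk'_surjective _ y
      exact ⟨⟨x, Subgroup.mem_top x⟩, rfl⟩) h)

end Cfsg.Agent.SimpleFacts.UnitaryThreeSections
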