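import Cfsg.Agent.SimpleFacts.ChevalleyChar
import Cfsg.Agent.Lib.Chevalley.NormalForm
import Cfsg.Agent.Lib.Chevalley.Count

/-!
Diagonal matrices attached to characters of the root lattice: their action on root elements, and those
which lie in the group lie in `H`.
-/

set_option autoImplicit false

namespace Cfsg.Agent.SimpleFacts.ChevalleyDiag

open Cfsg.Lie Cfsg.Agent.Chevalley.Table Cfsg.Agent.Chevalley.Cert Cfsg.Agent.Chevalley.Root
  Cfsg.Agent.Chevalley.Diag Cfsg.Agent.Chevalley.Group Cfsg.Agent.Chevalley.Unip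
  Cfsg.Agent.Chevalley.Borel Cfsg.Agent.Chevalley.Weight Cfsg.Agent.SimpleFacts.ChevalleyChar

variable {D : ChevalleyDatum} {T : Tab} {F : Type*} [Field F]

theorem charDiag_eq (χ : ℕ → Fˣ) : D.charDiag F χ = dMat D F (fun s => (χ s : F)) := rfl

variable (hC : Certified D T) (hc : consChk T = true)
include hC hc

theorem charDiag_conj_x {χ : ℕ → Fˣ} (hχ : D.IsRootCharacter χ) {r : ℕ} (hr : r < D.nroots) (t : F) :
    D.charDiag F χ * D.x F r t * D.charDiag F (fun s => (χ s)⁻¹) = D.x F r ((χ r : F) * t) := by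
  rw [charDiag_eq, charDiag_eq, dMat_conj_x hC (isMulChar hC hc hχ) hr t, mul_assoc, dMat_mul,
    dMat_congr (χ' := fun _ => (1 : F)) fun s _ => by simp, dMat_one, mul_one]

theorem dg_conj_xg {χ : ℕ → Fˣ} (hχ : D.IsRootCharacter χ) {r : ℕ} (hr : r < D.nroots) (t : F) :
    dg D F χ * xg hC r t * (dg D F χ)⁻¹ = xg hC r ((χ r : F) * t) := by
  rw [mul_inv_eq_iff_eq_mul]
  apply Units.ext
  rw [Units.val_mul, Units.val_mul, coe_dg, coe_xg, coe_xg]
  exact dMat_conj_x hC (isMulChar hC hc hχ) hr t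

theorem dg_conj_B {χ : ℕ → Fˣ} (hχ : D.IsRootCharacter χ) {g : GL D.Idx F}
    (hg : g ∈ D.borelSubgroup F) : dg D F χ * g * (dg D F χ)⁻¹ ∈ D.borelSubgroup F := by
  obtain ⟨u, hu, h, hh, rfl⟩ := (mem_B_iff hC).1 hg
  obtain ⟨c, rfl⟩ := (mem_H_iff hC).1 hh
  have h1 : ∀ u ∈ D.posUnipotent F, dg D F χ * u * (dg D F χ)⁻¹ ∈ D.posUnipotent F := by
    intro u hu
    rw [U_eq_closure hC] at hu
    induction hu using Subgroup.closure_induction with
    | mem x hx =>
      obtain ⟨r, t, hr, hp, rfl⟩ := hx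
      rw [dg_conj_xg hC hc hχ hr]
      exact xg_mem_U hC hr hp _
    | one => simp
    | mul x y _ _ ihx ihy =>
      rw [show dg D F χ * (x * y) * (dg D F χ)⁻¹ =
        (dg D F χ * x * (dg D F χ)⁻¹) * (dg D F χ * y * (dg D F χ)⁻¹) by group]
      exact mul_mem ihx ihy
    | inv x _ ih =>
      rw [show dg D F χ * x⁻¹ * (dg D F χ)⁻¹ = (dg D F χ * x * (dg D F χ)⁻¹)⁻¹ by group]
      exact inv_mem ih
  have e : dg D F χ * tor D c * (dg D F χ)⁻¹ = tor D c := by
    rw [tor, dg_inv, dg_mul, dg_mul, mul_comm χ, mul_inv_cancel_right]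
  rw [show dg D F χ * (u * tor D c) * (dg D F χ)⁻¹ =
    (dg D F χ * u * (dg D F χ)⁻¹) * (dg D F χ * tor D c * (dg D F χ)⁻¹) by group, e]
  exact mul_mem (Subgroup.mem_sup_left (h1 u hu)) (Subgroup.mem_sup_right (tor_mem_H hC c))

theorem dg_mem_H {χ : ℕ → Fˣ} (hχ : D.IsRootCharacter χ) (hg : dg D F χ ∈ D.group F) :
    dg D F χ ∈ D.diagonalSubgroup F := by
  obtain ⟨b, hb, n, hn, u, hu, e⟩ := Cfsg.Agent.Chevalley.NormalForm.exists_form hC hg
  obtain ⟨c, L, hL, rfl⟩ := (mem_N_iff hC).1 hn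
  have hinv : D.IsRootCharacter (fun s => (χ s)⁻¹) :=
    ⟨fun r hr => by simp only [hχ.1 r hr], fun r s k hr hs h => by simp only [hχ.2 r s k hr hs h, mul_inv]⟩
  -- `n = d β` with `β ∈ B`
  have hβ : (dg D F χ)⁻¹ * (tor D c * nL hC F L) ∈ D.borelSubgroup F := by
    have h1 : (dg D F χ)⁻¹ * (tor D c * nL hC F L) =
        (dg D F χ)⁻¹ * b⁻¹ * (dg D F χ) * u⁻¹ := by
      rw [show tor D c * nL hC F L = b⁻¹ * dg D F χ * u⁻¹ by rw [e]; group]
      group
    rw [h1]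
    refine mul_mem ?_ (inv_mem (Subgroup.mem_sup_left
      (Cfsg.Agent.Chevalley.NormalForm.Uminus_le_U hC _ hu)))
    have h2 := dg_conj_B hC hc hinv (inv_mem hb)
    rw [show dg D F (fun s => (χ s)⁻¹) = (dg D F χ)⁻¹ from (dg_inv χ).symm, inv_inv] at h2
    exact h2
  have hpos : ∀ i < D.rank, 0 < T.phi (wL D L (D.simple i)) := by
    intro i hi
    by_contra hcon
    have hr := wL_lt hC hL (hC.simple_lt hi)
    have hneg : T.phi (wL D L (D.simple i)) < 0 := by have := hC.phi_ne_zero hr; omega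
    obtain ⟨η, hη, en⟩ := nL_conj_x (F := F) hC hL (hC.simple_lt hi)
    have hxB : xg hC (D.simple i) (1 : F) ∈ D.borelSubgroup F :=
      Subgroup.mem_sup_left (xg_mem_U hC (hC.simple_lt hi) (hC.phi_simple hi) 1)
    have h1 := dg_conj_B hC hc hχ (mul_mem (mul_mem hβ hxB) (inv_mem hβ))
    rw [show dg D F χ * ((dg D F χ)⁻¹ * (tor D c * nL hC F L) * xg hC (D.simple i) 1 *
          ((dg D F χ)⁻¹ * (tor D c * nL hC F L))⁻¹) * (dg D F χ)⁻¹ =
        tor D c * (nL hC F L * xg hC (D.simple i) 1 * (nL hC F L)⁻¹) * (tor D c)⁻¹ by group, en,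
      tor_conj_x hC _ _ _ hr] at h1
    have h2 : xg hC (wL D L (D.simple i)) ((torChar D c (wL D L (D.simple i)) : F) * (η * 1)) ∈
        (⊥ : Subgroup (GL D.Idx F)) := by
      rw [← B_inf_V hC]
      exact ⟨h1, xg_mem_V hC hr hneg _⟩
    rw [Subgroup.mem_bot, ← xg_zero hC (wL D L (D.simple i))] at h2
    exact mul_ne_zero (Units.ne_zero _) (mul_ne_zero hη one_ne_zero) (xg_injective hC hr h2)
  obtain ⟨d, hd⟩ := Cfsg.Agent.Chevalley.Weyl.exists_tor_of_pos (F := F) hC hL hpos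
  -- so `g` lies in `B`
  have hgB : dg D F χ ∈ D.borelSubgroup F := by
    have : dg D F χ = (tor D c * nL hC F L) * ((dg D F χ)⁻¹ * (tor D c * nL hC F L))⁻¹ := by group
    rw [this, hd, tor_mul]
    rw [hd, tor_mul] at hβ
    exact mul_mem (Subgroup.mem_sup_right (tor_mem_H hC _)) (inv_mem hβ)
  obtain ⟨v, hv, h, hh, ev⟩ := (mem_B_iff hC).1 hgB
  obtain ⟨c', rfl⟩ := (mem_H_iff hC).1 hh
  have hv' : v = dg D F (χ * (torChar D c')⁻¹) := by
    rw [← dg_mul, ← dg_inv, ev]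
    exact (mul_inv_cancel_right v (tor D c')).symm
  suffices v = 1 by rw [ev, this, one_mul]; exact tor_mem_H hC c'
  have hU := U_le_UT hC hv
  apply Units.ext
  ext a b
  by_cases hab : a = b
  · subst hab
    by_contra hne
    have h2 : ((v : Matrix D.Idx D.Idx F) - 1) a a ≠ 0 := by
      rw [Matrix.sub_apply]
      exact sub_ne_zero.2 (by simpa using hne)
    have := hU.1 a a h2
    omega
  · rw [Units.val_one, Matrix.one_apply_ne hab, hv', coe_dg, dMat, Matrix.diagonal_apply_ne _ hab]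

end Cfsg.Agent.SimpleFacts.ChevalleyDiag
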