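import Cfsg.Agent.Lib.Chevalley.Borel

/-!
The group is generated by the root elements of the fundamental roots and their negatives.
-/

set_option autoImplicit false

namespace Cfsg.Agent.SimpleFacts.ChevalleyGen

open Cfsg.Lie Cfsg.Agent.Chevalley.Table Cfsg.Agent.Chevalley.Cert Cfsg.Agent.Chevalley.Group
  Cfsg.Agent.Chevalley.Borel

variable {D : ChevalleyDatum} {T : Tab} {F : Type*} [Field F] (hC : Certified D T)
include hC

theorem group_le {K : Subgroup (GL D.Idx F)}
    (h : ∀ i < D.rank, ∀ t : F, xg hC (D.simple i) t ∈ K ∧ xg hC (D.neg (D.simple i)) t ∈ K) :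
    D.group F ≤ K := by
  rw [group_eq_closure hC, Subgroup.closure_le]
  rintro g ⟨r, t, hr, rfl⟩
  revert t
  refine Cfsg.Agent.Chevalley.Root.simple_induction hC (P := fun r => ∀ t : F, xg hC r t ∈ K)
    (fun i hi t => (h i hi t).1) (fun r hr i hi ih t => ?_) r hr
  have hn : ng hC (D.simple i) (1 : F) ∈ K :=
    mul_mem (mul_mem (h i hi _).1 (h i hi _).2) (h i hi _).1
  obtain ⟨η, hη0, hη⟩ : ∃ η : F, η ≠ 0 ∧ η = (T.eta i r : F) := by
    refine ⟨_, ?_, rfl⟩
    rcases Certified.eta_cases (T := T) i r with e | e <;> simp [e]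
  have := mul_mem (mul_mem hn (ih (η⁻¹ * t))) (inv_mem hn)
  rwa [ng_conj_x hC hi hr, ← hη, mul_inv_cancel_left₀ hη0] at this

/-- Two homomorphisms agreeing on the fundamental root elements and their negatives are equal. -/
theorem hom_ext {M : Type*} [Group M] (f g : D.group F →* M)
    (h : ∀ (y : D.group F) (i : ℕ) (t : F), i < D.rank →
      ((y : GL D.Idx F) : Matrix D.Idx D.Idx F) = D.x F (D.simple i) t ∨
        ((y : GL D.Idx F) : Matrix D.Idx D.Idx F) = D.x F (D.neg (D.simple i)) t → f y = g y) :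
    f = g := by
  refine MonoidHom.ext fun y => ?_
  have hle : D.group F ≤ (f.eqLocus g).map (D.group F).subtype := by
    refine group_le hC fun i hi t => ⟨?_, ?_⟩
    · exact ⟨⟨_, xg_mem_group hC (hC.simple_lt hi) t⟩, h _ i t hi (Or.inl rfl), rfl⟩
    · exact ⟨⟨_, xg_mem_group hC (hC.neg_lt (hC.simple_lt hi)) t⟩, h _ i t hi (Or.inr rfl), rfl⟩
  obtain ⟨y', hy', e⟩ := hle y.2
  exact Subtype.ext e ▸ hy'

end Cfsg.Agent.SimpleFacts.ChevalleyGen
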