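import Cfsg.Agent.SimpleFacts.ChevalleyPairCentralizer
import Cfsg.Agent.Lib.Chevalley.Types.F4

/-!
The centralisers of the two products of a long and a short root element in `F₄`, characteristic two.
-/

set_option autoImplicit false

open scoped Matrix

namespace Cfsg.Agent.SimpleFacts.ChevalleyF4Pairs

open Cfsg.Lie Cfsg.Agent.Chevalley.Table Cfsg.Agent.Chevalley.Cert Cfsg.Agent.Chevalley.Group
  Cfsg.Agent.Chevalley.Unip Cfsg.Agent.Chevalley.Borel Cfsg.Agent.Chevalley.Bruhat
  Cfsg.Agent.Chevalley.Weyl Cfsg.Agent.Chevalley.NormalForm Cfsg.Agent.Chevalley.Relations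
  Cfsg.Agent.SimpleFacts.ChevalleyPairCentralizer

theorem hC : Certified chevF4 Cfsg.Agent.Chevalley.Data.F4.tab :=
  Cfsg.Agent.Chevalley.Types.F4.certified

/-- Root elements of `r` and `s` commute in characteristic two. -/
def okPair (r s : ℕ) : Bool :=
  r == s || (s != chevF4.neg r && (chevF4.commTerms r s).all fun c => c.2.1 % 2 == 0)

variable {F : Type*} [Field F] (h2 : (2 : F) = 0)

include h2 in
theorem comm_of_ok {r s : ℕ} (hr : r < chevF4.nroots) (hs : s < chevF4.nroots)
    (h : okPair r s = true) (t u : F) : Commute (xg hC r t) (xg hC s u) := by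
  simp only [okPair, Bool.or_eq_true, beq_iff_eq, Bool.and_eq_true, bne_iff_ne, List.all_eq_true] at h
  rcases eq_or_ne r s with rfl | hne
  · rw [commute_iff_eq, ← xg_add hC, ← xg_add hC, add_comm]
  obtain ⟨hn, hev⟩ := h.resolve_left hne
  have hx := xg_comm hC hr hs (Ne.symm hne) hn t u
  have hone : ((chevF4.commWord F r s t u).map fun p => xg hC p.1 p.2).prod = 1 := by
    refine List.prod_eq_one fun x hx => ?_
    obtain ⟨p, hp', rfl⟩ := List.mem_map.1 hx
    simp only [ChevalleyDatum.commWord, List.mem_map] at hp'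
    obtain ⟨c, hcm, rfl⟩ := hp'
    obtain ⟨d, hd⟩ := Int.dvd_of_emod_eq_zero (hev c hcm)
    rw [hd, Int.cast_mul, Int.cast_ofNat, h2]
    simp only [zero_mul]
    exact xg_zero hC _
  rw [hone, mul_one] at hx
  exact hx.symm

theorem centralizes {S : Set (GL chevF4.Idx F)} {a b : ℕ} (s t : F)
    (h : ∀ g ∈ S, ∀ x y : F, Commute g (xg hC a x) ∧ Commute g (xg hC b y)) :
    Subgroup.closure S ≤ Subgroup.centralizer {xg hC a s * xg hC b t} := by
  rw [Subgroup.closure_le]
  intro g hg
  rw [SetLike.mem_coe, Subgroup.mem_centralizer_singleton_iff]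
  exact ((h g hg s t).1.mul_right (h g hg s t).2).eq

theorem prodX_mul {L : List ℕ} (hcomm : ∀ r ∈ L, ∀ s ∈ L, ∀ t u : F,
    Commute (xg hC r t) (xg hC s u)) (f g : ℕ → F) :
    prodX hC L f * prodX hC L g = prodX hC L (fun r => f r + g r) := by
  induction L with
  | nil => simp [prodX]
  | cons a l ih =>
    have h : Commute (prodX hC l f) (xg hC a (g a)) := by
      refine Commute.list_prod_left _ _ fun y hy => ?_
      obtain ⟨r, hr, rfl⟩ := List.mem_map.1 hy
      exact hcomm r (List.mem_cons_of_mem _ hr) a List.mem_cons_self _ _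
    have ih' := ih fun r hr s hs => hcomm r (List.mem_cons_of_mem _ hr) s (List.mem_cons_of_mem _ hs)
    simp only [prodX, List.map_cons, List.prod_cons] at h ih' ⊢
    rw [xg_add hC, ← ih']
    calc xg hC a (f a) * (List.map (fun r => xg hC r (f r)) l).prod *
          (xg hC a (g a) * (List.map (fun r => xg hC r (g r)) l).prod)
        = xg hC a (f a) * ((List.map (fun r => xg hC r (f r)) l).prod * xg hC a (g a)) *
          (List.map (fun r => xg hC r (g r)) l).prod := by group
      _ = _ := by rw [h.eq]; group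

theorem tor_conj_prodX {L : List ℕ} (hL : ∀ r ∈ L, r < chevF4.nroots) (c : ℕ → Fˣ) (f : ℕ → F) :
    tor chevF4 c * prodX hC L f * (tor chevF4 c)⁻¹ =
      prodX hC L (fun r => (torChar chevF4 c r : F) * f r) := by
  rw [prodX, prodX, ← MulAut.conj_apply, map_list_prod, List.map_map]
  refine congrArg List.prod (List.map_congr_left fun r hr => ?_)
  simp only [Function.comp_apply, MulAut.conj_apply]
  exact tor_conj_x hC c r (f r) (hL r hr)

theorem tor_mem {K : Subgroup (GL chevF4.Idx F)} (c : ℕ → Fˣ)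
    (h : ∀ i < chevF4.rank, c i = 1 ∨ (∀ t : F, xg hC (chevF4.simple i) t ∈ K) ∧
      ∀ t : F, xg hC (chevF4.neg (chevF4.simple i)) t ∈ K) : tor chevF4 c ∈ K := by
  rw [tor_eq_prod hC]
  refine list_prod_mem fun x hx => ?_
  obtain ⟨i, hi, rfl⟩ := List.mem_map.1 hx
  have hi' := List.mem_range.1 hi
  rcases h i hi' with h0 | ⟨h1, h1'⟩
  · rw [h0, hg_eq_tor hC (hC.simple_lt hi')]
    convert one_mem K
    rw [← tor_one (D := chevF4) (F := F)]
    congr 1
    funext j
    exact one_zpow _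
  · exact mul_mem (mul_mem (mul_mem (h1 _) (h1' _)) (h1 _)) (mul_mem (mul_mem (h1 _) (h1' _)) (h1 _))

theorem rootSubgroup_mem (r : ℕ) (t : F) : xg hC r t ∈ chevF4.rootSubgroup F r :=
  (mem_rootSubgroup hC).2 ⟨t, rfl⟩

/-- The short roots. -/
def shortRoots : List ℕ :=
  [3, 7, 8, 9, 10, 11, 12, 13, 14, 18, 19, 20, 27, 28, 29, 33, 34, 35, 36, 37, 38, 39, 40, 44]

theorem short_closed : (shortRoots.all fun s =>
    (List.range chevF4.rank).all fun i => shortRoots.contains (chevF4.reflectRoot i s)) = true := by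
  decide +kernel

theorem wL_short {L : List ℕ} (hL : ∀ i ∈ L, i < chevF4.rank) {r : ℕ} (hr : r ∈ shortRoots) :
    wL chevF4 L r ∈ shortRoots := by
  induction L with
  | nil => exact hr
  | cons i L ih =>
    have h := short_closed
    simp only [List.all_eq_true, List.mem_range, List.contains_iff_mem] at h
    exact h _ (ih fun j hj => hL j (List.mem_cons_of_mem i hj)) i (hL i List.mem_cons_self)

theorem pos_of {r : ℕ} (h : (decide (r < chevF4.nroots) && decide (chevF4.IsPosRoot r)) = true) :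
    r < chevF4.nroots ∧ 0 < Cfsg.Agent.Chevalley.Data.F4.tab.phi r := by
  simp only [Bool.and_eq_true, decide_eq_true_eq] at h
  exact ⟨h.1, (hC.posRoot_iff h.1).1 h.2⟩

theorem lam_nonneg (a b : ℕ) (x y : ℤ)
    (h : (chevF4.posRoots.all fun r => decide (0 ≤ x * pair chevF4 a r + y * pair chevF4 b r)) = true) :
    ∀ r < chevF4.nroots, 0 < Cfsg.Agent.Chevalley.Data.F4.tab.phi r →
      0 ≤ (([(a, x), (b, y)] : List (ℕ × ℤ)).map fun p => p.2 * pair chevF4 p.1 r).sum := by
  intro r hr hp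
  rw [List.all_eq_true] at h
  simpa using h r ((mem_posRoots hC).2 ⟨hr, hp⟩)

/-! ### `w = x₄₇(1) x₄₄(1)` -/

/-- The centraliser of `w`. -/
def Cw (F : Type*) [Field F] : Subgroup (GL chevF4.Idx F) :=
  chevF4.posUnipotent F ⊔ chevF4.rootSubgroup F 20 ⊔ chevF4.rootSubgroup F 22

theorem xg_mem_Cw {r : ℕ}
    (hr : r = 20 ∨ r = 22 ∨ (r < chevF4.nroots ∧ 0 < Cfsg.Agent.Chevalley.Data.F4.tab.phi r)) (t : F) :
    xg hC r t ∈ Cw F := by
  rcases hr with rfl | rfl | ⟨hlt, hp⟩
  · exact Subgroup.mem_sup_left (Subgroup.mem_sup_right (rootSubgroup_mem 20 t))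
  · exact Subgroup.mem_sup_right (rootSubgroup_mem 22 t)
  · exact Subgroup.mem_sup_left (Subgroup.mem_sup_left (xg_mem_U hC hlt hp t))

theorem w_simple : ((List.range chevF4.rank).all fun j =>
    (chevF4.cartan j 47 != 0 || chevF4.cartan j 44 != 0) ||
      (decide (chevF4.IsPosRoot (chevF4.simple j)) &&
        (chevF4.neg (chevF4.simple j) == 20 || chevF4.neg (chevF4.simple j) == 22))) = true := by
  decide +kernel

theorem w_ok : ((chevF4.posRoots ++ [20, 22]).all fun r =>
    okPair r 47 && okPair r 44 && decide (r < chevF4.nroots)) = true := by decide +kernel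

theorem w_gt : ((List.range chevF4.rank).all fun j =>
    (chevF4.cartan j 47 == 0 && chevF4.cartan j 44 == 0) ||
      decide (0 < pair chevF4 47 (chevF4.simple j) + pair chevF4 44 (chevF4.simple j))) = true := by
  decide +kernel

include h2 in
theorem Cw_le : Cw F ≤ Subgroup.centralizer {xg hC 47 (1 : F) * xg hC 44 1} := by
  have h := w_ok
  simp only [List.all_eq_true, List.mem_append, Bool.and_eq_true, decide_eq_true_eq] at h
  have hc : ∀ r, r ∈ chevF4.posRoots ∨ r ∈ [20, 22] → ∀ c : F,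
      xg hC r c ∈ Subgroup.centralizer {xg hC 47 (1 : F) * xg hC 44 1} := by
    intro r hr c
    rw [Subgroup.mem_centralizer_singleton_iff]
    obtain ⟨⟨h47, h44⟩, hlt⟩ := h r hr
    exact ((comm_of_ok h2 hlt (by decide +kernel) h47 c 1).mul_right
      (comm_of_ok h2 hlt (by decide +kernel) h44 c 1)).eq
  refine sup_le (sup_le ?_ ?_) ?_
  · rw [U_eq_closure hC, Subgroup.closure_le]
    rintro g ⟨r, c, hr, hp, rfl⟩
    exact hc r (Or.inl ((mem_posRoots hC).2 ⟨hr, hp⟩)) c
  · intro g hg
    obtain ⟨c, rfl⟩ := (mem_rootSubgroup hC).1 hg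
    exact hc 20 (Or.inr (by simp)) c
  · intro g hg
    obtain ⟨c, rfl⟩ := (mem_rootSubgroup hC).1 hg
    exact hc 22 (Or.inr (by simp)) c

include h2 in
theorem centralizer_w :
    chevF4.group F ⊓ Subgroup.centralizer {xg hC 47 (1 : F) * xg hC 44 1} = Cw F := by
  refine le_antisymm ?_ (le_inf ?_ (Cw_le h2))
  swap
  · refine sup_le (sup_le ((le_sup_left).trans (U_sup_V hC).le) ?_) ?_ <;>
      (intro g hg; obtain ⟨c, rfl⟩ := (mem_rootSubgroup hC).1 hg
       exact xg_mem_group hC (by decide +kernel) c)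
  rintro g ⟨hg, hgc⟩
  obtain ⟨b, hb, n, hn, u, hu, rfl⟩ := exists_form hC hg
  obtain ⟨v, hv, h, hh, rfl⟩ := (mem_B_iff hC).1 hb
  obtain ⟨d, rfl⟩ := (mem_H_iff hC).1 hh
  obtain ⟨c, L, hL, rfl⟩ := (mem_N_iff hC).1 hn
  have hu' : u ∈ Cw F := Subgroup.mem_sup_left (Subgroup.mem_sup_left (Uminus_le_U hC _ hu))
  have hv' : v ∈ Cw F := Subgroup.mem_sup_left (Subgroup.mem_sup_left hv)
  have hm : tor chevF4 (d * c) * nL hC F L ∈
      Subgroup.centralizer {xg hC 47 (1 : F) * xg hC 44 1} := by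
    have := mul_mem (mul_mem (inv_mem (Cw_le h2 hv')) hgc) (inv_mem (Cw_le h2 hu'))
    rw [← tor_mul]
    simpa [mul_assoc] using this
  have hS : ∀ r ∈ [47, 44], r < chevF4.nroots ∧ 0 < Cfsg.Agent.Chevalley.Data.F4.tab.phi r := by
    intro r hr
    simp only [List.mem_cons, List.not_mem_nil, or_false] at hr
    rcases hr with rfl | rfl <;> exact pos_of (by decide +kernel)
  have hcomm : ∀ r ∈ [47, 44], ∀ s ∈ [47, 44], ∀ t u : F, Commute (xg hC r t) (xg hC s u) := by
    intro r hr s hs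
    refine comm_of_ok h2 (hS r hr).1 (hS s hs).1 ?_
    simp only [List.mem_cons, List.not_mem_nil, or_false] at hr hs
    rcases hr with rfl | rfl <;> rcases hs with rfl | rfl <;> decide +kernel
  have hP : prodX hC [47, 44] (fun _ => (1 : F)) = xg hC 47 (1 : F) * xg hC 44 1 := by simp [prodX]
  have hmem := support hC (by decide) hS hcomm hL (d * c) (f := fun _ => (1 : F))
    (g := fun _ => (1 : F)) (by rw [hP, Subgroup.mem_centralizer_singleton_iff.1 hm]; group)
  have h47 : wL chevF4 L 47 = 47 := by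
    have h := hmem 47 (by simp) one_ne_zero
    simp only [List.mem_cons, List.not_mem_nil, or_false] at h
    refine h.resolve_right fun e => ?_
    have h' := wL_short (L := L.reverse) (fun i hi => hL i (List.mem_reverse.1 hi)) (r := 44) (by decide)
    rw [← e, wL_reverse hC hL (hS 47 (by simp)).1] at h'
    revert h'
    decide
  have h44 : wL chevF4 L 44 = 44 := by
    have h := hmem 44 (by simp) one_ne_zero
    simp only [List.mem_cons, List.not_mem_nil, or_false] at h
    refine h.resolve_left fun e => ?_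
    have h' := congrArg (wL chevF4 L.reverse) (e.trans h47.symm)
    rw [wL_reverse hC hL (hS 44 (by simp)).1, wL_reverse hC hL (hS 47 (by simp)).1] at h'
    omega
  have hsimp := w_simple
  simp only [List.all_eq_true, List.mem_range, Bool.or_eq_true, bne_iff_ne, Bool.and_eq_true,
    decide_eq_true_eq, beq_iff_eq] at hsimp
  have hx : ∀ j < chevF4.rank, chevF4.cartan j 47 = 0 → chevF4.cartan j 44 = 0 →
      (∀ t : F, xg hC (chevF4.simple j) t ∈ Cw F) ∧
        ∀ t : F, xg hC (chevF4.neg (chevF4.simple j)) t ∈ Cw F := by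
    intro j hj a1 a2
    rcases hsimp j hj with (h | h) | ⟨-, h⟩
    · exact absurd a1 h
    · exact absurd a2 h
    · exact ⟨xg_mem_Cw (Or.inr (Or.inr ⟨hC.simple_lt hj, hC.phi_simple hj⟩)),
        xg_mem_Cw (h.imp_right Or.inl)⟩
  obtain ⟨e, k, hk, ek⟩ := nL_mem_stab (As := [(47, 1), (44, 1)]) (K := Cw F) hC
    (by simp only [List.mem_cons, List.not_mem_nil, or_false]; rintro a (rfl | rfl) <;> decide +kernel)
    (fun j hj h0 => by
      obtain ⟨a1, a2⟩ := hx j hj (h0 (47, 1) (by simp)) (h0 (44, 1) (by simp))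
      exact mul_mem (mul_mem (a1 _) (a2 _)) (a1 _))
    (lam_nonneg 47 44 1 1 (by decide +kernel))
    (fun j hj => by
      have h := w_gt
      simp only [List.all_eq_true, List.mem_range, Bool.or_eq_true, Bool.and_eq_true, beq_iff_eq,
        decide_eq_true_eq] at h
      refine (h j hj).imp (fun h => ?_) fun h => ?_
      · simp only [List.mem_cons, List.not_mem_nil, or_false]
        rintro a (rfl | rfl)
        exacts [h.1, h.2]
      · simpa using h)
    hL (by simp only [List.mem_cons, List.not_mem_nil, or_false]; rintro a (rfl | rfl)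
           exacts [h47, h44])
  have hτ : tor chevF4 (d * c * e) ∈ Subgroup.centralizer {xg hC 47 (1 : F) * xg hC 44 1} := by
    have := mul_mem hm (inv_mem (Cw_le h2 hk))
    rwa [ek, ← mul_assoc, tor_mul, mul_inv_cancel_right] at this
  have hχ := coeff_unique hC (L := [47, 44]) (by decide) hS hcomm
    (f := fun r => (torChar chevF4 (d * c * e) r : F) * 1) (g := fun _ => (1 : F)) (by
      rw [← tor_conj_prodX (fun r hr => (hS r hr).1) (d * c * e) fun _ => (1 : F), hP,
        Subgroup.mem_centralizer_singleton_iff.1 hτ, mul_inv_cancel_right])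
  have hc3 : (d * c * e) 3 = 1 := by
    have h := hχ 47 (by simp)
    rw [mul_one, ← Units.val_one, Units.val_inj, torChar, show chevF4.rank = 4 from rfl] at h
    simp only [Finset.prod_range_succ, Finset.prod_range_zero,
      show chevF4.cartan 0 47 = 0 by decide +kernel, show chevF4.cartan 1 47 = 0 by decide +kernel,
      show chevF4.cartan 2 47 = 0 by decide +kernel, show chevF4.cartan 3 47 = 1 by decide +kernel,
      zpow_zero, zpow_one, one_mul] at h
    exact h
  have hc0 : (d * c * e) 0 = 1 := by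
    have h := hχ 44 (by simp)
    rw [mul_one, ← Units.val_one, Units.val_inj, torChar, show chevF4.rank = 4 from rfl] at h
    simp only [Finset.prod_range_succ, Finset.prod_range_zero,
      show chevF4.cartan 0 44 = 1 by decide +kernel, show chevF4.cartan 1 44 = 0 by decide +kernel,
      show chevF4.cartan 2 44 = 0 by decide +kernel, show chevF4.cartan 3 44 = 0 by decide +kernel,
      zpow_zero, zpow_one, one_mul, mul_one] at h
    exact h
  have hτK : tor chevF4 (d * c * e) ∈ Cw F := by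
    refine tor_mem _ fun i hi => ?_
    have h4 : i = 0 ∨ i = 1 ∨ i = 2 ∨ i = 3 := by
      rw [show chevF4.rank = 4 from rfl] at hi; omega
    rcases h4 with rfl | rfl | rfl | rfl
    · exact Or.inl hc0
    · exact Or.inr (hx 1 hi (by decide +kernel) (by decide +kernel))
    · exact Or.inr (hx 2 hi (by decide +kernel) (by decide +kernel))
    · exact Or.inl hc3
  have e2 : v * tor chevF4 d * (tor chevF4 c * nL hC F L) * u =
      v * tor chevF4 (d * c * e) * k * u := by
    rw [ek, ← tor_mul, ← tor_mul]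
    group
  rw [e2]
  exact mul_mem (mul_mem (mul_mem hv' hτK) hk) hu'

/-! ### `v = x₃₉(1) x₄₅(1)` -/

/-- The centraliser of `v`. -/
def Cv (F : Type*) [Field F] : Subgroup (GL chevF4.Idx F) :=
  chevF4.rootSubgroup F 33 ⊔ chevF4.rootSubgroup F 14 ⊔ chevF4.rootSubgroup F 24 ⊔
    chevF4.rootSubgroup F 23 ⊔ Subgroup.closure {g : GL chevF4.Idx F | ∃ (r : ℕ) (c : F),
      chevF4.IsPosRoot r ∧ r ∉ [27, 25, 34, 26] ∧
        (g : Matrix chevF4.Idx chevF4.Idx F) = chevF4.x F r c}

theorem xg_mem_Cv {r : ℕ}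
    (hr : r = 14 ∨ r = 23 ∨ (r < chevF4.nroots ∧ 0 < Cfsg.Agent.Chevalley.Data.F4.tab.phi r ∧
      r ∉ [27, 25, 34, 26])) (t : F) : xg hC r t ∈ Cv F := by
  rcases hr with rfl | rfl | ⟨hlt, hp, hne⟩
  · exact Subgroup.mem_sup_left (Subgroup.mem_sup_left (Subgroup.mem_sup_left
      (Subgroup.mem_sup_right (rootSubgroup_mem 14 t))))
  · exact Subgroup.mem_sup_left (Subgroup.mem_sup_right (rootSubgroup_mem 23 t))
  · exact Subgroup.mem_sup_right (Subgroup.subset_closure
      ⟨r, t, (hC.posRoot_iff hlt).2 hp, hne, coe_xg hC r t⟩)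

theorem v_ok : ((chevF4.posRoots.filter (fun r => !([27, 25, 34, 26] : List ℕ).contains r) ++ [14, 23]).all
    fun r => okPair r 39 && okPair r 45 && decide (r < chevF4.nroots)) = true := by decide +kernel

include h2 in
theorem Cv_commute {g : GL chevF4.Idx F} (hg : g ∈ Cv F) (s t : F) :
    g ∈ Subgroup.centralizer {xg hC 39 s * xg hC 45 t} := by
  have h := v_ok
  simp only [List.all_eq_true, List.mem_append, Bool.and_eq_true, decide_eq_true_eq] at h
  have hc : ∀ r, (r < chevF4.nroots ∧ 0 < Cfsg.Agent.Chevalley.Data.F4.tab.phi r ∧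
      r ∉ [27, 25, 34, 26]) ∨ r ∈ [14, 23] → ∀ c : F,
      xg hC r c ∈ Subgroup.centralizer {xg hC 39 s * xg hC 45 t} := by
    intro r hr c
    have hr' : r ∈ chevF4.posRoots.filter (fun r => !([27, 25, 34, 26] : List ℕ).contains r) ∨
        r ∈ [14, 23] := hr.imp_left fun ⟨h1, h2', h3⟩ =>
      List.mem_filter.2 ⟨(mem_posRoots hC).2 ⟨h1, h2'⟩, by simpa using h3⟩
    rw [Subgroup.mem_centralizer_singleton_iff]
    obtain ⟨⟨h39, h45⟩, hlt⟩ := h r hr'
    exact ((comm_of_ok h2 hlt (by decide +kernel) h39 c s).mul_right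
      (comm_of_ok h2 hlt (by decide +kernel) h45 c t)).eq
  have h33 := pos_of (r := 33) (by decide +kernel)
  have h24 := pos_of (r := 24) (by decide +kernel)
  revert g
  show Cv F ≤ Subgroup.centralizer {xg hC 39 s * xg hC 45 t}
  refine sup_le (sup_le (sup_le (sup_le ?_ ?_) ?_) ?_) ((Subgroup.closure_le _).2 ?_)
  · intro g hg
    obtain ⟨c, rfl⟩ := (mem_rootSubgroup hC).1 hg
    exact hc 33 (Or.inl ⟨h33.1, h33.2, by decide⟩) c
  · intro g hg
    obtain ⟨c, rfl⟩ := (mem_rootSubgroup hC).1 hg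
    exact hc 14 (Or.inr (by simp)) c
  · intro g hg
    obtain ⟨c, rfl⟩ := (mem_rootSubgroup hC).1 hg
    exact hc 24 (Or.inl ⟨h24.1, h24.2, by decide⟩) c
  · intro g hg
    obtain ⟨c, rfl⟩ := (mem_rootSubgroup hC).1 hg
    exact hc 23 (Or.inr (by simp)) c
  · rintro g ⟨r, c, hr, hne, hg⟩
    rw [eq_xg hC hg]
    exact hc r (Or.inl ⟨hr.1, (hC.posRoot_iff hr.1).1 hr, hne⟩) c

/-- The roots of the orbit of `v` under `U`. -/
def Sv : List ℕ := [39, 45, 40, 44, 46, 47]

/-- Its commutator part. -/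
def Zv (F : Type*) [Field F] : Subgroup (GL chevF4.Idx F) :=
  Subgroup.closure {g : GL chevF4.Idx F | ∃ (r : ℕ) (t : F), r ∈ [40, 44, 46, 47] ∧ g = xg hC r t}

theorem Sv_pos : ∀ r ∈ Sv, r < chevF4.nroots ∧ 0 < Cfsg.Agent.Chevalley.Data.F4.tab.phi r := by
  intro r hr
  simp only [Sv, List.mem_cons, List.not_mem_nil, or_false] at hr
  rcases hr with rfl | rfl | rfl | rfl | rfl | rfl <;> exact pos_of (by decide +kernel)

include h2 in
theorem Sv_comm : ∀ r ∈ Sv, ∀ s ∈ Sv, ∀ t u : F, Commute (xg hC r t) (xg hC s u) := by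
  intro r hr s hs
  refine comm_of_ok h2 (Sv_pos r hr).1 (Sv_pos s hs).1 ?_
  have h : (Sv.all fun r => Sv.all fun s => okPair r s) = true := by decide +kernel
  simp only [List.all_eq_true] at h
  exact h r hr s hs

theorem ideal_ok : (chevF4.posRoots.all fun r => Sv.all fun s => r == s ||
    (chevF4.commTerms r s).all fun c => c.2.1 % 2 == 0 || ([40, 44, 46, 47] : List ℕ).contains c.1) =
      true := by decide +kernel

include h2 in
theorem conj_gen {r s : ℕ} (hr : r < chevF4.nroots)
    (hp : 0 < Cfsg.Agent.Chevalley.Data.F4.tab.phi r) (hs : s ∈ Sv) (c t : F) :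
    ∃ z ∈ Zv F, (xg hC r c)⁻¹ * xg hC s t * xg hC r c = xg hC s t * z := by
  obtain ⟨hsl, hsp⟩ := Sv_pos s hs
  rcases eq_or_ne r s with rfl | hne
  · exact ⟨1, one_mem _, by rw [xg_inv hC, ← xg_add hC, ← xg_add hC, mul_one]; congr 1; ring⟩
  have hn : s ≠ chevF4.neg r := by
    rintro rfl
    rw [hC.phi_neg hr] at hsp
    omega
  refine ⟨((chevF4.commWord F r s c t).map fun p => xg hC p.1 p.2).prod,
    list_prod_mem fun x hx => ?_, ?_⟩
  · obtain ⟨p, hp', rfl⟩ := List.mem_map.1 hx
    simp only [ChevalleyDatum.commWord, List.mem_map] at hp'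
    obtain ⟨q, hq, rfl⟩ := hp'
    have h := ideal_ok
    simp only [List.all_eq_true, Bool.or_eq_true, beq_iff_eq, List.contains_iff_mem] at h
    rcases ((h r ((mem_posRoots hC).2 ⟨hr, hp⟩) s hs).resolve_left hne) q hq with he | he
    · obtain ⟨d, hd⟩ := Int.dvd_of_emod_eq_zero he
      rw [hd, Int.cast_mul, Int.cast_ofNat, h2]
      simp only [zero_mul]
      rw [xg_zero hC]
      exact one_mem _
    · exact Subgroup.subset_closure ⟨q.1, _, he, rfl⟩
  · rw [mul_assoc, xg_comm hC hr hsl (Ne.symm hne) hn c t]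
    group

include h2 in
theorem Zv_normal {u : GL chevF4.Idx F} (hu : u ∈ chevF4.posUnipotent F) :
    u ∈ Subgroup.normalizer (Zv F : Set (GL chevF4.Idx F)) := by
  revert u
  show chevF4.posUnipotent F ≤ _
  rw [U_eq_closure hC, Subgroup.closure_le]
  rintro _ ⟨r, c, hr, hp, rfl⟩
  have key : ∀ c : F, ∀ x ∈ {g : GL chevF4.Idx F | ∃ (s : ℕ) (t : F),
      s ∈ [40, 44, 46, 47] ∧ g = xg hC s t}, (xg hC r c)⁻¹ * x * xg hC r c ∈ Zv F := by
    rintro c _ ⟨s, t, hs, rfl⟩
    have hs' : s ∈ Sv := by simp only [Sv, List.mem_cons] at hs ⊢; tauto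
    obtain ⟨z, hz, e⟩ := conj_gen h2 hr hp hs' c t
    rw [e]
    exact mul_mem (Subgroup.subset_closure ⟨s, t, hs, rfl⟩) hz
  refine mem_normalizer_of_conj (fun x hx => ?_) (fun x hx => key c x hx)
  have := key (-c) x hx
  rwa [← xg_inv hC, inv_inv] at this

include h2 in
theorem Zv_commute {z : GL chevF4.Idx F} (hz : z ∈ Zv F) {s : ℕ} (hs : s ∈ Sv) (t : F) :
    Commute z (xg hC s t) := by
  induction hz using Subgroup.closure_induction with
  | mem x hx =>
    obtain ⟨r, c, hr, rfl⟩ := hx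
    exact Sv_comm h2 r (by simp only [Sv, List.mem_cons] at hr ⊢; tauto) s hs c t
  | one => exact Commute.one_left _
  | mul a b _ _ iha ihb => exact iha.mul_left ihb
  | inv a _ iha => exact iha.inv_left

include h2 in
theorem orbit {u : GL chevF4.Idx F} (hu : u ∈ chevF4.posUnipotent F) :
    ∃ f : ℕ → F, f 39 = 1 ∧ f 45 = 1 ∧
      u * (xg hC 39 1 * xg hC 45 1) * u⁻¹ = prodX hC Sv f := by
  obtain ⟨v, hv⟩ : ∃ v, v = xg hC 39 (1 : F) * xg hC 45 1 := ⟨_, rfl⟩
  have key : u * v * u⁻¹ * v⁻¹ ∈ Zv F := by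
    rw [U_eq_closure hC] at hu
    induction hu using Subgroup.closure_induction with
    | mem x hx =>
      obtain ⟨r, c, hr, hp, rfl⟩ := hx
      obtain ⟨z1, hz1, e1⟩ := conj_gen h2 hr hp (s := 39) (by simp [Sv]) (-c) (1 : F)
      obtain ⟨z2, hz2, e2⟩ := conj_gen h2 hr hp (s := 45) (by simp [Sv]) (-c) (1 : F)
      rw [← xg_inv hC, inv_inv] at e1 e2
      have e : xg hC r c * v * (xg hC r c)⁻¹ = v * (z1 * z2) := by
        rw [hv, show xg hC r c * (xg hC 39 1 * xg hC 45 1) * (xg hC r c)⁻¹ =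
          (xg hC r c * xg hC 39 1 * (xg hC r c)⁻¹) * (xg hC r c * xg hC 45 1 * (xg hC r c)⁻¹) by group,
          e1, e2]
        calc xg hC 39 1 * z1 * (xg hC 45 1 * z2) = xg hC 39 1 * (z1 * xg hC 45 1) * z2 := by group
          _ = _ := by rw [(Zv_commute h2 hz1 (s := 45) (by simp [Sv]) 1).eq]; group
      have hcv : Commute (z1 * z2) v := by
        rw [hv]
        exact (Zv_commute h2 (mul_mem hz1 hz2) (by simp [Sv]) 1).mul_right
          (Zv_commute h2 (mul_mem hz1 hz2) (by simp [Sv]) 1)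
      rw [e, ← hcv.eq, mul_inv_cancel_right]
      exact mul_mem hz1 hz2
    | one => simp
    | mul a b ha hb iha ihb =>
      have e : a * b * v * (a * b)⁻¹ * v⁻¹ =
          a * (b * v * b⁻¹ * v⁻¹) * a⁻¹ * (a * v * a⁻¹ * v⁻¹) := by group
      rw [e]
      rw [← U_eq_closure hC] at ha
      exact mul_mem ((Subgroup.mem_normalizer_iff.1 (Zv_normal h2 ha) _).1 ihb) iha
    | inv a ha iha =>
      have e : a⁻¹ * v * a⁻¹⁻¹ * v⁻¹ = (a⁻¹ * (a * v * a⁻¹ * v⁻¹) * a⁻¹⁻¹)⁻¹ := by group
      rw [e]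
      rw [← U_eq_closure hC] at ha
      exact inv_mem ((Subgroup.mem_normalizer_iff.1 (Zv_normal h2 (inv_mem ha)) _).1 iha)
  have hform : ∀ z ∈ Zv F, ∃ f : ℕ → F, f 39 = 0 ∧ f 45 = 0 ∧ z = prodX hC Sv f := by
    intro z hz
    induction hz using Subgroup.closure_induction with
    | mem x hx =>
      obtain ⟨r, c, hr, rfl⟩ := hx
      simp only [List.mem_cons, List.not_mem_nil, or_false] at hr
      refine ⟨fun s => if s = r then c else 0, ?_⟩
      rcases hr with rfl | rfl | rfl | rfl <;> simp [Sv, prodX, xg_zero hC]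
    | one => exact ⟨fun _ => 0, rfl, rfl, by simp [Sv, prodX, xg_zero hC]⟩
    | mul a b _ _ iha ihb =>
      obtain ⟨f, f1, f2, rfl⟩ := iha
      obtain ⟨g, g1, g2, rfl⟩ := ihb
      exact ⟨_, by rw [f1, g1, add_zero], by rw [f2, g2, add_zero], prodX_mul (Sv_comm h2) f g⟩
    | inv a _ iha =>
      obtain ⟨f, f1, f2, rfl⟩ := iha
      refine ⟨fun r => -f r, by simp [f1], by simp [f2],
        inv_eq_of_mul_eq_one_right ?_⟩
      rw [prodX_mul (Sv_comm h2)]
      simp [Sv, prodX, xg_zero hC]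
  obtain ⟨f, f1, f2, e⟩ := hform _ key
  refine ⟨fun r => f r + (if r = 39 then 1 else 0) + (if r = 45 then 1 else 0), by simp [f1],
    by simp [f2], ?_⟩
  have e' : v = prodX hC Sv (fun r => (if r = 39 then 1 else 0) + (if r = 45 then (1 : F) else 0)) := by
    rw [hv]; simp [Sv, prodX, xg_zero hC]
  rw [← hv]
  calc u * v * u⁻¹ = u * v * u⁻¹ * v⁻¹ * v := by group
    _ = prodX hC Sv f * prodX hC Sv (fun r => (if r = 39 then 1 else 0) + (if r = 45 then (1 : F) else 0)) := by
        rw [e, ← e']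
    _ = _ := by
        rw [prodX_mul (Sv_comm h2)]
        exact prodX_congr hC fun r _ => (add_assoc _ _ _).symm

theorem v_simple : ((List.range chevF4.rank).all fun j =>
    (chevF4.cartan j 39 != 0 || chevF4.cartan j 45 != 0) ||
      (!([27, 25, 34, 26] : List ℕ).contains (chevF4.simple j) &&
        (chevF4.neg (chevF4.simple j) == 14 || chevF4.neg (chevF4.simple j) == 23))) = true := by
  decide +kernel

theorem v_gt : (((List.range chevF4.rank).all fun j =>
    (chevF4.cartan j 39 == 0 && chevF4.cartan j 45 == 0) ||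
      decide (0 < 2 * pair chevF4 39 (chevF4.simple j) + 3 * pair chevF4 45 (chevF4.simple j))) &&
    ([27, 25, 34, 26] : List ℕ).all fun r =>
      decide (0 < 2 * pair chevF4 39 r + 3 * pair chevF4 45 r)) = true := by
  decide +kernel

theorem v_pairs : (Sv.all fun a => Sv.all fun b =>
    !(pair chevF4 a b == 0 && pair chevF4 b a == 0) || ((a == 39 && b == 45) || (a == 45 && b == 39))) =
      true := by decide +kernel

include h2 in
/-- Conjugation of `x₃₉(s) x₄₅(t)` by the four excluded root elements. -/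
theorem conj_four (a b c e s t : F) :
    xg hC 25 a * xg hC 26 b * xg hC 27 c * xg hC 34 e * (xg hC 39 s * xg hC 45 t) *
        (xg hC 25 a * xg hC 26 b * xg hC 27 c * xg hC 34 e)⁻¹ =
      prodX hC Sv (fun r => if r = 39 then s else if r = 45 then t else if r = 40 then c * s
        else if r = 44 then e * s else if r = 46 then a * t else b * t) := by
  have hneg : ∀ x : F, -x = x := fun x => by
    have : x + x = 0 := by rw [← two_mul, h2, zero_mul]
    exact (eq_neg_of_add_eq_zero_left this).symm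
  have one : ∀ r k s : ℕ, r < chevF4.nroots → s < chevF4.nroots → s ≠ r → s ≠ chevF4.neg r →
      chevF4.commTerms r s = [(k, 1, 1, 1)] →
      (∀ x y : F, Commute (xg hC r x) (xg hC k y)) → ∀ x y : F,
        xg hC r x * xg hC s y * (xg hC r x)⁻¹ = xg hC s y * xg hC k (x * y) := by
    intro r k s hr hs h1 h3 h4 hck x y
    have h := xg_comm hC hr hs h1 h3 x y
    simp only [ChevalleyDatum.commWord, h4, List.map_cons, List.map_nil, List.prod_cons,
      List.prod_nil, mul_one, pow_one, Int.cast_one, one_mul, hneg x] at h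
    calc xg hC r x * xg hC s y * (xg hC r x)⁻¹
        = (xg hC r x * xg hC s y * xg hC k (x * y)) * (xg hC k (x * y))⁻¹ * (xg hC r x)⁻¹ := by group
      _ = xg hC s y * (xg hC r x * (xg hC k (x * y))⁻¹ * (xg hC r x)⁻¹) := by rw [← h]; group
      _ = xg hC s y * (xg hC k (x * y))⁻¹ := by rw [((hck x (x * y)).inv_right).eq]; group
      _ = _ := by rw [xg_inv hC, hneg]
  have cm : ∀ r s : ℕ, r < chevF4.nroots → s < chevF4.nroots → okPair r s = true →
      ∀ x y : F, xg hC r x * xg hC s y * (xg hC r x)⁻¹ = xg hC s y := fun r s hr hs h x y => by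
    rw [(comm_of_ok h2 hr hs h x y).eq]; group
  have c34 := one 34 44 39 (by decide +kernel) (by decide +kernel) (by decide) (by decide +kernel)
    (by decide +kernel) (comm_of_ok h2 (by decide +kernel) (by decide +kernel) (by decide +kernel))
  have c27 := one 27 40 39 (by decide +kernel) (by decide +kernel) (by decide) (by decide +kernel)
    (by decide +kernel) (comm_of_ok h2 (by decide +kernel) (by decide +kernel) (by decide +kernel))
  have c26 := one 26 47 45 (by decide +kernel) (by decide +kernel) (by decide) (by decide +kernel)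
    (by decide +kernel) (comm_of_ok h2 (by decide +kernel) (by decide +kernel) (by decide +kernel))
  have c25 := one 25 46 45 (by decide +kernel) (by decide +kernel) (by decide) (by decide +kernel)
    (by decide +kernel) (comm_of_ok h2 (by decide +kernel) (by decide +kernel) (by decide +kernel))
  have s34a := cm 34 45 (by decide +kernel) (by decide +kernel) (by decide +kernel)
  have s27a := cm 27 45 (by decide +kernel) (by decide +kernel) (by decide +kernel)
  have s27b := cm 27 44 (by decide +kernel) (by decide +kernel) (by decide +kernel)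
  have s26a := cm 26 39 (by decide +kernel) (by decide +kernel) (by decide +kernel)
  have s26b := cm 26 40 (by decide +kernel) (by decide +kernel) (by decide +kernel)
  have s26c := cm 26 44 (by decide +kernel) (by decide +kernel) (by decide +kernel)
  have s25a := cm 25 39 (by decide +kernel) (by decide +kernel) (by decide +kernel)
  have s25b := cm 25 40 (by decide +kernel) (by decide +kernel) (by decide +kernel)
  have s25c := cm 25 44 (by decide +kernel) (by decide +kernel) (by decide +kernel)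
  have s25d := cm 25 47 (by decide +kernel) (by decide +kernel) (by decide +kernel)
  obtain ⟨A, hA⟩ : ∃ A : GL chevF4.Idx F →* GL chevF4.Idx F,
      A = (MulAut.conj (xg hC 25 a)).toMonoidHom.comp ((MulAut.conj (xg hC 26 b)).toMonoidHom.comp
        ((MulAut.conj (xg hC 27 c)).toMonoidHom.comp (MulAut.conj (xg hC 34 e)).toMonoidHom)) :=
    ⟨_, rfl⟩
  have e1 : xg hC 25 a * xg hC 26 b * xg hC 27 c * xg hC 34 e * (xg hC 39 s * xg hC 45 t) *
      (xg hC 25 a * xg hC 26 b * xg hC 27 c * xg hC 34 e)⁻¹ = A (xg hC 39 s) * A (xg hC 45 t) := by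
    rw [← map_mul, hA]
    simp only [MonoidHom.coe_comp, MulEquiv.coe_toMonoidHom, Function.comp_apply, MulAut.conj_apply]
    group
  have e39 : A (xg hC 39 s) = xg hC 39 s * xg hC 40 (c * s) * xg hC 44 (e * s) := by
    rw [hA]
    simp only [MonoidHom.coe_comp, MulEquiv.coe_toMonoidHom, Function.comp_apply, MulAut.conj_apply,
      c34]
    rw [show xg hC 27 c * (xg hC 39 s * xg hC 44 (e * s)) * (xg hC 27 c)⁻¹ =
        (xg hC 27 c * xg hC 39 s * (xg hC 27 c)⁻¹) * (xg hC 27 c * xg hC 44 (e * s) * (xg hC 27 c)⁻¹)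
        by group, c27, s27b]
    rw [show xg hC 26 b * (xg hC 39 s * xg hC 40 (c * s) * xg hC 44 (e * s)) * (xg hC 26 b)⁻¹ =
        (xg hC 26 b * xg hC 39 s * (xg hC 26 b)⁻¹) * (xg hC 26 b * xg hC 40 (c * s) * (xg hC 26 b)⁻¹) *
        (xg hC 26 b * xg hC 44 (e * s) * (xg hC 26 b)⁻¹) by group, s26a, s26b, s26c]
    rw [show xg hC 25 a * (xg hC 39 s * xg hC 40 (c * s) * xg hC 44 (e * s)) * (xg hC 25 a)⁻¹ =
        (xg hC 25 a * xg hC 39 s * (xg hC 25 a)⁻¹) * (xg hC 25 a * xg hC 40 (c * s) * (xg hC 25 a)⁻¹) *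
        (xg hC 25 a * xg hC 44 (e * s) * (xg hC 25 a)⁻¹) by group, s25a, s25b, s25c]
  have e45 : A (xg hC 45 t) = xg hC 45 t * xg hC 46 (a * t) * xg hC 47 (b * t) := by
    rw [hA]
    simp only [MonoidHom.coe_comp, MulEquiv.coe_toMonoidHom, Function.comp_apply, MulAut.conj_apply,
      s34a, s27a, c26]
    rw [show xg hC 25 a * (xg hC 45 t * xg hC 47 (b * t)) * (xg hC 25 a)⁻¹ =
        (xg hC 25 a * xg hC 45 t * (xg hC 25 a)⁻¹) * (xg hC 25 a * xg hC 47 (b * t) * (xg hC 25 a)⁻¹)
        by group, c25, s25d]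
  rw [e1, e39, e45]
  have h1 := Sv_comm h2 45 (by simp [Sv]) 40 (by simp [Sv]) t (c * s)
  have h2' := Sv_comm h2 45 (by simp [Sv]) 44 (by simp [Sv]) t (e * s)
  have h3 : Commute (xg hC 45 t) (xg hC 40 (c * s) * xg hC 44 (e * s)) := h1.mul_right h2'
  simp only [Sv, prodX, List.map_cons, List.map_nil, List.prod_cons, List.prod_nil, mul_one]
  norm_num
  calc xg hC 39 s * xg hC 40 (c * s) * xg hC 44 (e * s) *
        (xg hC 45 t * xg hC 46 (a * t) * xg hC 47 (b * t))
      = xg hC 39 s * ((xg hC 40 (c * s) * xg hC 44 (e * s)) * xg hC 45 t) * xg hC 46 (a * t) *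
          xg hC 47 (b * t) := by group
    _ = _ := by rw [← h3.eq]; group

theorem four_filter : (posFrom chevF4 0).filter (fun r => ([27, 25, 34, 26] : List ℕ).contains r) =
    [25, 26, 27, 34] := by decide +kernel

include h2 in
theorem centralizer_v :
    chevF4.group F ⊓ Subgroup.centralizer {xg hC 39 (1 : F) * xg hC 45 1} = Cv F := by
  refine le_antisymm ?_ (le_inf ?_ fun g hg => Cv_commute h2 hg 1 1)
  swap
  · refine sup_le (sup_le (sup_le (sup_le ?_ ?_) ?_) ?_) ((Subgroup.closure_le _).2 ?_)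
    iterate 4 (intro g hg; obtain ⟨c, rfl⟩ := (mem_rootSubgroup hC).1 hg
               exact xg_mem_group hC (by decide +kernel) c)
    rintro g ⟨r, c, hr, -, hg⟩
    rw [eq_xg hC hg]
    exact xg_mem_group hC hr.1 c
  rintro g ⟨hg, hgc⟩
  obtain ⟨b, hb, n, hn, u, hu, rfl⟩ := exists_form hC hg
  obtain ⟨c, L, hL, rfl⟩ := (mem_N_iff hC).1 hn
  have huU := Uminus_le_U hC _ hu
  obtain ⟨v, hv, h, hh, hbv⟩ := (mem_B_iff hC).1 hb
  obtain ⟨d, rfl⟩ := (mem_H_iff hC).1 hh
  obtain ⟨f, f39, f45, ef⟩ := orbit h2 huU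
  obtain ⟨f', f'39, f'45, ef'⟩ := orbit h2 (inv_mem hv)
  rw [inv_inv] at ef'
  have hgc' := Subgroup.mem_centralizer_singleton_iff.1 hgc
  have e0 : tor chevF4 c * nL hC F L * prodX hC Sv f * (tor chevF4 c * nL hC F L)⁻¹ =
      prodX hC Sv (fun r => (torChar chevF4 d⁻¹ r : F) * f' r) := by
    rw [← tor_conj_prodX (fun r hr => (Sv_pos r hr).1) d⁻¹ f', ← ef, ← ef', ← tor_inv]
    calc _ = b⁻¹ * (b * (tor chevF4 c * nL hC F L) * u * (xg hC 39 1 * xg hC 45 1)) *
          (b * (tor chevF4 c * nL hC F L) * u)⁻¹ * b := by group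
      _ = b⁻¹ * (xg hC 39 1 * xg hC 45 1) * b := by rw [hgc']; group
      _ = _ := by rw [hbv]; group
  have hsup := support hC (by decide) Sv_pos (Sv_comm h2) hL c e0
  have a39 := hsup 39 (by simp [Sv]) (by rw [f39]; exact one_ne_zero)
  have a45 := hsup 45 (by simp [Sv]) (by rw [f45]; exact one_ne_zero)
  have l39 := (Sv_pos 39 (by simp [Sv])).1
  have l45 := (Sv_pos 45 (by simp [Sv])).1
  have hfix : wL chevF4 L 39 = 39 ∧ wL chevF4 L 45 = 45 := by
    have hp := v_pairs
    simp only [List.all_eq_true, Bool.or_eq_true, Bool.and_eq_true, Bool.not_eq_true', beq_iff_eq,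
      Bool.and_eq_false_iff, beq_eq_false_iff_ne] at hp
    rcases hp _ a39 _ a45 with h | h | h
    · rw [pair_wL hC hL l39 l45, pair_wL hC hL l45 l39] at h
      exact absurd h (by decide +kernel)
    · exact h
    · have h' := wL_short hL (r := 39) (by decide)
      rw [h.1] at h'
      exact absurd h' (by decide)
  have hsimp := v_simple
  simp only [List.all_eq_true, List.mem_range, Bool.or_eq_true, bne_iff_ne, Bool.and_eq_true,
    Bool.not_eq_true', beq_iff_eq] at hsimp
  have hx : ∀ j < chevF4.rank, chevF4.cartan j 39 = 0 → chevF4.cartan j 45 = 0 →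
      (∀ t : F, xg hC (chevF4.simple j) t ∈ Cv F) ∧
        ∀ t : F, xg hC (chevF4.neg (chevF4.simple j)) t ∈ Cv F := by
    intro j hj a1 a2
    rcases hsimp j hj with (h | h) | ⟨hne, h⟩
    · exact absurd a1 h
    · exact absurd a2 h
    · exact ⟨xg_mem_Cv (Or.inr (Or.inr ⟨hC.simple_lt hj, hC.phi_simple hj, fun hm =>
          by rw [List.contains_iff_mem.2 hm] at hne; exact Bool.noConfusion hne⟩)),
        xg_mem_Cv (h.imp_right Or.inl)⟩
  have hgt := v_gt
  simp only [Bool.and_eq_true, List.all_eq_true, List.mem_range, Bool.or_eq_true, beq_iff_eq,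
    decide_eq_true_eq] at hgt
  have hlam := lam_nonneg 39 45 2 3 (by decide +kernel)
  obtain ⟨e, k, hk, ek⟩ := nL_mem_stab (As := [(39, 2), (45, 3)]) (K := Cv F) hC
    (by simp only [List.mem_cons, List.not_mem_nil, or_false]; rintro a (rfl | rfl); exacts [l39, l45])
    (fun j hj h0 => by
      obtain ⟨a1, a2⟩ := hx j hj (h0 (39, 2) (by simp)) (h0 (45, 3) (by simp))
      exact mul_mem (mul_mem (a1 _) (a2 _)) (a1 _))
    hlam
    (fun j hj => by
      refine (hgt.1 j hj).imp (fun h => ?_) fun h => ?_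
      · simp only [List.mem_cons, List.not_mem_nil, or_false]
        rintro a (rfl | rfl)
        exacts [h.1, h.2]
      · simpa using h)
    hL (by simp only [List.mem_cons, List.not_mem_nil, or_false]; rintro a (rfl | rfl)
           exacts [hfix.1, hfix.2])
  -- `u` avoids the four roots
  have hu' : u ∈ Cv F := by
    rw [Uminus_eq hC hL c] at hu
    revert hu
    refine fun hu => (Subgroup.closure_le _).2 ?_ hu
    rintro _ ⟨r, t, hr, rfl⟩
    obtain ⟨hlt, hp, hneg⟩ := (mem_invList hC).1 hr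
    refine xg_mem_Cv (Or.inr (Or.inr ⟨hlt, hp, fun hm => ?_⟩)) t
    have h1 := hgt.2 r hm
    have hwl := wL_lt hC hL hlt
    have hn0 := hlam _ (hC.neg_lt hwl) (by rw [hC.phi_neg hwl]; omega)
    rw [← wL_neg hC hL hlt] at hn0
    have e39 := pair_wL hC hL l39 (hC.neg_lt hlt)
    have e45 := pair_wL hC hL l45 (hC.neg_lt hlt)
    rw [hfix.1] at e39
    rw [hfix.2] at e45
    have en : ∀ a : ℕ, pair chevF4 a (chevF4.neg r) = - pair chevF4 a r := fun a => by
      rw [pair, pair, ← Finset.sum_neg_distrib]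
      refine Finset.sum_congr rfl fun i hi => ?_
      rw [hC.cartan_neg hlt (Finset.mem_range.1 hi)]
      ring
    simp only [List.map_cons, List.map_nil, List.sum_cons, List.sum_nil, add_zero, e39, e45, en] at hn0
    omega
  -- `b` without the four roots
  obtain ⟨b', hb'⟩ : ∃ b', b' = v * tor chevF4 (d * (c * e)) := ⟨_, rfl⟩
  have e2 : b * (tor chevF4 c * nL hC F L) * u = b' * k * u := by
    rw [hb', hbv, ek, ← tor_mul, ← tor_mul]
    group
  rw [e2] at hgc hgc' ⊢
  have hgcm : b' * k * u ∈ Subgroup.centralizer {xg hC 39 (1 : F) * xg hC 45 1} := hgc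
  have hb'c : b' ∈ Subgroup.centralizer {xg hC 39 (1 : F) * xg hC 45 1} := by
    have := mul_mem (mul_mem hgcm (inv_mem (Cv_commute h2 hu' 1 1))) (inv_mem (Cv_commute h2 hk 1 1))
    simpa [mul_assoc] using this
  rw [← Uge_zero hC] at hv
  obtain ⟨φ, hφ⟩ := split_decomp hC (fun r => ([27, 25, 34, 26] : List ℕ).contains r) 0 v hv
  rw [four_filter] at hφ
  obtain ⟨B, hB⟩ : ∃ B : GL chevF4.Idx F, B = prodX hC
      ((posFrom chevF4 0).filter fun r => !([27, 25, 34, 26] : List ℕ).contains r).reverse φ := ⟨_, rfl⟩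
  rw [← hB] at hφ
  have hBC : B ∈ Cv F := by
    rw [hB]
    refine list_prod_mem fun y hy => ?_
    obtain ⟨r, hr, rfl⟩ := List.mem_map.1 hy
    obtain ⟨hr', hne⟩ := List.mem_filter.1 (List.mem_reverse.1 hr)
    obtain ⟨h3, h4, -⟩ := (mem_posFrom hC).1 hr'
    exact xg_mem_Cv (Or.inr (Or.inr ⟨h3, h4, fun hm => by
      rw [List.contains_iff_mem.2 hm] at hne; exact Bool.noConfusion hne⟩)) _
  obtain ⟨D', hD'⟩ : ∃ D', D' = d * (c * e) := ⟨_, rfl⟩
  rw [← hD'] at hb'
  have l := fun r (hr : r ∈ Sv) => (Sv_pos r hr).1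
  have e3 : prodX hC Sv (fun r => if r = 39 then (torChar chevF4 D' 39 : F) else if r = 45 then
      (torChar chevF4 D' 45 : F) else if r = 40 then φ 27 * (torChar chevF4 D' 39 : F)
        else if r = 44 then φ 34 * (torChar chevF4 D' 39 : F)
        else if r = 46 then φ 25 * (torChar chevF4 D' 45 : F)
        else φ 26 * (torChar chevF4 D' 45 : F)) =
      prodX hC Sv (fun r => if r = 39 then 1 else if r = 45 then 1 else 0) := by
    rw [← conj_four h2 (φ 25) (φ 26) (φ 27) (φ 34)]
    have ev : prodX hC Sv (fun r => if r = 39 then 1 else if r = 45 then (1 : F) else 0) =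
        xg hC 39 1 * xg hC 45 1 := by simp [Sv, prodX, xg_zero hC]
    rw [ev]
    have hA : prodX hC [25, 26, 27, 34] φ =
        xg hC 25 (φ 25) * xg hC 26 (φ 26) * xg hC 27 (φ 27) * xg hC 34 (φ 34) := by
      simp [prodX, mul_assoc]
    rw [← hA]
    have ht : tor chevF4 D' * (xg hC 39 1 * xg hC 45 1) * (tor chevF4 D')⁻¹ =
        xg hC 39 (torChar chevF4 D' 39 : F) * xg hC 45 (torChar chevF4 D' 45 : F) := by
      have h39 := tor_conj_x hC D' 39 (1 : F) (l 39 (by simp [Sv]))
      have h45 := tor_conj_x hC D' 45 (1 : F) (l 45 (by simp [Sv]))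
      rw [mul_one] at h39 h45
      rw [← h39, ← h45]; group
    have hBc := Subgroup.mem_centralizer_singleton_iff.1
      (Cv_commute h2 hBC (torChar chevF4 D' 39 : F) (torChar chevF4 D' 45 : F))
    have hbc' := Subgroup.mem_centralizer_singleton_iff.1 hb'c
    calc prodX hC [25, 26, 27, 34] φ *
          (xg hC 39 (torChar chevF4 D' 39 : F) * xg hC 45 (torChar chevF4 D' 45 : F)) *
          (prodX hC [25, 26, 27, 34] φ)⁻¹
        = prodX hC [25, 26, 27, 34] φ * (B *
          (xg hC 39 (torChar chevF4 D' 39 : F) * xg hC 45 (torChar chevF4 D' 45 : F)) * B⁻¹) *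
          (prodX hC [25, 26, 27, 34] φ)⁻¹ := by rw [hBc]; group
      _ = b' * (xg hC 39 1 * xg hC 45 1) * b'⁻¹ := by rw [← ht, hb', hφ]; group
      _ = _ := by rw [hbc']; group
  have hco := coeff_unique hC (by decide) Sv_pos (Sv_comm h2) e3
  have χ39 : (torChar chevF4 D' 39 : F) = 1 := by simpa using hco 39 (by simp [Sv])
  have χ45 : (torChar chevF4 D' 45 : F) = 1 := by simpa using hco 45 (by simp [Sv])
  have p27 : φ 27 = 0 := by simpa [χ39] using hco 40 (by simp [Sv])
  have p34 : φ 34 = 0 := by simpa [χ39] using hco 44 (by simp [Sv])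
  have p25 : φ 25 = 0 := by simpa [χ45] using hco 46 (by simp [Sv])
  have p26 : φ 26 = 0 := by simpa [χ45] using hco 47 (by simp [Sv])
  have hA1 : prodX hC [25, 26, 27, 34] φ = 1 := by simp [prodX, p25, p26, p27, p34, xg_zero hC]
  rw [← Units.val_one, Units.val_inj] at χ39 χ45
  rw [torChar, show chevF4.rank = 4 from rfl] at χ39 χ45
  simp only [Finset.prod_range_succ, Finset.prod_range_zero,
    show chevF4.cartan 0 39 = 0 by decide +kernel, show chevF4.cartan 1 39 = -1 by decide +kernel,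
    show chevF4.cartan 2 39 = 1 by decide +kernel, show chevF4.cartan 3 39 = 0 by decide +kernel,
    show chevF4.cartan 0 45 = 0 by decide +kernel, show chevF4.cartan 1 45 = 2 by decide +kernel,
    show chevF4.cartan 2 45 = -1 by decide +kernel, show chevF4.cartan 3 45 = 0 by decide +kernel,
    zpow_zero, zpow_one, one_mul, mul_one, zpow_neg_one] at χ39 χ45
  have h21 : D' 2 = D' 1 := (inv_mul_eq_one.1 χ39).symm
  have hD1 : D' 1 = 1 := by
    rw [h21, show ((2 : ℤ)) = ((2 : ℕ) : ℤ) from rfl, zpow_natCast, pow_two, mul_inv_cancel_right] at χ45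
    exact χ45
  have hτK : tor chevF4 D' ∈ Cv F := by
    refine tor_mem _ fun i hi => ?_
    have h4 : i = 0 ∨ i = 1 ∨ i = 2 ∨ i = 3 := by
      rw [show chevF4.rank = 4 from rfl] at hi; omega
    rcases h4 with rfl | rfl | rfl | rfl
    · exact Or.inr (hx 0 hi (by decide +kernel) (by decide +kernel))
    · exact Or.inl hD1
    · exact Or.inl (h21.trans hD1)
    · exact Or.inr (hx 3 hi (by decide +kernel) (by decide +kernel))
  rw [hb', hφ, hA1, one_mul]
  exact mul_mem (mul_mem (mul_mem hBC hτK) hk) hu'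

end Cfsg.Agent.SimpleFacts.ChevalleyF4Pairs
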