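import Cfsg.Prelude.Def_KGroupFacts
import Mathlib

/-!
Stem extensions of simple groups with an elementary abelian Sylow `2`-subgroup of order eight: the preimage of
the Sylow subgroup is abelian.
-/

set_option autoImplicit false

namespace Cfsg.Agent.SimpleFacts.StemElementaryEight

open scoped commutatorElement

universe u v

/-- In a group with trivial abelianization an element of an abelian Sylow subgroup fixed by its normalizer
is trivial. -/
theorem eq_one_of_fixed {G : Type u} [Group G] [Finite G] (hG : commutator G = ⊤) {p : ℕ} [Fact p.Prime]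
    (Q : Sylow p G) [hQ : IsMulCommutative (Q : Subgroup G)] {x : G} (hx : x ∈ (Q : Subgroup G))
    (hfix : ∀ n ∈ Subgroup.normalizer (Q : Set G), n⁻¹ * x * n = x) : x = 1 := by
  have key : ∀ (k : ℕ) (g₀ : G), g₀⁻¹ * x ^ k * g₀ ∈ (Q : Subgroup G) →
      g₀⁻¹ * x ^ k * g₀ = x ^ k := fun k g₀ hk => by
    obtain ⟨n, hn, he⟩ := Q.conj_eq_normalizer_conj_of_mem (x ^ k) g₀ (pow_mem hx k) hk
    rw [he]
    calc n⁻¹ * x ^ k * n = (n⁻¹ * x * n) ^ k := by
          simpa using (conj_pow (a := n⁻¹) (b := x) (i := k)).symm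
      _ = x ^ k := by rw [hfix n hn]
  let ϕ : (Q : Subgroup G) →* Abelianization (Q : Subgroup G) := Abelianization.of
  have h1 := MonoidHom.transfer_eq_pow ϕ x key
  have h2 : MonoidHom.transfer ϕ x = 1 :=
    Abelianization.commutator_subset_ker (MonoidHom.transfer ϕ) (hG ▸ Subgroup.mem_top x)
  rw [h2] at h1
  have hbot : commutator (Q : Subgroup G) = ⊥ := by
    rw [commutator_def, Subgroup.commutator_eq_bot_iff_le_centralizer]
    intro a _
    rw [Subgroup.mem_centralizer_iff]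
    intro b _
    exact hQ.is_comm.comm b a
  have h3 : (⟨x ^ (Q : Subgroup G).index, MonoidHom.transfer_eq_pow_aux x key⟩ : (Q : Subgroup G)) = 1 := by
    rw [← Subgroup.mem_bot, ← hbot, ← Abelianization.ker_of, MonoidHom.mem_ker]
    exact h1.symm
  have h4 : x ^ (Q : Subgroup G).index = 1 := congrArg Subtype.val h3
  obtain ⟨k, hk⟩ := Q.isPGroup' ⟨x, hx⟩
  have hk' : x ^ p ^ k = 1 := congrArg Subtype.val hk
  have hco : Nat.Coprime (Q : Subgroup G).index (p ^ k) :=
    Nat.Coprime.pow_right _ (((Fact.out : p.Prime).coprime_iff_not_dvd).2 Q.not_dvd_index).symm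
  rw [← orderOf_eq_one_iff, ← Nat.dvd_one, ← Nat.coprime_iff_gcd_eq_one.mp hco]
  exact Nat.dvd_gcd (orderOf_dvd_of_pow_eq_one h4) (orderOf_dvd_of_pow_eq_one hk')

/-- A permutation of seven points of order seven is transitive. -/
theorem exists_pow_eq {S : Type u} [Finite S] (hS : Nat.card S = 7) (π : Equiv.Perm S) (h7 : π ^ 7 = 1)
    (h1 : π ≠ 1) (x y : S) : ∃ k : ℕ, (π ^ k) x = y := by
  have : Fact (Nat.Prime 7) := ⟨by norm_num⟩
  obtain ⟨x₀, hx₀⟩ : ∃ x₀, π x₀ ≠ x₀ := by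
    by_contra h
    push Not at h
    exact h1 (Equiv.ext h)
  have hper : Function.IsPeriodicPt π 7 x₀ := by
    rw [Function.IsPeriodicPt, Function.IsFixedPt, ← Equiv.Perm.coe_pow, h7]
    rfl
  have hmin : Function.minimalPeriod π x₀ = 7 :=
    Function.minimalPeriod_eq_prime hper hx₀
  have hinj : Function.Injective fun i : Fin 7 => (π ^ (i : ℕ)) x₀ := by
    intro i j h
    simp only [Equiv.Perm.coe_pow] at h
    exact Fin.ext (Function.iterate_injOn_Iio_minimalPeriod (by simp [hmin])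
      (by simp [hmin]) h)
  have hbij := (Nat.bijective_iff_injective_and_card _).2 ⟨hinj, by rw [hS, Nat.card_fin]⟩
  obtain ⟨i, hi⟩ := hbij.2 x
  obtain ⟨j, hj⟩ := hbij.2 y
  refine ⟨7 - (i : ℕ) + (j : ℕ), ?_⟩
  simp only at hi hj
  rw [← hi, ← Equiv.Perm.mul_apply, ← pow_add, ← hj,
    show 7 - (i : ℕ) + (j : ℕ) + (i : ℕ) = 7 + (j : ℕ) by omega, pow_add, h7, one_mul]

/-- A group of odd order acting on seven points without fixed point has order divisible by seven. -/
theorem seven_dvd {S : Type u} [Finite S] (hS : Nat.card S = 7) {H : Type v} [Group H] [Finite H]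
    [MulAction H S] (hodd : Odd (Nat.card H)) (hfix : ∀ s : S, ∃ h : H, h • s ≠ s) :
    7 ∣ Nat.card H := by
  classical
  by_contra h7
  have := Fintype.ofFinite S
  have horb : ∀ s : S, (MulAction.orbit H s).toFinset.card = 3 ∨ (MulAction.orbit H s).toFinset.card = 5 := by
    intro s
    have hdvd : (MulAction.orbit H s).ncard ∣ Nat.card H := by
      rw [← MulAction.index_stabilizer]
      exact Subgroup.index_dvd_card _
    rw [Set.ncard_eq_toFinset_card'] at hdvd
    have hle : (MulAction.orbit H s).toFinset.card ≤ 7 := by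
      rw [← hS, Nat.card_eq_fintype_card]
      exact Finset.card_le_univ _
    have hne1 : (MulAction.orbit H s).toFinset.card ≠ 1 := by
      intro h1
      obtain ⟨h, hh⟩ := hfix s
      obtain ⟨a, ha⟩ := Finset.card_eq_one.1 h1
      have e1 : s ∈ ({a} : Finset S) := ha ▸ Set.mem_toFinset.2 (MulAction.mem_orbit_self s)
      have e2 : h • s ∈ ({a} : Finset S) := ha ▸ Set.mem_toFinset.2 (MulAction.mem_orbit s h)
      rw [Finset.mem_singleton] at e1 e2
      exact hh (e2.trans e1.symm)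
    have hne7 : (MulAction.orbit H s).toFinset.card ≠ 7 := fun e => h7 (e ▸ hdvd)
    obtain ⟨c, hc⟩ := hodd.of_dvd_nat hdvd
    omega
  have hcard : (Finset.univ : Finset S).card = 7 := by
    rw [Finset.card_univ, ← Nat.card_eq_fintype_card, hS]
  obtain ⟨s₁⟩ : Nonempty S := (Nat.card_pos_iff.1 (by omega)).1
  set A := (MulAction.orbit H s₁).toFinset with hA
  have hA' := horb s₁
  obtain ⟨s₂, hs₂⟩ : ∃ s₂, s₂ ∉ A := by
    by_contra h
    push Not at h
    rw [Finset.eq_univ_of_forall h] at hA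
    rw [← hA] at hA'
    omega
  set B := (MulAction.orbit H s₂).toFinset with hB
  have hdisj : ∀ s t : S, t ∉ (MulAction.orbit H s).toFinset →
      Disjoint (MulAction.orbit H s).toFinset (MulAction.orbit H t).toFinset := by
    intro s t ht
    rw [Finset.disjoint_left]
    intro a ha hb
    rw [Set.mem_toFinset] at ha hb ht
    apply ht
    rw [← MulAction.orbit_eq_iff.2 ha, MulAction.orbit_eq_iff.2 hb]
    exact MulAction.mem_orbit_self t
  have hB' := horb s₂
  have hAB : (A ∪ B).card = A.card + B.card := Finset.card_union_of_disjoint (hdisj s₁ s₂ hs₂)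
  obtain ⟨s₃, hs₃⟩ : ∃ s₃, s₃ ∉ A ∪ B := by
    by_contra h
    push Not at h
    rw [Finset.eq_univ_of_forall h, hcard] at hAB
    rw [← hA] at hA'
    rw [← hB] at hB'
    omega
  rw [Finset.mem_union, not_or] at hs₃
  have hd : Disjoint (A ∪ B) (MulAction.orbit H s₃).toFinset :=
    Finset.disjoint_union_left.2 ⟨hdisj s₁ s₃ hs₃.1, hdisj s₂ s₃ hs₃.2⟩
  have hC' := horb s₃
  have := Finset.card_le_univ (A ∪ B ∪ (MulAction.orbit H s₃).toFinset)
  rw [Finset.card_union_of_disjoint hd, hAB, ← Finset.card_univ, hcard] at this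
  rw [← hA] at hA'
  rw [← hB] at hB'
  omega

/-- In a perfect group an elementary abelian Sylow `2`-subgroup of order eight is permuted transitively,
away from `1`, by an element of order seven of its automizer. -/
theorem exists_seven {G : Type u} [Group G] [Finite G] (hG : commutator G = ⊤) (Q : Sylow 2 G)
    (h8 : Nat.card (Q : Subgroup G) = 8) (hexp : ∀ x ∈ (Q : Subgroup G), x * x = 1) :
    ∃ g ∈ Subgroup.normalizer (Q : Set G),
      (∀ m : ℕ, ¬ 7 ∣ m → ∀ x ∈ (Q : Subgroup G), ∀ y ∈ (Q : Subgroup G), x ≠ 1 → y ≠ 1 →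
        ∃ k : ℕ, (g ^ m) ^ k * x * ((g ^ m) ^ k)⁻¹ = y) ∧
      ∀ r : ℕ, ∀ x ∈ (Q : Subgroup G), g ^ (7 * r) * x * (g ^ (7 * r))⁻¹ = x := by
  classical
  have : Fact (Nat.Prime 7) := ⟨by norm_num⟩
  have hcomm : IsMulCommutative (Q : Subgroup G) := ⟨⟨fun a b => Subtype.ext (by
    have h := hexp _ (mul_mem a.2 b.2)
    have ha := hexp _ a.2
    have hb := hexp _ b.2
    rw [mul_eq_one_iff_eq_inv, mul_inv_rev, inv_eq_of_mul_eq_one_right ha,
      inv_eq_of_mul_eq_one_right hb] at h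
    exact h)⟩⟩
  let S := {x : G // x ∈ (Q : Subgroup G) ∧ x ≠ 1}
  have hS : Nat.card S = 7 := by
    have hset : {x : G | x ∈ (Q : Subgroup G) ∧ x ≠ 1} = ((Q : Subgroup G) : Set G) \ {1} := by
      ext x; simp; exact fun _ => Iff.rfl
    show Nat.card ({x : G | x ∈ (Q : Subgroup G) ∧ x ≠ 1} : Set G) = 7
    rw [hset, Nat.card_coe_set_eq, Set.ncard_sdiff_singleton_of_mem (one_mem _),
      ← Nat.card_coe_set_eq]
    exact congrArg (· - 1) h8
  let N := Subgroup.normalizer (Q : Set G)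
  have hmem : ∀ n ∈ N, ∀ x ∈ (Q : Subgroup G), n * x * n⁻¹ ∈ (Q : Subgroup G) := fun n hn x hx =>
    (Subgroup.mem_normalizer_iff.1 hn x).1 hx
  let act : MulAction N S :=
    { smul := fun n x => ⟨(n : G) * x.1 * (n : G)⁻¹, hmem n.1 n.2 x.1 x.2.1, fun h =>
        x.2.2 (conj_eq_one_iff.1 h)⟩
      one_smul := fun x => Subtype.ext (by
        show ((1 : N) : G) * x.1 * ((1 : N) : G)⁻¹ = x.1
        simp)
      mul_smul := fun a b x => Subtype.ext (by
        show ((a * b : N) : G) * x.1 * ((a * b : N) : G)⁻¹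
          = (a : G) * ((b : G) * x.1 * (b : G)⁻¹) * (a : G)⁻¹
        simp [mul_assoc]) }
  let φ : N →* Equiv.Perm S := MulAction.toPermHom N S
  have hker : ((Q : Subgroup G).subgroupOf N) ≤ φ.ker := by
    intro q hq
    rw [Subgroup.mem_subgroupOf] at hq
    rw [MonoidHom.mem_ker]
    refine Equiv.ext fun x => Subtype.ext ?_
    show (q : G) * x.1 * (q : G)⁻¹ = x.1
    rw [mul_inv_eq_iff_eq_mul]
    exact congrArg Subtype.val (hcomm.is_comm.comm ⟨_, hq⟩ ⟨_, x.2.1⟩)
  have hodd : Odd (Nat.card φ.range) := by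
    rw [← Subgroup.index_ker φ, Nat.odd_iff, ← Nat.two_dvd_ne_zero]
    intro h
    exact Q.not_dvd_index ((h.trans (Subgroup.index_dvd_of_le hker)).trans
      (Subgroup.relIndex_dvd_index_of_le Subgroup.le_normalizer))
  have hfix : ∀ s : S, ∃ h : φ.range, h • s ≠ s := by
    intro s
    by_contra hc
    push Not at hc
    refine s.2.2 (eq_one_of_fixed hG Q s.2.1 fun n hn => ?_)
    have := congrArg Subtype.val (hc ⟨φ ⟨n⁻¹, inv_mem hn⟩, ⟨_, rfl⟩⟩)
    change n⁻¹ * s.1 * n⁻¹⁻¹ = s.1 at this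
    rwa [inv_inv] at this
  have h7 := seven_dvd hS hodd hfix
  obtain ⟨⟨_, n, rfl⟩, hn⟩ := exists_prime_orderOf_dvd_card' 7 h7
  rw [← Subgroup.orderOf_coe] at hn
  have hn' : orderOf (φ n) = 7 := hn
  refine ⟨n.1, n.2, fun m hm x hx y hy hx1 hy1 => ?_, fun r x hx => ?_⟩
  swap
  · by_cases hx1 : x = 1
    · simp [hx1]
    have h1 : φ (n ^ (7 * r)) = 1 := by rw [map_pow, pow_mul, ← hn', pow_orderOf_eq_one, one_pow]
    exact congrArg Subtype.val (Equiv.ext_iff.1 h1 ⟨x, hx, hx1⟩)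
  have hne : φ n ^ m ≠ 1 := fun h => hm (hn' ▸ orderOf_dvd_of_pow_eq_one h)
  have hpow : (φ n ^ m) ^ 7 = 1 := by
    rw [← pow_mul, mul_comm, pow_mul, ← hn', pow_orderOf_eq_one, one_pow]
  obtain ⟨k, hk⟩ := exists_pow_eq hS _ hpow hne ⟨x, hx, hx1⟩ ⟨y, hy, hy1⟩
  refine ⟨k, ?_⟩
  rw [← map_pow, ← map_pow] at hk
  exact congrArg Subtype.val hk

/-- In a stem extension of a perfect group the preimage of an elementary abelian Sylow `2`-subgroup of
order eight is abelian. -/
theorem commute_preimage {G : Type u} [Group G] [Finite G] (hG : commutator G = ⊤) {Γ : Type v} [Group Γ]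
    (σ : Γ →* G) (hsurj : Function.Surjective σ) (hcen : σ.ker ≤ Subgroup.center Γ) (Q : Sylow 2 G)
    (h8 : Nat.card (Q : Subgroup G) = 8) (hexp : ∀ x ∈ (Q : Subgroup G), x * x = 1)
    {a b : Γ} (ha : σ a ∈ (Q : Subgroup G)) (hb : σ b ∈ (Q : Subgroup G)) : a * b = b * a := by
  have hQc : ∀ x ∈ (Q : Subgroup G), ∀ y ∈ (Q : Subgroup G), x * y = y * x := by
    intro x hx y hy
    have h := hexp _ (mul_mem hx hy)
    rw [mul_eq_one_iff_eq_inv, mul_inv_rev, inv_eq_of_mul_eq_one_right (hexp _ hx),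
      inv_eq_of_mul_eq_one_right (hexp _ hy)] at h
    exact h
  have hc : ∀ {a b : Γ}, σ a ∈ (Q : Subgroup G) → σ b ∈ (Q : Subgroup G) → ∀ w : Γ,
      w * ⁅a, b⁆ = ⁅a, b⁆ * w := fun {a b} ha hb => Subgroup.mem_center_iff.1 (hcen (by
    rw [MonoidHom.mem_ker, map_commutatorElement, commutatorElement_eq_one_iff_mul_comm]
    exact hQc _ ha _ hb))
  have hmul : ∀ {a a' b : Γ}, σ a' ∈ (Q : Subgroup G) → σ b ∈ (Q : Subgroup G) →
      ⁅a * a', b⁆ = ⁅a, b⁆ * ⁅a', b⁆ := fun {a a' b} ha' hb => by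
    calc ⁅a * a', b⁆ = a * ⁅a', b⁆ * (b * a⁻¹ * b⁻¹) := by rw [commutatorElement_def, commutatorElement_def]; group
      _ = ⁅a', b⁆ * (a * (b * a⁻¹ * b⁻¹)) := by rw [hc ha' hb a, mul_assoc]
      _ = ⁅a, b⁆ * ⁅a', b⁆ := by
        rw [hc ha' hb ⁅a, b⁆, commutatorElement_def a b]; simp only [mul_assoc]
  have hcongr : ∀ {a a' b : Γ}, σ a = σ a' → ⁅a, b⁆ = ⁅a', b⁆ := fun {a a' b} he => by
    have hz : a'⁻¹ * a ∈ Subgroup.center Γ := hcen (by simp [MonoidHom.mem_ker, he])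
    have e : a = a' * (a'⁻¹ * a) := by simp
    rw [e]
    generalize a'⁻¹ * a = z at hz
    have hz' := Subgroup.mem_center_iff.1 hz
    calc ⁅a' * z, b⁆ = a' * (z * b * z⁻¹) * a'⁻¹ * b⁻¹ := by
          rw [commutatorElement_def]; group
      _ = ⁅a', b⁆ := by rw [← hz' b, mul_inv_cancel_right, commutatorElement_def]
  have hsq : ∀ {a b : Γ}, σ a ∈ (Q : Subgroup G) → σ b ∈ (Q : Subgroup G) → ⁅b, a⁆ = ⁅a, b⁆ :=
    fun {a b} ha hb => by
    have h1 : ⁅a * a, b⁆ = 1 := by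
      rw [hcongr (a' := 1) (by rw [map_mul, hexp _ ha, map_one])]; simp
    rw [hmul ha hb] at h1
    rw [← commutatorElement_inv a b]
    exact inv_eq_of_mul_eq_one_right h1
  have hmulr : ∀ {a b b' : Γ}, σ a ∈ (Q : Subgroup G) → σ b ∈ (Q : Subgroup G) → σ b' ∈ (Q : Subgroup G) →
      ⁅a, b * b'⁆ = ⁅a, b⁆ * ⁅a, b'⁆ := fun {a b b'} ha hb hb' => by
    rw [hsq (a := b * b') (b := a) (by rw [map_mul]; exact mul_mem hb hb') ha, hmul hb' ha, hsq ha hb,
      hsq ha hb']
  obtain ⟨g, hg, htr⟩ := exists_seven hG Q h8 hexp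
  obtain ⟨g', rfl⟩ := hsurj g
  -- the third power of a transitive conjugation is orthogonal to the identity
  have key : ∀ h : Γ, σ h ∈ Subgroup.normalizer (Q : Set G) →
      (∀ x ∈ (Q : Subgroup G), ∀ y ∈ (Q : Subgroup G), x ≠ 1 → y ≠ 1 →
        ∃ k : ℕ, σ h ^ k * x * (σ h ^ k)⁻¹ = y) →
      ∀ a : Γ, σ a ∈ (Q : Subgroup G) → σ a ≠ 1 → ⁅a, h ^ 3 * a * (h ^ 3)⁻¹⁆ = 1 := by
    intro h hh htr a ha ha1
    set T : Γ → Γ := fun c => h * c * h⁻¹ with hT
    have hTQ : ∀ c, σ c ∈ (Q : Subgroup G) → σ (T c) ∈ (Q : Subgroup G) := fun c hc' => by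
      simpa [hT, map_mul, map_inv] using (Subgroup.mem_normalizer_iff.1 hh (σ c)).1 hc'
    have hTmul : ∀ c d, T (c * d) = T c * T d := fun c d => by simp [hT, mul_assoc]
    have hTinv : ∀ {c d}, σ c ∈ (Q : Subgroup G) → σ d ∈ (Q : Subgroup G) → ⁅T c, T d⁆ = ⁅c, d⁆ :=
      fun {c d} hc' hd => by
      have e : ⁅T c, T d⁆ = h * ⁅c, d⁆ * h⁻¹ := by
        simp only [hT, commutatorElement_def]; group
      rw [e, hc hc' hd h, mul_inv_cancel_right]
    have hiter : ∀ k : ℕ, ∀ c, h ^ k * c * (h ^ k)⁻¹ = T^[k] c := by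
      intro k
      induction k with
      | zero => simp
      | succ k ih => intro c; rw [Function.iterate_succ_apply', ← ih c, hT, pow_succ']; simp [mul_assoc]
    have hQi : ∀ k : ℕ, σ (T^[k] a) ∈ (Q : Subgroup G) := by
      intro k
      induction k with
      | zero => simpa using ha
      | succ k ih => rw [Function.iterate_succ_apply']; exact hTQ _ ih
    have hinv : ∀ k : ℕ, ⁅T^[k] a, T (T^[k] a)⁆ = ⁅a, T a⁆ := by
      intro k
      induction k with
      | zero => simp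
      | succ k ih => rw [Function.iterate_succ_apply', hTinv (hQi k) (hTQ _ (hQi k)), ih]
    have hconst : ∀ d, σ d ∈ (Q : Subgroup G) → σ d ≠ 1 → ⁅d, T d⁆ = ⁅a, T a⁆ := by
      intro d hd hd1
      obtain ⟨k, hk⟩ := htr _ ha _ hd ha1 hd1
      have hk' : σ d = σ (T^[k] a) := by rw [← hiter, ← hk]; simp
      rw [hcongr hk', ← hinv k]
      rw [← hsq (hQi k) (hTQ _ hd), hcongr (a' := T (T^[k] a)) (by simp [hT, hk']),
        hsq (hQi k) (hTQ _ (hQi k))]
    -- neither `h` nor its square fixes `σ a`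
    have hmove : σ (T a) ≠ σ a ∧ σ (T (T a)) ≠ σ a := by
      suffices hs : σ (T (T a)) ≠ σ a from ⟨fun e => hs (by
        have e' : σ (T (T a)) = σ (T a) := by simp only [hT, map_mul, map_inv] at e ⊢; rw [e, e]
        exact e'.trans e), hs⟩
      intro e
      have horb : ∀ k : ℕ, σ (T^[k] a) = σ a ∨ σ (T^[k] a) = σ (T a) := by
        intro k
        induction k with
        | zero => left; rfl
        | succ k ih =>
          rw [Function.iterate_succ_apply']
          rcases ih with ih | ih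
          · right; simp only [hT, map_mul, map_inv] at ih ⊢; rw [ih]
          · left; rw [← e]; simp only [hT, map_mul, map_inv] at ih ⊢; rw [ih]
      have hsub : ((Q : Subgroup G) : Set G) ⊆ {1, σ a, σ (T a)} := by
        intro y hy
        by_cases hy1 : y = 1
        · left; exact hy1
        obtain ⟨k, hk⟩ := htr _ ha _ hy ha1 hy1
        have hk' : y = σ (T^[k] a) := by rw [← hiter, ← hk]; simp
        rcases horb k with hh' | hh'
        · right; left; exact hk'.trans hh'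
        · right; right; exact hk'.trans hh'
      have := Set.ncard_le_ncard hsub (Set.toFinite _)
      rw [← Nat.card_coe_set_eq] at this
      have h3 : ({1, σ a, σ (T a)} : Set G).ncard ≤ 3 := by
        refine (Set.ncard_insert_le _ _).trans (Nat.succ_le_succ ((Set.ncard_insert_le _ _).trans ?_))
        rw [Set.ncard_singleton]
      exact absurd (h8 ▸ this.trans h3 : 8 ≤ 3) (by norm_num)
    have hne : ∀ {c d : Γ}, σ c ∈ (Q : Subgroup G) → σ c ≠ σ d → σ d ∈ (Q : Subgroup G) → σ (c * d) ≠ 1 :=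
      fun {c d} hc' hne hd e => hne (by
        rw [map_mul, mul_eq_one_iff_eq_inv, inv_eq_of_mul_eq_one_right (hexp _ hd)] at e
        exact e)
    set α := ⁅a, T a⁆ with hα
    have hαα : α * α = 1 := by
      rw [hα]
      nth_rw 1 [← hsq ha (hTQ _ ha)]
      rw [← commutatorElement_inv, inv_mul_cancel]
    -- polarization
    have pol : ∀ d, σ d ∈ (Q : Subgroup G) → σ d ≠ 1 → σ a ≠ σ d → ⁅a, T d⁆ * ⁅d, T a⁆ = α := by
      intro d hd hd1 had
      have hdm : σ (a * d) ∈ (Q : Subgroup G) := by rw [map_mul]; exact mul_mem ha hd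
      have e := hconst (a * d) hdm (hne ha had hd)
      rw [hmul hd (hTQ _ hdm), hTmul, hmulr ha (hTQ _ ha) (hTQ _ hd), hmulr hd (hTQ _ ha) (hTQ _ hd),
        hconst d hd hd1, ← hα] at e
      have hcen' : ∀ w, w * α = α * w := hc ha (hTQ _ ha)
      rw [mul_assoc α, ← mul_assoc ⁅a, T d⁆, hcen' (⁅a, T d⁆ * ⁅d, T a⁆), ← mul_assoc, hαα, one_mul] at e
      exact e
    have hne1 : ∀ {c : Γ}, σ c ≠ 1 → σ (T c) ≠ 1 := fun {c} hc' => by simpa [hT] using hc'
    have p1 := pol (T a) (hTQ _ ha) (hne1 ha1) hmove.1.symm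
    rw [commutatorElement_self, mul_one] at p1
    have p2 := pol (T (T a)) (hTQ _ (hTQ _ ha)) (hne1 (hne1 ha1)) hmove.2.symm
    rw [hsq (hTQ _ ha) (hTQ _ (hTQ _ ha)), hTinv ha (hTQ _ ha), ← hα] at p2
    rw [hiter]
    show ⁅a, T (T (T a))⁆ = 1
    exact mul_right_cancel (p2.trans (one_mul α).symm)
  suffices h0 : ⁅a, b⁆ = 1 from commutatorElement_eq_one_iff_mul_comm.1 h0
  by_cases ha1 : σ a = 1
  · rw [hcongr (a' := 1) (by rw [ha1, map_one])]; simp
  by_cases hb1 : σ b = 1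
  · rw [← hsq ha hb, hcongr (a' := 1) (by rw [hb1, map_one])]; simp
  by_cases hab : σ b = σ a
  · rw [← hsq ha hb, hcongr hab, commutatorElement_self]
  obtain ⟨k, hk⟩ := htr.1 1 (by norm_num) _ ha _ hb ha1 hb1
  rw [pow_one] at hk
  have h7k : ¬ 7 ∣ k := fun ⟨r, hr⟩ => hab (by rw [← hk, hr, htr.2 r _ ha])
  -- `k` is three times `5 * k` modulo seven
  have h3 := key (g' ^ (5 * k)) (by rw [map_pow]; exact pow_mem hg _) (fun x hx y hy hx1 hy1 => by
    rw [map_pow]; exact htr.1 (5 * k) (by omega) x hx y hy hx1 hy1) a ha ha1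
  have hσ : σ ((g' ^ (5 * k)) ^ 3 * a * ((g' ^ (5 * k)) ^ 3)⁻¹) = σ b := by
    simp only [map_mul, map_inv, map_pow, ← pow_mul]
    rw [show 5 * k * 3 = k + 7 * (2 * k) by ring, pow_add]
    calc σ g' ^ k * σ g' ^ (7 * (2 * k)) * σ a * (σ g' ^ k * σ g' ^ (7 * (2 * k)))⁻¹
        = σ g' ^ k * (σ g' ^ (7 * (2 * k)) * σ a * (σ g' ^ (7 * (2 * k)))⁻¹) * (σ g' ^ k)⁻¹ := by group
      _ = σ b := by rw [htr.2 _ _ ha, hk]
  rw [← hsq ha hb, ← hcongr hσ, hsq ha (hσ ▸ hb)]
  exact h3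

/-- The kernel of a stem extension meets the Sylow `2`-subgroups trivially. -/
theorem sylow_commute {G : Type u} [Group G] [Finite G] (hG : commutator G = ⊤) {Γ : Type v} [Group Γ]
    [Finite Γ] (σ : Γ →* G) (hσ : Cfsg.IsStemExtension σ) (P : Sylow 2 Γ)
    (h8 : ∀ Q : Sylow 2 G, Nat.card (Q : Subgroup G) = 8 ∧ ∀ x ∈ (Q : Subgroup G), x * x = 1) :
    ∀ a ∈ (P : Subgroup Γ), ∀ b ∈ (P : Subgroup Γ), a * b = b * a := by
  intro a ha b hb
  have hQ := h8 (P.mapSurjective hσ.1)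
  refine commute_preimage hG σ hσ.1 hσ.2.1 (P.mapSurjective hσ.1) hQ.1 hQ.2 ?_ ?_ <;>
    rw [Sylow.coe_mapSurjective] <;> exact Subgroup.mem_map_of_mem _ ‹_›

end Cfsg.Agent.SimpleFacts.StemElementaryEight
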