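import Cfsg.Agent.SimpleFacts.UnitaryThreeReflection

/-!
# The commuting graph on the involutions of `SU₃(q)`, `q` odd
-/

set_option autoImplicit false
set_option linter.unusedSectionVars false

namespace Cfsg.Agent.SimpleFacts.UnitaryThreeInvolutions

open Matrix Cfsg.Agent.Classical.Unitary
open Cfsg.Agent.SimpleFacts.UnitaryThreeReflection

variable {F : Type*} [Field F] [Fintype F] {q : ℕ} (hq : Odd q) (hF : Fintype.card F = q ^ 2)

local notation "Vec" => (Fin 3 → F)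
local notation "H" => Cfsg.hermForm 3 F q
local notation "S" => (Cfsg.SU 3 F q)

include hq hF

theorem isInvol {v : Vec} (hv : H v v = 1) :
    refl hF hv ≠ 1 ∧ refl hF hv * refl hF hv = 1 :=
  ⟨refl_ne_one hF (two_ne hF hq) hv, refl_sq hF hv⟩

/-- Each property of involutions: unit vectors cover the involutions `q + 1` times. -/
theorem card_units (P : S → Prop) :
    Nat.card {v : Vec // ∃ hv : H v v = 1, P (refl hF hv)} =
      Nat.card {x : S // (x ≠ 1 ∧ x * x = 1) ∧ P x} * (q + 1) := by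
  have h2 := two_ne hF hq
  choose rep hrep hrep' using fun x : {x : S // (x ≠ 1 ∧ x * x = 1) ∧ P x} =>
    exists_refl hF hq x.1 x.2.1.1 x.2.1.2
  conv_rhs => rw [← natCard_normOne hF, ← Nat.card_prod]
  have hmem : ∀ a : (powMonoidHom (q + 1) : Fˣ →* Fˣ).ker, ((a : Fˣ) : F) ^ (q + 1) = 1 := fun a => by
    have := a.2
    rw [MonoidHom.mem_ker, powMonoidHom_apply] at this
    rw [← Units.val_pow_eq_pow_val, this, Units.val_one]
  refine (Nat.card_congr (Equiv.ofBijective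
    (fun p : {x : S // (x ≠ 1 ∧ x * x = 1) ∧ P x} × (powMonoidHom (q + 1) : Fˣ →* Fˣ).ker =>
      (⟨((p.2 : Fˣ) : F) • rep p.1, H_smul_self hF (hrep p.1) (hmem p.2), by
        rw [show refl hF (H_smul_self hF (hrep p.1) (hmem p.2)) = p.1.1 from
          (((refl_eq_iff hF h2 (hrep p.1) _).2 ⟨_, rfl⟩).symm.trans (hrep' p.1).symm)]
        exact p.1.2.2⟩ : {v : Vec // ∃ hv : H v v = 1, P (refl hF hv)})) ⟨?_, ?_⟩)).symm
  · rintro ⟨x, a⟩ ⟨y, b⟩ h
    have h' : ((a : Fˣ) : F) • rep x = ((b : Fˣ) : F) • rep y := congrArg Subtype.val h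
    have hxy : x = y := by
      refine Subtype.ext ?_
      rw [hrep' x, hrep' y, refl_eq_iff hF h2]
      refine ⟨((b : Fˣ) : F)⁻¹ * ((a : Fˣ) : F), ?_⟩
      rw [mul_smul, h', inv_smul_smul₀ (Units.ne_zero _)]
    subst hxy
    have h0 : rep x ≠ 0 := fun h0 => by
      have := hrep x
      rw [h0, H_zero_left] at this
      exact zero_ne_one this
    exact Prod.ext rfl (Subtype.ext (Units.ext (smul_left_injective F h0 h')))
  · rintro ⟨v, hv, hP⟩
    let x : {x : S // (x ≠ 1 ∧ x * x = 1) ∧ P x} := ⟨refl hF hv, isInvol hq hF hv, hP⟩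
    obtain ⟨a, ha⟩ := (refl_eq_iff hF h2 (hrep x) hv).1 (hrep' x).symm
    have ha1 := scal_pow hF (hrep x) hv ha
    have ha0 : a ≠ 0 := fun h => by simp [h] at ha1
    exact ⟨(x, ⟨Units.mk0 a ha0, Units.ext (by simpa using ha1)⟩), Subtype.ext ha.symm⟩

theorem card_invol : Nat.card {x : S // x ≠ 1 ∧ x * x = 1} = q ^ 2 * (q ^ 2 - q + 1) := by
  have h := card_units hq hF (fun _ => True)
  rw [Nat.card_congr (Equiv.subtypeEquivRight (q := fun v : Vec => H v v = 1)
      (fun v => ⟨fun ⟨h, _⟩ => h, fun h => ⟨h, trivial⟩⟩)),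
    Nat.card_congr (Equiv.subtypeEquivRight (q := fun x : S => x ≠ 1 ∧ x * x = 1)
      (fun x => and_iff_left trivial))] at h
  have hc : Classical.UnitaryCount.cnt F q 3 1 = q ^ 2 * (q ^ 3 + 1) := by
    rw [Classical.UnitaryCount.cnt_one_eq hF, if_neg (by decide)]
  rw [Classical.UnitaryCount.cnt] at hc
  rw [hc] at h
  refine Nat.eq_of_mul_eq_mul_right (show 0 < q + 1 by omega) (h.symm.trans ?_)
  have hqq : q ≤ q ^ 2 := Nat.le_self_pow (by norm_num) q
  rw [mul_assoc]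
  congr 1
  zify [hqq]
  ring

theorem card_nbrs {t : S} (ht : t ≠ 1) (ht2 : t * t = 1) :
    Nat.card {x : S // x ≠ 1 ∧ x * x = 1 ∧ x ≠ t ∧ Commute t x} = q * (q - 1) := by
  have h2 := two_ne hF hq
  obtain ⟨v, hv, rfl⟩ := exists_refl hF hq t ht ht2
  have h := card_units hq hF (fun x => x ≠ refl hF hv ∧ Commute (refl hF hv) x)
  have e : ∀ w : Vec, (∃ hw : H w w = 1, refl hF hw ≠ refl hF hv ∧ Commute (refl hF hv) (refl hF hw))
      ↔ ((∀ _ : Fin 1, H w v = 0) ∧ H w w = 1) := by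
    intro w
    constructor
    · rintro ⟨hw, hne, hc⟩
      refine ⟨fun _ => ?_, hw⟩
      rcases (commute_iff hF h2 hv hw).1 hc with h' | h'
      · exact absurd ((refl_eq_iff hF h2 hv hw).2 h').symm hne
      · exact (H_eq_zero_comm hF).1 h'
    · rintro ⟨h', hw⟩
      have h0 := (H_eq_zero_comm hF).1 (h' 0)
      refine ⟨hw, fun hEq => ?_, (commute_iff hF h2 hv hw).2 (Or.inr h0)⟩
      obtain ⟨a, rfl⟩ := (refl_eq_iff hF h2 hv hw).1 hEq.symm
      have := scal_pow hF hv hw rfl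
      rw [H_smul_right, hv, mul_one] at h0
      rw [pow_succ, h0, zero_mul] at this
      exact zero_ne_one this
  rw [Nat.card_congr (Equiv.subtypeEquivRight e)] at h
  have hc := natCard_ext (k := 1) (r := 2) hF (fun _ => v)
    (fun i j => by rw [if_pos (Subsingleton.elim i j)]; exact hv)
  rw [Classical.UnitaryCount.cnt_one_eq hF, if_pos (by decide)] at hc
  rw [hc] at h
  rw [Nat.card_congr (Equiv.subtypeEquivRight
    (q := fun x : S => x ≠ 1 ∧ x * x = 1 ∧ x ≠ refl hF hv ∧ Commute (refl hF hv) x)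
    (fun x => and_assoc))] at h
  refine Nat.eq_of_mul_eq_mul_right (show 0 < q + 1 by omega) (h.symm.trans ?_)
  rw [show (2 : ℕ) - 1 = 1 from rfl, pow_one, mul_assoc]
  congr 1
  rw [mul_comm, ← Nat.sq_sub_sq, one_pow]

/-- Two involutions have at most one common neighbour. -/
theorem common_unique {t x y y' : S} (ht : t ≠ 1) (ht2 : t * t = 1) (hx : x ≠ 1) (hx2 : x * x = 1)
    (hy : y ≠ 1) (hy2 : y * y = 1) (hy' : y' ≠ 1) (hy'2 : y' * y' = 1) (hxt : x ≠ t)
    (hyt : y ≠ t) (hyx : y ≠ x) (hy't : y' ≠ t) (hy'x : y' ≠ x)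
    (c1 : Commute t y) (c2 : Commute x y) (c1' : Commute t y') (c2' : Commute x y') : y = y' := by
  have h2 := two_ne hF hq
  obtain ⟨u, hu, rfl⟩ := exists_refl hF hq t ht ht2
  obtain ⟨w, hw, rfl⟩ := exists_refl hF hq x hx hx2
  obtain ⟨a, ha, rfl⟩ := exists_refl hF hq y hy hy2
  obtain ⟨b, hb, rfl⟩ := exists_refl hF hq y' hy' hy'2
  have hperp : ∀ {p r : Vec} (hp : H p p = 1) (hr : H r r = 1), refl hF hr ≠ refl hF hp →
      Commute (refl hF hp) (refl hF hr) → H r p = 0 := by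
    intro p r hp hr hne hc
    rcases (commute_iff hF h2 hp hr).1 hc with h | h
    · exact absurd ((refl_eq_iff hF h2 hp hr).2 h).symm hne
    · exact (H_eq_zero_comm hF).1 h
  have hu0 : u ≠ 0 := fun h => by rw [h, H_zero_left] at hu; exact zero_ne_one hu
  have hnp : ∀ c : F, w ≠ c • u := fun c h => hxt ((refl_eq_iff hF h2 hu hw).2 ⟨c, h⟩).symm
  obtain ⟨ca, hca⟩ := exists_smul_of_perp hF hu0 hnp (hperp hu ha hyt c1) (hperp hw ha hyx c2)
  obtain ⟨cb, hcb⟩ := exists_smul_of_perp hF hu0 hnp (hperp hu hb hy't c1') (hperp hw hb hy'x c2')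
  have hca0 : ca ≠ 0 := fun h => by
    rw [h, zero_smul] at hca; rw [hca, H_zero_left] at ha; exact zero_ne_one ha
  exact (refl_eq_iff hF h2 ha hb).2 ⟨cb / ca, by rw [hca, smul_smul, div_mul_cancel₀ _ hca0, hcb]⟩

/-- Commuting involutions have a common neighbour. -/
theorem common_exists {t x : S} (ht : t ≠ 1) (ht2 : t * t = 1) (hx : x ≠ 1) (hx2 : x * x = 1)
    (hxt : x ≠ t) (hc : Commute t x) :
    ∃ y : S, y ≠ 1 ∧ y * y = 1 ∧ y ≠ t ∧ y ≠ x ∧ Commute t y ∧ Commute x y := by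
  have h2 := two_ne hF hq
  obtain ⟨u, hu, rfl⟩ := exists_refl hF hq t ht ht2
  obtain ⟨w, hw, rfl⟩ := exists_refl hF hq x hx hx2
  have huw : H u w = 0 := by
    rcases (commute_iff hF h2 hu hw).1 hc with h | h
    · exact absurd ((refl_eq_iff hF h2 hu hw).2 h).symm hxt
    · exact h
  have hzz : H (perp q u w) (perp q u w) = 1 := by
    rw [H_perp_self hF, hu, hw, huw, zero_mul, sub_zero, mul_one]
  refine ⟨refl hF hzz, (isInvol hq hF hzz).1, (isInvol hq hF hzz).2, fun h => ?_, fun h => ?_,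
    (commute_iff hF h2 hu hzz).2 (Or.inr (H_perp_left hF u w)),
    (commute_iff hF h2 hw hzz).2 (Or.inr (H_perp_right hF u w))⟩
  · obtain ⟨a, ha⟩ := (refl_eq_iff hF h2 hzz hu).1 h
    have h' := congrArg (fun y => H y (perp q u w)) ha
    simp only [H_perp_left hF, H_smul_left, hzz, mul_one] at h'
    rw [← h', zero_smul] at ha
    rw [ha, H_zero_left] at hu
    exact zero_ne_one hu
  · obtain ⟨a, ha⟩ := (refl_eq_iff hF h2 hzz hw).1 h
    have h' := congrArg (fun y => H y (perp q u w)) ha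
    simp only [H_perp_right hF, H_smul_left, hzz, mul_one] at h'
    rw [← h', zero_smul] at ha
    rw [ha, H_zero_left] at hw
    exact zero_ne_one hw

theorem card_common {t x : S} (ht : t ≠ 1) (ht2 : t * t = 1) (hx : x ≠ 1) (hx2 : x * x = 1)
    (hxt : x ≠ t) (hc : Commute t x) :
    Nat.card {y : S // y ≠ 1 ∧ y * y = 1 ∧ y ≠ t ∧ y ≠ x ∧ Commute t y ∧ Commute x y} = 1 := by
  obtain ⟨y, h⟩ := common_exists hq hF ht ht2 hx hx2 hxt hc
  refine Nat.card_eq_one_iff_exists.2 ⟨⟨y, h⟩, fun z => Subtype.ext ?_⟩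
  obtain ⟨z1, z2, z3, z4, z5, z6⟩ := z.2
  obtain ⟨y1, y2, y3, y4, y5, y6⟩ := h
  exact common_unique hq hF ht ht2 hx hx2 z1 z2 y1 y2 hxt z3 z4 y3 y4 z5 z6 y5 y6

theorem diameter {t x : S} (ht : t ≠ 1) (ht2 : t * t = 1) (hx : x ≠ 1) (hx2 : x * x = 1) :
    ∃ y z : S, y ≠ 1 ∧ y * y = 1 ∧ z ≠ 1 ∧ z * z = 1 ∧ Commute t y ∧ Commute y z ∧ Commute z x := by
  have h2 := two_ne hF hq
  obtain ⟨u, hu, rfl⟩ := exists_refl hF hq t ht ht2
  obtain ⟨w, hw, rfl⟩ := exists_refl hF hq x hx hx2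
  have scale : ∀ z : Vec, H z z ≠ 0 → ∃ (v : Vec) (_ : H v v = 1) (a : F), v = a • z := by
    intro z h0
    have hc : (H z z) ^ q = H z z := H_conj hF z z
    obtain ⟨a, ha⟩ := Classical.UnitaryCount.exists_norm_eq hF (inv_ne_zero h0) (by rw [inv_pow, hc])
    refine ⟨a • z, ?_, a, rfl⟩
    rw [H_smul_left, H_smul_right, ← mul_assoc, ← pow_succ', ha, inv_mul_cancel₀ h0]
  -- a unit vector perpendicular to `u` and not isotropically linked to `w` suffices
  have main : ∀ y : Vec, ∀ hy : H y y = 1, H y u = 0 → H y w * H w y ≠ 1 →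
      ∃ y z : S, y ≠ 1 ∧ y * y = 1 ∧ z ≠ 1 ∧ z * z = 1 ∧ Commute (refl hF hu) y ∧ Commute y z ∧
        Commute z (refl hF hw) := by
    intro y hy hyu hne
    have h0 : H (perp q y w) (perp q y w) ≠ 0 := by
      rw [H_perp_self hF, hy, hw, mul_one, sub_ne_zero]; exact Ne.symm hne
    obtain ⟨z, hz, a, ha⟩ := scale _ h0
    refine ⟨refl hF hy, refl hF hz, (isInvol hq hF hy).1, (isInvol hq hF hy).2, (isInvol hq hF hz).1,
      (isInvol hq hF hz).2, (commute_iff hF h2 hu hy).2 (Or.inr ((H_eq_zero_comm hF).1 hyu)),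
      (commute_iff hF h2 hy hz).2 (Or.inr ?_), (commute_iff hF h2 hz hw).2 (Or.inr ?_)⟩
    · rw [ha, H_smul_right, H_perp_left hF, mul_zero]
    · rw [ha, H_smul_left, perp_right hF, mul_zero]
  by_cases hcase : H u w * H w u = 1
  · obtain ⟨g, hg⟩ := exists_gu_frame (k := 1) (r := 2) hF (fun _ => u)
      (fun i j => by rw [if_pos (Subsingleton.elim i j)]; exact hu)
    have hg0 : gmat g *ᵥ Pi.single (0 : Fin 3) 1 = u := hg 0
    obtain ⟨c, hc⟩ : ∃ c : Vec, w = gmat g *ᵥ c := ⟨gmat g⁻¹ *ᵥ w, by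
      rw [← gmul_mulVec, mul_inv_cancel, gmat_one, Matrix.one_mulVec]⟩
    have hbase : ∀ i : Fin 3, H (gmat g *ᵥ Pi.single i 1) (gmat g *ᵥ Pi.single i 1) = 1 := fun i => by
      rw [GU_H, H_single_right hF, Pi.single_eq_same]
    have horth : ∀ i : Fin 3, i ≠ 0 → H (gmat g *ᵥ Pi.single i 1) u = 0 := fun i hi => by
      rw [← hg0, GU_H, H_single_right hF, Pi.single_eq_of_ne (Ne.symm hi)]
    have hw' : ∀ i : Fin 3, H w (gmat g *ᵥ Pi.single i 1) = c i := fun i => by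
      rw [hc, GU_H, H_single_right hF]
    have hw'' : ∀ i : Fin 3, H (gmat g *ᵥ Pi.single i 1) w = c i ^ q := fun i => by
      rw [← hw' i, H_conj hF]
    have hsum : c 0 * c 0 ^ q + c 1 * c 1 ^ q + c 2 * c 2 ^ q = 1 := by
      rw [← H_three hF, ← GU_H g, ← hc, hw]
    have hc0 : c 0 * c 0 ^ q = 1 := by
      rw [← hw' 0, hg0, H_conj hF w u, mul_comm]; exact hcase
    by_cases h1 : c 1 * c 1 ^ q = 1
    · refine main _ (hbase 2) (horth 2 (by decide)) ?_
      rw [hw', hw'']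
      intro h
      exact h2 (by linear_combination hsum - h1 - h - hc0)
    · refine main _ (hbase 1) (horth 1 (by decide)) ?_
      rw [hw', hw'', mul_comm]
      exact h1
  · have h0 : H (perp q u w) (perp q u w) ≠ 0 := by
      rw [H_perp_self hF, hu, hw, mul_one, sub_ne_zero]; exact Ne.symm hcase
    obtain ⟨z, hz, a, ha⟩ := scale _ h0
    refine ⟨refl hF hz, refl hF hz, (isInvol hq hF hz).1, (isInvol hq hF hz).2, (isInvol hq hF hz).1,
      (isInvol hq hF hz).2, (commute_iff hF h2 hu hz).2 (Or.inr ?_), Commute.refl _,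
      (commute_iff hF h2 hz hw).2 (Or.inr ?_)⟩
    · rw [ha, H_smul_right, H_perp_left hF, mul_zero]
    · rw [ha, H_smul_left, perp_right hF, mul_zero]

theorem conj_invol {t x : S} (ht : t ≠ 1) (ht2 : t * t = 1) (hx : x ≠ 1) (hx2 : x * x = 1) :
    ∃ g : S, g * t * g⁻¹ = x := by
  obtain ⟨u, hu, rfl⟩ := exists_refl hF hq t ht ht2
  obtain ⟨w, hw, rfl⟩ := exists_refl hF hq x hx hx2
  exact refl_conj hF (two_ne hF hq) hu hw

theorem card_centralizer {t : S} (ht : t ≠ 1) (ht2 : t * t = 1) :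
    Nat.card ↥(Subgroup.centralizer ({t} : Set S)) = q * (q + 1) * (q ^ 2 - 1) := by
  have horb : MulAction.orbit (ConjAct S) t = {x : S | x ≠ 1 ∧ x * x = 1} := by
    ext x
    constructor
    · rintro ⟨g, rfl⟩
      refine ⟨fun h => ht ?_, ?_⟩
      · have h' : g • t = g • (1 : S) := h.trans (smul_one g).symm
        exact (smul_left_cancel_iff g).1 h'
      · show (g • t) * (g • t) = 1
        rw [← smul_mul', ht2, smul_one]
    · rintro ⟨h1, h2⟩
      obtain ⟨g, hg⟩ := conj_invol hq hF ht ht2 h1 h2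
      exact ⟨ConjAct.toConjAct g, by show ConjAct.toConjAct g • t = x; rw [ConjAct.toConjAct_smul, hg]⟩
  have h := Nat.card_congr (MulAction.orbitProdStabilizerEquivGroup (ConjAct S) t)
  rw [Nat.card_prod, horb, ConjAct.stabilizer_eq_centralizer,
    show Nat.card (ConjAct S) = Nat.card S from Nat.card_congr ConjAct.ofConjAct.toEquiv] at h
  rw [show Nat.card ↥{x : S | x ≠ 1 ∧ x * x = 1} = Nat.card {x : S // x ≠ 1 ∧ x * x = 1} from rfl,
    card_invol hq hF] at h
  have hS := natCard_SU_mul (n := 3) hF (by norm_num)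
  rw [natCard_GU hF, ← h] at hS
  simp [Finset.prod_range_succ, Nat.even_add_one] at hS
  have hq1 : 1 ≤ q := hq.pos
  have hqq : q ≤ q ^ 2 := Nat.le_self_pow (by norm_num) q
  have h1 : 1 ≤ q ^ 2 := by omega
  refine Nat.eq_of_mul_eq_mul_left
    (show 0 < (q + 1) * (q ^ 2 * (q ^ 2 - q + 1)) by positivity) ?_
  rw [mul_assoc]
  erw [hS]
  zify [hqq, h1]
  ring

/-! ### Counting in the graph -/

theorem card_dist_two {t : S} (ht : t ≠ 1) (ht2 : t * t = 1) :
    Nat.card {x : S // x ≠ 1 ∧ x * x = 1 ∧ ¬ Commute t x ∧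
      ∃ y : S, y ≠ 1 ∧ y * y = 1 ∧ Commute t y ∧ Commute y x} = q * (q - 2) * (q ^ 2 - 1) := by
  classical
  have := Fintype.ofFinite S
  set I : Finset S := Finset.univ.filter (fun x => x ≠ 1 ∧ x * x = 1) with hI
  let N : S → Finset S := fun y => I.filter (fun x => x ≠ y ∧ Commute y x)
  let T : S → Finset S := fun y => (N y).filter (fun x => ¬ Commute t x)
  have hN : ∀ y ∈ I, (N y).card = q * (q - 1) := by
    intro y hy
    rw [hI, Finset.mem_filter] at hy
    rw [← card_nbrs hq hF hy.2.1 hy.2.2, Nat.card_eq_fintype_card, Fintype.card_subtype]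
    congr 1; ext x; simp [N, hI, and_assoc]
  have hset : Finset.univ.filter (fun x : S => x ≠ 1 ∧ x * x = 1 ∧ ¬ Commute t x ∧
      ∃ y : S, y ≠ 1 ∧ y * y = 1 ∧ Commute t y ∧ Commute y x) = (N t).biUnion T := by
    ext x
    simp only [Finset.mem_filter, Finset.mem_univ, true_and, Finset.mem_biUnion, N, T, hI]
    constructor
    · rintro ⟨h1, h2, h3, y, h4, h5, h6, h7⟩
      exact ⟨y, ⟨⟨h4, h5⟩, fun h => h3 (h ▸ h7), h6⟩, ⟨⟨h1, h2⟩, fun h => h3 (h ▸ h6), h7⟩, h3⟩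
    · rintro ⟨y, ⟨⟨h4, h5⟩, -, h6⟩, ⟨⟨h1, h2⟩, -, h7⟩, h3⟩
      exact ⟨h1, h2, h3, y, h4, h5, h6, h7⟩
  have hmem : ∀ {x y : S}, x ∈ N y ↔ (x ≠ 1 ∧ x * x = 1) ∧ x ≠ y ∧ Commute y x := by
    intro x y; simp [N, hI]
  have hdisj : (↑(N t) : Set S).PairwiseDisjoint T := by
    intro y hy y' hy' hne
    rw [Finset.mem_coe, hmem] at hy hy'
    refine Finset.disjoint_left.2 fun x hx hx' => hne ?_
    simp only [T, Finset.mem_filter, hmem] at hx hx'
    exact common_unique hq hF ht ht2 hx.1.1.1 hx.1.1.2 hy.1.1 hy.1.2 hy'.1.1 hy'.1.2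
      (fun h => hx.2 (h ▸ Commute.refl t)) hy.2.1 (Ne.symm hx.1.2.1) hy'.2.1 (Ne.symm hx'.1.2.1)
      hy.2.2 hx.1.2.2.symm hy'.2.2 hx'.1.2.2.symm
  have hT : ∀ y ∈ N t, (T y).card = q * (q - 1) - 2 := by
    intro y hy
    rw [hmem] at hy
    obtain ⟨z, z1, z2, z3, z4, z5, z6⟩ := common_exists hq hF ht ht2 hy.1.1 hy.1.2 hy.2.1 hy.2.2
    have hbad : (N y).filter (fun x => Commute t x) = {t, z} := by
      ext x
      simp only [Finset.mem_filter, hmem, Finset.mem_insert, Finset.mem_singleton]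
      constructor
      · rintro ⟨⟨⟨h1, h2⟩, h3, h4⟩, h5⟩
        by_cases hxt : x = t
        · exact Or.inl hxt
        · exact Or.inr (common_unique hq hF ht ht2 hy.1.1 hy.1.2 h1 h2 z1 z2 hy.2.1 hxt h3 z3 z4
            h5 h4 z5 z6)
      · rintro (rfl | rfl)
        · exact ⟨⟨⟨ht, ht2⟩, Ne.symm hy.2.1, hy.2.2.symm⟩, Commute.refl _⟩
        · exact ⟨⟨⟨z1, z2⟩, z4, z6⟩, z5⟩
    have := Finset.card_filter_add_card_filter_not (s := N y) (fun x => Commute t x)
    rw [hbad, Finset.card_pair (Ne.symm z3), hN y (by simp [hI, hy.1])] at this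
    show ((N y).filter (fun x => ¬ Commute t x)).card = _
    omega
  rw [Nat.card_eq_fintype_card, Fintype.card_subtype, hset, Finset.card_biUnion hdisj,
    Finset.sum_congr rfl hT, Finset.sum_const, hN t (by simp [hI, ht, ht2]), smul_eq_mul]
  have hq1 : 1 ≤ q := hq.pos
  rcases (show q = 1 ∨ 3 ≤ q by rcases hq with ⟨k, hk⟩; omega) with rfl | h3
  · simp
  · have h2 : 2 ≤ q * (q - 1) := by nlinarith [Nat.sub_add_cancel hq1]
    have h1 : 1 ≤ q ^ 2 := Nat.one_le_pow _ _ (by omega)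
    zify [hq1, h1, h2, show 2 ≤ q by omega]
    ring

theorem card_dist_three {t : S} (ht : t ≠ 1) (ht2 : t * t = 1) :
    Nat.card {x : S // x ≠ 1 ∧ x * x = 1 ∧ ¬ Commute t x ∧
      ∀ y : S, y ≠ 1 → y * y = 1 → ¬ (Commute t y ∧ Commute y x)} = (q + 1) * (q ^ 2 - 1) := by
  classical
  have := Fintype.ofFinite S
  have h0 := card_invol hq hF
  have h1 := card_nbrs hq hF ht ht2
  have h2 := card_dist_two hq hF ht ht2
  rw [Nat.card_eq_fintype_card, Fintype.card_subtype] at h0 h1 h2 ⊢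
  set I : Finset S := Finset.univ.filter (fun x => x ≠ 1 ∧ x * x = 1) with hI
  have e1 := Finset.card_filter_add_card_filter_not (s := I) (fun x => Commute t x)
  have hA : I.filter (fun x => Commute t x) = insert t
      (Finset.univ.filter (fun x : S => x ≠ 1 ∧ x * x = 1 ∧ x ≠ t ∧ Commute t x)) := by
    ext x
    simp only [Finset.mem_filter, Finset.mem_insert, Finset.mem_univ, true_and, hI]
    constructor
    · rintro ⟨⟨a, b⟩, c⟩
      by_cases h : x = t
      · exact Or.inl h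
      · exact Or.inr ⟨a, b, h, c⟩
    · rintro (rfl | ⟨a, b, -, c⟩)
      · exact ⟨⟨ht, ht2⟩, Commute.refl _⟩
      · exact ⟨⟨a, b⟩, c⟩
  rw [hA, Finset.card_insert_of_notMem (by simp), h1, h0] at e1
  have e2 := Finset.card_filter_add_card_filter_not (s := I.filter (fun x => ¬ Commute t x))
    (fun x => ∃ y : S, y ≠ 1 ∧ y * y = 1 ∧ Commute t y ∧ Commute y x)
  have hB : (I.filter (fun x => ¬ Commute t x)).filter
      (fun x => ∃ y : S, y ≠ 1 ∧ y * y = 1 ∧ Commute t y ∧ Commute y x) =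
      Finset.univ.filter (fun x : S => x ≠ 1 ∧ x * x = 1 ∧ ¬ Commute t x ∧
        ∃ y : S, y ≠ 1 ∧ y * y = 1 ∧ Commute t y ∧ Commute y x) := by
    ext x
    simp only [Finset.mem_filter, Finset.mem_univ, true_and, hI, and_assoc]
  have hC : (I.filter (fun x => ¬ Commute t x)).filter
      (fun x => ¬ ∃ y : S, y ≠ 1 ∧ y * y = 1 ∧ Commute t y ∧ Commute y x) =
      Finset.univ.filter (fun x : S => x ≠ 1 ∧ x * x = 1 ∧ ¬ Commute t x ∧
        ∀ y : S, y ≠ 1 → y * y = 1 → ¬ (Commute t y ∧ Commute y x)) := by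
    ext x
    simp only [Finset.mem_filter, Finset.mem_univ, true_and, hI, and_assoc, not_exists, not_and]
  rw [hB, hC, h2] at e2
  rw [← e2] at e1
  have hq1 : 1 ≤ q := hq.pos
  have hqq : q ≤ q ^ 2 := Nat.le_self_pow (by norm_num) q
  rcases (show q = 1 ∨ 2 ≤ q by omega) with rfl | hq2
  · simp at e1 ⊢; omega
  · zify [hq1, hqq, hq2, show 1 ≤ q ^ 2 by omega] at e1 ⊢
    linear_combination e1

end Cfsg.Agent.SimpleFacts.UnitaryThreeInvolutions
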