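import Cfsg.Prelude.Def_ChevAutomorphisms
import Cfsg.Agent.Lib.Chevalley.Borel
import Cfsg.Agent.Lib.Chevalley.Types.D4
import Cfsg.Agent.Lib.Chevalley.Types.E6

/-!
Graph automorphisms of `D4` and `E6` send every root element to a signed root element.
-/

set_option autoImplicit false

namespace Cfsg.Agent.SimpleFacts.ChevalleyGraph

open Cfsg.Lie Cfsg.Agent.Chevalley.Table Cfsg.Agent.Chevalley.Cert Cfsg.Agent.Chevalley.Group
  Cfsg.Agent.Chevalley.Borel

/-- Simply laced, with roots separated by their coroot coefficients. -/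
def laced (D : ChevalleyDatum) : Bool :=
  ((List.range D.rank).all fun i => (List.range D.rank).all fun j =>
      i == j || D.cartan i (D.simple j) == -D.bonds i j) &&
    (List.range D.nroots).all fun r => D.permRoot (1 : Equiv.Perm (Fin D.rank)) r == r

theorem exists_laced {D : ChevalleyDatum} (hD : D ∈ [chevD4, chevE6]) :
    ∃ T : Tab, Certified D T ∧ laced D = true := by
  simp only [List.mem_cons, List.not_mem_nil, or_false] at hD
  rcases hD with rfl | rfl
  · exact ⟨_, Cfsg.Agent.Chevalley.Types.D4.certified, by decide +kernel⟩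
  · exact ⟨_, Cfsg.Agent.Chevalley.Types.E6.certified, by decide +kernel⟩

variable {D : ChevalleyDatum} {T : Tab} (hC : Certified D T) (hl : laced D = true)

/-- The predicate searched for by `permRoot`. -/
abbrev Corr (D : ChevalleyDatum) (π : Equiv.Perm (Fin D.rank)) (r s : ℕ) : Prop :=
  ∀ i : Fin D.rank, cor D s (π i) = cor D r i

theorem permRoot_spec {π : Equiv.Perm (Fin D.rank)} {r s : ℕ} (hs : s < D.nroots)
    (h : Corr D π r s) : D.permRoot π r < D.nroots ∧ Corr D π r (D.permRoot π r) := by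
  unfold ChevalleyDatum.permRoot
  cases hf : (List.range D.nroots).find? _ with
  | none =>
    have := List.find?_eq_none.1 hf s (List.mem_range.2 hs)
    simp only [List.all_eq_true, List.mem_finRange, beq_iff_eq, forall_const] at this
    exact absurd h this
  | some x =>
    have h1 := List.find?_some hf
    simp only [List.all_eq_true, List.mem_finRange, beq_iff_eq, forall_const] at h1
    exact ⟨List.mem_range.1 (List.mem_of_find?_eq_some hf), h1⟩

include hl in
theorem cor_injective {r s : ℕ} (hr : r < D.nroots) (hs : s < D.nroots)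
    (h : ∀ i : Fin D.rank, cor D s i = cor D r i) : s = r := by
  have hl' := hl
  simp only [laced, Bool.and_eq_true, List.all_eq_true, List.mem_range, beq_iff_eq] at hl'
  have key : D.permRoot (1 : Equiv.Perm (Fin D.rank)) r = D.permRoot (1 : Equiv.Perm (Fin D.rank)) s := by
    unfold ChevalleyDatum.permRoot
    have e : (fun x => (List.finRange D.rank).all fun i =>
        (D.coroot.getD x #[]).getD ((1 : Equiv.Perm (Fin D.rank)) i).val 0 ==
          (D.coroot.getD r #[]).getD i.val 0) =
      fun x => (List.finRange D.rank).all fun i =>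
        (D.coroot.getD x #[]).getD ((1 : Equiv.Perm (Fin D.rank)) i).val 0 ==
          (D.coroot.getD s #[]).getD i.val 0 := by
      funext x
      congr 1
      funext i
      have := h i
      simp only [cor] at this
      rw [this]
    rw [e]
    cases hf : (List.range D.nroots).find? _ with
    | none =>
      have := List.find?_eq_none.1 hf s (List.mem_range.2 hs)
      simp at this
    | some x => rfl
  rw [hl'.2 r hr, hl'.2 s hs] at key
  exact key.symm

include hl in
theorem permRoot_eq {π : Equiv.Perm (Fin D.rank)} {r s : ℕ} (hs : s < D.nroots)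
    (h : Corr D π r s) : D.permRoot π r = s := by
  obtain ⟨h1, h2⟩ := permRoot_spec hs h
  refine cor_injective hl hs h1 fun i => ?_
  obtain ⟨j, rfl⟩ := π.surjective i
  rw [h2 j, h j]

include hl in
theorem cartan_perm {π : Equiv.Perm (Fin D.rank)} (hC : Certified D T)
    (hπ : D.IsDiagramSymmetry π) (i j : Fin D.rank) :
    D.cartan (π i) (D.simple (π j)) = D.cartan i (D.simple j) := by
  by_cases hij : i = j
  · subst hij; rw [hC.cartan_simple (π i).2, hC.cartan_simple i.2]
  have hl' := hl
  simp only [laced, Bool.and_eq_true, List.all_eq_true, List.mem_range, beq_iff_eq, Bool.or_eq_true] at hl'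
  rcases hl'.1 (π i) (π i).2 (π j) (π j).2 with e | e
  · exact absurd (π.injective (Fin.ext e)) hij
  rcases hl'.1 i i.2 j j.2 with e' | e'
  · exact absurd (Fin.ext e') hij
  rw [e, e', hπ i j hij]

include hC hl in
theorem exists_sign {F : Type*} [Field F] {π : Equiv.Perm (Fin D.rank)} (hπ : D.IsDiagramSymmetry π)
    (φ : ↥(D.group F) ≃* ↥(D.group F))
    (hφ : ∀ (g : ↥(D.group F)) (i : Fin D.rank) (t : F),
      (((g : GL D.Idx F) : Matrix D.Idx D.Idx F) = D.x F (D.simple i) t →
        ((φ g : GL D.Idx F) : Matrix D.Idx D.Idx F) = D.x F (D.simple (π i)) t) ∧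
      (((g : GL D.Idx F) : Matrix D.Idx D.Idx F) = D.x F (D.neg (D.simple i)) t →
        ((φ g : GL D.Idx F) : Matrix D.Idx D.Idx F) = D.x F (D.neg (D.simple (π i))) t)) :
    ∀ r < D.nroots, ∃ (r' : ℕ) (ε : F), r' < D.nroots ∧ Corr D π r r' ∧ (ε = 1 ∨ ε = -1) ∧
      ∀ (g : ↥(D.group F)) (t : F), (g : GL D.Idx F) = xg hC r t →
        (φ g : GL D.Idx F) = xg hC r' (ε * t) := by
  refine Cfsg.Agent.Chevalley.Root.simple_induction hC (fun i hi => ?_) (fun r hr i hi ih => ?_)
  · refine ⟨D.simple (π ⟨i, hi⟩), 1, hC.simple_lt (π ⟨i, hi⟩).2, fun j => ?_, Or.inl rfl,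
      fun g t hg => Units.ext ?_⟩
    · rw [hC.cor_simple (π ⟨i, hi⟩).2 (π j).2, hC.cor_simple hi j.2]
      simp [Fin.val_inj, Fin.ext_iff]
    · rw [one_mul, coe_xg]
      exact (hφ g ⟨i, hi⟩ t).1 (by rw [hg, coe_xg])
  obtain ⟨r', ε, hr', hcorr, hε, h⟩ := ih
  set k := π ⟨i, hi⟩ with hk
  -- the image of `n_i`
  let X : Fin D.rank → F → ↥(D.group F) := fun j t =>
    ⟨xg hC (D.simple j) t, xg_mem_group hC (hC.simple_lt j.2) t⟩
  let Y : Fin D.rank → F → ↥(D.group F) := fun j t =>
    ⟨xg hC (D.neg (D.simple j)) t, xg_mem_group hC (hC.neg_lt (hC.simple_lt j.2)) t⟩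
  have hX : ∀ j t, φ (X j t) = X (π j) t := fun j t => Subtype.ext (Units.ext ((hφ _ j t).1 rfl))
  have hY : ∀ j t, φ (Y j t) = Y (π j) t := fun j t => Subtype.ext (Units.ext ((hφ _ j t).2 rfl))
  let N : ↥(D.group F) := ⟨ng hC (D.simple i) 1, ng_mem_group hC (hC.simple_lt hi) 1⟩
  have hN : (φ N : GL D.Idx F) = ng hC (D.simple k) 1 := by
    have e : N = X ⟨i, hi⟩ 1 * Y ⟨i, hi⟩ (-1⁻¹) * X ⟨i, hi⟩ 1 := Subtype.ext rfl
    rw [e, map_mul, map_mul, hX, hY]
    rfl
  refine ⟨D.reflectRoot k r', (T.eta k r' : F) * ε * (T.eta i r : F), hC.reflect_lt k.2 hr',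
    fun j => ?_, ?_, fun g t hg => ?_⟩
  · rw [hC.cor_reflect k.2 (π j).2 hr', hC.cor_reflect hi j.2 hr, hcorr j]
    by_cases hji : (j : ℕ) = i
    · have hj : j = ⟨i, hi⟩ := Fin.ext hji
      subst hj
      rw [if_pos rfl, if_pos rfl]
      congr 1
      rw [← Fin.sum_univ_eq_sum_range (fun l => cor D r' l * D.cartan l (D.simple k)),
        ← Fin.sum_univ_eq_sum_range (fun l => cor D r l * D.cartan l (D.simple i)),
        ← Equiv.sum_comp π]
      exact Finset.sum_congr rfl fun l _ => by rw [hcorr l, hk, cartan_perm hl hC hπ l ⟨i, hi⟩]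
    · rw [if_neg hji, if_neg fun e => hji (congrArg Fin.val (π.injective (Fin.ext e)))]
  · rcases hε with rfl | rfl <;> rcases Certified.eta_cases (T := T) k r' with e | e <;>
      rcases Certified.eta_cases (T := T) i r with e' | e' <;> simp [e, e']
  · have he : (T.eta i r : F) * (T.eta i r : F) = 1 := by
      rcases Certified.eta_cases (T := T) i r with e | e <;> simp [e]
    let g₀ : ↥(D.group F) := ⟨xg hC r ((T.eta i r : F) * t), xg_mem_group hC hr _⟩
    have e : g = N * g₀ * N⁻¹ := by
      refine Subtype.ext ?_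
      show (g : GL D.Idx F) = ng hC (D.simple i) 1 * xg hC r _ * (ng hC (D.simple i) (1 : F))⁻¹
      rw [ng_conj_x hC hi hr, ← mul_assoc, he, one_mul, hg]
    rw [e, map_mul, map_mul, map_inv, Subgroup.coe_mul, Subgroup.coe_mul, Subgroup.coe_inv, hN,
      h g₀ _ rfl, ng_conj_x hC k.2 hr']
    simp only [mul_assoc]

end Cfsg.Agent.SimpleFacts.ChevalleyGraph
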