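import Mathlib

/-!
# The matrices `C_d` and ranks of standard involutions in characteristic 2
-/

set_option autoImplicit false

open Matrix

namespace Cfsg.Agent.SimpleFacts.StdInvolution

universe u

variable {F : Type u} [Field F] {n ℓ : ℕ}

/-- The `n × ℓ` matrix with a one at `(k + d, k)`. -/
def shiftMat (F : Type u) [Field F] (n ℓ d : ℕ) : Matrix (Fin n) (Fin ℓ) F :=
  Matrix.of fun i k => if i.val = k.val + d then 1 else 0

theorem shiftMat_mul_transpose (d e : ℕ) (i j : Fin n) :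
    (shiftMat F n ℓ d * (shiftMat F n ℓ e)ᵀ) i j =
      if d ≤ i.val ∧ i.val < ℓ + d ∧ j.val + d = i.val + e then 1 else 0 := by
  rw [Matrix.mul_apply]
  by_cases h : d ≤ i.val ∧ i.val < ℓ + d ∧ j.val + d = i.val + e
  · obtain ⟨h1, h2, h3⟩ := h
    rw [if_pos ⟨h1, h2, h3⟩, Finset.sum_eq_single ⟨i.val - d, by omega⟩]
    · simp only [shiftMat, Matrix.of_apply, Matrix.transpose_apply]
      rw [if_pos (by omega), if_pos (by omega), one_mul]
    · intro k _ hk
      simp only [shiftMat, Matrix.of_apply, Matrix.transpose_apply]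
      rw [if_neg, zero_mul]
      intro h'
      exact hk (Fin.ext (show k.val = i.val - d by omega))
    · simp
  · rw [if_neg h, Finset.sum_eq_zero]
    intro k _
    simp only [shiftMat, Matrix.of_apply, Matrix.transpose_apply]
    have := k.isLt
    split_ifs <;> simp
    omega

theorem transpose_shiftMat_mul (d e : ℕ) (hd : ℓ + d ≤ n) (k l : Fin ℓ) :
    ((shiftMat F n ℓ d)ᵀ * shiftMat F n ℓ e) k l = if k.val + d = l.val + e then 1 else 0 := by
  rw [Matrix.mul_apply, Finset.sum_eq_single ⟨k.val + d, by omega⟩]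
  · simp [shiftMat]
  · intro i _ hi
    simp only [shiftMat, Matrix.of_apply, Matrix.transpose_apply]
    rw [if_neg, zero_mul]
    exact fun h => hi (Fin.ext h)
  · simp

theorem shift_self (d : ℕ) (hd : ℓ + d ≤ n) :
    (shiftMat F n ℓ d)ᵀ * shiftMat F n ℓ d = 1 := by
  ext k l
  rw [transpose_shiftMat_mul d d hd, Matrix.one_apply]
  simp [Fin.ext_iff]

theorem shift_apart (d e : ℕ) (hd : ℓ + d ≤ n) (h : ℓ + d ≤ e ∨ ℓ + e ≤ d) :
    (shiftMat F n ℓ d)ᵀ * shiftMat F n ℓ e = 0 := by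
  ext k l
  rw [transpose_shiftMat_mul d e hd, if_neg]
  · rfl
  · have := k.isLt; have := l.isLt
    omega

theorem rank_eq (A B : Matrix (Fin n) (Fin ℓ) F) (L R : Matrix (Fin n) (Fin ℓ) F)
    (hL : Lᵀ * A = 1) (hR : Bᵀ * R = 1) : (A * Bᵀ).rank = ℓ := by
  apply le_antisymm
  · exact (rank_mul_le_left A Bᵀ).trans ((rank_le_card_width A).trans (Fintype.card_fin ℓ).le)
  · have h : Lᵀ * (A * Bᵀ) * R = 1 := by
      rw [← Matrix.mul_assoc Lᵀ, hL, Matrix.one_mul, hR]
    calc ℓ = (Lᵀ * (A * Bᵀ) * R).rank := by rw [h, rank_one, Fintype.card_fin]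
      _ ≤ (Lᵀ * (A * Bᵀ)).rank := rank_mul_le_left _ _
      _ ≤ (A * Bᵀ).rank := rank_mul_le_right _ _

/-- `1 + N` with `N² = 0` has determinant one in characteristic 2. -/
theorem det_one_add [CharP F 2] (N : Matrix (Fin n) (Fin n) F) (hN : N * N = 0) :
    (1 + N).det = 1 ∧ (1 + N) * (1 + N) = 1 := by
  have h2 : N + N = 0 := by ext i j; exact CharTwo.add_self_eq_zero (N i j)
  have hsq : (1 + N) * (1 + N) = 1 := by
    rw [add_mul, one_mul, mul_add, mul_one, hN, add_zero, add_assoc, h2, add_zero]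
  refine ⟨?_, hsq⟩
  have h := congrArg Matrix.det hsq
  rw [det_mul, det_one] at h
  have h' : ((1 + N).det + 1) ^ 2 = 0 := by
    rw [CharTwo.add_sq, one_pow, sq, h, CharTwo.add_self_eq_zero]
  have h'' := CharTwo.add_eq_zero.1 (pow_eq_zero_iff two_ne_zero |>.1 h')
  exact h''

end Cfsg.Agent.SimpleFacts.StdInvolution
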