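import Cfsg.Agent.SimpleFacts.ChevalleyCentral
import Cfsg.Agent.Lib.Chevalley.Types.E6
import Cfsg.Agent.Lib.Chevalley.Types.E7
import Cfsg.Agent.Lib.Chevalley.Types.E8
import Cfsg.Agent.Lib.Chevalley.Types.F4

/-!
The table checks for the extremal roots, and the resulting centralisers.
-/

set_option autoImplicit false

namespace Cfsg.Agent.SimpleFacts.ChevalleyCentralData

open Cfsg.Lie Cfsg.Agent.Chevalley.Table Cfsg.Agent.Chevalley.Cert Cfsg.Agent.Chevalley.Group
  Cfsg.Agent.Chevalley.Unip Cfsg.Agent.Chevalley.Borel Cfsg.Agent.Chevalley.Eval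
  Cfsg.Agent.SimpleFacts.ChevalleyCentral

/-- `h` lies in the reflection-stable set `S` as its largest member, and is dominant with one coordinate. -/
def extChk (D : ChevalleyDatum) (h k : ℕ) (S : List ℕ) : Bool :=
  (decide (h < D.nroots) && D.coroot.getD h #[] != #[] && decide (D.IsPosRoot h)) &&
    (decide (k < D.rank) && (List.range D.rank).all fun i =>
      D.cartan i h == if i = k then 1 else 0) &&
    (S.contains h && S.all fun s => decide (s ≤ h) &&
      (List.range D.rank).all fun i => S.contains (D.reflectRoot i s))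

/-- Positive roots commute with `h` up to terms with even coefficient. -/
def centChk (D : ChevalleyDatum) (h : ℕ) (even : Bool) : Bool :=
  D.posRoots.all fun r => r == h || ((D.commTerms r h).isEmpty ||
    (even && (D.commTerms r h).all fun c => c.2.1 % 2 == 0))

/-- The negatives of the fundamental roots orthogonal to `h` are listed by `l`. -/
def listChk (D : ChevalleyDatum) (h : ℕ) (l : List ℕ) : Bool :=
  (l.all fun s => (List.range D.rank).any fun j => D.cartan j h == 0 && D.neg (D.simple j) == s) &&
    (List.range D.rank).all fun j => D.cartan j h != 0 || l.contains (D.neg (D.simple j))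

variable {D : ChevalleyDatum} {T : Tab} {F : Type*} [Field F] (hC : Certified D T)
include hC

theorem extremal {h k : ℕ} {S : List ℕ} (hc : extChk D h k S = true) : Extremal D F T h := by
  simp only [extChk, Bool.and_eq_true, decide_eq_true_eq, List.all_eq_true, List.mem_range,
    beq_iff_eq, List.contains_iff_mem] at hc
  obtain ⟨⟨⟨⟨hlt, -⟩, hpos⟩, hk, hA⟩, hS, hcl⟩ := hc
  refine ⟨hlt, (hC.posRoot_iff hlt).1 hpos, fun i hi => ?_, fun L hL => ?_, fun c hc i hi hne => ?_⟩
  · rw [hA i hi]; split_ifs <;> omega
  · have key : wL D L h ∈ S := by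
      induction L with
      | nil => exact hS
      | cons i L ih =>
        exact (hcl _ (ih fun j hj => hL j (List.mem_cons_of_mem i hj))).2 i (hL i List.mem_cons_self)
    rcases Nat.eq_or_lt_of_le (hcl _ key).1 with e | e
    · exact (congrArg T.phi e).le
    · exact (hC.phi_lt e hlt).le
  · have hik : i = k := by
      by_contra hne'
      exact hne (by rw [hA i hi, if_neg hne'])
    subst hik
    rw [torChar, Finset.prod_eq_single i] at hc
    · rwa [hA i hi, if_pos rfl, zpow_one] at hc
    · intro j hj hji
      rw [hA j (Finset.mem_range.1 hj), if_neg hji, zpow_zero]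
    · intro hh; exact absurd (Finset.mem_range.2 hi) hh

theorem central {h : ℕ} {even : Bool} (hh : Extremal D F T h) (hc : centChk D h even = true)
    (h2 : even = true → (2 : F) = 0) :
    ∀ r < D.nroots, 0 < T.phi r → ∀ t u : F, Commute (xg hC r t) (xg hC h u) := by
  intro r hr hp t u
  simp only [centChk, List.all_eq_true, Bool.or_eq_true, beq_iff_eq, List.isEmpty_iff,
    Bool.and_eq_true] at hc
  rcases eq_or_ne r h with rfl | hne
  · rw [commute_iff_eq, ← xg_add hC, ← xg_add hC, add_comm]
  have hneg : h ≠ D.neg r := by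
    intro e
    have := hh.pos
    rw [e, hC.phi_neg hr] at this
    omega
  have hx := xg_comm hC hr hh.lt (Ne.symm hne) hneg t u
  have hone : ((D.commWord F r h t u).map fun p => xg hC p.1 p.2).prod = 1 := by
    refine List.prod_eq_one fun x hx => ?_
    obtain ⟨p, hp', rfl⟩ := List.mem_map.1 hx
    rcases hc r ((mem_posRoots hC).2 ⟨hr, hp⟩) with e | e | ⟨he, hev⟩
    · exact absurd e hne
    · simp [ChevalleyDatum.commWord, e] at hp'
    · simp only [ChevalleyDatum.commWord, List.mem_map] at hp'
      obtain ⟨c, hcm, rfl⟩ := hp'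
      obtain ⟨d, hd⟩ := Int.dvd_of_emod_eq_zero (hev c hcm)
      rw [hd, Int.cast_mul, Int.cast_ofNat, h2 he]
      simp only [zero_mul]
      exact xg_zero hC _
  rw [hone, mul_one] at hx
  exact hx.symm

theorem cgen_eq {h : ℕ} {l : List ℕ} (hc : listChk D h l = true) :
    cgen D F h = D.posUnipotent F ⊔ Subgroup.closure {g : GL D.Idx F | ∃ s ∈ l, ∃ c : F,
      (g : Matrix D.Idx D.Idx F) = D.x F s c} := by
  simp only [listChk, Bool.and_eq_true, List.all_eq_true, List.any_eq_true, List.mem_range,
    beq_iff_eq, Bool.or_eq_true, bne_iff_ne, List.contains_iff_mem] at hc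
  rw [cgen]
  congr 2
  ext g
  constructor
  · rintro ⟨j, hj, h0, t, hg⟩
    exact ⟨_, (hc.2 j hj).resolve_left (fun hne => hne h0), t, hg⟩
  · rintro ⟨s, hs, t, hg⟩
    obtain ⟨j, hj, h0, rfl⟩ := hc.1 s hs
    exact ⟨j, hj, h0, t, hg⟩

theorem main {h k : ℕ} {S l : List ℕ} {even : Bool} (h1 : extChk D h k S = true)
    (h2 : centChk D h even = true) (h2' : even = true → (2 : F) = 0) (h3 : listChk D h l = true)
    {t : GL D.Idx F} (ht : (t : Matrix D.Idx D.Idx F) = D.x F h 1) :
    D.group F ⊓ Subgroup.centralizer {t} = D.posUnipotent F ⊔ Subgroup.closure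
      {g : GL D.Idx F | ∃ s ∈ l, ∃ c : F, (g : Matrix D.Idx D.Idx F) = D.x F s c} := by
  have hh := extremal (F := F) hC h1
  rw [eq_xg hC ht, centralizer_eq hC hh (central hC hh h2 h2'), cgen_eq hC h3]

end Cfsg.Agent.SimpleFacts.ChevalleyCentralData
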