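import Cfsg.Agent.SimpleFacts.ChevalleyPairCentralizer
import Cfsg.Agent.Lib.Chevalley.Types.G2

/-!
The centraliser of a short root involution in `G₂`, characteristic two.
-/

set_option autoImplicit false

open scoped Matrix

namespace Cfsg.Agent.SimpleFacts.ChevalleyG2Centralizer

open Cfsg.Lie Cfsg.Agent.Chevalley.Table Cfsg.Agent.Chevalley.Cert Cfsg.Agent.Chevalley.Group
  Cfsg.Agent.Chevalley.Unip Cfsg.Agent.Chevalley.Borel Cfsg.Agent.Chevalley.Bruhat
  Cfsg.Agent.Chevalley.Weyl Cfsg.Agent.Chevalley.NormalForm Cfsg.Agent.Chevalley.Relations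
  Cfsg.Agent.SimpleFacts.ChevalleyPairCentralizer

theorem hC : Certified chevG2 Cfsg.Agent.Chevalley.Data.G2.tab :=
  Cfsg.Agent.Chevalley.Types.G2.certified

/-- Root elements of `r` and `s` commute in characteristic two. -/
def okPair (r s : ℕ) : Bool :=
  r == s || (s != chevG2.neg r && (chevG2.commTerms r s).all fun c => c.2.1 % 2 == 0)

theorem pos_of {r : ℕ} (h : (decide (r < chevG2.nroots) && decide (chevG2.IsPosRoot r)) = true) :
    r < chevG2.nroots ∧ 0 < Cfsg.Agent.Chevalley.Data.G2.tab.phi r := by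
  simp only [Bool.and_eq_true, decide_eq_true_eq] at h
  exact ⟨h.1, (hC.posRoot_iff h.1).1 h.2⟩

variable {F : Type*} [Field F] (h2 : (2 : F) = 0)

include h2 in
theorem comm_of_ok {r s : ℕ} (hr : r < chevG2.nroots) (hs : s < chevG2.nroots)
    (h : okPair r s = true) (t u : F) : Commute (xg hC r t) (xg hC s u) := by
  simp only [okPair, Bool.or_eq_true, beq_iff_eq, Bool.and_eq_true, bne_iff_ne, List.all_eq_true] at h
  rcases eq_or_ne r s with rfl | hne
  · rw [commute_iff_eq, ← xg_add hC, ← xg_add hC, add_comm]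
  obtain ⟨hn, hev⟩ := h.resolve_left hne
  have hx := xg_comm hC hr hs (Ne.symm hne) hn t u
  have hone : ((chevG2.commWord F r s t u).map fun p => xg hC p.1 p.2).prod = 1 := by
    refine List.prod_eq_one fun x hx => ?_
    obtain ⟨p, hp', rfl⟩ := List.mem_map.1 hx
    simp only [ChevalleyDatum.commWord, List.mem_map] at hp'
    obtain ⟨c, hcm, rfl⟩ := hp'
    obtain ⟨d, hd⟩ := Int.dvd_of_emod_eq_zero (hev c hcm)
    rw [hd, Int.cast_mul, Int.cast_ofNat, h2]
    simp only [zero_mul]
    exact xg_zero hC _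
  rw [hone, mul_one] at hx
  exact hx.symm

/-- The centraliser of `x₉(1)`. -/
def Ct (F : Type*) [Field F] : Subgroup (GL chevG2.Idx F) :=
  chevG2.rootSubgroup F 9 ⊔ chevG2.rootSubgroup F 10 ⊔ chevG2.rootSubgroup F 11 ⊔
    chevG2.rootSubgroup F 6 ⊔ chevG2.rootSubgroup F 5

theorem xg_mem_Ct {r : ℕ} (hr : r ∈ [9, 10, 11, 6, 5]) (t : F) : xg hC r t ∈ Ct F := by
  have h : xg hC r t ∈ chevG2.rootSubgroup F r := (mem_rootSubgroup hC).2 ⟨t, rfl⟩
  simp only [List.mem_cons, List.not_mem_nil, or_false] at hr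
  rcases hr with rfl | rfl | rfl | rfl | rfl
  · exact Subgroup.mem_sup_left (Subgroup.mem_sup_left (Subgroup.mem_sup_left (Subgroup.mem_sup_left h)))
  · exact Subgroup.mem_sup_left (Subgroup.mem_sup_left (Subgroup.mem_sup_left (Subgroup.mem_sup_right h)))
  · exact Subgroup.mem_sup_left (Subgroup.mem_sup_left (Subgroup.mem_sup_right h))
  · exact Subgroup.mem_sup_left (Subgroup.mem_sup_right h)
  · exact Subgroup.mem_sup_right h

theorem Ct_le_group : Ct F ≤ chevG2.group F := by
  refine sup_le (sup_le (sup_le (sup_le ?_ ?_) ?_) ?_) ?_ <;>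
    (intro g hg; obtain ⟨c, rfl⟩ := (mem_rootSubgroup hC).1 hg
     exact xg_mem_group hC (by decide +kernel) c)

theorem ct_ok : (([9, 10, 11, 6, 5] : List ℕ).all fun r => okPair r 9 && decide (r < chevG2.nroots)) = true := by
  decide +kernel

include h2 in
theorem Ct_commute {g : GL chevG2.Idx F} (hg : g ∈ Ct F) (t : F) :
    g ∈ Subgroup.centralizer {xg hC 9 t} := by
  have h := ct_ok
  simp only [List.all_eq_true, Bool.and_eq_true, decide_eq_true_eq] at h
  have hc : ∀ r ∈ [9, 10, 11, 6, 5], chevG2.rootSubgroup F r ≤ Subgroup.centralizer {xg hC 9 t} := by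
    intro r hr g hg
    obtain ⟨c, rfl⟩ := (mem_rootSubgroup hC).1 hg
    rw [Subgroup.mem_centralizer_singleton_iff]
    exact (comm_of_ok h2 (h r hr).2 (by decide +kernel) (h r hr).1 c t).eq
  exact sup_le (sup_le (sup_le (sup_le (hc 9 (by simp)) (hc 10 (by simp))) (hc 11 (by simp)))
    (hc 6 (by simp))) (hc 5 (by simp)) hg

/-- The orbit of `x₉(1)` under `U`. -/
def St : List ℕ := [9, 10, 11]

theorem St_pos : ∀ r ∈ St, r < chevG2.nroots ∧ 0 < Cfsg.Agent.Chevalley.Data.G2.tab.phi r := by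
  intro r hr
  simp only [St, List.mem_cons, List.not_mem_nil, or_false] at hr
  rcases hr with rfl | rfl | rfl <;> exact pos_of (by decide +kernel)

include h2 in
theorem St_comm : ∀ r ∈ St, ∀ s ∈ St, ∀ t u : F, Commute (xg hC r t) (xg hC s u) := by
  intro r hr s hs
  refine comm_of_ok h2 (St_pos r hr).1 (St_pos s hs).1 ?_
  have h : (St.all fun r => St.all fun s => okPair r s) = true := by decide +kernel
  simp only [List.all_eq_true] at h
  exact h r hr s hs

include h2 in
/-- The action of the positive root elements on `x₉(z) x₁₀(y) x₁₁(w)`. -/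
theorem conj_gen {r : ℕ} (hr : r < chevG2.nroots)
    (hp : 0 < Cfsg.Agent.Chevalley.Data.G2.tab.phi r) (c z y w : F) :
    xg hC r c * (xg hC 9 z * xg hC 10 y * xg hC 11 w) * (xg hC r c)⁻¹ =
      xg hC 9 z * xg hC 10 (y + (if r = 7 then c * z else 0)) *
        xg hC 11 (w + (if r = 8 then c * z else 0) + (if r = 6 then c * y else 0)) := by
  have hlt : ∀ s ∈ St, s < chevG2.nroots := fun s hs => (St_pos s hs).1
  have hneg : ∀ x : F, -x = x := fun x => by
    have : x + x = 0 := by rw [← two_mul, h2, zero_mul]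
    exact (eq_neg_of_add_eq_zero_left this).symm
  have h3 : (3 : F) = 1 := by
    have : (3 : F) = 2 + 1 := by norm_num
    rw [this, h2, zero_add]
  have hpos : r = 6 ∨ r = 7 ∨ r = 8 ∨ r ∈ St := by
    have h : (chevG2.posRoots.all fun r => ([6, 7, 8] ++ St : List ℕ).contains r) = true := by
      decide +kernel
    simp only [List.all_eq_true, List.contains_iff_mem, List.mem_append, List.mem_cons,
      List.not_mem_nil, or_false] at h
    simpa [or_assoc] using h r ((mem_posRoots hC).2 ⟨hr, hp⟩)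
  have cm : ∀ s, s < chevG2.nroots → okPair r s = true → ∀ u : F,
      xg hC r c * xg hC s u * (xg hC r c)⁻¹ = xg hC s u := fun s hs h u => by
    rw [(comm_of_ok h2 hr hs h c u).eq]; group
  have one : ∀ k s : ℕ, s < chevG2.nroots → k < chevG2.nroots → s ≠ r → s ≠ chevG2.neg r → ∀ a : ℤ,
      (a : F) = 1 → chevG2.commTerms r s = [(k, a, 1, 1)] → okPair r k = true → ∀ u : F,
      xg hC r c * xg hC s u * (xg hC r c)⁻¹ = xg hC s u * xg hC k (c * u) := by
    intro k s hs hk n1 n2 a ha h4 hk' u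
    have hck := comm_of_ok h2 hr hk hk'
    have h := xg_comm hC hr hs n1 n2 c u
    simp only [ChevalleyDatum.commWord, h4, List.map_cons, List.map_nil, List.prod_cons,
      List.prod_nil, mul_one, pow_one, ha, one_mul, hneg c] at h
    calc xg hC r c * xg hC s u * (xg hC r c)⁻¹
        = (xg hC r c * xg hC s u * xg hC k (c * u)) * (xg hC k (c * u))⁻¹ * (xg hC r c)⁻¹ := by group
      _ = xg hC s u * (xg hC r c * (xg hC k (c * u))⁻¹ * (xg hC r c)⁻¹) := by rw [← h]; group
      _ = xg hC s u * (xg hC k (c * u))⁻¹ := by rw [((hck c (c * u)).inv_right).eq]; group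
      _ = _ := by rw [xg_inv hC, hneg]
  rw [show xg hC r c * (xg hC 9 z * xg hC 10 y * xg hC 11 w) * (xg hC r c)⁻¹ =
    (xg hC r c * xg hC 9 z * (xg hC r c)⁻¹) * (xg hC r c * xg hC 10 y * (xg hC r c)⁻¹) *
      (xg hC r c * xg hC 11 w * (xg hC r c)⁻¹) by group]
  rcases hpos with rfl | rfl | rfl | hS
  · rw [cm 9 (hlt 9 (by simp [St])) (by decide +kernel),
      one 11 10 (hlt 10 (by simp [St])) (hlt 11 (by simp [St])) (by decide) (by decide +kernel) 1
        (by simp) (by decide +kernel) (by decide +kernel),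
      cm 11 (hlt 11 (by simp [St])) (by decide +kernel)]
    simp only [show (6 : ℕ) ≠ 7 by decide, show (6 : ℕ) ≠ 8 by decide, if_false, if_true, add_zero]
    rw [show w + c * y = c * y + w by ring, xg_add hC 11 (c * y) w]
    group
  · rw [one 10 9 (hlt 9 (by simp [St])) (hlt 10 (by simp [St])) (by decide) (by decide +kernel) 3
        (by rw [Int.cast_ofNat, h3]) (by decide +kernel) (by decide +kernel),
      cm 10 (hlt 10 (by simp [St])) (by decide +kernel),
      cm 11 (hlt 11 (by simp [St])) (by decide +kernel)]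
    simp only [show (7 : ℕ) ≠ 8 by decide, show (7 : ℕ) ≠ 6 by decide, if_false, if_true, add_zero]
    rw [show y + c * z = c * z + y by ring, xg_add hC 10 (c * z) y]
    group
  · rw [one 11 9 (hlt 9 (by simp [St])) (hlt 11 (by simp [St])) (by decide) (by decide +kernel) 3
        (by rw [Int.cast_ofNat, h3]) (by decide +kernel) (by decide +kernel),
      cm 10 (hlt 10 (by simp [St])) (by decide +kernel),
      cm 11 (hlt 11 (by simp [St])) (by decide +kernel)]
    simp only [show (8 : ℕ) ≠ 7 by decide, show (8 : ℕ) ≠ 6 by decide, if_false, if_true, add_zero]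
    rw [show w + c * z = c * z + w by ring, xg_add hC 11 (c * z) w]
    calc xg hC 9 z * xg hC 11 (c * z) * xg hC 10 y * xg hC 11 w
        = xg hC 9 z * (xg hC 11 (c * z) * xg hC 10 y) * xg hC 11 w := by group
      _ = _ := by
          rw [(St_comm h2 11 (by simp [St]) 10 (by simp [St]) (c * z) y).eq]; group
  · have h : ∀ s ∈ St, okPair r s = true := by
      have h' : (St.all fun r => St.all fun s => okPair r s) = true := by decide +kernel
      simp only [List.all_eq_true] at h'
      exact h' r hS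
    have hne : r ≠ 7 ∧ r ≠ 8 ∧ r ≠ 6 := by
      simp only [St, List.mem_cons, List.not_mem_nil, or_false] at hS
      omega
    rw [cm 9 (hlt 9 (by simp [St])) (h 9 (by simp [St])),
      cm 10 (hlt 10 (by simp [St])) (h 10 (by simp [St])),
      cm 11 (hlt 11 (by simp [St])) (h 11 (by simp [St]))]
    simp [hne.1, hne.2.1, hne.2.2]

include h2 in
theorem orbit {u : GL chevG2.Idx F} (hu : u ∈ chevG2.posUnipotent F) (z : F) :
    ∀ y w : F, ∃ y' w' : F, u * (xg hC 9 z * xg hC 10 y * xg hC 11 w) * u⁻¹ =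
      xg hC 9 z * xg hC 10 y' * xg hC 11 w' := by
  rw [U_eq_closure hC] at hu
  induction hu using Subgroup.closure_induction_left with
  | one => exact fun y w => ⟨y, w, by simp⟩
  | mul_left x hx v _ ih =>
    intro y w
    obtain ⟨r, c, hr, hp, rfl⟩ := hx
    obtain ⟨y', w', e⟩ := ih y w
    refine ⟨_, _, Eq.trans ?_ (conj_gen h2 hr hp c z y' w')⟩
    rw [← e]
    group
  | inv_mul_cancel x hx v _ ih =>
    intro y w
    obtain ⟨r, c, hr, hp, rfl⟩ := hx
    obtain ⟨y', w', e⟩ := ih y w
    refine ⟨_, _, Eq.trans ?_ (conj_gen h2 hr hp (-c) z y' w')⟩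
    rw [← e, ← xg_inv hC]
    group

/-- The long roots. -/
def longRoots : List ℕ := [0, 1, 5, 6, 10, 11]

theorem long_closed : (longRoots.all fun s =>
    (List.range chevG2.rank).all fun i => longRoots.contains (chevG2.reflectRoot i s)) = true := by
  decide +kernel

theorem wL_long {L : List ℕ} (hL : ∀ i ∈ L, i < chevG2.rank) {r : ℕ} (hr : r ∈ longRoots) :
    wL chevG2 L r ∈ longRoots := by
  induction L with
  | nil => exact hr
  | cons i L ih =>
    have h := long_closed
    simp only [List.all_eq_true, List.mem_range, List.contains_iff_mem] at h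
    exact h _ (ih fun j hj => hL j (List.mem_cons_of_mem i hj)) i (hL i List.mem_cons_self)

include h2 in
theorem centralizer_t :
    chevG2.group F ⊓ Subgroup.centralizer {xg hC 9 (1 : F)} = Ct F := by
  refine le_antisymm ?_ (le_inf Ct_le_group fun g hg => Ct_commute h2 hg 1)
  rintro g ⟨hg, hgc⟩
  obtain ⟨b, hb, n, hn, u, hu, rfl⟩ := exists_form hC hg
  obtain ⟨c, L, hL, rfl⟩ := (mem_N_iff hC).1 hn
  have huU := Uminus_le_U hC _ hu
  obtain ⟨v, hv, h, hh, hbv⟩ := (mem_B_iff hC).1 hb
  obtain ⟨d, rfl⟩ := (mem_H_iff hC).1 hh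
  obtain ⟨y, w, ef⟩ := orbit h2 huU (1 : F) 0 0
  obtain ⟨y', w', ef'⟩ := orbit h2 (inv_mem hv) (1 : F) 0 0
  rw [xg_zero hC, xg_zero hC, mul_one, mul_one] at ef ef'
  rw [inv_inv] at ef'
  have hgc' := Subgroup.mem_centralizer_singleton_iff.1 hgc
  let f : ℕ → F := fun r => if r = 9 then 1 else if r = 10 then y else w
  let f' : ℕ → F := fun r => (torChar chevG2 d⁻¹ r : F) * if r = 9 then 1 else if r = 10 then y' else w'
  have hf : prodX hC St f = xg hC 9 (1 : F) * xg hC 10 y * xg hC 11 w := by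
    simp [St, prodX, f, mul_assoc]
  have hf' : prodX hC St f' = (tor chevG2 d)⁻¹ * (xg hC 9 (1 : F) * xg hC 10 y' * xg hC 11 w') * tor chevG2 d := by
    have e : ∀ s, s ∈ St → ∀ u : F, (tor chevG2 d)⁻¹ * xg hC s u * tor chevG2 d =
        xg hC s ((torChar chevG2 d⁻¹ s : F) * u) := fun s hs u => by
      rw [← tor_conj_x hC d⁻¹ s u (St_pos s hs).1, ← tor_inv, inv_inv]
    rw [show (tor chevG2 d)⁻¹ * (xg hC 9 (1 : F) * xg hC 10 y' * xg hC 11 w') * tor chevG2 d =
      (tor chevG2 d)⁻¹ * xg hC 9 (1 : F) * tor chevG2 d * ((tor chevG2 d)⁻¹ * xg hC 10 y' * tor chevG2 d) *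
        ((tor chevG2 d)⁻¹ * xg hC 11 w' * tor chevG2 d) by group,
      e 9 (by simp [St]), e 10 (by simp [St]), e 11 (by simp [St])]
    simp [St, prodX, f', mul_assoc]
  have e0 : tor chevG2 c * nL hC F L * prodX hC St f * (tor chevG2 c * nL hC F L)⁻¹ = prodX hC St f' := by
    rw [hf, hf', ← ef, ← ef']
    calc _ = b⁻¹ * (b * (tor chevG2 c * nL hC F L) * u * xg hC 9 1) *
          (b * (tor chevG2 c * nL hC F L) * u)⁻¹ * b := by group
      _ = b⁻¹ * xg hC 9 1 * b := by rw [hgc']; group
      _ = _ := by rw [hbv]; group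
  have l9 := (St_pos 9 (by simp [St])).1
  have h9 : wL chevG2 L 9 = 9 := by
    have h := support hC (by decide) St_pos (St_comm h2) hL c e0 9 (by simp [St])
      (by simp only [f, if_true]; exact one_ne_zero)
    simp only [St, List.mem_cons, List.not_mem_nil, or_false] at h
    refine h.resolve_right fun e => ?_
    have h' := wL_long (L := L.reverse) (fun i hi => hL i (List.mem_reverse.1 hi))
      (r := wL chevG2 L 9) (by rcases e with e | e <;> rw [e] <;> decide)
    rw [wL_reverse hC hL l9] at h'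
    exact absurd h' (by decide)
  have hpair : (chevG2.posRoots.all fun r => decide (0 ≤ pair chevG2 9 r)) = true := by decide +kernel
  have hlam : ∀ r < chevG2.nroots, 0 < Cfsg.Agent.Chevalley.Data.G2.tab.phi r →
      0 ≤ (([(9, 1)] : List (ℕ × ℤ)).map fun p => p.2 * pair chevG2 p.1 r).sum := by
    intro r hr hp
    rw [List.all_eq_true] at hpair
    simpa using hpair r ((mem_posRoots hC).2 ⟨hr, hp⟩)
  have hsimp : ((List.range chevG2.rank).all fun j =>
      (decide (0 < pair chevG2 9 (chevG2.simple j)) && chevG2.cartan j 9 != 0) ||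
        (chevG2.cartan j 9 == 0 && chevG2.simple j == 6 && chevG2.neg (chevG2.simple j) == 5)) = true := by
    decide +kernel
  simp only [List.all_eq_true, List.mem_range, Bool.or_eq_true, Bool.and_eq_true, decide_eq_true_eq,
    bne_iff_ne, beq_iff_eq] at hsimp
  obtain ⟨e, k, hk, ek⟩ := nL_mem_stab (As := [(9, 1)]) (K := Ct F) hC
    (by simpa using l9)
    (fun j hj h0 => by
      rcases hsimp j hj with ⟨-, hA⟩ | ⟨⟨-, h6⟩, h5⟩
      · exact absurd (h0 (9, 1) (by simp)) hA
      · exact mul_mem (mul_mem (h6 ▸ xg_mem_Ct (by simp) _) (h5 ▸ xg_mem_Ct (by simp) _))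
          (h6 ▸ xg_mem_Ct (by simp) _))
    hlam
    (fun j hj => by
      rcases hsimp j hj with ⟨hp, -⟩ | ⟨⟨hA, -⟩, -⟩
      · exact Or.inr (by simpa using hp)
      · exact Or.inl (by simpa using hA))
    hL (by simpa using h9)
  -- `u` only involves roots orthogonal to `9`
  have hu' : u ∈ Ct F := by
    rw [Uminus_eq hC hL c] at hu
    refine (Subgroup.closure_le _).2 ?_ hu
    rintro _ ⟨r, t, hr, rfl⟩
    obtain ⟨hlt, hp, hneg⟩ := (mem_invList hC).1 hr
    have hwl := wL_lt hC hL hlt
    have hn0 := hlam _ (hC.neg_lt hwl) (by rw [hC.phi_neg hwl]; omega)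
    rw [← wL_neg hC hL hlt] at hn0
    have e9 := pair_wL hC hL l9 (hC.neg_lt hlt)
    rw [h9] at e9
    simp only [List.map_cons, List.map_nil, List.sum_cons, List.sum_nil, add_zero, e9, one_mul] at hn0
    have hall : (chevG2.posRoots.all fun r =>
        decide (pair chevG2 9 (chevG2.neg r) < 0) || ([9, 10, 11, 6, 5] : List ℕ).contains r) = true := by
      decide +kernel
    simp only [List.all_eq_true, Bool.or_eq_true, decide_eq_true_eq, List.contains_iff_mem] at hall
    exact xg_mem_Ct ((hall r ((mem_posRoots hC).2 ⟨hlt, hp⟩)).resolve_left (by omega)) t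
  obtain ⟨D', hD'⟩ : ∃ D', D' = d * (c * e) := ⟨_, rfl⟩
  have e2 : b * (tor chevG2 c * nL hC F L) * u = v * tor chevG2 D' * k * u := by
    rw [hD', hbv, ek, ← tor_mul, ← tor_mul]
    group
  rw [e2] at hgc hgc' ⊢
  have hgcm : v * tor chevG2 D' * k * u ∈ Subgroup.centralizer {xg hC 9 (1 : F)} := hgc
  have hb'c : v * tor chevG2 D' ∈ Subgroup.centralizer {xg hC 9 (1 : F)} := by
    have := mul_mem (mul_mem hgcm (inv_mem (Ct_commute h2 hu' 1))) (inv_mem (Ct_commute h2 hk 1))
    simpa [mul_assoc] using this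
  -- write `v = x₇(a) x₈(a') B`
  rw [← Uge_zero hC] at hv
  obtain ⟨φ, hφ⟩ := split_decomp hC (fun r => ([7, 8] : List ℕ).contains r) 0 v hv
  rw [show (posFrom chevG2 0).filter (fun r => ([7, 8] : List ℕ).contains r) = [7, 8] by decide +kernel]
    at hφ
  obtain ⟨B, hB⟩ : ∃ B : GL chevG2.Idx F, B = prodX hC
      ((posFrom chevG2 0).filter fun r => !([7, 8] : List ℕ).contains r).reverse φ := ⟨_, rfl⟩
  rw [← hB] at hφ
  have hBC : B ∈ Ct F := by
    rw [hB, show ((posFrom chevG2 0).filter fun r => !([7, 8] : List ℕ).contains r) = [6, 9, 10, 11] by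
      decide +kernel]
    refine list_prod_mem fun y hy => ?_
    obtain ⟨r, hr, rfl⟩ := List.mem_map.1 hy
    refine xg_mem_Ct ?_ _
    simp only [List.mem_reverse, List.mem_cons, List.not_mem_nil, or_false] at hr ⊢
    tauto
  obtain ⟨χ, hχd⟩ : ∃ χ : F, χ = (torChar chevG2 D' 9 : F) := ⟨_, rfl⟩
  have h7 := pos_of (r := 7) (by decide +kernel)
  have h8 := pos_of (r := 8) (by decide +kernel)
  have e3 : xg hC 9 χ * xg hC 10 (φ 7 * χ) * xg hC 11 (φ 8 * χ) = xg hC 9 (1 : F) := by
    have a8 := conj_gen h2 h8.1 h8.2 (φ 8) χ 0 0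
    have a7 := conj_gen h2 h7.1 h7.2 (φ 7) χ 0 (φ 8 * χ)
    simp only [show (8 : ℕ) ≠ 7 by decide, show (8 : ℕ) ≠ 6 by decide, if_false, if_true, add_zero,
      zero_add, xg_zero hC, mul_one] at a8
    simp only [show (7 : ℕ) ≠ 8 by decide, show (7 : ℕ) ≠ 6 by decide, if_false, if_true, add_zero,
      zero_add, xg_zero hC, mul_one] at a7
    rw [← a8] at a7
    have hBc := Subgroup.mem_centralizer_singleton_iff.1 (Ct_commute h2 hBC χ)
    have ht := tor_conj_x hC D' 9 (1 : F) l9
    rw [mul_one, ← hχd] at ht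
    rw [← a7]
    calc xg hC 7 (φ 7) * (xg hC 8 (φ 8) * xg hC 9 χ * (xg hC 8 (φ 8))⁻¹) * (xg hC 7 (φ 7))⁻¹
        = prodX hC [7, 8] φ * (B * xg hC 9 χ * B⁻¹) * (prodX hC [7, 8] φ)⁻¹ := by
          rw [hBc]; simp [prodX, mul_assoc]
      _ = v * tor chevG2 D' * xg hC 9 1 * (v * tor chevG2 D')⁻¹ := by rw [← ht, hφ]; group
      _ = _ := by rw [Subgroup.mem_centralizer_singleton_iff.1 hb'c]; group
  have hco := coeff_unique hC (L := St) (by decide) St_pos (St_comm h2)
    (f := fun r => if r = 9 then χ else if r = 10 then φ 7 * χ else φ 8 * χ)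
    (g := fun r => if r = 9 then 1 else 0) (by
      simpa [St, prodX, mul_assoc, xg_zero hC] using e3)
  have χ1 : χ = 1 := by simpa using hco 9 (by simp [St])
  have p7 : φ 7 = 0 := by simpa [χ1] using hco 10 (by simp [St])
  have p8 : φ 8 = 0 := by simpa [χ1] using hco 11 (by simp [St])
  have hA1 : prodX hC [7, 8] φ = 1 := by simp [prodX, p7, p8, xg_zero hC]
  rw [χ1, ← Units.val_one, Units.val_inj, torChar, show chevG2.rank = 2 from rfl] at hχd
  simp only [Finset.prod_range_succ, Finset.prod_range_zero,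
    show chevG2.cartan 0 9 = 1 by decide +kernel, show chevG2.cartan 1 9 = 0 by decide +kernel,
    zpow_zero, zpow_one, one_mul, mul_one] at hχd
  have hτK : tor chevG2 D' ∈ Ct F := by
    rw [tor_eq_prod hC]
    refine list_prod_mem fun x hx => ?_
    obtain ⟨i, hi, rfl⟩ := List.mem_map.1 hx
    have hi' : i = 0 ∨ i = 1 := by
      have := List.mem_range.1 hi
      have h' : chevG2.rank = 2 := rfl
      omega
    rcases hi' with rfl | rfl
    · rw [← hχd, hg_eq_tor hC (hC.simple_lt (by decide))]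
      convert one_mem (Ct F)
      rw [← tor_one (D := chevG2) (F := F)]
      congr 1
      funext j
      exact one_zpow _
    · have e1 : chevG2.simple 1 = 6 := by decide +kernel
      have e5 : chevG2.neg 6 = 5 := by decide +kernel
      rw [e1, Cfsg.Agent.Chevalley.Group.hg, ng, ng, e5]
      exact mul_mem (mul_mem (mul_mem (xg_mem_Ct (by simp) _) (xg_mem_Ct (by simp) _))
        (xg_mem_Ct (by simp) _)) (mul_mem (mul_mem (xg_mem_Ct (by simp) _) (xg_mem_Ct (by simp) _))
        (xg_mem_Ct (by simp) _))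
  rw [hφ, hA1, one_mul]
  exact mul_mem (mul_mem (mul_mem hBC hτK) hk) hu'

end Cfsg.Agent.SimpleFacts.ChevalleyG2Centralizer
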