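import Cfsg.Agent.SimpleFacts.ChevalleyCentralData
import Cfsg.Agent.Lib.Chevalley.Count
import Cfsg.Agent.Lib.Chevalley.Types.All

/-!
Two conjugates of the root subgroup of the highest root generate a `2`-group or are opposite.
-/

set_option autoImplicit false

namespace Cfsg.Agent.SimpleFacts.ChevalleyPairs

open Cfsg.Lie Cfsg.Agent.Chevalley.Table Cfsg.Agent.Chevalley.Cert Cfsg.Agent.Chevalley.Group
  Cfsg.Agent.Chevalley.Eval Cfsg.Agent.Chevalley.Check
  Cfsg.Agent.Chevalley.Unip Cfsg.Agent.Chevalley.Borel Cfsg.Agent.Chevalley.Count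
  Cfsg.Agent.SimpleFacts.ChevalleyCentral Cfsg.Agent.SimpleFacts.ChevalleyCentralData

/-- Raise `b` by fundamental reflections keeping the positive root `a` positive. -/
noncomputable def raise (T : Tab) : ℕ → ℕ → ℕ → Bool :=
  fun k => Nat.rec (fun _ b => iblt 0 (T.phi b))
    (fun _ ih a b => iblt 0 (T.phi b) ||
      ((List.range T.l).find? fun i => iblt (T.A i b) 0 && !Nat.beq a (T.simple i)).elim false
        fun i => ih (T.refl i a) (T.refl i b)) k

/-- Every root other than `-h` can be made positive together with `h`. -/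
noncomputable def pairChk (T : Tab) : Bool :=
  Nat.beq (T.neg (Nat.sub T.n 1)) 0 &&
    allR T.n fun r => Nat.beq r 0 || raise T T.n (Nat.sub T.n 1) r

/-- The highest root pairs to one with the `k`-th fundamental coroot, to zero with the others. -/
noncomputable def topChk (T : Tab) (k : ℕ) : Bool :=
  (Nat.blt k T.l && iblt 0 (T.phi (Nat.sub T.n 1))) &&
    allR T.l fun i => ieq (T.A i (Nat.sub T.n 1)) (bif Nat.beq i k then 1 else 0)

variable {D : ChevalleyDatum} {T : Tab} (hC : Certified D T)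
include hC

theorem raise_sound : ∀ k a b, a < D.nroots → b < D.nroots → 0 < T.phi a → raise T k a b = true →
    ∃ L : List ℕ, (∀ i ∈ L, i < D.rank) ∧ 0 < T.phi (wL D L a) ∧ 0 < T.phi (wL D L b) := by
  intro k
  induction k with
  | zero =>
    intro a b _ _ hp h
    exact ⟨[], by simp, hp, (iblt_iff _ _).1 h⟩
  | succ k ih =>
    intro a b ha hb hp h
    change (iblt 0 (T.phi b) ||
      ((List.range T.l).find? fun i => iblt (T.A i b) 0 && !Nat.beq a (T.simple i)).elim false
        fun i => raise T k (T.refl i a) (T.refl i b)) = true at h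
    rcases Bool.or_eq_true _ _ |>.mp h with h | h
    · exact ⟨[], by simp, hp, (iblt_iff _ _).1 h⟩
    cases hf : (List.range T.l).find? fun i => iblt (T.A i b) 0 && !Nat.beq a (T.simple i) with
    | none => rw [hf] at h; exact absurd h Bool.false_ne_true
    | some i =>
      rw [hf] at h
      have hi : i < D.rank := hC.l_eq ▸ List.mem_range.1 (List.mem_of_find?_eq_some hf)
      have hs := List.find?_some hf
      simp only [Bool.and_eq_true, Bool.not_eq_true'] at hs
      have hne : a ≠ D.simple i := fun e => by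
        rw [e, hC.simple_eq hi, Nat.beq_refl] at hs
        exact Bool.noConfusion hs.2
      obtain ⟨L, hL, h1, h2⟩ := ih _ _ (hC.reflect_lt hi ha) (hC.reflect_lt hi hb)
        (hC.reflect_pos hi ha hne hp) (by rw [hC.reflect_eq hi ha, hC.reflect_eq hi hb]; exact h)
      refine ⟨L ++ [i], fun j hj => (List.mem_append.1 hj).elim (hL j) fun e =>
        (List.mem_singleton.1 e) ▸ hi, ?_, ?_⟩
      · rw [Cfsg.Agent.Chevalley.Group.wL_append]; exact h1
      · rw [Cfsg.Agent.Chevalley.Group.wL_append]; exact h2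

variable {F : Type*} [Field F]

theorem map_root_subgroup {r s : ℕ} {g : GL D.Idx F} {a : F} (ha : a ≠ 0)
    (h : ∀ t : F, g * xg hC r t * g⁻¹ = xg hC s (a * t)) :
    (D.rootSubgroup F r).map (MulAut.conj g).toMonoidHom = D.rootSubgroup F s := by
  ext x
  rw [Subgroup.mem_map]
  constructor
  · rintro ⟨y, hy, rfl⟩
    obtain ⟨t, rfl⟩ := (mem_rootSubgroup hC).1 hy
    exact (mem_rootSubgroup hC).2 ⟨a * t, h t⟩
  · intro hx
    obtain ⟨u, rfl⟩ := (mem_rootSubgroup hC).1 hx
    refine ⟨xg hC r (a⁻¹ * u), (mem_rootSubgroup hC).2 ⟨_, rfl⟩, ?_⟩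
    show g * xg hC r (a⁻¹ * u) * g⁻¹ = _
    rw [h, mul_inv_cancel_left₀ ha]

theorem extremal_top {k : ℕ} (hc : topChk T k = true) : Extremal D F T (D.nroots - 1) := by
  simp only [topChk, Bool.and_eq_true, Nat.blt_eq, iblt_iff] at hc
  obtain ⟨⟨hk, hpos⟩, hA⟩ := hc
  have hn : D.nroots - 1 = Nat.sub T.n 1 := by rw [hC.n_eq]; rfl
  rw [← hn] at hpos hA
  have hlt : D.nroots - 1 < D.nroots := by
    have := hC.simple_lt (hC.l_eq ▸ hk); omega
  have hA' : ∀ i < D.rank, D.cartan i (D.nroots - 1) = if i = k then 1 else 0 := by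
    intro i hi
    have h := of_allR hA i (by rw [hC.l_eq]; exact hi)
    rw [ieq_iff, hC.linked.A_eq i hi _ hlt] at h
    rw [h]
    by_cases hik : i = k
    · rw [if_pos hik, hik, Nat.beq_refl, cond_true]
    · rw [if_neg hik, Bool.eq_false_iff.2 (fun hb => hik (Nat.eq_of_beq_eq_true hb)), cond_false]
  refine ⟨hlt, hpos, fun i hi => ?_, fun L hL => ?_, fun c hc i hi hne => ?_⟩
  · rw [hA' i hi]; split_ifs <;> omega
  · have h1 := wL_lt hC hL hlt
    rcases Nat.eq_or_lt_of_le (Nat.le_pred_of_lt h1) with e | e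
    · exact (congrArg T.phi e).le
    · exact (hC.phi_lt e hlt).le
  · have hik : i = k := by
      by_contra hne'
      exact hne (by rw [hA' i hi, if_neg hne'])
    subst hik
    rw [torChar, Finset.prod_eq_single i] at hc
    · rwa [hA' i hi, if_pos rfl, zpow_one] at hc
    · intro j hj hji
      rw [hA' j (Finset.mem_range.1 hj), if_neg hji, zpow_zero]
    · intro hh; exact absurd (Finset.mem_range.2 hi) hh

theorem main [Fintype F] [CharP F 2] {k : ℕ} {even : Bool}
    (h1 : topChk T k = true) (h2 : centChk D (D.nroots - 1) even = true)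
    (h3 : pairChk T = true) (g : GL D.Idx F) (hg : g ∈ D.group F) :
    IsPGroup 2 ↥(D.rootSubgroup F (D.nroots - 1) ⊔
        (D.rootSubgroup F (D.nroots - 1)).map (MulAut.conj g).toMonoidHom) ∨
      ∃ h ∈ D.group F, (D.rootSubgroup F (D.nroots - 1) ⊔
          (D.rootSubgroup F (D.nroots - 1)).map (MulAut.conj g).toMonoidHom).map
            (MulAut.conj h).toMonoidHom =
        D.rootSubgroup F (D.nroots - 1) ⊔ D.rootSubgroup F 0 := by
  classical
  have hh := extremal_top (F := F) hC h1
  have hcent := central hC hh h2 (fun _ => CharTwo.two_eq_zero)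
  set h := D.nroots - 1 with hdef
  obtain ⟨b, hb, n, hn, u, hu, rfl⟩ := Cfsg.Agent.Chevalley.NormalForm.exists_form hC hg
  obtain ⟨c, L, hL, rfl⟩ := (mem_N_iff hC).1 hn
  obtain ⟨v, hv, h₀, hh₀, rfl⟩ := (mem_B_iff hC).1 hb
  obtain ⟨d, rfl⟩ := (mem_H_iff hC).1 hh₀
  obtain ⟨η, hη, e⟩ := nL_conj_x (F := F) hC hL hh.lt
  have hr := wL_lt hC hL hh.lt
  set r := wL D L h with hrdef
  -- elements of `U` centralise the root subgroup
  have hUcomm : ∀ w ∈ D.posUnipotent F, ∀ t : F, w * xg hC h t * w⁻¹ = xg hC h t := by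
    intro w hw t
    rw [U_eq_closure hC] at hw
    induction hw using Subgroup.closure_induction with
    | mem x hx =>
      obtain ⟨s, a, hs, hp, rfl⟩ := hx
      rw [(hcent s hs hp a t).eq, mul_inv_cancel_right]
    | one => simp
    | mul x y _ _ ihx ihy =>
      rw [show x * y * xg hC h t * (x * y)⁻¹ = x * (y * xg hC h t * y⁻¹) * x⁻¹ by group, ihy, ihx]
    | inv x _ ih =>
      conv_lhs => rw [← ih]
      group
  have hmapg : (D.rootSubgroup F h).map
      (MulAut.conj (v * tor D d * (tor D c * nL hC F L) * u)).toMonoidHom =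
      (D.rootSubgroup F r).map (MulAut.conj v).toMonoidHom := by
    have e1 : (D.rootSubgroup F h).map
        (MulAut.conj (tor D d * (tor D c * nL hC F L) * u)).toMonoidHom = D.rootSubgroup F r := by
      refine map_root_subgroup hC (a := (torChar D (d * c) r : F) * η)
        (mul_ne_zero (Units.ne_zero _) hη) fun t => ?_
      rw [show tor D d * (tor D c * nL hC F L) * u * xg hC h t *
          (tor D d * (tor D c * nL hC F L) * u)⁻¹ =
        (tor D d * tor D c) * (nL hC F L * (u * xg hC h t * u⁻¹) * (nL hC F L)⁻¹) *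
          (tor D d * tor D c)⁻¹ by group,
        hUcomm u (Cfsg.Agent.Chevalley.NormalForm.Uminus_le_U hC _ hu), e, tor_mul,
        tor_conj_x hC _ _ _ hr, mul_assoc]
    rw [← e1, Subgroup.map_map]
    congr 1
    ext x
    simp [mul_assoc]
  have hfix : (D.rootSubgroup F h).map (MulAut.conj v).toMonoidHom = D.rootSubgroup F h :=
    map_root_subgroup hC one_ne_zero fun t => by rw [hUcomm v hv, one_mul]
  have key : D.rootSubgroup F h ⊔ (D.rootSubgroup F h).map
      (MulAut.conj (v * tor D d * (tor D c * nL hC F L) * u)).toMonoidHom =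
      (D.rootSubgroup F h ⊔ D.rootSubgroup F r).map (MulAut.conj v).toMonoidHom := by
    rw [Subgroup.map_sup, hfix, hmapg]
  simp only [pairChk, Bool.and_eq_true] at h3
  rw [show Nat.sub T.n 1 = h by rw [hdef, hC.n_eq]; rfl] at h3
  rw [key]
  rcases Bool.or_eq_true _ _ |>.mp (of_allR h3.2 r (by rw [hC.n_eq]; exact hr)) with hr0 | hr0
  · replace hr0 := Nat.eq_of_beq_eq_true hr0
    refine Or.inr ⟨v⁻¹, inv_mem ((le_sup_left.trans (U_sup_V hC).le) hv), ?_⟩
    rw [Subgroup.map_map, hr0]
    convert Subgroup.map_id _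
    ext x
    simp [mul_assoc]
  · left
    obtain ⟨L', hL', hp1, hp2⟩ := raise_sound hC _ _ _ hh.lt hr hh.pos hr0
    have hU : IsPGroup 2 (D.posUnipotent F) := by
      obtain ⟨m, -, hq⟩ := FiniteField.card F 2
      exact IsPGroup.of_card (n := (m : ℕ) * D.posRoots.length)
        (by rw [card_U hC, Nat.card_eq_fintype_card, hq, pow_mul])
    have hle : (D.rootSubgroup F h ⊔ D.rootSubgroup F r).map
        (MulAut.conj (nL hC F L')).toMonoidHom ≤ D.posUnipotent F := by
      rw [Subgroup.map_sup]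
      refine sup_le ?_ ?_
      · rintro _ ⟨y, hy, rfl⟩
        obtain ⟨t, rfl⟩ := (mem_rootSubgroup hC).1 hy
        obtain ⟨ε, -, e'⟩ := nL_conj_x (F := F) hC hL' hh.lt
        show nL hC F L' * _ * (nL hC F L')⁻¹ ∈ _
        rw [e']
        exact xg_mem_U hC (wL_lt hC hL' hh.lt) hp1 _
      · rintro _ ⟨y, hy, rfl⟩
        obtain ⟨t, rfl⟩ := (mem_rootSubgroup hC).1 hy
        obtain ⟨ε, -, e'⟩ := nL_conj_x (F := F) hC hL' hr
        show nL hC F L' * _ * (nL hC F L')⁻¹ ∈ _
        rw [e']
        exact xg_mem_U hC (wL_lt hC hL' hr) hp2 _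
    have h4 : IsPGroup 2 ((D.rootSubgroup F h ⊔ D.rootSubgroup F r).map
        (MulAut.conj (nL hC F L')).toMonoidHom) := hU.to_le hle
    exact ((h4.of_equiv ((D.rootSubgroup F h ⊔ D.rootSubgroup F r).equivMapOfInjective _
      (MulAut.conj (nL hC F L')).injective).symm).map _)

end Cfsg.Agent.SimpleFacts.ChevalleyPairs
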