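import Cfsg.Agent.Lib.Chevalley.NormalForm
import Cfsg.Agent.Lib.Chevalley.FieldAut

/-!
The fixed points of a field endomorphism in a Chevalley group: centraliser and normaliser of a
subgroup between the root elements with fixed parameters and the fixed points.
-/

set_option autoImplicit false

open scoped Matrix

namespace Cfsg.Agent.SimpleFacts.ChevalleySubfield

open Cfsg.Lie Cfsg.Agent.Chevalley.Table Cfsg.Agent.Chevalley.Cert Cfsg.Agent.Chevalley.Group
  Cfsg.Agent.Chevalley.Borel Cfsg.Agent.Chevalley.Bruhat Cfsg.Agent.Chevalley.Weyl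
  Cfsg.Agent.Chevalley.Unip Cfsg.Agent.Chevalley.NormalForm Cfsg.Agent.Chevalley.FieldAut

variable {D : ChevalleyDatum} {F : Type*} [Field F] {T : Tab} (hC : Certified D T) (σ : F →+* F)
include hC

theorem map_xg (r : ℕ) (t : F) : mapGL D σ (xg hC r t) = xg hC r (σ t) :=
  Units.ext (by rw [mapGL_coe, coe_xg, coe_xg, x_map])

theorem map_ng_one (r : ℕ) : mapGL D σ (ng hC r (1 : F)) = ng hC r 1 := by
  rw [ng, map_mul, map_mul, map_xg hC σ, map_xg hC σ, map_neg, map_inv₀, map_one]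

theorem map_nL (L : List ℕ) : mapGL D σ (nL hC F L) = nL hC F L := by
  rw [nL, map_list_prod, List.map_map]
  exact congrArg List.prod (List.map_congr_left fun i _ => map_ng_one hC σ _)

theorem map_mem_closure_x {P : ℕ → Prop} {g : GL D.Idx F}
    (hg : g ∈ Subgroup.closure {g : GL D.Idx F | ∃ (r : ℕ) (t : F), P r ∧ g = xg hC r t}) :
    mapGL D σ g ∈ Subgroup.closure {g : GL D.Idx F | ∃ (r : ℕ) (t : F), P r ∧ g = xg hC r t} := by
  induction hg using Subgroup.closure_induction with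
  | mem x hx =>
    obtain ⟨r, t, hr, rfl⟩ := hx
    exact Subgroup.subset_closure ⟨r, σ t, hr, map_xg hC σ r t⟩
  | one => rw [map_one]; exact one_mem _
  | mul a b _ _ iha ihb => rw [map_mul]; exact mul_mem iha ihb
  | inv a _ iha => rw [map_inv]; exact inv_mem iha

theorem map_mem_U {g : GL D.Idx F} (hg : g ∈ D.posUnipotent F) :
    mapGL D σ g ∈ D.posUnipotent F := by
  have e : D.posUnipotent F = Subgroup.closure
      {g : GL D.Idx F | ∃ (r : ℕ) (t : F), D.IsPosRoot r ∧ g = xg hC r t} :=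
    le_antisymm (Subgroup.closure_mono fun _ ⟨r, t, hr, hx⟩ => ⟨r, t, hr, eq_xg hC hx⟩)
      (Subgroup.closure_mono fun _ ⟨r, t, hr, hx⟩ => ⟨r, t, hr, by rw [hx, coe_xg]⟩)
  rw [e] at hg ⊢
  exact map_mem_closure_x hC σ hg

theorem map_mem_H {g : GL D.Idx F} (hg : g ∈ D.diagonalSubgroup F) :
    mapGL D σ g ∈ D.diagonalSubgroup F := by
  obtain ⟨c, rfl⟩ := (mem_H_iff hC).1 hg
  refine (mem_H_iff hC).2 ⟨fun i => Units.map σ.toMonoidHom (c i), ?_⟩
  rw [tor_eq_prod hC, tor_eq_prod hC, map_list_prod, List.map_map]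
  refine congrArg List.prod (List.map_congr_left fun i _ => ?_)
  simp only [Function.comp_apply, Cfsg.Agent.Chevalley.Group.hg, ng, map_mul, map_xg hC σ, map_neg, map_inv₀, map_one]
  rfl

theorem map_mem_B {g : GL D.Idx F} (hg : g ∈ D.borelSubgroup F) :
    mapGL D σ g ∈ D.borelSubgroup F := by
  obtain ⟨u, hu, h, hh, rfl⟩ := (mem_B_iff hC).1 hg
  rw [map_mul]
  exact mul_mem (Subgroup.mem_sup_left (map_mem_U hC σ hu))
    (Subgroup.mem_sup_right (map_mem_H hC σ hh))

/-- The subgroup generated by the root elements with a fixed parameter. -/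
def fixL (hC : Certified D T) (σ : F →+* F) : Subgroup (GL D.Idx F) :=
  Subgroup.closure {g : GL D.Idx F | ∃ (r : ℕ) (t : F), σ t = t ∧ g = xg hC r t}

theorem xg_mem_fixL (r : ℕ) {t : F} (ht : σ t = t) : xg hC r t ∈ fixL hC σ :=
  Subgroup.subset_closure ⟨r, t, ht, rfl⟩

theorem ng_one_mem_fixL (r : ℕ) : ng hC r (1 : F) ∈ fixL hC σ :=
  mul_mem (mul_mem (xg_mem_fixL hC σ r (map_one σ))
    (xg_mem_fixL hC σ _ (by rw [map_neg, map_inv₀, map_one]))) (xg_mem_fixL hC σ r (map_one σ))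

theorem nL_mem_fixL (L : List ℕ) : nL hC F L ∈ fixL hC σ := by
  refine list_prod_mem fun g hg => ?_
  obtain ⟨i, -, rfl⟩ := List.mem_map.1 hg
  exact ng_one_mem_fixL hC σ _

theorem fixed_U {u : GL D.Idx F} (hu : u ∈ D.posUnipotent F) (he : mapGL D σ u = u) :
    u ∈ fixL hC σ := by
  obtain ⟨f, rfl⟩ := exists_prodX hC hu
  have e : mapGL D σ (prodX hC D.posRoots f) = prodX hC D.posRoots (fun r => σ (f r)) := by
    rw [prodX, prodX, map_list_prod, List.map_map]
    exact congrArg List.prod (List.map_congr_left fun r _ => map_xg hC σ r (f r))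
  rw [e] at he
  have h := prodX_inj hC posRoots_sorted (fun r hr => (mem_posRoots hC).1 hr) he
  refine list_prod_mem fun g hg => ?_
  obtain ⟨r, hr, rfl⟩ := List.mem_map.1 hg
  exact xg_mem_fixL hC σ r (h r hr)

/-- An element fixed by `σ` is the product of elements of `fixL`, a fixed torus element, and
elements of `fixL`. -/
theorem fixed_decomp {g : GL D.Idx F} (hg : g ∈ D.group F) (he : mapGL D σ g = g) :
    ∃ l ∈ fixL hC σ, ∃ h ∈ D.diagonalSubgroup F, mapGL D σ h = h ∧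
      ∃ l' ∈ fixL hC σ, g = l * h * l' := by
  obtain ⟨b, hb, n, hn, u, hu, rfl⟩ := exists_form hC hg
  obtain ⟨c, L, hL, rfl⟩ := (mem_N_iff hC).1 hn
  have hu1 : u ∈ Uminus D F (tor D (1 : ℕ → Fˣ) * nL hC F L) := by
    rw [Uminus_eq hC hL] at hu ⊢; exact hu
  have hu2 : mapGL D σ u ∈ Uminus D F (tor D (1 : ℕ → Fˣ) * nL hC F L) := by
    rw [Uminus_eq hC hL] at hu1 ⊢
    exact map_mem_closure_x hC σ hu1
  rw [tor_one, one_mul] at hu1 hu2
  have hbB : b * tor D c ∈ D.borelSubgroup F :=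
    mul_mem hb (Subgroup.mem_sup_right (tor_mem_H hC c))
  have hN := nL_mem_N (F := F) hC hL
  have e1 : mapGL D σ (b * tor D c) * nL hC F L * mapGL D σ u = b * tor D c * nL hC F L * u := by
    calc _ = mapGL D σ (b * (tor D c * nL hC F L) * u) := by
            simp only [map_mul, map_nL hC σ, mul_assoc]
      _ = _ := by rw [he]; group
  obtain ⟨e2, e3⟩ := (unique_form hC (map_mem_B hC σ hbB) hbB hN hN hu2 hu1 e1).2 rfl
  obtain ⟨v, hv, h, hh, hvh⟩ := (mem_B_iff hC).1 hbB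
  rw [hvh, map_mul] at e2
  have e4 : v⁻¹ * mapGL D σ v = h * (mapGL D σ h)⁻¹ :=
    calc v⁻¹ * mapGL D σ v = v⁻¹ * (mapGL D σ v * mapGL D σ h) * (mapGL D σ h)⁻¹ := by group
      _ = _ := by rw [e2]; group
  have h5 : v⁻¹ * mapGL D σ v ∈ (⊥ : Subgroup (GL D.Idx F)) := by
    rw [← U_inf_H hC]
    exact Subgroup.mem_inf.2 ⟨mul_mem (inv_mem hv) (map_mem_U hC σ hv),
      e4 ▸ mul_mem hh (inv_mem (map_mem_H hC σ hh))⟩
  rw [Subgroup.mem_bot] at h5
  have h6 : mapGL D σ v = v := (inv_mul_eq_one.1 h5).symm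
  rw [h5] at e4
  have h7 : mapGL D σ h = h := (mul_inv_eq_one.1 e4.symm).symm
  refine ⟨v, fixed_U hC σ hv h6, h, hh, h7, nL hC F L * u,
    mul_mem (nL_mem_fixL hC σ L) (fixed_U hC σ (Uminus_le_U hC _ hu1) e3), ?_⟩
  calc b * (tor D c * nL hC F L) * u = b * tor D c * (nL hC F L * u) := by group
    _ = _ := by rw [hvh]

/-- A fixed torus element normalises `fixL`. -/
theorem conj_fixL {h : GL D.Idx F} (hh : h ∈ D.diagonalSubgroup F) (he : mapGL D σ h = h)
    {x : GL D.Idx F} (hx : x ∈ fixL hC σ) : h * x * h⁻¹ ∈ fixL hC σ := by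
  refine conj_closure_le ?_ x hx
  rintro _ ⟨r, t, ht, rfl⟩
  by_cases hr : r < D.nroots
  · obtain ⟨c, rfl⟩ := (mem_H_iff hC).1 hh
    have e := tor_conj_x hC c r t hr
    have e2 : xg hC r (σ ((torChar D c r : F) * t)) = xg hC r ((torChar D c r : F) * t) := by
      rw [← map_xg hC σ, ← e, map_mul, map_mul, map_inv, he, map_xg hC σ, ht]
    rw [e]
    exact xg_mem_fixL hC σ r (xg_injective hC hr e2)
  · have e : xg hC r t = 1 := Units.ext (by simp [ChevalleyDatum.x, hr])
    rw [e]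
    simp

theorem eq_one_of_comm {g : GL D.Idx F} (hg : g ∈ D.group F)
    (hc : ∀ x ∈ fixL hC σ, g * x = x * g) : g = 1 := by
  obtain ⟨b, hb, n, hn, u, hu, rfl⟩ := exists_form hC hg
  obtain ⟨c, L, hL, rfl⟩ := (mem_N_iff hC).1 hn
  have huU : u ∈ D.posUnipotent F := Uminus_le_U hC _ hu
  have hpos : ∀ i < D.rank, 0 < T.phi (wL D L (D.simple i)) := by
    intro i hi
    by_contra hcon
    have hp := hC.simple_lt hi
    have hneg : T.phi (wL D L (D.simple i)) < 0 := by
      have := hC.phi_ne_zero (wL_lt hC hL hp); omega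
    obtain ⟨x, hxd⟩ : ∃ x : GL D.Idx F, x = xg hC (D.simple i) 1 := ⟨_, rfl⟩
    have hxU : x ∈ D.posUnipotent F := hxd ▸ xg_mem_U hC hp (hC.phi_simple hi) 1
    have hcx := hc x (hxd ▸ xg_mem_fixL hC σ _ (map_one σ))
    obtain ⟨v, w, hv, hw, huv⟩ := U_decomp hC hL c (mul_mem huU hxU)
    have e : b * (tor D c * nL hC F L * v * (tor D c * nL hC F L)⁻¹) * (tor D c * nL hC F L) * w =
        x * b * (tor D c * nL hC F L) * u :=
      calc _ = b * (tor D c * nL hC F L) * (v * w) := by group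
        _ = b * (tor D c * nL hC F L) * (u * x) := by rw [huv]
        _ = b * (tor D c * nL hC F L) * u * x := by group
        _ = x * (b * (tor D c * nL hC F L) * u) := hcx
        _ = _ := by group
    obtain ⟨-, rfl⟩ := (unique_form hC (mul_mem hb (Subgroup.mem_sup_left hv))
      (mul_mem (Subgroup.mem_sup_left hxU) hb) hn hn hw hu e).2 rfl
    have hvU : v ∈ D.posUnipotent F := by
      have : v = w * x * w⁻¹ := by rw [huv]; group
      rw [this]; exact mul_mem (mul_mem huU hxU) (inv_mem huU)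
    -- `v` has no component at `simple i`
    have hvO : v ∈ Uom hC F (D.simple i) := by
      rw [← Uge_zero hC] at hvU
      obtain ⟨f, hf⟩ := split_decomp hC (fun r => decide (0 < T.phi (wL D L r))) 0 v hvU
      obtain ⟨A, hAd⟩ : ∃ A : GL D.Idx F,
          A = prodX hC ((posFrom D 0).filter fun r => decide (0 < T.phi (wL D L r))) f := ⟨_, rfl⟩
      rw [← hAd] at hf
      have hA : A ∈ Uom hC F (D.simple i) ∧
          tor D c * nL hC F L * A * (tor D c * nL hC F L)⁻¹ ∈ D.posUnipotent F := by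
        rw [hAd]
        change prodX hC ((posFrom D 0).filter fun r => decide (0 < T.phi (wL D L r))) f ∈
          Uom hC F (D.simple i) ⊓
            (D.posUnipotent F).comap (MulAut.conj (tor D c * nL hC F L)).toMonoidHom
        refine list_prod_mem fun y hy => ?_
        obtain ⟨r, hr, rfl⟩ := List.mem_map.1 hy
        obtain ⟨hr', hq⟩ := List.mem_filter.1 hr
        obtain ⟨hlt, hp', -⟩ := (mem_posFrom hC).1 hr'
        have hq' := of_decide_eq_true hq
        obtain ⟨η, -, eη⟩ := conj_xg (F := F) hC hL c hlt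
        refine ⟨Subgroup.subset_closure ⟨r, _, hlt, ⟨hp', ?_⟩, rfl⟩, ?_⟩
        · rintro rfl; omega
        · show tor D c * nL hC F L * xg hC r (f r) * (tor D c * nL hC F L)⁻¹ ∈ D.posUnipotent F
          rw [eη]
          exact xg_mem_U hC (wL_lt hC hL hlt) hq' _
      obtain ⟨B', hBd, hB'⟩ : ∃ B' : GL D.Idx F, v = A * B' ∧
          B' ∈ Uminus D F (tor D c * nL hC F L) := by
        refine ⟨_, hf, ?_⟩
        rw [Uminus_eq hC hL c]
        refine list_prod_mem fun y hy => ?_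
        obtain ⟨r, hr, rfl⟩ := List.mem_map.1 hy
        obtain ⟨hr', hq⟩ := List.mem_filter.1 (List.mem_reverse.1 hr)
        obtain ⟨hlt, hp', -⟩ := (mem_posFrom hC).1 hr'
        refine Subgroup.subset_closure ⟨r, _, (mem_invList hC).2 ⟨hlt, hp', ?_⟩, rfl⟩
        have := hC.phi_ne_zero (wL_lt hC hL hlt)
        simp only [Bool.not_eq_true', decide_eq_false_iff_not] at hq
        omega
      have h1 : tor D c * nL hC F L * B' * (tor D c * nL hC F L)⁻¹ = 1 := by
        refine U_inf_V hC ?_ (conj_Uminus hC hB')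
        have : tor D c * nL hC F L * B' * (tor D c * nL hC F L)⁻¹ =
            (tor D c * nL hC F L * A * (tor D c * nL hC F L)⁻¹)⁻¹ *
              (tor D c * nL hC F L * v * (tor D c * nL hC F L)⁻¹) := by
          rw [hBd]; group
        rw [this]
        exact mul_mem (inv_mem hA.2) hv
      rw [mul_inv_eq_one, mul_eq_left] at h1
      rw [hBd, h1, mul_one]
      exact hA.1
    obtain ⟨v0, hv0, s, hs⟩ := U_split hC hp (hC.phi_simple hi) huU
    have hxO : x ∈ Uom hC F (D.simple i) := by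
      have hcomm : xg hC (D.simple i) s * x = x * xg hC (D.simple i) s := by
        rw [hxd, ← xg_add hC, ← xg_add hC, add_comm]
      have e1 : v = v0 * (x * v0⁻¹ * x⁻¹) * x :=
        calc v = w * x * w⁻¹ := by rw [huv]; group
          _ = v0 * (xg hC (D.simple i) s * x) * (xg hC (D.simple i) s)⁻¹ * v0⁻¹ := by rw [hs]; group
          _ = _ := by rw [hcomm]; group
      have h2 : x * v0⁻¹ * x⁻¹ ∈ Uom hC F (D.simple i) :=
        (Subgroup.mem_normalizer_iff.1 (hxd ▸ xg_normalizes_Uom hC hi (1 : F)) _).1 (inv_mem hv0)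
      have e2 : x = (v0 * (x * v0⁻¹ * x⁻¹))⁻¹ * v := by
        conv_rhs => rw [e1]
        group
      rw [e2]
      exact mul_mem (inv_mem (mul_mem hv0 h2)) hvO
    have h3 := Uom_le_U hC _
      ((Subgroup.mem_normalizer_iff.1 (ng_normalizes_Uom (F := F) hC hi) x).1 hxO)
    obtain ⟨η, hη, hηd⟩ := eta_field (F := F) (i := i) (r := D.simple i) hC
    rw [hxd, ng_conj_x hC hi hp, hC.reflect_simple hi, ← hηd, mul_one] at h3
    have h4 : xg hC (D.neg (D.simple i)) η ∈ D.negUnipotent F :=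
      xg_mem_V hC (hC.neg_lt hp) (by rw [hC.phi_neg hp]; have := hC.phi_simple hi; omega) η
    have h5 := U_inf_V hC h3 h4
    rw [← xg_zero hC (D.neg (D.simple i))] at h5
    exact hη (xg_injective hC (hC.neg_lt hp) h5)
  obtain ⟨d, hd⟩ := exists_tor_of_pos (F := F) hC hL hpos
  obtain ⟨g, hgd⟩ : ∃ g, g = b * (tor D c * nL hC F L) * u := ⟨_, rfl⟩
  have hgB : g ∈ D.borelSubgroup F := by
    rw [hgd, hd]
    exact mul_mem (mul_mem hb (mul_mem (Subgroup.mem_sup_right (tor_mem_H hC c))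
      (Subgroup.mem_sup_right (tor_mem_H hC d)))) (Subgroup.mem_sup_left huU)
  rw [← hgd] at hc ⊢
  obtain ⟨L₀, hL₀, hlong⟩ := exists_longest hC
  have hgH : g ∈ D.diagonalSubgroup F := by
    rw [← B_inf_VH hC]
    refine ⟨hgB, ?_⟩
    obtain ⟨v, hv, h, hh, e⟩ := (mem_B_iff hC).1 hgB
    have hvm : v ∈ Uminus D F (tor D (1 : ℕ → Fˣ) * nL hC F L₀) := by
      refine Subgroup.closure_mono ?_ hv
      rintro x ⟨r, t, hr, hx⟩
      refine ⟨r, t, hr, ?_, hx⟩
      exact (map_le_V_iff hC hL₀ 1 hr.1).2 (hlong r hr.1 ((hC.posRoot_iff hr.1).1 hr))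
    rw [tor_one, one_mul] at hvm
    have e1 : g = nL hC F L₀ * v * (nL hC F L₀)⁻¹ * (nL hC F L₀ * h * (nL hC F L₀)⁻¹) :=
      calc g = g * nL hC F L₀ * (nL hC F L₀)⁻¹ := by group
        _ = nL hC F L₀ * g * (nL hC F L₀)⁻¹ := by rw [hc _ (nL_mem_fixL hC σ L₀)]
        _ = _ := by rw [e]; group
    rw [e1]
    exact mul_mem (Subgroup.mem_sup_left (conj_Uminus hC hvm))
      (Subgroup.mem_sup_right (H_conj hC (nL_mem_N hC hL₀) hh))
  obtain ⟨c', rfl⟩ := (mem_H_iff hC).1 hgH
  rw [tor, ← dg_one]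
  refine dg_congr fun r hr => ?_
  have e := tor_conj_x hC c' r (1 : F) hr
  rw [hc _ (xg_mem_fixL hC σ r (map_one σ)), mul_inv_cancel_right, mul_one] at e
  exact Units.ext (xg_injective hC hr e).symm

/-- **Centraliser and normaliser of a subgroup of fixed points containing `fixL`.** -/
theorem centralizer_normalizer {K : Subgroup (GL D.Idx F)} (hKG : K ≤ D.group F)
    (hLK : fixL hC σ ≤ K) (hKfix : ∀ g ∈ K, mapGL D σ g = g) :
    D.group F ⊓ Subgroup.centralizer (K : Set (GL D.Idx F)) = ⊥ ∧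
      ∀ g ∈ D.group F,
        (g ∈ Subgroup.normalizer (K : Set (GL D.Idx F)) ↔ mapGL D σ g = g) := by
  have hcen : ∀ g ∈ D.group F, (∀ x ∈ K, g * x = x * g) → g = 1 := fun g hg hc =>
    eq_one_of_comm hC σ hg fun x hx => hc x (hLK hx)
  refine ⟨eq_bot_iff.2 fun g hg => Subgroup.mem_bot.2
    (hcen g hg.1 fun x hx => (Subgroup.mem_centralizer_iff.1 hg.2 x hx).symm), fun g hg => ⟨?_, ?_⟩⟩
  · intro hn
    refine (inv_mul_eq_one.1
      (hcen _ (mul_mem (inv_mem hg) (map_mem_group σ hg)) fun x hx => ?_)).symm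
    have h1 := hKfix _ ((Subgroup.mem_normalizer_iff.1 hn x).1 hx)
    rw [map_mul, map_mul, map_inv, hKfix x hx] at h1
    calc g⁻¹ * mapGL D σ g * x
        = g⁻¹ * (mapGL D σ g * x * (mapGL D σ g)⁻¹) * mapGL D σ g := by group
      _ = x * (g⁻¹ * mapGL D σ g) := by rw [h1]; group
  · intro he
    have hH : ∀ h ∈ D.diagonalSubgroup F, mapGL D σ h = h → ∀ x ∈ K, h * x * h⁻¹ ∈ K := by
      intro h hh hhe x hx
      obtain ⟨l, hl, k, hk, -, l', hl', rfl⟩ := fixed_decomp hC σ (hKG hx) (hKfix x hx)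
      have hkK : k ∈ K := by
        have := mul_mem (mul_mem (inv_mem (hLK hl)) hx) (inv_mem (hLK hl'))
        simpa [mul_assoc] using this
      have e : h * (l * k * l') * h⁻¹ = h * l * h⁻¹ * (h * k * h⁻¹) * (h * l' * h⁻¹) := by group
      rw [e, H_comm hC hh hk, mul_inv_cancel_right]
      exact mul_mem (mul_mem (hLK (conj_fixL hC σ hh hhe hl)) hkK)
        (hLK (conj_fixL hC σ hh hhe hl'))
    obtain ⟨l, hl, h, hh, hhe, l', hl', rfl⟩ := fixed_decomp hC σ hg he
    have hhN : h ∈ Subgroup.normalizer (K : Set (GL D.Idx F)) := by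
      rw [Subgroup.mem_normalizer_iff]
      refine fun x => ⟨hH h hh hhe x, fun hx => ?_⟩
      have := hH h⁻¹ (inv_mem hh) (by rw [map_inv, hhe]) _ hx
      simpa [mul_assoc] using this
    exact mul_mem (mul_mem (Subgroup.le_normalizer (hLK hl)) hhN)
      (Subgroup.le_normalizer (hLK hl'))

omit hC in
theorem mapGL_eq_self_iff {g : GL D.Idx F} :
    mapGL D σ g = g ↔
      ∀ i j : D.Idx, σ ((g : Matrix D.Idx D.Idx F) i j) = (g : Matrix D.Idx D.Idx F) i j := by
  refine ⟨fun h i j => ?_, fun h => Units.ext ?_⟩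
  · conv_rhs => rw [← h]
    rfl
  · ext i j
    exact h i j

end Cfsg.Agent.SimpleFacts.ChevalleySubfield
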