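import Cfsg.Agent.SimpleFacts.ChevalleyWeaklyClosed
import Cfsg.Agent.Lib.Chevalley.Types.CoefAll

/-!
The table checks for the weakly closed subgroups of `U`.
-/

set_option autoImplicit false

namespace Cfsg.Agent.SimpleFacts.ChevalleyWeaklyClosedTypes

open Cfsg.Lie Cfsg.Agent.Chevalley.Cert Cfsg.Agent.Chevalley.Group Cfsg.Agent.Chevalley.Unip
  Cfsg.Agent.Chevalley.Table Cfsg.Agent.SimpleFacts.ChevalleyWeaklyClosed

/-- The positive root `r` is fundamental or is reached by a commutator. -/
def genChk (D : ChevalleyDatum) : Bool :=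
  D.posRoots.all fun r => (List.range D.rank).any (fun i => r == D.simple i) ||
    ((List.range D.rank).any (fun i => shapeOk D r (D.simple i) (D.reflectRoot i r)) ||
      (List.range D.rank).any fun i => D.posRoots.any fun b =>
        shapeOk D r (D.simple i) b || shapeOk D r b (D.simple i))

/-- The values allowed for the separating exponent. -/
def expOk (strict : Bool) (E : ℤ) : Bool := E == 1 || E == -1 || (!strict && (E == 2 || E == -2))

/-- Exponent vectors with at most two non-zero entries separate the fundamental roots. -/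
def sepChk (D : ChevalleyDatum) (strict : Bool) : Bool :=
  (List.range D.rank).all fun i => (List.range D.rank).all fun j => i == j ||
    (List.range D.rank).any fun k => (List.range D.rank).any fun l =>
      ([1, -1, 2, -2] : List ℤ).any fun x => ([0, 1, -1, 2, -2, 3, -3] : List ℤ).any fun y =>
        x * D.cartan k (D.simple j) + y * D.cartan l (D.simple j) == 0 &&
          expOk strict (x * D.cartan k (D.simple i) + y * D.cartan l (D.simple i))

variable {D : ChevalleyDatum} {T : Tab} {F : Type*} [Field F] (hC : Certified D T)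
include hC

theorem hgen_of (h : genChk D = true) {σ : F} (hσ0 : σ ≠ 0) (hσ1 : σ ≠ 1) :
    ∀ r < D.nroots, 0 < T.phi r → (∀ i < D.rank, r ≠ D.simple i) →
      ∀ v : F, ab D F (xg hC r v) = 1 := by
  intro r hr hp hns v
  simp only [genChk, List.all_eq_true, Bool.or_eq_true, List.any_eq_true, List.mem_range,
    beq_iff_eq] at h
  rcases h r ((mem_posRoots hC).2 ⟨hr, hp⟩) with ⟨i, hi, e⟩ | ⟨i, hi, e⟩ | ⟨i, hi, b, hb, e | e⟩
  · exact absurd e (hns i hi)
  all_goals exact ab_of_shape hC e hσ0 hσ1 v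

theorem torChar_pair (g : Fˣ) (k l : ℕ) (x y : ℤ) (hk : k < D.rank) (hl : l < D.rank) (s : ℕ) :
    torChar D (fun m => (if m = k then g ^ x else 1) * (if m = l then g ^ y else 1)) s =
      g ^ (x * D.cartan k s + y * D.cartan l s) := by
  rw [torChar, zpow_add, zpow_mul, zpow_mul]
  simp only [mul_zpow, Finset.prod_mul_distrib]
  congr 1
  · rw [Finset.prod_eq_single k (fun j _ hne => by simp [hne])
      (fun hh => absurd (Finset.mem_range.2 hk) hh), if_pos rfl]
  · rw [Finset.prod_eq_single l (fun j _ hne => by simp [hne])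
      (fun hh => absurd (Finset.mem_range.2 hl) hh), if_pos rfl]

theorem hsep_of {strict : Bool} (h : sepChk D strict = true) {g : Fˣ} (hg1 : g ≠ 1)
    (hg2 : strict = false → g ^ 2 ≠ 1) :
    ∀ i < D.rank, ∀ j < D.rank, i ≠ j → ∃ c : ℕ → Fˣ,
      torChar D c (D.simple j) = 1 ∧ torChar D c (D.simple i) ≠ 1 := by
  intro i hi j hj hij
  simp only [sepChk, List.all_eq_true, List.mem_range, Bool.or_eq_true, beq_iff_eq, List.any_eq_true,
    Bool.and_eq_true] at h
  obtain ⟨k, hk, l, hl, x, -, y, -, h0, hE⟩ := (h i hi j hj).resolve_left hij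
  refine ⟨fun m => (if m = k then g ^ x else 1) * (if m = l then g ^ y else 1), ?_, ?_⟩
  · rw [torChar_pair hC g k l x y hk hl, h0, zpow_zero]
  · rw [torChar_pair hC g k l x y hk hl]
    obtain ⟨E, hEd⟩ : ∃ E, E = x * D.cartan k (D.simple i) + y * D.cartan l (D.simple i) := ⟨_, rfl⟩
    rw [← hEd] at hE ⊢
    simp only [expOk, Bool.or_eq_true, Bool.and_eq_true, beq_iff_eq, Bool.not_eq_true'] at hE
    rcases hE with (rfl | rfl) | ⟨hs, rfl | rfl⟩
    · simpa using hg1
    · simpa using hg1
    · simpa [zpow_two, pow_two] using hg2 hs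
    · rw [zpow_neg, Ne, inv_eq_one, show (2 : ℤ) = ((2 : ℕ) : ℤ) from rfl, zpow_natCast]
      exact hg2 hs

omit hC in
theorem exists_units [Fintype F] (h : 3 ≤ Fintype.card F) :
    ∃ g : Fˣ, g ≠ 1 ∧ (4 ≤ Fintype.card F → g ^ 2 ≠ 1) := by
  classical
  by_cases h4 : 4 ≤ Fintype.card F
  · obtain ⟨x, -, hx⟩ := Finset.exists_mem_notMem_of_card_lt_card
      (s := ({0, 1, -1} : Finset F)) (t := Finset.univ) (by
        have := Finset.card_le_three (a := (0 : F)) (b := 1) (c := -1)
        rw [Finset.card_univ]; omega)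
    simp only [Finset.mem_insert, Finset.mem_singleton, not_or] at hx
    refine ⟨Units.mk0 x hx.1, fun e => hx.2.1 (congrArg Units.val e), fun _ e => ?_⟩
    have e' : x * x = 1 := by simpa [pow_two] using congrArg Units.val e
    rcases mul_self_eq_one_iff.1 e' with r | r
    exacts [hx.2.1 r, hx.2.2 r]
  · obtain ⟨x, -, hx⟩ := Finset.exists_mem_notMem_of_card_lt_card
      (s := ({0, 1} : Finset F)) (t := Finset.univ) (by
        have := Finset.card_le_two (a := (0 : F)) (b := 1)
        rw [Finset.card_univ]; omega)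
    simp only [Finset.mem_insert, Finset.mem_singleton, not_or] at hx
    exact ⟨Units.mk0 x hx.1, fun e => hx.2 (congrArg Units.val e), fun h => absurd h h4⟩

theorem main [Fintype F] (p : ℕ) [Fact p.Prime] [CharP F p] {N : List (List ℤ)}
    (hN : Cfsg.Agent.Chevalley.Coef.coefChk T N = true) (hg : genChk D = true) {strict : Bool}
    (hs : sepChk D strict = true) (hq : Fintype.card F ≠ 2)
    (hq' : strict = false → Fintype.card F ≠ 3)
    (X : Subgroup (GL D.Idx F)) (hXU : X ≤ D.posUnipotent F)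
    (hwc : ∀ g ∈ D.group F, X.map (MulAut.conj g).toMonoidHom ≤ D.posUnipotent F →
      X.map (MulAut.conj g).toMonoidHom = X) :
    ∃ J : Set ℕ, (∀ j ∈ J, j < D.rank) ∧ X = D.unipotentRadical F J := by
  have h3 : 3 ≤ Fintype.card F := by
    have := Fintype.one_lt_card (α := F); omega
  obtain ⟨g, hg1, hg2⟩ := exists_units h3
  exact weakly_closed_eq_radical hC p hN
    (hgen_of hC hg g.ne_zero fun e => hg1 (Units.ext e))
    (hsep_of hC hs hg1 fun hf => hg2 (by have := hq' hf; omega)) X hXU hwc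

omit hC in
/-- In type `G₂` the roots `8, 9, 10` are separated by varying the parameter. -/
theorem hgen_g2 [Fintype F] (h4 : 4 ≤ Fintype.card F) :
    ∀ r < chevG2.nroots, 0 < Cfsg.Agent.Chevalley.Data.G2.tab.phi r →
      (∀ i < chevG2.rank, r ≠ chevG2.simple i) →
      ∀ v : F, ab chevG2 F (xg Cfsg.Agent.Chevalley.Types.G2.certified r v) = 1 := by
  classical
  have hC := Cfsg.Agent.Chevalley.Types.G2.certified
  have hp : ∀ r, chevG2.posRoots.contains r = true →
      r < chevG2.nroots ∧ 0 < Cfsg.Agent.Chevalley.Data.G2.tab.phi r := fun r h =>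
    (mem_posRoots hC).1 (List.contains_iff_mem.1 h)
  obtain ⟨p6, p6'⟩ := hp 6 (by decide +kernel)
  obtain ⟨p7, p7'⟩ := hp 7 (by decide +kernel)
  obtain ⟨p8, p8'⟩ := hp 8 (by decide +kernel)
  obtain ⟨p9, p9'⟩ := hp 9 (by decide +kernel)
  obtain ⟨p10, p10'⟩ := hp 10 (by decide +kernel)
  obtain ⟨f8, hf8⟩ : ∃ f : F → Abelianization ↥(chevG2.posUnipotent F),
      f = fun v => ab chevG2 F (xg hC 8 v) := ⟨_, rfl⟩
  obtain ⟨f9, hf9⟩ : ∃ f : F → Abelianization ↥(chevG2.posUnipotent F),
      f = fun v => ab chevG2 F (xg hC 9 v) := ⟨_, rfl⟩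
  obtain ⟨f10, hf10⟩ : ∃ f : F → Abelianization ↥(chevG2.posUnipotent F),
      f = fun v => ab chevG2 F (xg hC 10 v) := ⟨_, rfl⟩
  have h11 : ∀ v : F, ab chevG2 F (xg hC 11 v) = 1 := fun v =>
    ab_single hC p10 p6 p10' p6' (by decide) (c := -1) (Or.inr rfl) (by decide +kernel) v
  have hw : ∀ t w : F, t ≠ 0 → f8 w * f9 (t * w) * f10 (-(t ^ 2 * w)) = 1 := by
    intro t w ht
    have h := ab_commWord hC p7 p6 p7' p6' (by decide) t (w / t)
    rw [show chevG2.commTerms 7 6 = [(8, -1, 1, 1), (9, 1, 2, 1), (10, 1, 3, 1), (11, 1, 3, 2)] by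
      decide +kernel] at h
    simp only [List.map_cons, List.map_nil, List.prod_cons, List.prod_nil, mul_one, Int.cast_neg,
      Int.cast_one, one_mul, h11, neg_mul, pow_one] at h
    rw [neg_neg, show t * (w / t) = w by field_simp, show (-t) ^ 2 * (w / t) = t * w by field_simp,
      show (-t) ^ 3 * (w / t) = -(t ^ 2 * w) by field_simp] at h
    rw [hf8, hf9, hf10]
    simpa [mul_assoc] using h
  have a9 : ∀ a b : F, f9 (a + b) = f9 a * f9 b := fun a b => by
    rw [hf9]; exact ab_xg_add hC p9 p9' a b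
  have a10 : ∀ a b : F, f10 (a + b) = f10 a * f10 b := fun a b => by
    rw [hf10]; exact ab_xg_add hC p10 p10' a b
  -- two parameters different from `0` and `1`
  have hkey : ∀ t : F, t ≠ 0 → t ≠ 1 → ∀ v, f9 v * f10 (-((t + 1) * v)) = 1 := by
    intro t ht ht1 v
    have h1 := hw 1 (v / (t - 1)) one_ne_zero
    have h2 := hw t (v / (t - 1)) ht
    have hne := sub_ne_zero.2 ht1
    rw [show t * (v / (t - 1)) = v + 1 * (v / (t - 1)) by field_simp; ring, a9,
      show -(t ^ 2 * (v / (t - 1))) = -((t + 1) * v) + -(1 ^ 2 * (v / (t - 1))) by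
        field_simp; ring, a10] at h2
    calc f9 v * f10 (-((t + 1) * v))
        = f9 v * f10 (-((t + 1) * v)) * (f8 (v / (t - 1)) * f9 (1 * (v / (t - 1))) *
            f10 (-(1 ^ 2 * (v / (t - 1))))) := by rw [h1, mul_one]
      _ = _ := by rw [← h2]; ac_rfl
  obtain ⟨t, -, ht⟩ := Finset.exists_mem_notMem_of_card_lt_card
    (s := ({0, 1} : Finset F)) (t := Finset.univ) (by
      have := Finset.card_le_two (a := (0 : F)) (b := 1)
      rw [Finset.card_univ]; omega)
  obtain ⟨u, -, hu⟩ := Finset.exists_mem_notMem_of_card_lt_card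
    (s := ({0, 1, t} : Finset F)) (t := Finset.univ) (by
      have := Finset.card_le_three (a := (0 : F)) (b := 1) (c := t)
      rw [Finset.card_univ]; omega)
  simp only [Finset.mem_insert, Finset.mem_singleton, not_or] at ht hu
  have h10 : ∀ v, f10 v = 1 := by
    intro v
    have hne := sub_ne_zero.2 hu.2.2
    obtain ⟨x, hx⟩ : ∃ x, x = v / (u - t) := ⟨_, rfl⟩
    have e1 := hkey t ht.1 ht.2 x
    have e2 := hkey u hu.1 hu.2.1 x
    rw [show -((t + 1) * x) = -((u + 1) * x) + v by rw [hx]; field_simp; ring, a10, ← mul_assoc, e2,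
      one_mul] at e1
    exact e1
  have h9 : ∀ v, f9 v = 1 := fun v => by simpa [h10] using hkey t ht.1 ht.2 v
  have h8 : ∀ v, f8 v = 1 := fun v => by simpa [h10, h9] using hw 1 v one_ne_zero
  intro r hr hp hns v
  have hlist : (chevG2.posRoots.all fun r => ([6, 7, 8, 9, 10, 11] : List ℕ).contains r) = true := by
    decide +kernel
  simp only [List.all_eq_true, List.contains_iff_mem, List.mem_cons, List.not_mem_nil, or_false] at hlist
  rcases hlist r ((mem_posRoots hC).2 ⟨hr, hp⟩) with rfl | rfl | rfl | rfl | rfl | rfl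
  · exact absurd (by decide +kernel) (hns 1 (by decide +kernel))
  · exact absurd (by decide +kernel) (hns 0 (by decide +kernel))
  · simpa [hf8] using h8 v
  · simpa [hf9] using h9 v
  · simpa [hf10] using h10 v
  · exact h11 v

end Cfsg.Agent.SimpleFacts.ChevalleyWeaklyClosedTypes
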