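import Mathlib

/-!
# Arithmetic for the orders of nilpotent permutation groups
-/

set_option autoImplicit false

open Nat

namespace Cfsg.Agent.SimpleFacts.NilpotentBound

/-- The exponent of two in `n!`. -/
noncomputable def v2 (n : ℕ) : ℕ := padicValNat 2 n !

theorem v2_double (k : ℕ) : v2 (2 * k) = k + v2 k := by
  haveI : Fact (Nat.Prime 2) := ⟨Nat.prime_two⟩
  rw [v2, v2, padicValNat_factorial_mul]; omega

theorem v2_double_add (k : ℕ) : v2 (2 * k + 1) = k + v2 k := by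
  haveI : Fact (Nat.Prime 2) := ⟨Nat.prime_two⟩
  rw [v2, padicValNat_factorial_mul_add _ (by norm_num : 1 < 2)]
  exact v2_double k

theorem v2_zero : v2 0 = 0 := by simp [v2]
theorem v2_one : v2 1 = 0 := by simp [v2]

theorem v2_add (x y : ℕ) : v2 x + v2 y ≤ v2 (x + y) := by
  haveI : Fact (Nat.Prime 2) := ⟨Nat.prime_two⟩
  rw [v2, v2, v2, ← padicValNat.mul (factorial_ne_zero x) (factorial_ne_zero y)]
  exact (padicValNat_dvd_iff_le (factorial_ne_zero _)).1
    (dvd_trans pow_padicValNat_dvd (factorial_mul_factorial_dvd_factorial_add x y))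

theorem v2_mono {x y : ℕ} (h : x ≤ y) : v2 x ≤ v2 y := by
  obtain ⟨z, rfl⟩ := Nat.exists_eq_add_of_le h
  have := v2_add x z
  omega

theorem v2_four_mul (k : ℕ) : v2 (4 * k) = 3 * k + v2 k := by
  rw [show 4 * k = 2 * (2 * k) by ring, v2_double, v2_double]; omega

theorem v2_four_add_one (k : ℕ) : v2 (4 * k + 1) = v2 (4 * k) := by
  rw [show 4 * k = 2 * (2 * k) by ring]
  simp only [v2_double, v2_double_add]

theorem v2_four_add_two (k : ℕ) : v2 (4 * k + 2) = v2 (4 * k) + 1 := by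
  rw [show 4 * k + 2 = 2 * (2 * k + 1) by ring, show 4 * k = 2 * (2 * k) by ring, v2_double,
    v2_double, v2_double_add, v2_double]
  omega

theorem v2_four_add_three (k : ℕ) : v2 (4 * k + 3) = v2 (4 * k) + 1 := by
  rw [show 4 * k + 3 = 2 * (2 * k + 1) + 1 by ring, show 4 * k = 2 * (2 * k) by ring, v2_double_add,
    v2_double, v2_double_add, v2_double]
  omega

theorem v2_two : v2 2 = 1 := by
  have := v2_four_add_two 0
  rw [mul_zero, v2_zero] at this; exact this
theorem v2_three : v2 3 = 1 := by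
  have := v2_four_add_three 0
  rw [mul_zero, v2_zero] at this; exact this
theorem v2_four : v2 4 = 3 := by
  have := v2_four_mul 1
  rw [v2_one] at this; exact this
theorem v2_eight : v2 8 = 7 := by
  have := v2_four_mul 2
  rw [v2_two] at this; exact this

/-- The coefficient of the residue modulo four. -/
def w : ℕ → ℕ
  | 2 => 2
  | 3 => 3
  | _ => 1

/-- The largest order of a nilpotent group of degree `n`. -/
noncomputable def bS (n : ℕ) : ℕ := w (n % 4) * 2 ^ v2 (4 * (n / 4))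

theorem bS_pos (n : ℕ) : 0 < bS n := by
  unfold bS
  have : 0 < w (n % 4) := by unfold w; split <;> norm_num
  positivity

theorem bS_of_mod {n : ℕ} (h : n % 4 ≠ 3) : bS n = 2 ^ v2 n := by
  unfold bS
  obtain hr | hr | hr : n % 4 = 0 ∨ n % 4 = 1 ∨ n % 4 = 2 := by omega
  all_goals rw [hr]
  · rw [w, one_mul, show 4 * (n / 4) = n by omega] <;> simp
  · conv_rhs => rw [show n = 4 * (n / 4) + 1 by omega, v2_four_add_one]
    simp [w]
  · conv_rhs => rw [show n = 4 * (n / 4) + 2 by omega, v2_four_add_two]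
    simp [w, pow_succ, mul_comm]

theorem bS_of_three {n : ℕ} (h : n % 4 = 3) : bS n = 3 * 2 ^ v2 (n - 3) := by
  unfold bS
  rw [h, show 4 * (n / 4) = n - 3 by omega]
  rfl

theorem two_pow_v2_le (n : ℕ) : 2 ^ v2 n ≤ bS n := by
  by_cases h : n % 4 = 3
  · rw [bS_of_three h]
    obtain ⟨k, rfl⟩ : ∃ k, n = 4 * k + 3 := ⟨n / 4, by omega⟩
    rw [v2_four_add_three, Nat.add_sub_cancel, pow_succ]
    omega
  · rw [bS_of_mod h]

theorem bS_mul (x y : ℕ) : bS x * bS y ≤ bS (x + y) := by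
  unfold bS
  rw [mul_mul_mul_comm, ← pow_add]
  have hstep : ∀ k, 2 ^ v2 (4 * k) * 8 ≤ 2 ^ v2 (4 * (k + 1)) := fun k => by
    have := v2_add (4 * k) 4
    rw [v2_four] at this
    calc 2 ^ v2 (4 * k) * 8 = 2 ^ (v2 (4 * k) + 3) := by rw [pow_add]; norm_num
      _ ≤ _ := Nat.pow_le_pow_right (by norm_num) (by rwa [mul_add, mul_one])
  have hsum : 2 ^ (v2 (4 * (x / 4)) + v2 (4 * (y / 4))) ≤ 2 ^ v2 (4 * (x / 4 + y / 4)) :=
    Nat.pow_le_pow_right (by norm_num) (by rw [mul_add]; exact v2_add _ _)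
  rcases lt_or_ge (x % 4 + y % 4) 4 with h | h
  · rw [show (x + y) % 4 = x % 4 + y % 4 by omega, show (x + y) / 4 = x / 4 + y / 4 by omega]
    refine Nat.mul_le_mul ?_ hsum
    obtain hx | hx | hx | hx : x % 4 = 0 ∨ x % 4 = 1 ∨ x % 4 = 2 ∨ x % 4 = 3 := by omega
    all_goals obtain hy | hy | hy | hy : y % 4 = 0 ∨ y % 4 = 1 ∨ y % 4 = 2 ∨ y % 4 = 3 := by omega
    all_goals first | omega | (rw [hx, hy]; decide)
  · rw [show (x + y) % 4 = x % 4 + y % 4 - 4 by omega,
      show (x + y) / 4 = x / 4 + y / 4 + 1 by omega]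
    calc w (x % 4) * w (y % 4) * 2 ^ (v2 (4 * (x / 4)) + v2 (4 * (y / 4)))
        ≤ (8 * w (x % 4 + y % 4 - 4)) * 2 ^ v2 (4 * (x / 4 + y / 4)) := by
          refine Nat.mul_le_mul ?_ hsum
          obtain hx | hx | hx | hx : x % 4 = 0 ∨ x % 4 = 1 ∨ x % 4 = 2 ∨ x % 4 = 3 := by omega
          all_goals obtain hy | hy | hy | hy : y % 4 = 0 ∨ y % 4 = 1 ∨ y % 4 = 2 ∨ y % 4 = 3 := by omega
          all_goals first | omega | (rw [hx, hy]; decide)
      _ = w (x % 4 + y % 4 - 4) * (2 ^ v2 (4 * (x / 4 + y / 4)) * 8) := by ring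
      _ ≤ _ := Nat.mul_le_mul_left _ (hstep _)

theorem bS_mono {x y : ℕ} (h : x ≤ y) : bS x ≤ bS y := by
  obtain ⟨z, rfl⟩ := Nat.exists_eq_add_of_le h
  exact le_trans (Nat.le_mul_of_pos_right _ (bS_pos z)) (bS_mul x z)

theorem two_mul_bS_le {x y : ℕ} (h : x + 2 ≤ y) : 2 * bS x ≤ bS y := by
  have h2 : bS 2 = 2 := by simp [bS, w, v2_zero]
  calc 2 * bS x = bS x * bS 2 := by rw [h2, mul_comm]
    _ ≤ bS (x + 2) := bS_mul x 2
    _ ≤ bS y := bS_mono h

/-- Twice the largest order of a nilpotent group of even permutations of degree `n`. -/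
noncomputable def bA : ℕ → ℕ
  | 0 => 2
  | 1 => 2
  | 3 => 6
  | 5 => 10
  | 6 => 18
  | 9 => 162
  | n => bS n

theorem bA_eq {n : ℕ} (h0 : n ≠ 0) (h1 : n ≠ 1) (h3 : n ≠ 3) (h5 : n ≠ 5) (h6 : n ≠ 6) (h9 : n ≠ 9) :
    bA n = bS n := by
  unfold bA; split <;> first | rfl | omega

theorem small_vals : bS 0 = 1 ∧ bS 1 = 1 ∧ bS 2 = 2 ∧ bS 3 = 3 ∧ bS 4 = 8 ∧ bS 5 = 8 ∧
    bS 6 = 16 ∧ bS 7 = 24 ∧ bS 8 = 128 ∧ bS 9 = 128 ∧ bS 10 = 256 ∧ bS 11 = 384 ∧
    bS 12 = 1024 ∧ bS 13 = 1024 := by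
  have h12 : v2 12 = 10 := by
    have := v2_four_mul 3
    rw [v2_three] at this; exact this
  simp [bS, w, v2_zero, v2_four, v2_eight, h12]

theorem le_bA (n : ℕ) : bS n ≤ bA n := by
  obtain ⟨e0, e1, -, e3, -, e5, e6, -, -, e9, -⟩ := small_vals
  unfold bA
  split <;> omega

theorem bA_le (n : ℕ) : bA n ≤ 2 * bS n := by
  obtain ⟨e0, e1, -, e3, -, e5, e6, -, -, e9, -⟩ := small_vals
  unfold bA
  split <;> omega

theorem bA_mul_exc {x y : ℕ} (hx : x = 1 ∨ x = 3 ∨ x = 5 ∨ x = 6 ∨ x = 9)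
    (hy : y = 1 ∨ y = 3 ∨ y = 5 ∨ y = 6 ∨ y = 9) : bA x * bA y ≤ 2 * bA (x + y) := by
  obtain ⟨e0, e1, e2, e3, e4, e5, e6, e7, e8, e9, e10, e11, e12, e13⟩ := small_vals
  have hb : ∀ n, 8 ≤ n → 128 ≤ bS n := fun n hn => e8 ▸ bS_mono hn
  have h14 : 2048 ≤ bS 14 := le_trans (by rw [e12]) (two_mul_bS_le (show 12 + 2 ≤ 14 by norm_num))
  have h15 := bS_mono (show 14 ≤ 15 by norm_num)
  have h18 : 16384 ≤ bS 18 := le_trans (by rw [e12, e6]) (bS_mul 12 6)
  rcases hx with rfl | rfl | rfl | rfl | rfl <;> rcases hy with rfl | rfl | rfl | rfl | rfl <;>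
    simp [bA, e2, e4, e7, e8, e10, e11, e12] <;> omega

theorem sq_le_three_pow {p : ℕ} (hp : 3 ≤ p) : p ^ 2 ≤ 3 ^ (p - 1) := by
  induction p, hp using Nat.le_induction with
  | base => norm_num
  | succ m hm ihm =>
    calc (m + 1) ^ 2 ≤ 3 * m ^ 2 := by nlinarith
      _ ≤ 3 * 3 ^ (m - 1) := Nat.mul_le_mul_left _ ihm
      _ = _ := by rw [← pow_succ']; congr 1; omega

/-- The bound for odd prime powers. -/
theorem four_mul_three_pow_le : ∀ n, 16 ≤ n → 4 * 3 ^ (n - 1) ≤ 4 ^ v2 n := by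
  intro n
  induction n using Nat.strong_induction_on with
  | _ n ih =>
    intro hn
    have hv : v2 n = n / 2 + v2 (n / 2) := by
      rcases Nat.even_or_odd' n with ⟨k, rfl | rfl⟩
      · rw [show 2 * k / 2 = k by omega, v2_double]
      · rw [show (2 * k + 1) / 2 = k by omega, v2_double_add]
    rcases lt_or_ge n 32 with h32 | h32
    · have h8 : v2 8 = 7 := v2_eight
      have e : ∀ k, v2 k = v2 k := fun _ => rfl
      have vals : v2 9 = 7 ∧ v2 10 = 8 ∧ v2 11 = 8 ∧ v2 12 = 10 ∧ v2 13 = 10 ∧ v2 14 = 11 ∧ v2 15 = 11 := by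
        have a9 := v2_double_add 4; have a10 := v2_double 5; have a11 := v2_double_add 5
        have a12 := v2_double 6; have a13 := v2_double_add 6; have a14 := v2_double 7
        have a15 := v2_double_add 7
        have b5 := v2_double_add 2; have b6 := v2_double 3; have b7 := v2_double_add 3
        norm_num [v2_four, v2_two, v2_three] at a9 a10 a11 a12 a13 a14 a15 b5 b6 b7
        omega
      obtain ⟨c9, c10, c11, c12, c13, c14, c15⟩ := vals
      interval_cases n <;> simp only [hv, h8, c9, c10, c11, c12, c13, c14, c15, Nat.reduceDiv,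
        Nat.reduceSub, Nat.reduceAdd] <;> norm_num
    · have h1 := ih (n / 2) (by omega) (by omega)
      have h2 : ∀ k, 4 ≤ k → 3 ^ (k + 1) ≤ 4 ^ k := by
        intro k hk
        induction k, hk using Nat.le_induction with
        | base => norm_num
        | succ m _ ihm =>
          calc 3 ^ (m + 1 + 1) = 3 ^ (m + 1) * 3 := pow_succ _ _
            _ ≤ 4 ^ m * 4 := Nat.mul_le_mul ihm (by norm_num)
            _ = _ := (pow_succ _ _).symm
      rw [hv, pow_add]
      calc 4 * 3 ^ (n - 1) ≤ 4 * 3 ^ ((n / 2 + 1) + (n / 2 - 1)) :=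
            Nat.mul_le_mul_left _ (Nat.pow_le_pow_right (by norm_num) (by omega))
        _ = 3 ^ (n / 2 + 1) * (4 * 3 ^ (n / 2 - 1)) := by rw [pow_add]; ring
        _ ≤ _ := Nat.mul_le_mul (h2 _ (by omega)) h1

theorem prime_pow_bound {p a : ℕ} (hp : p.Prime) (hp2 : p ≠ 2) (ha : 1 ≤ a) :
    2 * p ^ padicValNat p (p ^ a) ! ≤ bA (p ^ a) := by
  haveI : Fact p.Prime := ⟨hp⟩
  set n := p ^ a with hn
  set v := padicValNat p n ! with hv
  have hp3 : 3 ≤ p := by have := hp.two_le; omega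
  have hpn : p ∣ n := dvd_pow_self p (by omega)
  have hn0 : 0 < n := pow_pos hp.pos a
  have hvn : (p - 1) * v ≤ n - 1 := by
    have := sub_one_mul_padicValNat_factorial_lt_of_ne_zero (p := p) hn0.ne'
    rw [hv]
    omega
  rcases lt_or_ge n 16 with h16 | h16
  · have hp15 : p < 16 := lt_of_le_of_lt (Nat.le_of_dvd hn0 hpn) h16
    obtain ⟨e0, e1, e2, e3, e4, e5, e6, e7, e8, e9, e10, e11, e12, e13⟩ := small_vals
    have e15 : 1024 ≤ bS 15 := e12 ▸ bS_mono (by norm_num)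
    have hcop : ∀ q : ℕ, q.Prime → q ∣ n → q = p := fun q hq hqn =>
      (Nat.prime_dvd_prime_iff_eq hq hp).1 (hq.dvd_of_dvd_pow hqn)
    clear hv hn
    clear_value v
    clear_value n
    have hc2 : 2 ∣ n → 2 = p := hcop 2 Nat.prime_two
    have hc3 : 3 ∣ n → 3 = p := hcop 3 Nat.prime_three
    have hc5 : 5 ∣ n → 5 = p := hcop 5 (by norm_num)
    interval_cases p
    all_goals try norm_num at hp
    all_goals interval_cases n
    all_goals try norm_num at hpn
    all_goals first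
      | omega
      | (have hv' : v ≤ 4 := by omega
         interval_cases v
         all_goals simp [bA, e7, e11, e13] <;> omega)
  · have h1 : p ^ 2 ≤ 3 ^ (p - 1) := sq_le_three_pow hp3
    have h2 : (2 * p ^ v) ^ 2 ≤ (2 ^ v2 n) ^ 2 := by
      calc (2 * p ^ v) ^ 2 = 4 * (p ^ 2) ^ v := by rw [← pow_mul, mul_comm 2 v, pow_mul]; ring
        _ ≤ 4 * (3 ^ (p - 1)) ^ v := Nat.mul_le_mul_left _ (Nat.pow_le_pow_left h1 v)
        _ ≤ 4 * 3 ^ (n - 1) := by
          rw [← pow_mul]; exact Nat.mul_le_mul_left _ (Nat.pow_le_pow_right (by norm_num) hvn)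
        _ ≤ 4 ^ v2 n := four_mul_three_pow_le n h16
        _ = _ := by rw [show (4 : ℕ) = 2 ^ 2 by norm_num, ← pow_mul, ← pow_mul, mul_comm]
    exact (((Nat.pow_le_pow_iff_left two_ne_zero).1 h2).trans (two_pow_v2_le n)).trans (le_bA n)

theorem prime_pow_le_bS {p a : ℕ} (hp : p.Prime) : p ^ padicValNat p (p ^ a) ! ≤ bS (p ^ a) := by
  rcases Nat.eq_zero_or_pos a with rfl | ha
  · simp [small_vals.2.1]
  by_cases hp2 : p = 2
  · subst hp2
    exact two_pow_v2_le _
  · have := prime_pow_bound hp hp2 ha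
    have := bA_le (p ^ a)
    omega

theorem two_mul_le_composite {k m : ℕ} (hk : 2 ≤ k) (hm : 2 ≤ m) (hcop : k.Coprime m) :
    2 * (bS k * bS m) ≤ bA (k * m) := by
  rcases eq_or_ne (k * m) 6 with h6 | h6
  · have hk6 : k ≤ 3 := by nlinarith
    have hm6 : m ≤ 3 := by nlinarith
    obtain ⟨-, -, e2, e3, -⟩ := small_vals
    interval_cases k <;> interval_cases m <;> simp_all [bA]
  · have h : k + m + 2 ≤ k * m := by
      rcases eq_or_lt_of_le hk with rfl | hk3
      · have : m ≠ 2 := fun h => by subst h; norm_num at hcop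
        have : m ≠ 3 := fun h => h6 (by subst h; norm_num)
        have : ¬ 2 ∣ m := (Nat.Prime.coprime_iff_not_dvd Nat.prime_two).1 hcop
        omega
      · rcases eq_or_lt_of_le hm with rfl | hm3
        · have : k ≠ 3 := fun h => h6 (by subst h; norm_num)
          have : ¬ 2 ∣ k := (Nat.Prime.coprime_iff_not_dvd Nat.prime_two).1 hcop.symm
          omega
        · rcases eq_or_ne k m with rfl | hne
          · rw [Nat.coprime_self] at hcop; omega
          · rcases Nat.lt_or_gt_of_ne hne with h | h <;> nlinarith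
    exact ((Nat.mul_le_mul_left 2 (bS_mul k m)).trans (two_mul_bS_le h)).trans (le_bA _)

theorem centralizer_bound {n j : ℕ} (hn : n % 4 = 3) (hj : 2 ≤ j) (hjn : 3 * j ≤ n) :
    v2 (n - 3 * j) + v2 j + 2 ≤ v2 (n - 3) := by
  rcases Nat.lt_or_ge j 4 with h4 | h4
  · interval_cases j
    · obtain ⟨k, hk⟩ : ∃ k, n = 4 * k + 7 := ⟨(n - 7) / 4, by omega⟩
      subst hk
      rw [show 4 * k + 7 - 3 * 2 = 4 * k + 1 by omega, v2_four_add_one, v2_two,
        show 4 * k + 7 - 3 = 4 * k + 4 by omega]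
      have := v2_add (4 * k) 4
      rw [v2_four] at this; omega
    · obtain ⟨k, hk⟩ : ∃ k, n = 4 * k + 11 := ⟨(n - 11) / 4, by omega⟩
      subst hk
      rw [show 4 * k + 11 - 3 * 3 = 4 * k + 2 by omega, v2_four_add_two, v2_three,
        show 4 * k + 11 - 3 = 4 * k + 8 by omega]
      have := v2_add (4 * k) 8
      rw [v2_eight] at this; omega
  · have h1 := v2_add (n - 3 * j) j
    have h2 := v2_add (n - 3 * j + j) (2 * j - 4)
    have h3 := v2_mono (show 4 ≤ 2 * j - 4 by omega)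
    have h4' := v2_mono (show n - 3 * j + j + (2 * j - 4) ≤ n - 3 by omega)
    rw [v2_four] at h3
    omega

end Cfsg.Agent.SimpleFacts.NilpotentBound
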