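import Mathlib
import Cfsg.Agent.SimpleFacts.NilpotentBound
import Cfsg.Agent.Lib.CN.Basic
import Cfsg.Agent.Lib.CharTheory.QuasiElementary

/-!
# Orders of nilpotent permutation groups
-/

set_option autoImplicit false
set_option linter.unusedSectionVars false

open Equiv

namespace Cfsg.Agent.SimpleFacts.NilpotentPerm

open NilpotentBound

variable {α : Type} [Fintype α] [DecidableEq α]

/-- Restriction to an invariant set. -/
def restr (N : Subgroup (Perm α)) (s : α → Prop) (h : ∀ g ∈ N, ∀ x, s (g x) ↔ s x) :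
    N →* Perm {x // s x} where
  toFun g := (g : Perm α).subtypePerm (h g g.2)
  map_one' := Equiv.ext fun x => Subtype.ext rfl
  map_mul' g g' := Equiv.ext fun x => Subtype.ext rfl

theorem restr_apply (N : Subgroup (Perm α)) (s : α → Prop) (h : ∀ g ∈ N, ∀ x, s (g x) ↔ s x)
    (g : N) (x : {x // s x}) : (restr N s h g x : α) = (g : Perm α) x := rfl

theorem eq_ofSubtype_mul (N : Subgroup (Perm α)) (s : α → Prop) [DecidablePred s]
    (h : ∀ g ∈ N, ∀ x, s (g x) ↔ s x) (h' : ∀ g ∈ N, ∀ x, ¬ s (g x) ↔ ¬ s x) (g : N) :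
    (g : Perm α) = Perm.ofSubtype (restr N s h g) * Perm.ofSubtype (restr N (fun x => ¬ s x) h' g) := by
  refine Equiv.ext fun x => ?_
  rw [Perm.mul_apply]
  by_cases hx : s x
  · rw [Perm.ofSubtype_apply_of_not_mem (p := fun x => ¬ s x) _ (fun hn => hn hx),
      Perm.ofSubtype_apply_of_mem _ hx, restr_apply]
  · rw [Perm.ofSubtype_apply_of_mem (p := fun x => ¬ s x) _ hx, restr_apply,
      Perm.ofSubtype_apply_of_not_mem _ ((h' g g.2 x).2 hx)]

theorem isNilpotent_range {N : Subgroup (Perm α)} (hN : Group.IsNilpotent N) {H : Type} [Group H]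
    (f : N →* H) : Group.IsNilpotent f.range :=
  haveI := hN
  Group.nilpotent_of_surjective f.rangeRestrict f.rangeRestrict_surjective

/-- The bound of a nilpotent group with an invariant set. -/
theorem split_bound (N : Subgroup (Perm α)) (s : α → Prop) [DecidablePred s]
    (h : ∀ g ∈ N, ∀ x, s (g x) ↔ s x) (h' : ∀ g ∈ N, ∀ x, ¬ s (g x) ↔ ¬ s x) :
    Nat.card N ≤ Nat.card (restr N s h).range * Nat.card (restr N (fun x => ¬ s x) h').range ∧
    ((∀ g ∈ N, Perm.sign g = 1) →
      (∃ g, Perm.sign (restr N s h g) = -1) →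
      2 * Nat.card N ≤ Nat.card (restr N s h).range * Nat.card (restr N (fun x => ¬ s x) h').range) := by
  let Φ : N →* (restr N s h).range × (restr N (fun x => ¬ s x) h').range :=
    (restr N s h).rangeRestrict.prod (restr N (fun x => ¬ s x) h').rangeRestrict
  have hΦ : Function.Injective Φ := fun g g' e => Subtype.ext (by
    rw [eq_ofSubtype_mul N s h h' g, eq_ofSubtype_mul N s h h' g']
    have e1 := congrArg (fun p => (p.1 : Perm {x // s x})) e
    have e2 := congrArg (fun p => (p.2 : Perm {x // ¬ s x})) e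
    simp only [Φ, MonoidHom.prod_apply, MonoidHom.coe_rangeRestrict] at e1 e2
    rw [e1, e2])
  have hle : Nat.card N ≤ Nat.card ((restr N s h).range × (restr N (fun x => ¬ s x) h').range) :=
    Nat.card_le_card_of_injective Φ hΦ
  rw [Nat.card_prod] at hle
  refine ⟨hle, fun heven ⟨g₀, hg₀⟩ => ?_⟩
  let χ : (restr N s h).range × (restr N (fun x => ¬ s x) h').range →* ℤˣ :=
    (Perm.sign.comp ((restr N s h).range.subtype.comp (MonoidHom.fst _ _))) *
      (Perm.sign.comp ((restr N (fun x => ¬ s x) h').range.subtype.comp (MonoidHom.snd _ _)))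
  have hker : Φ.range ≤ χ.ker := by
    rintro _ ⟨g, rfl⟩
    rw [MonoidHom.mem_ker]
    show Perm.sign (restr N s h g) * Perm.sign (restr N (fun x => ¬ s x) h' g) = 1
    rw [← Perm.sign_ofSubtype (restr N s h g), ← Perm.sign_ofSubtype (restr N (fun x => ¬ s x) h' g),
      ← Perm.sign_mul, ← eq_ofSubtype_mul N s h h' g]
    exact heven g g.2
  have hsurj : Function.Surjective χ := by
    intro u
    rcases Int.units_eq_one_or u with rfl | rfl
    · exact ⟨1, map_one _⟩
    · exact ⟨(⟨restr N s h g₀, g₀, rfl⟩, 1), by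
        show Perm.sign (restr N s h g₀) * Perm.sign (1 : Perm {x // ¬ s x}) = -1
        rw [hg₀, map_one, mul_one]⟩
  have hc := χ.ker.card_mul_index
  rw [Subgroup.index_ker, MonoidHom.range_eq_top.2 hsurj, Subgroup.card_top, Nat.card_prod,
    show Nat.card ℤˣ = 2 by rw [Nat.card_eq_fintype_card]; rfl] at hc
  have h1 : Nat.card N ≤ Nat.card χ.ker := by
    rw [Nat.card_congr (MonoidHom.ofInjective hΦ).toEquiv]
    exact Subgroup.card_le_of_le hker
  rw [← hc, mul_comm _ 2]
  exact Nat.mul_le_mul_left 2 h1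

/-- A transitive nilpotent group, split at a prime. -/
theorem transitive_bound (N : Subgroup (Perm α)) (hN : Group.IsNilpotent N)
    (htr : ∀ x y : α, ∃ g ∈ N, g x = y) (o : α) {p a m : ℕ} (hp : p.Prime)
    (hn : Fintype.card α = p ^ a * m) (hm : ¬ p ∣ m) :
    (m = 1 → IsPGroup p N) ∧ ∃ M : Subgroup (Perm (Fin m)), Group.IsNilpotent M ∧
      Nat.card N ≤ p ^ padicValNat p (p ^ a).factorial * Nat.card M := by
  classical
  haveI := hN
  haveI : Fact p.Prime := ⟨hp⟩
  obtain ⟨P⟩ : Nonempty (Sylow p N) := inferInstance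
  have hPn : (P : Subgroup N).Normal :=
    (Group.isNilpotent_of_finite_tfae.out 0 3 rfl rfl).1 hN p inferInstance P
  haveI := hPn
  haveI : Unique (Sylow p N) := Sylow.unique_of_normal P hPn
  have hpel : ∀ v : N, (∃ k, orderOf v = p ^ k) → v ∈ (P : Subgroup N) := by
    intro v ⟨k, hk⟩
    obtain ⟨Q, hQ⟩ := (IsPGroup.of_card (p := p) (n := k) (by rw [Nat.card_zpowers, hk]) :
      IsPGroup p (Subgroup.zpowers v)).exists_le_sylow
    rw [Subsingleton.elim Q P] at hQ
    exact hQ (Subgroup.mem_zpowers v)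
  have hcomm : ∀ u ∈ (P : Subgroup N), ∀ q : N, (orderOf q).Coprime p → u * q = q * u := by
    intro u hu q hq
    obtain ⟨k, hk⟩ := IsPGroup.iff_orderOf.1 P.isPGroup' ⟨u, hu⟩
    rw [Subgroup.orderOf_mk] at hk
    exact (CN.commute_of_coprime_group u q (hk ▸ hq.symm.pow_left k)).eq
  have hdec : ∀ g : N, ∃ q v : N, g = q * v ∧ (orderOf q).Coprime p ∧ v ∈ (P : Subgroup N) ∧
      q ∈ Subgroup.zpowers g := by
    intro g
    obtain ⟨u, v, e, -, hu, -, hv, hcu⟩ := CharTheory.QuasiElementary.exists_pPart_decomp g hp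
    exact ⟨u, v, e, hcu, hpel v hv, hu⟩
  -- the point stabiliser and the block
  let H : Subgroup N := MulAction.stabilizer N o
  let K : Subgroup N := (P : Subgroup N) ⊔ H
  haveI : MulAction.IsPretransitive N α := ⟨fun x y => by
    obtain ⟨g, hg, e⟩ := htr x y
    exact ⟨⟨g, hg⟩, e⟩⟩
  have hHidx : H.index = p ^ a * m := by
    rw [MulAction.index_stabilizer_of_transitive N o, Nat.card_eq_fintype_card, hn]
  have hKdvd : H.relIndex K * K.index = p ^ a * m := by
    rw [Subgroup.relIndex_mul_index le_sup_right, hHidx]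
  have hrel : H.relIndex K = H.relIndex (P : Subgroup N) := by
    have a := Subgroup.relIndex_mul_relIndex ((P : Subgroup N) ⊓ H) H K inf_le_right le_sup_right
    have b := Subgroup.relIndex_mul_relIndex ((P : Subgroup N) ⊓ H) (P : Subgroup N) K inf_le_left le_sup_left
    rw [Subgroup.inf_relIndex_right] at a
    rw [inf_comm, Subgroup.inf_relIndex_right, inf_comm] at b
    have c : (P : Subgroup N).relIndex K = (P : Subgroup N).relIndex H := by
      show (P : Subgroup N).relIndex ((P : Subgroup N) ⊔ H) = _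
      rw [sup_comm, Subgroup.relIndex_sup_right]
    rw [c, ← a, mul_comm] at b
    exact (Nat.eq_of_mul_eq_mul_left (Nat.pos_of_ne_zero
      (Subgroup.index_ne_zero_of_finite (H := (P : Subgroup N).subgroupOf H))) b).symm
  obtain ⟨e, he⟩ := IsPGroup.iff_card.1 P.isPGroup'
  obtain ⟨j, -, hj⟩ := (Nat.dvd_prime_pow hp).1 (he ▸ (H.subgroupOf (P : Subgroup N)).index_dvd_card)
  have hKm : ¬ p ∣ K.index := fun h =>
    P.not_dvd_index (h.trans (Subgroup.index_dvd_of_le le_sup_left))
  have hrj : H.relIndex K = p ^ j := hrel.trans hj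
  have hja : p ^ j = p ^ a := by
    rw [hrj] at hKdvd
    refine Nat.dvd_antisymm ?_ ?_
    · exact ((Nat.Coprime.pow_left j ((hp.coprime_iff_not_dvd).2 hm))).dvd_of_dvd_mul_right ⟨_, hKdvd.symm⟩
    · exact ((Nat.Coprime.pow_left a ((hp.coprime_iff_not_dvd).2 hKm))).dvd_of_dvd_mul_right ⟨_, hKdvd⟩
  have hKidx : K.index = m := by
    rw [hrj, hja] at hKdvd
    exact Nat.eq_of_mul_eq_mul_left (pow_pos hp.pos a) hKdvd
  -- p'-elements of the core are trivial
  have hcore : K.normalCore ≤ (P : Subgroup N) := by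
    intro g hg
    obtain ⟨q, v, rfl, hq, hv, hqz⟩ := hdec g
    suffices q = 1 by rw [this, one_mul]; exact hv
    have hqc : q ∈ K.normalCore := (Subgroup.zpowers_le.2 hg) hqz
    have hfix : ∀ x : α, (q : Perm α) x = x := by
      intro x
      obtain ⟨h₀, hh₀, hx⟩ := htr o x
      let h : N := ⟨h₀, hh₀⟩
      have hmem : h⁻¹ * q * h ∈ K := by
        have h1 : h⁻¹ * q * h⁻¹⁻¹ ∈ K.normalCore :=
          (Subgroup.normalCore_normal K).conj_mem q hqc h⁻¹
        rw [inv_inv] at h1
        exact Subgroup.normalCore_le K h1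
      obtain ⟨u₁, hu₁, s, hs, hus⟩ := Subgroup.mem_sup_of_normal_left.1 hmem
      let u : N := h * u₁ * h⁻¹
      have hu : u ∈ (P : Subgroup N) := hPn.conj_mem u₁ hu₁ h
      have hqx : q • x = u • x := by
        have e1 : q = u * (h * s * h⁻¹) := by
          rw [show u * (h * s * h⁻¹) = h * (u₁ * s) * h⁻¹ by simp only [u]; group, hus]; group
        have hxh : x = h • o := hx.symm
        rw [e1, mul_smul]
        congr 1
        rw [hxh, mul_smul, mul_smul, inv_smul_smul, MulAction.mem_stabilizer_iff.1 hs]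
      have hk : ∀ k : ℕ, q ^ k • x = u ^ k • x := by
        intro k
        induction k with
        | zero => rw [pow_zero, pow_zero]
        | succ k ih =>
          have hc : u ^ k * q = q * u ^ k := hcomm _ (pow_mem hu k) q hq
          rw [pow_succ' q, mul_smul, ih, ← mul_smul, ← hc, mul_smul, hqx, ← mul_smul, ← pow_succ]
      obtain ⟨k, hk'⟩ := IsPGroup.iff_orderOf.1 P.isPGroup' ⟨u, hu⟩
      rw [Subgroup.orderOf_mk] at hk'
      have h1 : u ∈ MulAction.stabilizer N x := by
        have hs1 : u ^ orderOf q ∈ MulAction.stabilizer N x := by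
          rw [MulAction.mem_stabilizer_iff, ← hk, pow_orderOf_eq_one, one_smul]
        obtain ⟨r, hr⟩ := exists_pow_eq_self_of_coprime (x := u) (n := orderOf q)
          (hk' ▸ hq.pow_right k)
        exact hr ▸ pow_mem hs1 r
      have h2 : q • x = x := hqx.trans (MulAction.mem_stabilizer_iff.1 h1)
      exact h2
    exact Subtype.ext (Equiv.ext hfix)
  refine ⟨fun hm1 => ?_, ?_⟩
  · subst hm1
    rw [Subgroup.index_eq_one] at hKidx
    have htop : (⊤ : Subgroup N) ≤ (P : Subgroup N) := by
      have : K.normalCore = ⊤ := by rw [hKidx]; exact Subgroup.normalCore_eq_self ⊤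
      exact this ▸ hcore
    exact (P.isPGroup'.to_le htop).of_equiv Subgroup.topEquiv
  -- the action on the blocks
  let f : N →* Perm (N ⧸ K) := MulAction.toPermHom N (N ⧸ K)
  have hfker : f.ker = K.normalCore := (Subgroup.normalCore_eq_ker K).symm
  let eB : N ⧸ K ≃ Fin m := (Finite.equivFin _).trans (finCongr hKidx)
  let f' : N →* Perm (Fin m) := eB.permCongrHom.toMonoidHom.comp f
  have hf'ker : f'.ker = K.normalCore := by
    rw [← hfker]
    ext g
    simp [f', MonoidHom.mem_ker]
  -- the Sylow subgroup embeds in the symmetric group of its orbit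
  let s : α → Prop := fun x => ∃ u ∈ (P : Subgroup N), u • o = x
  let Pm : Subgroup (Perm α) := (P : Subgroup N).map N.subtype
  have hs : ∀ g ∈ Pm, ∀ x, s (g x) ↔ s x := by
    rintro _ ⟨g, hg, rfl⟩ x
    constructor
    · rintro ⟨u, hu, e⟩
      refine ⟨g⁻¹ * u, mul_mem (inv_mem hg) hu, ?_⟩
      rw [mul_smul, e]
      exact inv_smul_smul g x
    · rintro ⟨u, hu, e⟩
      exact ⟨g * u, mul_mem hg hu, by rw [mul_smul, e]; rfl⟩
  have hinj : Function.Injective (restr Pm s hs) := by
    rw [injective_iff_map_eq_one]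
    rintro ⟨_, u, hu, rfl⟩ h1
    refine Subtype.ext (Equiv.ext fun x => ?_)
    obtain ⟨h₀, hh₀, hx⟩ := htr o x
    obtain ⟨q, v, hqv, hq, hv, -⟩ := hdec ⟨h₀, hh₀⟩
    have hvo : u • (v • o) = v • o :=
      congrArg Subtype.val (Equiv.ext_iff.1 h1 ⟨v • o, v, hv, rfl⟩)
    have hxq : x = q • v • o := by rw [← mul_smul, ← hqv]; exact hx.symm
    show u • x = x
    rw [hxq, ← mul_smul u q, hcomm u hu q hq, mul_smul, hvo]
  have horb : Nat.card {x // s x} = p ^ a := by
    rw [← hja, ← hj, Subgroup.index]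
    refine (Nat.card_congr ?_).symm
    refine Equiv.ofBijective
      (Quotient.lift (fun u : (P : Subgroup N) => (⟨(u : N) • o, u, u.2, rfl⟩ : {x // s x})) ?_) ⟨?_, ?_⟩
    · intro u v huv
      have h1 : (u : N)⁻¹ * v ∈ H := by
        have := QuotientGroup.leftRel_apply.1 huv
        exact this
      refine Subtype.ext ?_
      show (u : N) • o = (v : N) • o
      rw [eq_comm, ← inv_smul_eq_iff, ← mul_smul]
      exact MulAction.mem_stabilizer_iff.1 h1
    · rintro ⟨u⟩ ⟨v⟩ huv
      refine Quotient.sound (QuotientGroup.leftRel_apply.2 ?_)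
      have h1 : (u : N) • o = (v : N) • o := congrArg Subtype.val huv
      show (u : N)⁻¹ * v ∈ H
      exact MulAction.mem_stabilizer_iff.2 (by rw [mul_smul, inv_smul_eq_iff, h1])
    · rintro ⟨x, u, hu, rfl⟩
      exact ⟨QuotientGroup.mk ⟨u, hu⟩, rfl⟩
  have hPle : Nat.card (P : Subgroup N) ≤ p ^ padicValNat p (p ^ a).factorial := by
    have hd : Nat.card (P : Subgroup N) ∣ (p ^ a).factorial := by
      have h1 := Subgroup.card_subgroup_dvd_card (restr Pm s hs).range
      rw [Nat.card_congr (MonoidHom.ofInjective hinj).toEquiv.symm, Nat.card_perm, horb,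
        Subgroup.card_map_of_injective N.subtype_injective] at h1
      exact h1
    rw [he] at hd ⊢
    exact Nat.pow_le_pow_right hp.pos ((padicValNat_dvd_iff_le (Nat.factorial_ne_zero _)).1 hd)
  refine ⟨f'.range, isNilpotent_range hN f', ?_⟩
  calc Nat.card N = Nat.card f'.ker * f'.ker.index := (f'.ker.card_mul_index).symm
    _ = Nat.card f'.ker * Nat.card f'.range := by rw [Subgroup.index_ker]
    _ ≤ _ := Nat.mul_le_mul_right _ ((Subgroup.card_le_of_le (hf'ker.le.trans hcore)).trans hPle)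

/-- The main bounds. -/
theorem card_le_aux : ∀ (n : ℕ) (β : Type) [Fintype β] [DecidableEq β], Fintype.card β = n →
    ∀ (N : Subgroup (Perm β)), Group.IsNilpotent N →
      Nat.card N ≤ bS n ∧ ((∀ g ∈ N, Perm.sign g = 1) → 2 * Nat.card N ≤ bA n) := by
  intro n
  induction n using Nat.strong_induction_on with
  | _ n ih =>
    intro β _ _ hn N hN
    rcases Nat.lt_or_ge n 2 with h2 | h2
    · haveI : Subsingleton β := Fintype.card_le_one_iff_subsingleton.1 (by omega)
      have h1 : Nat.card N ≤ 1 := Finite.card_le_one_iff_subsingleton.2 inferInstance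
      refine ⟨h1.trans (bS_pos n), fun _ => ?_⟩
      interval_cases n <;> simp only [bA] <;> omega
    haveI : Nonempty β := Fintype.card_pos_iff.1 (by omega)
    obtain ⟨o⟩ := ‹Nonempty β›
    by_cases htr : ∀ y : β, ∃ g ∈ N, g o = y
    · have htr' : ∀ x y : β, ∃ g ∈ N, g x = y := by
        intro x y
        obtain ⟨g, hg, rfl⟩ := htr x
        obtain ⟨g', hg', rfl⟩ := htr y
        exact ⟨g' * g⁻¹, mul_mem hg' (inv_mem hg), by simp⟩
      obtain ⟨p, hp, hpn⟩ := Nat.exists_prime_and_dvd (show n ≠ 1 by omega)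
      obtain ⟨a, m, hm, hnm⟩ := Nat.exists_eq_pow_mul_and_not_dvd (by omega : n ≠ 0) p hp.ne_one
      have ha : 1 ≤ a := by
        rcases Nat.eq_zero_or_pos a with rfl | h
        · rw [pow_zero, one_mul] at hnm; exact absurd (hnm ▸ hpn) hm
        · exact h
      obtain ⟨hpg, M, hM, hle⟩ := transitive_bound N hN htr' o hp (hn.trans hnm) hm
      have hm0 : 0 < m := Nat.pos_of_ne_zero fun h => hm (h ▸ dvd_zero p)
      have hpa : p ≤ p ^ a := Nat.le_self_pow (by omega) p
      rcases eq_or_lt_of_le (show 1 ≤ m from hm0) with rfl | hm1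
      · have hM1 : Nat.card M = 1 :=
          le_antisymm (Finite.card_le_one_iff_subsingleton.2 inferInstance) Nat.card_pos
        rw [hM1, mul_one] at hle
        rw [mul_one] at hnm
        subst hnm
        refine ⟨hle.trans (prime_pow_le_bS hp), fun hev => ?_⟩
        by_cases hp2 : p = 2
        · have hp2' := hp2
          rw [hp2] at hle ⊢
          haveI : Fact (Nat.Prime 2) := ⟨Nat.prime_two⟩
          haveI : Nontrivial β := Fintype.one_lt_card_iff_nontrivial.1 (by omega)
          obtain ⟨k, hk⟩ := IsPGroup.iff_card.1 (hp2 ▸ hpg rfl)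
          have hd : 2 * Nat.card N ∣ (2 ^ a).factorial := by
            have h1 : N ≤ alternatingGroup β := fun g hg => Perm.mem_alternatingGroup.2 (hev g hg)
            have h2 : 2 * Nat.card (alternatingGroup β) = (Fintype.card β).factorial := by
              rw [Nat.card_eq_fintype_card, two_mul_card_alternatingGroup, Fintype.card_perm]
            rw [hn, hp2'] at h2
            exact h2 ▸ Nat.mul_dvd_mul_left 2 (Subgroup.card_dvd_of_le h1)
          rw [hk, ← pow_succ'] at hd ⊢
          exact ((Nat.pow_le_pow_right (by norm_num)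
            ((padicValNat_dvd_iff_le (Nat.factorial_ne_zero _)).1 hd)).trans (two_pow_v2_le _)).trans (le_bA _)
        · exact (Nat.mul_le_mul_left 2 hle).trans (prime_pow_bound hp hp2 ha)
      · have hMle : Nat.card M ≤ bS m := (ih m (by
          rw [hnm]
          calc m = 1 * m := (one_mul m).symm
            _ < p ^ a * m := Nat.mul_lt_mul_of_pos_right (by have := hp.two_le; omega) hm0)
          (Fin m) (Fintype.card_fin m) M hM).1
        have hle' : Nat.card N ≤ bS (p ^ a) * bS m :=
          hle.trans (Nat.mul_le_mul (prime_pow_le_bS hp) hMle)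
        have h2 := two_mul_le_composite (k := p ^ a) (m := m) (by have := hp.two_le; omega) hm1
          (Nat.Coprime.pow_left a ((hp.coprime_iff_not_dvd).2 hm))
        rw [← hnm] at h2
        refine ⟨?_, fun _ => by omega⟩
        have := bA_le n
        omega
    · classical
      push Not at htr
      obtain ⟨y, hy⟩ := htr
      let s : β → Prop := fun x => ∃ g ∈ N, g o = x
      have hs : ∀ g ∈ N, ∀ x, s (g x) ↔ s x := by
        intro g hg x
        constructor
        · rintro ⟨g', hg', e⟩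
          exact ⟨g⁻¹ * g', mul_mem (inv_mem hg) hg', by rw [Perm.mul_apply, e]; simp⟩
        · rintro ⟨g', hg', e⟩
          exact ⟨g * g', mul_mem hg hg', by rw [Perm.mul_apply, e]⟩
      have hs' : ∀ g ∈ N, ∀ x, ¬ s (g x) ↔ ¬ s x := fun g hg x => not_congr (hs g hg x)
      set k := Fintype.card {x // s x}
      set m := Fintype.card {x // ¬ s x}
      have hkm : k + m = n := by
        rw [← hn, ← Fintype.card_sum]
        exact Fintype.card_congr (Equiv.sumCompl s)
      have hk : 0 < k := Fintype.card_pos_iff.2 ⟨⟨o, 1, one_mem N, rfl⟩⟩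
      have hm : 0 < m := Fintype.card_pos_iff.2 ⟨⟨y, fun ⟨g, hg, e⟩ => hy g hg e⟩⟩
      obtain ⟨hsp, hsp2⟩ := split_bound N s hs hs'
      obtain ⟨hk1, hk2⟩ := ih k (by omega) _ rfl _ (isNilpotent_range hN (restr N s hs))
      obtain ⟨hm1, hm2⟩ := ih m (by omega) _ rfl _ (isNilpotent_range hN (restr N (fun x => ¬ s x) hs'))
      have hmul : bS k * bS m ≤ bS n := hkm ▸ bS_mul k m
      refine ⟨hsp.trans ((Nat.mul_le_mul hk1 hm1).trans hmul), fun hev => ?_⟩
      by_cases hodd : ∃ g, Perm.sign (restr N s hs g) = -1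
      · exact ((hsp2 hev hodd).trans ((Nat.mul_le_mul hk1 hm1).trans hmul)).trans (le_bA n)
      push Not at hodd
      have hs1 : ∀ g, Perm.sign (restr N s hs g) = 1 := fun g =>
        (Int.units_eq_one_or _).resolve_right (hodd g)
      have hek : ∀ σ ∈ (restr N s hs).range, Perm.sign σ = 1 := by
        rintro _ ⟨g, rfl⟩; exact hs1 g
      have hem : ∀ σ ∈ (restr N (fun x => ¬ s x) hs').range, Perm.sign σ = 1 := by
        rintro _ ⟨g, rfl⟩
        have := hev g g.2
        rw [eq_ofSubtype_mul N s hs hs' g, Perm.sign_mul, Perm.sign_ofSubtype, Perm.sign_ofSubtype,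
          hs1 g, one_mul] at this
        exact this
      have ak := hk2 hek
      have am := hm2 hem
      by_cases hkE : k = 1 ∨ k = 3 ∨ k = 5 ∨ k = 6 ∨ k = 9
      · by_cases hmE : m = 1 ∨ m = 3 ∨ m = 5 ∨ m = 6 ∨ m = 9
        · have h4 := bA_mul_exc hkE hmE
          have h5 := Nat.mul_le_mul ak am
          rw [hkm] at h4
          nlinarith [hsp]
        · have e : bA m = bS m := bA_eq (by omega) (by omega) (by omega) (by omega) (by omega) (by omega)
          rw [e] at am
          calc 2 * Nat.card N ≤ 2 * _ := Nat.mul_le_mul_left 2 hsp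
            _ = Nat.card (restr N s hs).range * (2 * Nat.card (restr N (fun x => ¬ s x) hs').range) := by ring
            _ ≤ bS k * bS m := Nat.mul_le_mul hk1 am
            _ ≤ bA n := hmul.trans (le_bA n)
      · have e : bA k = bS k := bA_eq (by omega) (by omega) (by omega) (by omega) (by omega) (by omega)
        rw [e] at ak
        calc 2 * Nat.card N ≤ 2 * _ := Nat.mul_le_mul_left 2 hsp
          _ = 2 * Nat.card (restr N s hs).range * Nat.card (restr N (fun x => ¬ s x) hs').range := by ring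
          _ ≤ bS k * bS m := Nat.mul_le_mul ak hm1
          _ ≤ bA n := hmul.trans (le_bA n)

theorem card_sylow_two (β : Type) [Fintype β] (P : Sylow 2 (Perm β)) :
    Nat.card P = 2 ^ v2 (Fintype.card β) := by
  classical
  haveI : Fact (Nat.Prime 2) := ⟨Nat.prime_two⟩
  rw [P.card_eq_multiplicity, Nat.card_perm, Nat.card_eq_fintype_card,
    Nat.factorization_def _ Nat.prime_two]
  rfl

theorem two_mul_card_sylow_two {β : Type} [Fintype β] [DecidableEq β] [Nontrivial β]
    (P : Sylow 2 (alternatingGroup β)) : 2 * Nat.card P = 2 ^ v2 (Fintype.card β) := by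
  haveI : Fact (Nat.Prime 2) := ⟨Nat.prime_two⟩
  have h2 : 2 * Nat.card (alternatingGroup β) = (Fintype.card β).factorial := by
    rw [Nat.card_eq_fintype_card, two_mul_card_alternatingGroup, Fintype.card_perm]
  have hf : 1 + (Nat.card (alternatingGroup β)).factorization 2 = v2 (Fintype.card β) := by
    rw [v2, ← Nat.factorization_def _ Nat.prime_two, ← h2,
      Nat.factorization_mul two_ne_zero Nat.card_pos.ne', Finsupp.add_apply,
      Nat.Prime.factorization_self Nat.prime_two]
  rw [P.card_eq_multiplicity, ← hf, pow_add, pow_one]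

theorem split_three {G : Type*} [Group G] [Finite G] (N : Subgroup G) (hN : Group.IsNilpotent N)
    {e : ℕ} (hcard : Nat.card N = 3 * 2 ^ e) :
    ∃ x ∈ N, orderOf x = 3 ∧ N ≤ Subgroup.centralizer ({x} : Set G) ∧
      ∃ T : Subgroup G, T ≤ N ∧ Nat.card T = 2 ^ e ∧ Subgroup.zpowers x ⊔ T = N := by
  haveI := hN
  haveI : Fact (Nat.Prime 3) := ⟨Nat.prime_three⟩
  haveI : Fact (Nat.Prime 2) := ⟨Nat.prime_two⟩
  obtain ⟨x, hx⟩ := exists_prime_orderOf_dvd_card' (G := N) 3 (hcard ▸ dvd_mul_right 3 _)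
  obtain ⟨T₀⟩ : Nonempty (Sylow 2 N) := inferInstance
  have hT : Nat.card T₀ = 2 ^ e := by
    rw [T₀.card_eq_multiplicity, hcard, Nat.factorization_mul (by norm_num) (by positivity),
      Finsupp.add_apply, Nat.Prime.factorization_pow Nat.prime_two, Finsupp.single_eq_same,
      Nat.factorization_eq_zero_of_not_dvd (by norm_num : ¬ 2 ∣ 3), zero_add]
  have hox : orderOf (x : G) = 3 := (Subgroup.orderOf_coe x).trans hx
  set T := (T₀ : Subgroup N).map N.subtype with hTdef
  have hcardT : Nat.card T = 2 ^ e := by rw [hTdef, Subgroup.card_map_of_injective N.subtype_injective, hT]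
  have hsup : Subgroup.zpowers (x : G) ⊔ T = N := by
    refine Subgroup.eq_of_le_of_card_ge (sup_le (Subgroup.zpowers_le.2 x.2) (Subgroup.map_subtype_le _)) ?_
    rw [hcard]
    refine Nat.le_of_dvd Nat.card_pos ((Nat.Coprime.pow_right e (by norm_num)).mul_dvd_of_dvd_of_dvd ?_ ?_)
    · rw [← hox, ← Nat.card_zpowers]; exact Subgroup.card_dvd_of_le le_sup_left
    · rw [← hcardT]; exact Subgroup.card_dvd_of_le le_sup_right
  refine ⟨x, x.2, hox, ?_, T, Subgroup.map_subtype_le _, hcardT, hsup⟩
  refine hsup.ge.trans ?_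
  refine sup_le (Subgroup.zpowers_le.2 (Subgroup.mem_centralizer_singleton_iff.2 rfl)) ?_
  rintro _ ⟨t, ht, rfl⟩
  refine Subgroup.mem_centralizer_singleton_iff.2 ?_
  obtain ⟨k, hk⟩ := IsPGroup.iff_orderOf.1 T₀.isPGroup' ⟨t, ht⟩
  rw [Subgroup.orderOf_mk] at hk
  exact congrArg Subtype.val (CN.commute_of_coprime_group t x
    (by rw [hk, hx]; exact Nat.Coprime.pow_left k (by norm_num))).eq

/-- In degree `3 mod 4` the element of order three in an extremal group is a 3-cycle. -/
theorem isThreeCycle_of_dvd {n : ℕ} (hn : n % 4 = 3) {x : Perm (Fin n)} (hx : orderOf x = 3)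
    (hdvd : 2 ^ (v2 (n - 3) - 1) ∣ Nat.card (Subgroup.centralizer ({x} : Set (Perm (Fin n))))) :
    x.IsThreeCycle ∧
      Nat.card (Subgroup.centralizer ({x} : Set (Perm (Fin n)))) = 3 * (n - 3).factorial := by
  haveI : Fact (Nat.Prime 2) := ⟨Nat.prime_two⟩
  haveI : Fact (Nat.Prime 3) := ⟨Nat.prime_three⟩
  obtain ⟨j, hj⟩ := Perm.cycleType_prime_order (hx.symm ▸ Nat.prime_three)
  rw [hx] at hj
  have hsum : 3 * (j + 1) ≤ n := by
    have h := x.sum_cycleType
    rw [hj, Multiset.sum_replicate, smul_eq_mul] at h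
    have h2 := x.support.card_le_univ
    rw [Fintype.card_fin] at h2
    omega
  have hC : Nat.card (Subgroup.centralizer ({x} : Set (Perm (Fin n)))) =
      (n - 3 * (j + 1)).factorial * 3 ^ (j + 1) * (j + 1).factorial := by
    have htf : (Multiset.replicate (j + 1) 3).toFinset = {3} := by
      rw [Multiset.toFinset_replicate]; simp
    rw [Perm.nat_card_centralizer, hj, htf, Finset.prod_singleton, Multiset.count_replicate_self,
      Multiset.sum_replicate, Multiset.prod_replicate, Fintype.card_fin, smul_eq_mul, mul_comm 3]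
  rcases Nat.eq_zero_or_pos j with rfl | hjpos
  · refine ⟨hj.trans (by simp), ?_⟩
    rw [hC]; simp [mul_comm]
  · exfalso
    rw [hC] at hdvd
    have hcop : (2 ^ (v2 (n - 3) - 1)).Coprime (3 ^ (j + 1)) := (Nat.Coprime.pow _ _ (by norm_num))
    rw [mul_right_comm] at hdvd
    have h1 := (padicValNat_dvd_iff_le (Nat.mul_ne_zero (Nat.factorial_ne_zero _)
      (Nat.factorial_ne_zero _))).1 (hcop.dvd_of_dvd_mul_right hdvd)
    rw [padicValNat.mul (Nat.factorial_ne_zero _) (Nat.factorial_ne_zero _)] at h1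
    have h2 := centralizer_bound hn (show 2 ≤ j + 1 by omega) hsum
    unfold v2 at h1 h2
    omega

/-- Extremal groups whose 3-parts are conjugate are conjugate. -/
theorem conj_of_centralizer {G : Type*} [Group G] [Finite G] {N₁ N₂ T₁ T₂ : Subgroup G} {x₁ x₂ g : G}
    {e : ℕ} (h1 : Subgroup.zpowers x₁ ⊔ T₁ = N₁) (h2 : Subgroup.zpowers x₂ ⊔ T₂ = N₂)
    (hT1 : T₁ ≤ Subgroup.centralizer ({x₁} : Set G)) (hT2 : T₂ ≤ Subgroup.centralizer ({x₂} : Set G))
    (hc1 : Nat.card T₁ = 2 ^ e) (hc2 : Nat.card T₂ = 2 ^ e)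
    (hC : (Nat.card (Subgroup.centralizer ({x₂} : Set G))).factorization 2 = e)
    (hg : g * x₁ * g⁻¹ = x₂) :
    ∃ c : G, N₂ = N₁.map (MulAut.conj c).toMonoidHom := by
  haveI : Fact (Nat.Prime 2) := ⟨Nat.prime_two⟩
  set C := Subgroup.centralizer ({x₂} : Set G) with hCdef
  have hle : T₁.map (MulAut.conj g).toMonoidHom ≤ C := by
    rintro _ ⟨t, ht, rfl⟩
    refine Subgroup.mem_centralizer_singleton_iff.2 ?_
    have := Subgroup.mem_centralizer_singleton_iff.1 (hT1 ht)
    show g * t * g⁻¹ * x₂ = x₂ * (g * t * g⁻¹)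
    rw [← hg]
    calc g * t * g⁻¹ * (g * x₁ * g⁻¹) = g * (t * x₁) * g⁻¹ := by group
      _ = g * (x₁ * t) * g⁻¹ := by rw [this]
      _ = _ := by group
  have hinj : Function.Injective (MulAut.conj g).toMonoidHom := (MulAut.conj g).injective
  let S₁ : Sylow 2 C := Sylow.ofCard ((T₁.map (MulAut.conj g).toMonoidHom).subgroupOf C) (by
    rw [Nat.card_congr (Subgroup.subgroupOfEquivOfLe hle).toEquiv,
      Subgroup.card_map_of_injective hinj, hc1, hC])
  let S₂ : Sylow 2 C := Sylow.ofCard (T₂.subgroupOf C) (by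
    rw [Nat.card_congr (Subgroup.subgroupOfEquivOfLe hT2).toEquiv, hc2, hC])
  obtain ⟨c, hc⟩ := MulAction.exists_smul_eq C S₁ S₂
  have hTT : T₂ = (T₁.map (MulAut.conj g).toMonoidHom).map (MulAut.conj (c : G)).toMonoidHom := by
    have h := congrArg (fun S : Sylow 2 C => (S : Subgroup C).map C.subtype) hc
    simp only [Sylow.coe_subgroup_smul, S₁, S₂, Sylow.coe_ofCard] at h
    rw [Subgroup.map_subgroupOf_eq_of_le hT2] at h
    rw [← h]
    conv_rhs => rw [← Subgroup.map_subgroupOf_eq_of_le hle, Subgroup.map_map]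
    change (((T₁.map (MulAut.conj g).toMonoidHom).subgroupOf C).map (MulAut.conj c).toMonoidHom).map C.subtype = _
    rw [Subgroup.map_map]
    rfl
  refine ⟨(c : G) * g, ?_⟩
  rw [← h1, ← h2, Subgroup.map_sup, MonoidHom.map_zpowers, hTT, Subgroup.map_map]
  congr 1
  · congr 1
    show x₂ = (c : G) * g * x₁ * ((c : G) * g)⁻¹
    have hcx : (c : G) * x₂ = x₂ * c := Subgroup.mem_centralizer_singleton_iff.1 c.2
    rw [show (c : G) * g * x₁ * ((c : G) * g)⁻¹ = (c : G) * (g * x₁ * g⁻¹) * (c : G)⁻¹ by group, hg,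
      hcx, mul_inv_cancel_right]
  · congr 1
    ext t
    simp [mul_assoc]

end Cfsg.Agent.SimpleFacts.NilpotentPerm
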