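import Mathlib

/-!
# Orders of unipotent matrices in characteristic p
-/

set_option autoImplicit false

open Matrix

namespace Cfsg.Agent.SimpleFacts.Unipotent

universe u

variable {F : Type u} [Field F] (p : ℕ) [hp : Fact p.Prime] [CharP F p] {n : ℕ}

theorem nilpotent_pow_eq_zero (N : Matrix (Fin n) (Fin n) F) (h : IsNilpotent N) {k : ℕ} (hk : n ≤ k) :
    N ^ k = 0 := by
  have h1 : IsNilpotent (Matrix.toLinAlgEquiv' N) := h.map _
  have h2 := (Matrix.toLinAlgEquiv' N).aeval_self_charpoly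
  rw [h1.charpoly_eq_X_pow_finrank, map_pow, Polynomial.aeval_X, Module.finrank_fin_fun, ← map_pow,
    map_eq_zero_iff _ Matrix.toLinAlgEquiv'.injective] at h2
  rw [← Nat.add_sub_cancel' hk, pow_add, h2, zero_mul]

theorem sub_one_pow_char_pow (g : Matrix (Fin n) (Fin n) F) (j : ℕ) :
    (g - 1) ^ (p ^ j) = g ^ (p ^ j) - 1 := by
  rcases Nat.eq_zero_or_pos n with hn | hn
  · subst hn
    exact Subsingleton.elim _ _
  have : Nonempty (Fin n) := ⟨⟨0, hn⟩⟩
  have : ExpChar (Matrix (Fin n) (Fin n) F) p := ExpChar.prime hp.out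
  rw [sub_pow_expChar_pow_of_commute p j (Commute.one_right g), one_pow]

theorem pow_eq_one_of_nilpotent (g : Matrix (Fin n) (Fin n) F) (h : IsNilpotent (g - 1)) {j : ℕ}
    (hj : n ≤ p ^ j) : g ^ (p ^ j) = 1 := by
  rw [← sub_eq_zero, ← sub_one_pow_char_pow p g j]
  exact nilpotent_pow_eq_zero _ h hj

theorem isNilpotent_of_pow_eq_one (g : Matrix (Fin n) (Fin n) F) {j : ℕ} (h : g ^ (p ^ j) = 1) :
    IsNilpotent (g - 1) :=
  ⟨p ^ j, by rw [sub_one_pow_char_pow p g j, h, sub_self]⟩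

theorem orderOf_le (u : GL (Fin n) F) (hu : IsNilpotent ((u : Matrix (Fin n) (Fin n) F) - 1)) :
    orderOf u ≤ p ^ Nat.clog p n := by
  refine Nat.le_of_dvd (pow_pos hp.out.pos _) (orderOf_dvd_of_pow_eq_one (Units.ext ?_))
  rw [Units.val_pow_eq_pow_val, Units.val_one]
  exact pow_eq_one_of_nilpotent p _ hu (Nat.le_pow_clog hp.out.one_lt n)

theorem orderOf_eq (u : GL (Fin n) F) (hu : IsNilpotent ((u : Matrix (Fin n) (Fin n) F) - 1))
    (hreg : ((u : Matrix (Fin n) (Fin n) F) - 1) ^ (n - 1) ≠ 0) :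
    orderOf u = p ^ Nat.clog p n := by
  have hdvd : orderOf u ∣ p ^ Nat.clog p n := by
    refine orderOf_dvd_of_pow_eq_one (Units.ext ?_)
    rw [Units.val_pow_eq_pow_val, Units.val_one]
    exact pow_eq_one_of_nilpotent p _ hu (Nat.le_pow_clog hp.out.one_lt n)
  obtain ⟨j, hj, hord⟩ := (Nat.dvd_prime_pow hp.out).1 hdvd
  rcases eq_or_lt_of_le hj with rfl | hlt
  · exact hord
  exfalso
  refine hreg ?_
  have h1 : ((u : Matrix (Fin n) (Fin n) F) - 1) ^ (p ^ j) = 0 := by
    rw [sub_one_pow_char_pow p _ j, ← Units.val_pow_eq_pow_val, ← hord, pow_orderOf_eq_one]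
    simp
  have h2 : p ^ j < n := by
    by_contra hcon
    push Not at hcon
    exact absurd (Nat.clog_le_of_le_pow hcon) (not_le.2 hlt)
  rw [← Nat.add_sub_cancel' (show p ^ j ≤ n - 1 by omega), pow_add, h1, zero_mul]

/-- The regular unipotent matrix. -/
theorem exists_regular (n : ℕ) (hn : 1 ≤ n) :
    ∃ u : GL (Fin n) F, IsNilpotent ((u : Matrix (Fin n) (Fin n) F) - 1) ∧
      ((u : Matrix (Fin n) (Fin n) F) - 1) ^ (n - 1) ≠ 0 := by
  set N : Matrix (Fin n) (Fin n) F := Matrix.of fun i j => if i.val + 1 = j.val then 1 else 0 with hN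
  have key : ∀ k : ℕ, ∀ i j : Fin n, (N ^ k) i j = if i.val + k = j.val then 1 else 0 := by
    intro k
    induction k with
    | zero => intro i j; simp [Matrix.one_apply, Fin.ext_iff]
    | succ k ih =>
      intro i j
      rw [pow_succ, Matrix.mul_apply]
      simp_rw [ih]
      by_cases h : i.val + k < n
      · rw [Finset.sum_eq_single ⟨i.val + k, h⟩]
        · simp [hN, add_assoc]
        · intro b _ hb
          rw [if_neg (fun e => hb (Fin.ext e.symm)), zero_mul]
        · simp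
      · rw [Finset.sum_eq_zero, if_neg (by omega)]
        intro b _
        rw [if_neg (by omega), zero_mul]
  have hnil : IsNilpotent N := ⟨n, by
    ext i j
    rw [key, if_neg (by omega)]
    rfl⟩
  have hunit : IsUnit (1 + N) := hnil.isUnit_one_add
  refine ⟨hunit.unit, by simpa using hnil, ?_⟩
  intro h
  have h1 := congrFun (congrFun h ⟨0, by omega⟩) ⟨n - 1, by omega⟩
  rw [IsUnit.unit_spec, add_sub_cancel_left, key] at h1
  simp at h1

end Cfsg.Agent.SimpleFacts.Unipotent
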