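import Mathlib

/-!
# Abelian Sylow subgroups of alternating groups
-/

set_option autoImplicit false

open Equiv

namespace Cfsg.Agent.SimpleFacts.AltSylow

section wreath

variable {p : ℕ} [Fact p.Prime]

/-- The group `C_p wr C_p` on `p ^ 2` points. -/
def wr (p : ℕ) : Subgroup (Perm (ZMod p × ZMod p)) where
  carrier := {g | ∃ (a : ZMod p) (u : ZMod p → ZMod p), ∀ x, g x = (x.1 + a, x.2 + u x.1)}
  one_mem' := ⟨0, fun _ => 0, fun x => by simp⟩
  mul_mem' := by
    rintro g h ⟨a, u, hg⟩ ⟨b, v, hh⟩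
    refine ⟨b + a, fun i => v i + u (i + b), fun x => ?_⟩
    rw [Perm.mul_apply, hh, hg]
    simp [add_assoc]
  inv_mem' := by
    rintro g ⟨a, u, hg⟩
    refine ⟨-a, fun i => -u (i - a), fun x => g.injective ?_⟩
    rw [Perm.coe_inv, Equiv.apply_symm_apply, hg]
    simp [sub_eq_add_neg]

theorem wr_isPGroup : IsPGroup p (wr p) := by
  intro g
  refine ⟨2, Subtype.ext ?_⟩
  obtain ⟨a, u, hg⟩ := g.2
  have h1 : ∀ k : ℕ, ∀ x, ((g : Perm (ZMod p × ZMod p)) ^ k) x =
      (x.1 + k * a, x.2 + ∑ j ∈ Finset.range k, u (x.1 + j * a)) := by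
    intro k
    induction k with
    | zero => intro x; simp
    | succ k ih =>
      intro x
      rw [pow_succ', Perm.mul_apply, ih, hg, Finset.sum_range_succ]
      push_cast
      ext <;> simp [add_mul, add_assoc]
  have h2 : ∀ (k : ℕ) x, (((g : Perm (ZMod p × ZMod p)) ^ p) ^ k) x =
      (x.1, x.2 + k * ∑ j ∈ Finset.range p, u (x.1 + j * a)) := by
    intro k
    induction k with
    | zero => intro x; simp
    | succ k ih =>
      intro x
      rw [pow_succ', Perm.mul_apply, ih, h1]
      simp [add_mul, add_assoc]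
  rw [SubgroupClass.coe_pow, OneMemClass.coe_one, sq, pow_mul]
  exact Equiv.ext fun x => by simp [h2]

theorem wr_not_comm : ∃ a ∈ wr p, ∃ b ∈ wr p, a * b ≠ b * a := by
  classical
  let u : ZMod p → ZMod p := Pi.single 0 1
  let A : Perm (ZMod p × ZMod p) := (Equiv.addRight (1 : ZMod p)).prodCongr (Equiv.refl _)
  let B : Perm (ZMod p × ZMod p) := Equiv.prodCongrRight fun i => Equiv.addRight (u i)
  refine ⟨A, ⟨1, fun _ => 0, fun x => Prod.ext rfl (add_zero _).symm⟩, B,
    ⟨0, u, fun x => Prod.ext (add_zero _).symm rfl⟩, fun h => ?_⟩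
  have := congrArg (fun g : Perm (ZMod p × ZMod p) => (g (0, 0)).2) h
  simp [A, B, u] at this

end wreath

variable {n p : ℕ}

/-- The sign as a permutation of two points. -/
def signPerm : ℤˣ →* Perm (Fin 2) where
  toFun u := if u = 1 then 1 else Equiv.swap 0 1
  map_one' := by simp
  map_mul' u v := by
    rcases Int.units_eq_one_or u with rfl | rfl <;> rcases Int.units_eq_one_or v with rfl | rfl <;>
      decide

theorem sign_signPerm (u : ℤˣ) : Perm.sign (signPerm u) = u := by
  rcases Int.units_eq_one_or u with rfl | rfl <;> decide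

theorem sign_eq_one_of_odd {α : Type*} [Fintype α] [DecidableEq α] {p : ℕ} (hp : p.Prime) (hp2 : p ≠ 2)
    {g : Perm α} (hg : ∃ k, g ^ p ^ k = 1) : Perm.sign g = 1 := by
  obtain ⟨k, hk⟩ := hg
  have h := congrArg Perm.sign hk
  rw [map_pow, map_one] at h
  rcases Int.units_eq_one_or (Perm.sign g) with e | e
  · exact e
  · rw [e, Odd.neg_one_pow ((hp.odd_of_ne_two hp2).pow)] at h
    exact absurd h (by decide)

/-- Large degree gives non-abelian Sylow subgroups. -/
theorem lt_of_isMulCommutative [Fact p.Prime] (hn : 4 ≤ n) (P : Sylow p (alternatingGroup (Fin n)))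
    (hP : IsMulCommutative (P : Subgroup (alternatingGroup (Fin n)))) :
    (p = 2 → n < 6) ∧ (p ≠ 2 → n < p ^ 2) := by
  classical
  have hp : p.Prime := Fact.out
  have key : ∀ f : wr p →* alternatingGroup (Fin n), Function.Injective f → False := by
    intro f hf
    obtain ⟨Q, hQ⟩ := ((wr_isPGroup (p := p)).of_surjective f.rangeRestrict
      f.rangeRestrict_surjective).exists_le_sylow
    obtain ⟨g, rfl⟩ := MulAction.exists_smul_eq (alternatingGroup (Fin n)) P Q
    obtain ⟨a, ha, b, hb, hab⟩ := wr_not_comm (p := p)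
    refine hab (congrArg Subtype.val (hf (show f (⟨a, ha⟩ * ⟨b, hb⟩) = f (⟨b, hb⟩ * ⟨a, ha⟩) from ?_)))
    obtain ⟨x, hx, ex⟩ := hQ ⟨⟨a, ha⟩, rfl⟩
    obtain ⟨y, hy, ey⟩ := hQ ⟨⟨b, hb⟩, rfl⟩
    rw [map_mul, map_mul, ← ex, ← ey]
    show MulAut.conj g x * MulAut.conj g y = MulAut.conj g y * MulAut.conj g x
    rw [← map_mul, ← map_mul, show x * y = y * x from congrArg Subtype.val
      (hP.is_comm.comm ⟨x, hx⟩ ⟨y, hy⟩)]
  constructor
  · rintro rfl
    by_contra h
    let e : ((ZMod 2 × ZMod 2) ⊕ Fin 2) ⊕ Fin (n - 6) ≃ Fin n :=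
      Fintype.equivFinOfCardEq (by simp; omega)
    let f₀ : Perm (ZMod 2 × ZMod 2) →* Perm (Fin n) :=
      e.permCongrHom.toMonoidHom.comp ((Perm.sumCongrHom _ _).comp
        (((Perm.sumCongrHom _ _).comp ((MonoidHom.id _).prod (signPerm.comp Perm.sign))).prod 1))
    have hf₀ : ∀ g, Perm.sign (f₀ g) = 1 := fun g => by
      show Perm.sign (e.permCongr (Perm.sumCongr (Perm.sumCongr g (signPerm (Perm.sign g))) 1)) = 1
      rw [Perm.sign_permCongr, Perm.sign_sumCongr, Perm.sign_sumCongr, sign_signPerm, map_one, mul_one,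
        Int.units_mul_self]
    have hinj : Function.Injective f₀ := fun g g' hgg => by
      have h1 := Perm.sumCongrHom_injective (α := _) (β := _) (e.permCongrHom.injective hgg)
      have h2 := Perm.sumCongrHom_injective (α := _) (β := _) (congrArg Prod.fst h1)
      exact congrArg Prod.fst h2
    exact key ((f₀.comp (wr 2).subtype).codRestrict _ fun g => Perm.mem_alternatingGroup.2 (hf₀ _))
      fun a b hab => Subtype.ext (hinj (congrArg Subtype.val hab))
  · intro hp2
    by_contra h
    haveI : NeZero p := ⟨hp.ne_zero⟩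
    let e : (ZMod p × ZMod p) ⊕ Fin (n - p ^ 2) ≃ Fin n :=
      Fintype.equivFinOfCardEq (by simp [sq] at *; omega)
    let f₀ : Perm (ZMod p × ZMod p) →* Perm (Fin n) :=
      e.permCongrHom.toMonoidHom.comp ((Perm.sumCongrHom _ _).comp ((MonoidHom.id _).prod 1))
    have hinj : Function.Injective f₀ := fun g g' hgg =>
      congrArg Prod.fst (Perm.sumCongrHom_injective (α := _) (β := _) (e.permCongrHom.injective hgg))
    refine key ((f₀.comp (wr p).subtype).codRestrict _ fun g => Perm.mem_alternatingGroup.2 ?_)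
      fun a b hab => Subtype.ext (hinj (congrArg Subtype.val hab))
    obtain ⟨k, hk⟩ := wr_isPGroup (p := p) g
    exact sign_eq_one_of_odd hp hp2 ⟨k, by rw [← map_pow, hk, map_one]⟩

instance normal_centralizer_subgroupOf {G : Type*} [Group G] (H : Subgroup G) :
    ((Subgroup.centralizer (H : Set G)).subgroupOf (Subgroup.normalizer (H : Set G))).Normal where
  conj_mem c hc g := by
    rw [Subgroup.mem_subgroupOf, Subgroup.mem_centralizer_iff] at hc ⊢
    intro h hh
    have hh' : (g : G)⁻¹ * h * g ∈ H := (Subgroup.mem_set_normalizer_iff''.1 g.2 h).1 hh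
    have := hc _ hh'
    show h * ((g : G) * c * (g : G)⁻¹) = (g : G) * c * (g : G)⁻¹ * h
    calc h * ((g : G) * c * (g : G)⁻¹) = (g : G) * (((g : G)⁻¹ * h * g) * c) * (g : G)⁻¹ := by group
      _ = (g : G) * ((c : G) * ((g : G)⁻¹ * h * g)) * (g : G)⁻¹ := by rw [this]
      _ = _ := by group

theorem two_dvd_index {G : Type*} [Group G] [Finite G] {H : Subgroup G} {t : G}
    (ht : t ∈ Subgroup.normalizer (H : Set G)) (htc : t ∉ Subgroup.centralizer (H : Set G))
    (ht2 : t * t = 1) :
    2 ∣ ((Subgroup.centralizer (H : Set G)).subgroupOf (Subgroup.normalizer (H : Set G))).index := by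
  rw [Subgroup.index_eq_card]
  set T : (Subgroup.normalizer (H : Set G)) ⧸
      (Subgroup.centralizer (H : Set G)).subgroupOf (Subgroup.normalizer (H : Set G)) :=
    QuotientGroup.mk ⟨t, ht⟩
  have hT : orderOf T = 2 := by
    refine orderOf_eq_prime ?_ fun h1 => htc ?_
    · rw [← QuotientGroup.mk_pow, QuotientGroup.eq_one_iff, Subgroup.mem_subgroupOf]
      show ((⟨t, ht⟩ : Subgroup.normalizer (H : Set G)) ^ 2 : Subgroup.normalizer (H : Set G)).1 ∈ _
      rw [SubgroupClass.coe_pow, sq, ht2]
      exact one_mem _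
    · have h3 := (QuotientGroup.eq_one_iff (⟨t, ht⟩ : Subgroup.normalizer (H : Set G))).1 h1
      exact Subgroup.mem_subgroupOf.1 h3
  exact hT ▸ orderOf_dvd_natCard T

theorem card_sylow [Fact p.Prime] (hp2 : p ≠ 2) (hn : 2 ≤ n) (hlt : n < p ^ 2)
    (P : Sylow p (alternatingGroup (Fin n))) : Nat.card P = p ^ (n / p) := by
  haveI : Nontrivial (Fin n) := Fin.nontrivial_iff_two_le.2 hn
  have h2 : 2 * Nat.card (alternatingGroup (Fin n)) = n.factorial := by
    rw [Nat.card_eq_fintype_card, two_mul_card_alternatingGroup, Fintype.card_perm, Fintype.card_fin]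
  have hp : p.Prime := Fact.out
  have hlog : Nat.log p n < 2 := Nat.log_lt_of_lt_pow (by omega) hlt
  rw [P.card_eq_multiplicity]
  congr 1
  have h3 : (n.factorial).factorization p = n / p := by
    rw [Nat.factorization_def _ hp, padicValNat_factorial hlog]
    simp
  rw [← h3, ← h2, Nat.factorization_mul two_ne_zero Nat.card_pos.ne', Finsupp.add_apply,
    Nat.factorization_eq_zero_of_not_dvd (fun h => hp2 ((Nat.prime_dvd_prime_iff_eq hp Nat.prime_two).1 h)),
    zero_add]

/-- With at least two cycles the normaliser induces an inversion. -/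
theorem exists_inverting [Fact p.Prime] (hp2 : p ≠ 2) (hw : 2 ≤ n / p) (hlt : n < p ^ 2)
    (P : Sylow p (alternatingGroup (Fin n))) :
    2 ∣ ((Subgroup.centralizer ((P : Subgroup (alternatingGroup (Fin n))) : Set (alternatingGroup (Fin n)))).subgroupOf
      (Subgroup.normalizer ((P : Subgroup (alternatingGroup (Fin n))) : Set (alternatingGroup (Fin n))))).index := by
  classical
  have hp : p.Prime := Fact.out
  haveI : NeZero p := ⟨hp.ne_zero⟩
  have hn : 2 ≤ n := le_trans hw (Nat.div_le_self n p)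
  let e : (Fin (n / p) × ZMod p) ⊕ Fin (n % p) ≃ Fin n :=
    Fintype.equivFinOfCardEq (by simp [mul_comm]; exact Nat.div_add_mod n p)
  let gl : Perm (Fin (n / p) × ZMod p) →* Perm (Fin n) :=
    e.permCongrHom.toMonoidHom.comp ((Perm.sumCongrHom _ _).comp ((MonoidHom.id _).prod 1))
  have hgl : Function.Injective gl := fun g g' hgg =>
    congrArg Prod.fst (Perm.sumCongrHom_injective (α := _) (β := _) (e.permCongrHom.injective hgg))
  have hsgn : ∀ g, Perm.sign (gl g) = Perm.sign g := fun g => by
    show Perm.sign (e.permCongr (Perm.sumCongr g 1)) = _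
    rw [Perm.sign_permCongr, Perm.sign_sumCongr, map_one, mul_one]
  let tr : (Fin (n / p) → Multiplicative (ZMod p)) →* Perm (Fin (n / p) × ZMod p) :=
    { toFun := fun u => Equiv.prodCongrRight fun i => Equiv.addRight (u i).toAdd
      map_one' := Equiv.ext fun x => Prod.ext rfl (add_zero _)
      map_mul' := fun u v => Equiv.ext fun x => Prod.ext rfl (by
        show x.2 + (u x.1 * v x.1).toAdd = x.2 + (v x.1).toAdd + (u x.1).toAdd
        rw [toAdd_mul]; abel) }
  have htrinj : Function.Injective tr := fun u v h => funext fun i => by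
    have := congrArg (fun g : Perm (Fin (n / p) × ZMod p) => (g (i, 0)).2) h
    simpa [tr] using this
  have hpow : ∀ u : Fin (n / p) → Multiplicative (ZMod p), u ^ p = 1 := fun u => funext fun i => by
    show (u i) ^ p = 1
    apply Multiplicative.toAdd.injective
    simp
  let φ : (Fin (n / p) → Multiplicative (ZMod p)) →* alternatingGroup (Fin n) :=
    (gl.comp tr).codRestrict _ fun u => Perm.mem_alternatingGroup.2
      (sign_eq_one_of_odd hp hp2 ⟨1, by rw [pow_one, ← map_pow, hpow, map_one]⟩)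
  have hφ : Function.Injective φ := fun u v h => htrinj (hgl (congrArg Subtype.val h))
  let R : Sylow p (alternatingGroup (Fin n)) := Sylow.ofCard φ.range (by
    rw [← P.card_eq_multiplicity, card_sylow hp2 hn hlt P,
      ← Nat.card_congr (MonoidHom.ofInjective hφ).toEquiv]
    simp)
  let i0 : Fin (n / p) := ⟨0, by omega⟩
  let i1 : Fin (n / p) := ⟨1, by omega⟩
  have h01 : i0 ≠ i1 := by simp [i0, i1]
  let s : Fin (n / p) → Perm (ZMod p) := fun i => if i = i0 ∨ i = i1 then Equiv.neg (ZMod p) else 1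
  have hs : Perm.sign (Equiv.prodCongrRight s) = 1 := by
    rw [Perm.sign_prodCongrRight, Finset.prod_eq_mul i0 i1 h01]
    · simp [s, Int.units_mul_self]
    · intro c _ hc; simp [s, hc.1, hc.2]
    all_goals simp
  let t : alternatingGroup (Fin n) :=
    ⟨gl (Equiv.prodCongrRight s), Perm.mem_alternatingGroup.2 (by rw [hsgn, hs])⟩
  have ht2 : t * t = 1 := Subtype.ext (by
    show gl (Equiv.prodCongrRight s) * gl (Equiv.prodCongrRight s) = 1
    rw [← map_mul, show Equiv.prodCongrRight s * Equiv.prodCongrRight s = 1 from Equiv.ext fun x =>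
      Prod.ext rfl (by
        show s x.1 (s x.1 x.2) = x.2
        simp only [s]; split <;> simp), map_one])
  have hconj : ∀ u, t * φ u * t⁻¹ = φ (fun i => if i = i0 ∨ i = i1 then (u i)⁻¹ else u i) := by
    intro u
    rw [mul_inv_eq_iff_eq_mul]
    refine Subtype.ext ?_
    show gl (Equiv.prodCongrRight s) * gl (tr u) = gl (tr _) * gl (Equiv.prodCongrRight s)
    rw [← map_mul, ← map_mul]
    refine congrArg gl (Equiv.ext fun x => Prod.ext rfl ?_)
    show s x.1 (x.2 + (u x.1).toAdd) =
      s x.1 x.2 + (if x.1 = i0 ∨ x.1 = i1 then (u x.1)⁻¹ else u x.1).toAdd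
    simp only [s]; split <;> simp [add_comm]
  have hinv : t⁻¹ = t := inv_eq_of_mul_eq_one_right ht2
  have htN : t ∈ Subgroup.normalizer ((R : Subgroup (alternatingGroup (Fin n))) : Set (alternatingGroup (Fin n))) := by
    rw [Subgroup.mem_normalizer_iff]
    intro h
    constructor
    · rintro ⟨u, rfl⟩
      exact ⟨_, (hconj u).symm⟩
    · rintro ⟨u, hu⟩
      refine ⟨fun i => if i = i0 ∨ i = i1 then (u i)⁻¹ else u i, ?_⟩
      rw [← hconj, hu, hinv]
      calc t * (t * h * t) * t = (t * t) * h * (t * t) := by group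
        _ = h := by rw [ht2, one_mul, mul_one]
  have htC : t ∉ Subgroup.centralizer ((R : Subgroup (alternatingGroup (Fin n))) : Set (alternatingGroup (Fin n))) := by
    intro h
    have h1 := Subgroup.mem_centralizer_iff.1 h (φ (Pi.mulSingle i0 (Multiplicative.ofAdd 1))) ⟨_, rfl⟩
    have h2 := hconj (Pi.mulSingle i0 (Multiplicative.ofAdd 1))
    rw [← h1, mul_inv_cancel_right] at h2
    have h3 := congrFun (hφ h2) i0
    simp only [Pi.mulSingle_eq_same, true_or, if_true] at h3
    have h4 : (1 : ZMod p) = -1 := Multiplicative.ofAdd.injective h3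
    have h5 : ((2 : ℕ) : ZMod p) = 0 := by push_cast; linear_combination h4
    rw [ZMod.natCast_eq_zero_iff] at h5
    exact hp2 ((Nat.prime_dvd_prime_iff_eq hp Nat.prime_two).1 h5)
  obtain ⟨g, hg⟩ := MulAction.exists_smul_eq (alternatingGroup (Fin n)) R P
  rw [← hg]
  refine two_dvd_index (t := g * t * g⁻¹) ?_ ?_ ?_
  · rw [Sylow.coe_subgroup_smul]
    rw [Subgroup.mem_normalizer_iff] at htN ⊢
    intro h
    simp only [Subgroup.mem_pointwise_smul_iff_inv_smul_mem, MulAut.inv_apply,
      MulAut.smul_def, MulAut.conj_symm_apply]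
    rw [htN (g⁻¹ * h * g), show g⁻¹ * (g * t * g⁻¹ * h * (g * t * g⁻¹)⁻¹) * g =
      t * (g⁻¹ * h * g) * t⁻¹ by group]
  · intro h
    refine htC (Subgroup.mem_centralizer_iff.2 fun r hr => ?_)
    have h1 := Subgroup.mem_centralizer_iff.1 h (g * r * g⁻¹) (by
      rw [Sylow.coe_subgroup_smul]
      exact Subgroup.smul_mem_pointwise_smul r (MulAut.conj g) _ hr)
    calc r * t = g⁻¹ * ((g * r * g⁻¹) * (g * t * g⁻¹)) * g := by group
      _ = g⁻¹ * ((g * t * g⁻¹) * (g * r * g⁻¹)) * g := by rw [h1]
      _ = t * r := by group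
  · calc g * t * g⁻¹ * (g * t * g⁻¹) = g * (t * t) * g⁻¹ := by group
      _ = 1 := by rw [ht2, mul_one, mul_inv_cancel]

/-- The Klein four-subgroup on the first four points. -/
def klein : Subgroup (alternatingGroup (Fin 5)) where
  carrier := {g | (g : Perm (Fin 5)) = 1 ∨ (g : Perm (Fin 5)) = swap 0 1 * swap 2 3 ∨
    (g : Perm (Fin 5)) = swap 0 2 * swap 1 3 ∨ (g : Perm (Fin 5)) = swap 0 3 * swap 1 2}
  one_mem' := Or.inl rfl
  mul_mem' := by
    rintro ⟨a, _⟩ ⟨b, _⟩ (ha | ha | ha | ha) (hb | hb | hb | hb) <;> simp only at ha hb <;>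
      subst ha <;> subst hb <;> simp only [Set.mem_setOf_eq, Subgroup.coe_mul] <;> decide
  inv_mem' := by
    rintro ⟨a, _⟩ (ha | ha | ha | ha) <;> simp only at ha <;> subst ha <;>
      simp only [Set.mem_setOf_eq, Subgroup.coe_inv] <;> decide

end Cfsg.Agent.SimpleFacts.AltSylow

namespace Cfsg.Agent.SimpleFacts.AltSylow

open Equiv

/-- The elements of the four-group. -/
def kl : List (Perm (Fin 5)) := [1, swap 0 1 * swap 2 3, swap 0 2 * swap 1 3, swap 0 3 * swap 1 2]

theorem mem_klein {g : alternatingGroup (Fin 5)} : g ∈ klein ↔ (g : Perm (Fin 5)) ∈ kl := by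
  simp [klein, kl, Subgroup.mem_mk]

set_option maxRecDepth 100000 in
set_option synthInstance.maxSize 4000 in
theorem klein_norm : ∀ g : Perm (Fin 5), Perm.sign g = 1 →
    ((∀ k ∈ kl, g * k * g⁻¹ ∈ kl) ↔ g 4 = 4) := by
  decide +kernel

set_option maxRecDepth 100000 in
set_option synthInstance.maxSize 4000 in
theorem klein_cent : ∀ g : Perm (Fin 5), Perm.sign g = 1 →
    ((∀ k ∈ kl, g * k = k * g) ↔ g ∈ kl) := by
  decide +kernel

set_option maxRecDepth 100000 in
set_option synthInstance.maxSize 4000 in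
theorem klein_facts :
    (∀ g : Perm (Fin 5), Perm.sign g = 1 →
      ((∀ k ∈ kl, g * k * g⁻¹ ∈ kl) ↔ g 4 = 4) ∧ ((∀ k ∈ kl, g * k = k * g) ↔ g ∈ kl)) ∧
    (Finset.univ.filter fun g : Perm (Fin 5) => Perm.sign g = 1 ∧ g 4 = 4).card = 12 ∧
    (Finset.univ.filter fun g : Perm (Fin 5) => g ∈ kl).card = 4 ∧
    (∀ k ∈ kl, k * k = 1 ∧ Perm.sign k = 1) := by
  refine ⟨fun g hg => ⟨klein_norm g hg, klein_cent g hg⟩, ?_, ?_, ?_⟩ <;> decide +kernel

theorem card_klein : Nat.card klein = 4 := by
  have : Nat.card klein = Nat.card {g : Perm (Fin 5) // g ∈ kl} := Nat.card_congr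
    { toFun := fun g => ⟨(g.1 : Perm (Fin 5)), mem_klein.1 g.2⟩
      invFun := fun g => ⟨⟨g.1, Perm.mem_alternatingGroup.2 (klein_facts.2.2.2 g.1 g.2).2⟩, mem_klein.2 g.2⟩
      left_inv := fun g => rfl
      right_inv := fun g => rfl }
  rw [this, Nat.card_eq_fintype_card, Fintype.card_subtype, klein_facts.2.2.1]

theorem five_two (P : Sylow 2 (alternatingGroup (Fin 5))) :
    ((Subgroup.centralizer ((P : Subgroup (alternatingGroup (Fin 5))) : Set (alternatingGroup (Fin 5)))).subgroupOf
      (Subgroup.normalizer ((P : Subgroup (alternatingGroup (Fin 5))) : Set (alternatingGroup (Fin 5))))).index = 3 ∧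
    IsKleinFour (P : Subgroup (alternatingGroup (Fin 5))) := by
  haveI : Fact (Nat.Prime 2) := ⟨Nat.prime_two⟩
  have hA : Nat.card (alternatingGroup (Fin 5)) = 60 := by
    have h2 : 2 * Nat.card (alternatingGroup (Fin 5)) = Nat.factorial 5 := by
      rw [Nat.card_eq_fintype_card, two_mul_card_alternatingGroup, Fintype.card_perm, Fintype.card_fin]
    have : Nat.factorial 5 = 120 := rfl
    omega
  have hf : (60 : ℕ).factorization 2 = 2 := by
    rw [show (60 : ℕ) = 2 ^ 2 * 15 by norm_num, Nat.factorization_mul (by norm_num) (by norm_num),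
      Finsupp.add_apply, Nat.Prime.factorization_pow Nat.prime_two, Finsupp.single_eq_same,
      Nat.factorization_eq_zero_of_not_dvd (by norm_num : ¬ 2 ∣ 15)]
  let R : Sylow 2 (alternatingGroup (Fin 5)) := Sylow.ofCard klein (by rw [card_klein, hA, hf]; rfl)
  obtain ⟨g, hg⟩ := MulAction.exists_smul_eq (alternatingGroup (Fin 5)) R P
  have hP : (P : Subgroup (alternatingGroup (Fin 5))) = klein.map (MulAut.conj g).toMonoidHom := by
    rw [← hg, Sylow.coe_subgroup_smul]; rfl
  constructor
  · have hN : ∀ x : alternatingGroup (Fin 5),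
        x ∈ Subgroup.normalizer (klein : Set (alternatingGroup (Fin 5))) ↔ (x : Perm (Fin 5)) 4 = 4 := by
      intro x
      rw [← ((klein_facts.1 x (Perm.mem_alternatingGroup.1 x.2)).1)]
      constructor
      · intro h k hk
        have := (Subgroup.mem_normalizer_iff.1 h ⟨k, Perm.mem_alternatingGroup.2 (klein_facts.2.2.2 k hk).2⟩).1
          (mem_klein.2 hk)
        exact mem_klein.1 this
      · intro h
        rw [Subgroup.mem_normalizer_iff_map_conj_eq]
        refine Subgroup.eq_of_le_of_card_ge ?_ (le_of_eq (Subgroup.card_map_of_injective (MulAut.conj x).injective).symm)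
        rintro _ ⟨k, hk, rfl⟩
        exact mem_klein.2 (h _ (mem_klein.1 hk))
    have hC : Subgroup.centralizer (klein : Set (alternatingGroup (Fin 5))) = klein := by
      ext x
      rw [mem_klein, ← (klein_facts.1 x (Perm.mem_alternatingGroup.1 x.2)).2, Subgroup.mem_centralizer_iff]
      constructor
      · intro h k hk
        exact (congrArg Subtype.val (h ⟨k, Perm.mem_alternatingGroup.2 (klein_facts.2.2.2 k hk).2⟩ (mem_klein.2 hk))).symm
      · exact fun h k hk => Subtype.ext (h _ (mem_klein.1 hk)).symm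
    have hcardN : Nat.card (Subgroup.normalizer (klein : Set (alternatingGroup (Fin 5)))) = 12 := by
      have : Nat.card (Subgroup.normalizer (klein : Set (alternatingGroup (Fin 5)))) =
          Nat.card {g : Perm (Fin 5) // Perm.sign g = 1 ∧ g 4 = 4} := Nat.card_congr
        { toFun := fun g => ⟨(g.1 : Perm (Fin 5)), Perm.mem_alternatingGroup.1 g.1.2, (hN g.1).1 g.2⟩
          invFun := fun g => ⟨⟨g.1, Perm.mem_alternatingGroup.2 g.2.1⟩, (hN _).2 g.2.2⟩
          left_inv := fun g => rfl
          right_inv := fun g => rfl }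
      rw [this, Nat.card_eq_fintype_card, Fintype.card_subtype, klein_facts.2.1]
    have hrel : klein.relIndex (Subgroup.normalizer (klein : Set (alternatingGroup (Fin 5)))) = 3 := by
      have h := (klein.subgroupOf (Subgroup.normalizer (klein : Set (alternatingGroup (Fin 5))))).card_mul_index
      rw [Nat.card_congr (Subgroup.subgroupOfEquivOfLe Subgroup.le_normalizer).toEquiv, card_klein, hcardN] at h
      show (klein.subgroupOf _).index = 3
      omega
    show Subgroup.relIndex _ _ = 3
    have hc' : Subgroup.centralizer (((klein.map (MulAut.conj g).toMonoidHom) : Subgroup _) : Set (alternatingGroup (Fin 5))) =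
        (Subgroup.centralizer (klein : Set (alternatingGroup (Fin 5)))).map (MulAut.conj g).toMonoidHom := by
      refine le_antisymm (fun x hx => ?_) ?_
      · refine ⟨(MulAut.conj g).symm x, Subgroup.mem_centralizer_iff.2 fun k hk => ?_,
          (MulAut.conj g).apply_symm_apply x⟩
        have h1 := congrArg (MulAut.conj g).symm
          (Subgroup.mem_centralizer_iff.1 hx (MulAut.conj g k) ⟨k, hk, rfl⟩)
        simp only [MulAut.conj_apply, MulAut.conj_symm_apply] at h1 ⊢
        calc k * (g⁻¹ * x * g) = g⁻¹ * (g * k * g⁻¹ * x) * g := by group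
          _ = g⁻¹ * (x * (g * k * g⁻¹)) * g := by
            congr 2
          _ = g⁻¹ * x * g * k := by group
      · rw [Subgroup.coe_map]
        exact Subgroup.map_centralizer_le_centralizer_image _ _
    rw [hP, hc', hC, ← Subgroup.map_normalizer_eq_of_bijective (f := (MulAut.conj g).toMonoidHom) _ (MulAut.conj g).bijective,
      Subgroup.relIndex_map_map_of_injective _ _ (MulAut.conj g).injective, hrel]
  · have hcard : Nat.card (P : Subgroup (alternatingGroup (Fin 5))) = 4 := by
      rw [hP, Subgroup.card_map_of_injective (MulAut.conj g).injective, card_klein]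
    haveI : Nontrivial (P : Subgroup (alternatingGroup (Fin 5))) := Finite.one_lt_card_iff_nontrivial.1 (by omega)
    refine ⟨hcard, Monoid.exponent_eq_prime_iff Nat.prime_two |>.2 fun x hx => ?_⟩
    obtain ⟨k, hk, e⟩ := (hP ▸ x.2 : (x : alternatingGroup (Fin 5)) ∈ klein.map (MulAut.conj g).toMonoidHom)
    refine orderOf_eq_prime (Subtype.ext ?_) hx
    have hkk : k * k = 1 := Subtype.ext (klein_facts.2.2.2 _ (mem_klein.1 hk)).1
    rw [SubgroupClass.coe_pow, OneMemClass.coe_one, ← e, sq, ← map_mul, hkk, map_one]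

end Cfsg.Agent.SimpleFacts.AltSylow
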