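import Cfsg.Agent.Lib.Perm.Agree

/-!
# Fixed points of products of conjugates under the alternating group

If `#{y | h b h⁻¹ y = c y}` does not depend on the even permutation `h`, its value is the mean, which is
impossible.
-/

set_option autoImplicit false

namespace Cfsg.Agent.SimpleFacts.AlternatingFixedPoints

open Equiv Finset

variable {n : ℕ}

/-- Any injective prescription of at most `n - 2` values is realised by an even permutation. -/
theorem exists_even (T : Finset (Fin n)) (hT : T.card + 2 ≤ n) (f : Fin n → Fin n)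
    (hf : Set.InjOn f (T : Set (Fin n))) :
    ∃ g : Perm (Fin n), g ∈ alternatingGroup (Fin n) ∧ ∀ x ∈ T, g x = f x := by
  obtain ⟨g, hg⟩ := Cfsg.Agent.Perm.Agree.exists_smul_eq (k := n - 2) (by simp)
    (by simpa using alternatingGroup.isMultiplyPretransitive (Fin n)) T (by omega) f hf
  exact ⟨g.1, g.2, hg⟩

/-- The coincidence set. -/
def coin (c b h : Perm (Fin n)) : Finset (Fin n) :=
  univ.filter fun y => (h * b * h⁻¹) y = c y

theorem mem_coin {c b h : Perm (Fin n)} {x : Fin n} (y : Fin n) (hy : h y = x)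
    (hby : h (b y) = c x) : x ∈ coin c b h := by
  subst hy
  rw [coin, mem_filter]
  refine ⟨mem_univ _, ?_⟩
  rw [← hby]
  simp

/-- The number of fixed points. -/
def fix (c : Perm (Fin n)) : ℕ := (univ.filter fun y => c y = y).card

theorem fix_le (c : Perm (Fin n)) : fix c ≤ n := (card_filter_le _ _).trans (by simp)

theorem fix_add_two_le {c : Perm (Fin n)} (hc : c ≠ 1) : fix c + 2 ≤ n := by
  obtain ⟨x, hx⟩ : ∃ x, c x ≠ x := by
    by_contra h
    push Not at h
    exact hc (Equiv.ext h)
  have hsub : univ.filter (fun y => c y = y) ⊆ univ \ {x, c x} := by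
    intro y hy
    simp only [mem_filter, mem_univ, true_and] at hy
    simp only [mem_sdiff, mem_univ, true_and, mem_insert, mem_singleton, not_or]
    exact ⟨fun h => hx (h ▸ hy), fun h => hx (c.injective (by rw [← h, hy]))⟩
  have := card_le_card hsub
  rw [card_sdiff_of_subset (subset_univ _), card_univ, Fintype.card_fin,
    card_pair (Ne.symm hx)] at this
  have h2 : 2 ≤ n := by
    by_contra h2
    exact hx (Fin.ext (by omega))
  unfold fix
  omega

/-- The number of even permutations moving `(u, v)` to a given pair is the mean. -/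
theorem card_pair_eq (hn : 4 ≤ n) {u v u' v' : Fin n} (huv : u ≠ v) (huv' : u' ≠ v') :
    n * (n - 1) * ((univ : Finset (alternatingGroup (Fin n))).filter
      fun h => h.1 u' = u ∧ h.1 v' = v).card = Fintype.card (alternatingGroup (Fin n)) := by
  let D : Finset (Fin n × Fin n) := (univ : Finset (Fin n)).offDiag
  let fib : Fin n × Fin n → Finset (alternatingGroup (Fin n)) := fun p =>
    univ.filter fun h => h.1 u' = p.1 ∧ h.1 v' = p.2
  have hconst : ∀ p ∈ D, (fib p).card = (fib (u, v)).card := by
    rintro ⟨x, y⟩ hp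
    have hxy : x ≠ y := (mem_offDiag.1 hp).2.2
    obtain ⟨g, hg, hgg⟩ := exists_even {u, v} (by rw [card_pair huv]; omega)
      (fun z => if z = u then x else y) (by
        intro i hi j hj h
        simp at hi hj
        rcases hi with rfl | rfl <;> rcases hj with rfl | rfl <;>
          simp [huv, huv.symm, hxy, hxy.symm] at h ⊢)
    have gu : g u = x := by rw [hgg u (by simp), if_pos rfl]
    have gv : g v = y := by rw [hgg v (by simp), if_neg huv.symm]
    symm
    refine card_nbij' (fun h => ⟨g, hg⟩ * h) (fun h => ⟨g, hg⟩⁻¹ * h) ?_ ?_ ?_ ?_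
    · intro h hh
      simp [fib] at hh ⊢
      exact ⟨by rw [hh.1, gu], by rw [hh.2, gv]⟩
    · intro h hh
      simp [fib] at hh ⊢
      exact ⟨by rw [hh.1, ← gu]; simp, by rw [hh.2, ← gv]; simp⟩
    · intro h _; simp
    · intro h _; simp
  have hsum : ∑ p ∈ D, (fib p).card = Fintype.card (alternatingGroup (Fin n)) := by
    have hmaps : ((univ : Finset (alternatingGroup (Fin n))) : Set _).MapsTo
        (fun h : alternatingGroup (Fin n) => (h.1 u', h.1 v')) (D : Set (Fin n × Fin n)) := fun h _ =>
      mem_coe.2 (mem_offDiag.2 ⟨mem_univ _, mem_univ _, fun e => huv' (h.1.injective e)⟩)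
    rw [← card_univ, card_eq_sum_card_fiberwise hmaps]
    refine sum_congr rfl fun p _ => ?_
    simp [fib, Prod.ext_iff]
  rw [sum_congr rfl hconst, sum_const, smul_eq_mul, offDiag_card, card_univ, Fintype.card_fin] at hsum
  rw [Nat.mul_sub, mul_one]
  exact hsum

/-- The one-point count. -/
theorem card_one_eq (hn : 4 ≤ n) (u u' : Fin n) :
    n * ((univ : Finset (alternatingGroup (Fin n))).filter fun h => h.1 u' = u).card =
      Fintype.card (alternatingGroup (Fin n)) := by
  obtain ⟨v', hv'⟩ : ∃ v', u' ≠ v' := by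
    haveI : Nontrivial (Fin n) := Fin.nontrivial_iff_two_le.2 (by omega)
    obtain ⟨v', hv'⟩ := exists_ne u'
    exact ⟨v', hv'.symm⟩
  have key : ∑ v ∈ univ.erase u, n * (n - 1) * ((univ : Finset (alternatingGroup (Fin n))).filter
      fun h => h.1 u' = u ∧ h.1 v' = v).card =
      (n - 1) * Fintype.card (alternatingGroup (Fin n)) := by
    rw [sum_congr rfl fun v hv => card_pair_eq hn (ne_of_mem_erase hv).symm hv', sum_const,
      card_erase_of_mem (mem_univ u), card_univ, Fintype.card_fin, smul_eq_mul]
  have hfib : ((univ : Finset (alternatingGroup (Fin n))).filter fun h => h.1 u' = u).card =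
      ∑ v ∈ univ.erase u, ((univ : Finset (alternatingGroup (Fin n))).filter
        fun h => h.1 u' = u ∧ h.1 v' = v).card := by
    rw [card_eq_sum_card_fiberwise (f := fun h : alternatingGroup (Fin n) => h.1 v')
      (t := univ.erase u) (fun h hh => by
        simp at hh ⊢
        exact fun e => hv' (h.1.injective (hh.trans e.symm)))]
    exact sum_congr rfl fun v _ => by rw [filter_filter]
  rw [← mul_sum, ← hfib] at key
  refine Nat.eq_of_mul_eq_mul_left (show 0 < n - 1 by omega) ?_
  rw [← key]; ring

/-- A constant coincidence number is the mean. -/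
theorem mean (hn : 4 ≤ n) (c b : Perm (Fin n)) (K : ℕ)
    (hK : ∀ h : Perm (Fin n), h ∈ alternatingGroup (Fin n) → (coin c b h).card = K) :
    n * (n - 1) * K = (n - 1) * (fix c * fix b) + (n - fix c) * (n - fix b) := by
  classical
  set A := Fintype.card (alternatingGroup (Fin n)) with hA
  have hApos : 0 < A := Fintype.card_pos
  let cnt : Fin n → ℕ := fun y => ((univ : Finset (alternatingGroup (Fin n))).filter
    fun h => (h.1 * b * h.1⁻¹) y = c y).card
  have hdouble : ∑ y, cnt y = A * K := by
    have : ∑ y, cnt y = ∑ h : alternatingGroup (Fin n), (coin c b h.1).card := by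
      simp only [cnt, coin, card_filter]
      rw [sum_comm]
    rw [this, sum_congr rfl fun h _ => hK h.1 h.2, sum_const, card_univ, smul_eq_mul]
  have hsplit : ∀ y, cnt y = ∑ z, ((univ : Finset (alternatingGroup (Fin n))).filter
      fun h => h.1 z = y ∧ h.1 (b z) = c y).card := by
    intro y
    simp only [cnt]
    rw [card_eq_sum_card_fiberwise (f := fun h : alternatingGroup (Fin n) => h.1⁻¹ y) (t := univ)
      (fun _ _ => mem_coe.2 (mem_univ _))]
    refine sum_congr rfl fun z _ => ?_
    rw [filter_filter]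
    congr 1
    refine filter_congr fun h _ => ?_
    constructor
    · rintro ⟨h1, h2⟩
      have h3 : h.1 z = y := by rw [← h2]; simp
      refine ⟨h3, ?_⟩
      rw [← h1, ← h3]; simp
    · rintro ⟨h1, h2⟩
      subst h1
      exact ⟨by simpa using h2, by simp⟩
  have hval : ∀ y, n * (n - 1) * cnt y =
      (if c y = y then (n - 1) * fix b else n - fix b) * A := by
    intro y
    rw [hsplit, mul_sum]
    by_cases hy : c y = y
    · rw [if_pos hy]
      have hz : ∀ z, n * (n - 1) * ((univ : Finset (alternatingGroup (Fin n))).filter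
          fun h => h.1 z = y ∧ h.1 (b z) = c y).card = if b z = z then (n - 1) * A else 0 := by
        intro z
        by_cases hb : b z = z
        · rw [if_pos hb, hy, hb]
          simp only [and_self]
          rw [mul_comm n, mul_assoc, card_one_eq hn]
        · rw [if_neg hb, filter_false_of_mem, card_empty, mul_zero]
          rintro h - ⟨h1, h2⟩
          exact hb (h.1.injective (by rw [h2, hy, h1]))
      rw [sum_congr rfl fun z _ => hz z, ← sum_filter, sum_const, smul_eq_mul, fix]
      ring
    · rw [if_neg hy]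
      have hz : ∀ z, n * (n - 1) * ((univ : Finset (alternatingGroup (Fin n))).filter
          fun h => h.1 z = y ∧ h.1 (b z) = c y).card = if ¬ b z = z then A else 0 := by
        intro z
        by_cases hb : b z = z
        · rw [if_neg (not_not.2 hb), filter_false_of_mem, card_empty, mul_zero]
          rintro h - ⟨h1, h2⟩
          rw [hb, h1] at h2
          exact hy h2.symm
        · rw [if_pos hb, card_pair_eq hn (Ne.symm hy) (Ne.symm hb)]
      rw [sum_congr rfl fun z _ => hz z, ← sum_filter, sum_const, smul_eq_mul]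
      congr 1
      have := card_filter_add_card_filter_not (s := (univ : Finset (Fin n))) (fun z => b z = z)
      rw [card_univ, Fintype.card_fin] at this
      unfold fix
      omega
  refine Nat.eq_of_mul_eq_mul_right hApos ?_
  calc n * (n - 1) * K * A = n * (n - 1) * (A * K) := by ring
    _ = ∑ y, n * (n - 1) * cnt y := by rw [← hdouble, mul_sum]
    _ = _ := by
      rw [sum_congr rfl fun y _ => hval y, ← sum_mul, sum_ite, sum_const, sum_const, smul_eq_mul,
        smul_eq_mul]
      have := card_filter_add_card_filter_not (s := (univ : Finset (Fin n))) (fun z => c z = z)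
      rw [card_univ, Fintype.card_fin] at this
      rw [show ((univ : Finset (Fin n)).filter fun z => ¬ c z = z).card = n - fix c by unfold fix; omega,
        show ((univ : Finset (Fin n)).filter fun z => c z = z).card = fix c from rfl]
      ring

/-! ### Configurations with two coincidences -/

/-- A fixed point matched to a fixed point and a moved one to a moved one. -/
theorem two_of_fix {c b : Perm (Fin n)} (hn : 5 ≤ n) (hc : c ≠ 1) (hb : b ≠ 1) (hfc : 1 ≤ fix c)
    (hfb : 1 ≤ fix b) : ∃ h ∈ alternatingGroup (Fin n), 2 ≤ (coin c b h).card := by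
  obtain ⟨p, hp⟩ := card_pos.1 hfc
  obtain ⟨z, hz⟩ := card_pos.1 hfb
  simp only [mem_filter, mem_univ, true_and] at hp hz
  obtain ⟨x, hx⟩ : ∃ x, c x ≠ x := by
    by_contra h; push Not at h; exact hc (Equiv.ext h)
  obtain ⟨w, hw⟩ : ∃ w, b w ≠ w := by
    by_contra h; push Not at h; exact hb (Equiv.ext h)
  have hzw : z ≠ w := fun h => hw (h ▸ hz)
  have hzbw : z ≠ b w := fun h => hzw (b.injective (hz.trans h))
  have hpx : p ≠ x := fun h => hx (h ▸ hp)
  have hpcx : p ≠ c x := fun h => hpx (c.injective (hp.trans h))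
  obtain ⟨g, hg, hgg⟩ := exists_even {z, w, b w}
    (by have := card_le_three (a := z) (b := w) (c := b w); omega)
    (fun i => if i = z then p else if i = w then x else c x) (by
      intro i hi j hj h
      simp at hi hj
      rcases hi with rfl | rfl | rfl <;> rcases hj with rfl | rfl | rfl <;>
        simp [hzw, hzw.symm, hzbw, hzbw.symm, hw, Ne.symm hw, hpx, hpx.symm, hpcx, hpcx.symm, hx,
          Ne.symm hx] at h ⊢)
  refine ⟨g, hg, one_lt_card.2 ⟨p, ?_, x, ?_, hpx⟩⟩
  · exact mem_coin z (by rw [hgg z (by simp), if_pos rfl])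
      (by rw [hz, hgg z (by simp), if_pos rfl, hp])
  · exact mem_coin w (by rw [hgg w (by simp), if_neg hzw.symm, if_pos rfl])
      (by rw [hgg (b w) (by simp), if_neg hzbw.symm, if_neg hw])

/-- Two disjoint moved pairs. -/
theorem exists_pairs {c : Perm (Fin n)} (hn : 5 ≤ n) (hc : fix c ≤ 1) :
    ∃ x y, c x ≠ x ∧ c y ≠ y ∧ x ≠ y ∧ x ≠ c y ∧ c x ≠ y ∧ c x ≠ c y := by
  classical
  set M := (univ : Finset (Fin n)).filter fun z => ¬ c z = z with hM
  have hMc : 4 ≤ M.card := by
    have := card_filter_add_card_filter_not (s := (univ : Finset (Fin n))) (fun z => c z = z)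
    rw [card_univ, Fintype.card_fin, ← hM] at this
    unfold fix at hc
    omega
  obtain ⟨x, hx⟩ := card_pos.1 (show 0 < M.card by omega)
  obtain ⟨y, hy⟩ := card_pos.1 (show 0 < (M \ {x, c x, c⁻¹ x}).card by
    have := le_card_sdiff {x, c x, c⁻¹ x} M
    have := card_le_three (a := x) (b := c x) (c := c⁻¹ x)
    omega)
  simp only [mem_sdiff, hM, mem_filter, mem_univ, true_and, mem_insert, mem_singleton, not_or] at hx hy
  obtain ⟨hy1, hy2, hy3, hy4⟩ := hy
  refine ⟨x, y, hx, hy1, Ne.symm hy2, fun h => hy4 ?_, Ne.symm hy3, fun h => hy2 (c.injective h).symm⟩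
  rw [h]; simp

/-- Two moved pairs matched, by some permutation which is even when `6 ≤ n`. -/
theorem two_of_moved {c b : Perm (Fin n)} (hn : 5 ≤ n) (hc : fix c ≤ 1) (hb : fix b ≤ 1) :
    ∃ h : Perm (Fin n), (6 ≤ n → h ∈ alternatingGroup (Fin n)) ∧ 2 ≤ (coin c b h).card := by
  obtain ⟨x, y, hx, hy, hxy, hxcy, hcxy, hcc⟩ := exists_pairs hn hc
  obtain ⟨u, v, hu, hv, huv, hubv, hbuv, hbb⟩ := exists_pairs hn hb
  let f : Fin n → Fin n := fun i => if i = u then x else if i = b u then c x else if i = v then y else c y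
  have hf : Set.InjOn f (({u, b u, v, b v} : Finset (Fin n)) : Set (Fin n)) := by
    intro i hi j hj h
    simp at hi hj
    rcases hi with rfl | rfl | rfl | rfl <;> rcases hj with rfl | rfl | rfl | rfl <;>
      simp [f, hu, Ne.symm hu, hv, Ne.symm hv, huv, huv.symm, hubv, hubv.symm, hbuv, hbuv.symm, hbb,
        hbb.symm, hx, Ne.symm hx, hy, Ne.symm hy, hxy, hxy.symm, hxcy, hxcy.symm, hcxy, hcxy.symm,
        hcc, hcc.symm] at h ⊢
  obtain ⟨g, hg6, hgg⟩ : ∃ g : Perm (Fin n), (6 ≤ n → g ∈ alternatingGroup (Fin n)) ∧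
      ∀ i ∈ ({u, b u, v, b v} : Finset (Fin n)), g i = f i := by
    rcases (show n = 5 ∨ 6 ≤ n by omega) with h5 | h6
    · obtain ⟨g, hg⟩ := Cfsg.Agent.Perm.Agree.exists_smul_eq (k := n) (by simp)
        (by simpa using Equiv.Perm.isMultiplyPretransitive (Fin n) n) _
        ((card_le_univ _).trans (by simp)) f hf
      exact ⟨g, fun h => absurd h (by omega), hg⟩
    · obtain ⟨g, hg, hgg⟩ := exists_even _
        (by have := card_le_four (a := u) (b := b u) (c := v) (d := b v); omega) f hf
      exact ⟨g, fun _ => hg, hgg⟩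
  refine ⟨g, hg6, one_lt_card.2 ⟨x, ?_, y, ?_, hxy⟩⟩
  · exact mem_coin u (by rw [hgg u (by simp)]; simp [f])
      (by rw [hgg (b u) (by simp)]; simp [f, hu])
  · exact mem_coin v (by rw [hgg v (by simp)]; simp [f, huv.symm, hbuv.symm])
      (by rw [hgg (b v) (by simp)]; simp [f, hubv.symm, hbb.symm, hv])

theorem odd_centralizer_five : ∀ a : Perm (Fin 5), fix a = 1 →
    ∃ d : Perm (Fin 5), Perm.sign d = -1 ∧ d * a = a * d := by decide +kernel

/-- If the coincidence number is constant then so it is over the symmetric group, in degree five. -/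
theorem constant_five {c b : Perm (Fin 5)} (h1 : fix c = 1 ∨ fix b = 1) (K : ℕ)
    (hK : ∀ h ∈ alternatingGroup (Fin 5), (coin c b h).card = K) (h : Perm (Fin 5)) :
    (coin c b h).card = K := by
  by_cases hh : h ∈ alternatingGroup (Fin 5)
  · exact hK h hh
  have hs : Perm.sign h = -1 :=
    (Int.units_eq_one_or _).resolve_left (fun e => hh (Perm.mem_alternatingGroup.2 e))
  rcases h1 with h1 | h1
  · obtain ⟨d, hd, hdc⟩ := odd_centralizer_five c h1
    rw [← hK (d * h) (by rw [Perm.mem_alternatingGroup, map_mul, hd, hs, neg_mul_neg, one_mul])]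
    refine card_equiv d (fun y => ?_)
    simp only [coin, mem_filter, mem_univ, true_and]
    have : c (d y) = d (c y) := by rw [← Perm.mul_apply, ← hdc, Perm.mul_apply]
    rw [this]
    simp
  · obtain ⟨d, hd, hdb⟩ := odd_centralizer_five b h1
    rw [← hK (h * d) (by rw [Perm.mem_alternatingGroup, map_mul, hd, hs, neg_mul_neg, one_mul])]
    congr 1
    have : h * d * b * (h * d)⁻¹ = h * b * h⁻¹ := by
      rw [mul_assoc h d b, hdb]; group
    unfold coin
    rw [this]

/-- No constant. -/
theorem not_constant (hn : 5 ≤ n) {c b : Perm (Fin n)} (hc : c ≠ 1) (hb : b ≠ 1) (K : ℕ)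
    (hK : ∀ h ∈ alternatingGroup (Fin n), (coin c b h).card = K) : False := by
  have hmean := mean (by omega) c b K hK
  have hc2 := fix_add_two_le hc
  have hb2 := fix_add_two_le hb
  by_cases hboth : 2 ≤ fix c ∧ 2 ≤ fix b
  · -- match fixed points with fixed points
    obtain ⟨k, hk, hkc, hkb⟩ : ∃ k, k = min (fix c) (fix b) ∧ k ≤ fix c ∧ k ≤ fix b :=
      ⟨_, rfl, min_le_left _ _, min_le_right _ _⟩
    obtain ⟨T, hT, hTk⟩ := exists_subset_card_eq (s := univ.filter fun y => b y = y) hkb
    obtain ⟨U, hU, hUk⟩ := exists_subset_card_eq (s := univ.filter fun y => c y = y) hkc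
    let e : T ≃ U := Finset.equivOfCardEq (hTk.trans hUk.symm)
    obtain ⟨g, hg, hgg⟩ := exists_even T (by omega) (fun i => if hi : i ∈ T then (e ⟨i, hi⟩).1 else i)
      (fun i hi j hj h => by
        simp [mem_coe.1 hi, mem_coe.1 hj] at h
        exact h)
    have hsub : U ⊆ coin c b g := by
      intro y hy
      set z := e.symm ⟨y, hy⟩ with hz
      have hgz : g z = y := by rw [hgg z.1 z.2, dif_pos z.2]; simp [hz]
      refine mem_coin z.1 hgz ?_
      rw [(mem_filter.1 (hT z.2)).2, hgz, (mem_filter.1 (hU hy)).2]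
    have hKk : k ≤ K := hK g hg ▸ hUk ▸ card_le_card hsub
    obtain ⟨A, hA⟩ : ∃ A, n = fix c + A := ⟨n - fix c, by omega⟩
    obtain ⟨B, hB⟩ : ∃ B, n = fix b + B := ⟨n - fix b, by omega⟩
    rw [show n - fix c = A by omega, show n - fix b = B by omega] at hmean
    obtain ⟨n', rfl⟩ : ∃ n', n = n' + 1 := ⟨n - 1, by omega⟩
    rw [Nat.add_sub_cancel] at hmean
    rcases (show k = fix c ∨ k = fix b by omega) with rfl | rfl
    · have h3 : (n' + 1) * n' * fix c ≤ (n' + 1) * n' * K := Nat.mul_le_mul_left _ hKk
      have h4 : (n' + 1) * n' * fix c = n' * (fix c * fix b) + n' * (fix c * B) := by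
        rw [congrArg (fun z => z * n' * fix c) hB]; ring
      have h5 : A < n' * fix c := by nlinarith
      have h6 : A * B < n' * (fix c * B) := by
        rw [← mul_assoc]; exact Nat.mul_lt_mul_of_pos_right h5 (by omega)
      omega
    · have h3 : (n' + 1) * n' * fix b ≤ (n' + 1) * n' * K := Nat.mul_le_mul_left _ hKk
      have h4 : (n' + 1) * n' * fix b = n' * (fix c * fix b) + n' * (fix b * A) := by
        rw [congrArg (fun z => z * n' * fix b) hA]; ring
      have h5 : B < n' * fix b := by nlinarith
      have h6 : A * B < n' * (fix b * A) := by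
        rw [mul_comm A B, ← mul_assoc]; exact Nat.mul_lt_mul_of_pos_right h5 (by omega)
      omega
  · -- one of them has one fixed point and the constant is one
    obtain ⟨n', rfl⟩ : ∃ n', n = n' + 1 := ⟨n - 1, by omega⟩
    rw [Nat.add_sub_cancel] at hmean
    have hone : fix c = 1 ∨ fix b = 1 := by
      by_contra hno
      rw [not_or] at hno
      rcases (show fix c = 0 ∨ fix b = 0 by omega) with h0 | h0 <;> rw [h0] at hmean <;>
        simp only [mul_zero, zero_mul, zero_add, Nat.sub_zero] at hmean
      · have h1 : n' * K = n' + 1 - fix b := Nat.eq_of_mul_eq_mul_left (show 0 < n' + 1 by omega)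
          (by rw [← mul_assoc, hmean])
        rcases K with _ | _ | K
        · omega
        · omega
        · nlinarith [Nat.sub_le (n' + 1) (fix b)]
      · have h1 : n' * K = n' + 1 - fix c := Nat.eq_of_mul_eq_mul_left (show 0 < n' + 1 by omega)
          (by rw [← mul_assoc, hmean, mul_comm])
        rcases K with _ | _ | K
        · omega
        · omega
        · nlinarith [Nat.sub_le (n' + 1) (fix c)]
    have hK1 : K = 1 := by
      obtain ⟨A, hA⟩ : ∃ A, n' + 1 = fix c + A := ⟨n' + 1 - fix c, by omega⟩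
      obtain ⟨B, hB⟩ : ∃ B, n' + 1 = fix b + B := ⟨n' + 1 - fix b, by omega⟩
      rw [show n' + 1 - fix c = A by omega, show n' + 1 - fix b = B by omega] at hmean
      refine Nat.eq_of_mul_eq_mul_left (show 0 < (n' + 1) * n' by nlinarith) ?_
      rw [hmean, mul_one]
      rcases hone with h1 | h1
      · rw [h1] at hA ⊢
        rw [show A = n' by omega, congrArg (fun z => z * n') hB]; ring
      · rw [h1] at hB ⊢
        rw [show B = n' by omega, congrArg (fun z => z * n') hA]; ring
    rcases (show (1 ≤ fix c ∧ 1 ≤ fix b) ∨ (fix c ≤ 1 ∧ fix b ≤ 1) by omega) with ⟨h1, h2⟩ | ⟨h1, h2⟩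
    · obtain ⟨h, hh, h2'⟩ := two_of_fix hn hc hb h1 h2
      rw [hK h hh] at h2'
      omega
    · obtain ⟨h, hh, h2'⟩ := two_of_moved hn h1 h2
      rcases (show n' + 1 = 5 ∨ 6 ≤ n' + 1 by omega) with h5 | h6
      · obtain rfl : n' = 4 := by omega
        rw [constant_five hone K hK h] at h2'
        omega
      · rw [hK h (hh h6)] at h2'
        omega

theorem main (hn : 5 ≤ n) (a b : Perm (Fin n)) (ha : a ≠ 1) (hb : b ≠ 1) :
    ∃ g₁ h₁ g₂ h₂ : Perm (Fin n), g₁ ∈ alternatingGroup (Fin n) ∧ h₁ ∈ alternatingGroup (Fin n) ∧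
      g₂ ∈ alternatingGroup (Fin n) ∧ h₂ ∈ alternatingGroup (Fin n) ∧
      Nat.card (Function.fixedPoints ⇑(g₁ * a * g₁⁻¹ * (h₁ * b * h₁⁻¹))) ≠
        Nat.card (Function.fixedPoints ⇑(g₂ * a * g₂⁻¹ * (h₂ * b * h₂⁻¹))) := by
  classical
  by_contra hcon
  push Not at hcon
  have hc : a⁻¹ ≠ 1 := by simpa using ha
  have e : ∀ h : Perm (Fin n), (coin a⁻¹ b h).card =
      Nat.card (Function.fixedPoints ⇑(a * (h * b * h⁻¹))) := by
    intro h
    rw [Nat.card_eq_fintype_card]
    refine (Fintype.card_of_subtype _ fun y => ?_).symm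
    simp only [coin, mem_filter, mem_univ, true_and, Function.mem_fixedPoints, Function.IsFixedPt,
      Perm.mul_apply, Perm.eq_inv_iff_eq]
  refine not_constant hn hc hb (coin a⁻¹ b 1).card fun h hh => ?_
  rw [e, e]
  simpa using hcon 1 h 1 1 (one_mem _) hh (one_mem _) (one_mem _)

end Cfsg.Agent.SimpleFacts.AlternatingFixedPoints
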