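import Mathlib
import Cfsg.Agent.Lib.PLocal.CyclicExtension
import Cfsg.Agent.Lib.Coprime.PGroup

/-!
# A module that is a sum of two fixed-point spaces for all pairs of generators
-/

set_option autoImplicit false

universe u v

namespace Cfsg.Agent.SimpleFacts.TwoCentralizers

variable {Q : Type u} [Group Q] {V : Type v} [AddCommGroup V] {p : ℕ}

theorem mul_app (ρ : Q →* AddMonoid.End V) (g h : Q) (x : V) : ρ (g * h) x = ρ g (ρ h x) := by
  rw [map_mul]; rfl

theorem one_app (ρ : Q →* AddMonoid.End V) (x : V) : ρ 1 x = x := by rw [map_one]; rfl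

theorem exists_pow_eq {z : Q} (hp : p.Prime) (hz : orderOf z = p) {t : ℕ} (ht : ¬ p ∣ t) (i : ℕ) :
    ∃ m, z ^ (t * m) = z ^ i := by
  haveI : Fact p.Prime := ⟨hp⟩
  refine ⟨((i : ZMod p) / t).val, ?_⟩
  rw [pow_inj_mod, hz]
  refine (ZMod.natCast_eq_natCast_iff _ _ _).1 ?_
  have ht0 : (t : ZMod p) ≠ 0 := fun h => ht ((ZMod.natCast_eq_zero_iff _ _).1 h)
  rw [Nat.cast_mul, ZMod.natCast_zmod_val, mul_div_cancel₀ _ ht0]

/-- The sum over the powers. -/
def powSum (p : ℕ) (ρ : Q →* AddMonoid.End V) (g : Q) (x : V) : V :=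
  ∑ k ∈ Finset.range p, ρ (g ^ k) x

theorem powSum_fixed (ρ : Q →* AddMonoid.End V) {g : Q} (hg : g ^ p = 1) (x : V) :
    ρ g (powSum p ρ g x) = powSum p ρ g x := by
  rw [powSum, map_sum]
  have h : ∀ k, ρ g (ρ (g ^ k) x) = ρ (g ^ (k + 1)) x := fun k => by
    rw [pow_succ', map_mul]; rfl
  simp only [h]
  refine add_right_cancel (b := ρ (g ^ 0) x) ?_
  conv_rhs => arg 2; rw [pow_zero, ← hg]
  rw [← Finset.sum_range_succ' (fun k => ρ (g ^ k) x), Finset.sum_range_succ]

theorem powSum_comm (ρ : Q →* AddMonoid.End V) {g h : Q} (hgh : Commute g h) (x : V) :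
    ρ h (powSum p ρ g x) = powSum p ρ g (ρ h x) := by
  rw [powSum, powSum, map_sum]
  refine Finset.sum_congr rfl fun k _ => ?_
  rw [← mul_app, ← (hgh.pow_left k).eq, mul_app]

theorem powSum_eq_nsmul (ρ : Q →* AddMonoid.End V) {g : Q} {x : V} (h : ρ g x = x) :
    powSum p ρ g x = p • x := by
  have : ∀ k, ρ (g ^ k) x = x := by
    intro k
    induction k with
    | zero => rw [pow_zero, map_one]; rfl
    | succ k ih => rw [pow_succ, mul_app, h, ih]
  simp only [powSum, this, Finset.sum_const, Finset.card_range]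

theorem powSum_conj (ρ : Q →* AddMonoid.End V) {g g' c : Q} (h : c * g * c⁻¹ = g') {x : V}
    (hx : ρ c x = x) : powSum p ρ g' x = ρ c (powSum p ρ g x) := by
  rw [powSum, powSum, map_sum]
  refine Finset.sum_congr rfl fun k _ => ?_
  conv_lhs => rw [← hx]
  rw [← mul_app, ← h, conj_pow, inv_mul_cancel_right, mul_app]

theorem fixed_pow (ρ : Q →* AddMonoid.End V) {g : Q} {x : V} (h : ρ g x = x) (k : ℕ) :
    ρ (g ^ k) x = x := by
  induction k with
  | zero => rw [pow_zero, map_one]; rfl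
  | succ k ih => rw [pow_succ, mul_app, h, ih]

section core

variable [Finite Q] [Finite V] (hp : p.Prime) (hcop : (Nat.card V).Coprime p)
variable (ρ : Q →* AddMonoid.End V)

include hcop in
omit [Finite Q] in
theorem nsmul_eq_zero {x : V} (h : p • x = 0) : x = 0 := by
  rw [← AddMonoid.addOrderOf_eq_one_iff]
  exact Nat.eq_one_of_dvd_coprimes hcop (addOrderOf_dvd_natCard x)
    (addOrderOf_dvd_iff_nsmul_eq_zero.2 h)

variable (hfpf : ∀ z ∈ Subgroup.center Q, orderOf z = p → ∀ x : V, ρ z x = x → x = 0)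
  {a z : Q} (ha : a ^ p = 1) (hz : orderOf z = p) (hzc : z ∈ Subgroup.center Q)
  (haz : Commute a z)

include hp hfpf hz hzc ha haz in
omit [Finite Q] [Finite V] in
theorem proj_orth {i j : ℕ} (hi : i < p) (hj : j < p) (hij : i ≠ j) (x : V) :
    powSum p ρ (a * z ^ i) (powSum p ρ (a * z ^ j) x) = 0 := by
  have hpow : ∀ k, (a * z ^ k) ^ p = 1 := fun k => by
    rw [(haz.pow_right k).mul_pow, ha, one_mul, ← pow_mul, mul_comm, pow_mul, ← hz,
      pow_orderOf_eq_one, one_pow]
  have hcomm : Commute (a * z ^ i) (a * z ^ j) :=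
    ((Commute.refl a).mul_right (haz.pow_right j)).mul_left
      ((haz.symm.pow_left i).mul_right ((Commute.refl z).pow_pow i j))
  set y := powSum p ρ (a * z ^ i) (powSum p ρ (a * z ^ j) x) with hy
  have h1 : ρ (a * z ^ i) y = y := powSum_fixed ρ (hpow i) _
  have h2 : ρ (a * z ^ j) y = y := by rw [hy, powSum_comm ρ hcomm, powSum_fixed ρ (hpow j)]
  have hg : ρ ((z ^ i)⁻¹ * z ^ j) y = y := by
    have h3 : (z ^ i)⁻¹ * z ^ j = (a * z ^ i)⁻¹ * (a * z ^ j) := by group
    rw [h3, mul_app, h2]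
    conv_lhs => rw [← h1, ← mul_app, inv_mul_cancel, one_app]
  refine hfpf _ (mul_mem (inv_mem (pow_mem hzc i)) (pow_mem hzc j)) ?_ y hg
  have hmem : (z ^ i)⁻¹ * z ^ j ∈ Subgroup.zpowers z :=
    mul_mem (inv_mem (pow_mem (Subgroup.mem_zpowers z) i)) (pow_mem (Subgroup.mem_zpowers z) j)
  have hne : (z ^ i)⁻¹ * z ^ j ≠ 1 := fun h => hij (by
    rw [inv_mul_eq_one, pow_inj_mod, hz, Nat.mod_eq_of_lt hi, Nat.mod_eq_of_lt hj] at h
    exact h)
  have hdvd := orderOf_dvd_of_mem_zpowers hmem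
  rw [hz] at hdvd
  exact ((Nat.dvd_prime hp).1 hdvd).resolve_left fun h => hne (orderOf_eq_one_iff.1 h)

include hp hfpf hz hzc haz in
omit [Finite Q] [Finite V] in
theorem proj_sum (x : V) :
    ∑ i ∈ Finset.range p, powSum p ρ (a * z ^ i) x = p • x := by
  have : ∀ i k, ρ ((a * z ^ i) ^ k) x = ρ (a ^ k) (ρ ((z ^ k) ^ i) x) := fun i k => by
    rw [(haz.pow_right i).mul_pow, mul_app, ← pow_mul, ← pow_mul,
      mul_comm i k]
  simp only [powSum, this]
  rw [Finset.sum_comm]
  simp only [← map_sum]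
  rw [Finset.sum_eq_single 0]
  · simp [AddMonoid.End.coe_one]
  · intro k hk hk0
    have hz' : (z ^ k) ^ p = 1 := by
      rw [← pow_mul, mul_comm, pow_mul, ← hz, pow_orderOf_eq_one, one_pow]
    have hord : orderOf (z ^ k) = p := by
      refine ((Nat.dvd_prime hp).1 (orderOf_dvd_of_pow_eq_one hz')).resolve_left fun h => hk0 ?_
      rw [orderOf_eq_one_iff] at h
      exact Nat.eq_zero_of_dvd_of_lt (hz ▸ orderOf_dvd_of_pow_eq_one h) (Finset.mem_range.1 hk)
    have h0 : powSum p ρ (z ^ k) x = 0 :=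
      hfpf _ (pow_mem hzc k) hord _ (powSum_fixed ρ hz' x)
    rw [powSum] at h0
    rw [h0, map_zero]
  · exact fun h => absurd (Finset.mem_range.2 hp.pos) h

include hp hcop hfpf ha hz hzc haz in
omit [Finite Q] in
theorem card_fixed_pow_le {c : Q} {t : ℕ} (ht : ¬ p ∣ t) (hc : c * a * c⁻¹ = a * z ^ t) :
    Nat.card {x : V // ρ c x = x} ^ p ≤ Nat.card V := by
  have hconj : ∀ m, c ^ m * a * (c ^ m)⁻¹ = a * z ^ (t * m) := by
    intro m
    induction m with
    | zero => simp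
    | succ m ih =>
      have hzm : c * z ^ (t * m) * c⁻¹ = z ^ (t * m) := by
        rw [Subgroup.mem_center_iff.1 (pow_mem hzc (t * m)) c, mul_inv_cancel_right]
      calc c ^ (m + 1) * a * (c ^ (m + 1))⁻¹ = c * (c ^ m * a * (c ^ m)⁻¹) * c⁻¹ := by
            rw [pow_succ']; group
        _ = (c * a * c⁻¹) * (c * z ^ (t * m) * c⁻¹) := by rw [ih]; group
        _ = a * z ^ (t * (m + 1)) := by rw [hc, hzm, mul_assoc, ← pow_add]; ring_nf
  have hinj : ∀ x : V, ρ c x = x → powSum p ρ a x = 0 → x = 0 := by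
    intro x hx h0
    refine nsmul_eq_zero hcop ?_
    rw [← proj_sum hp ρ hfpf hz hzc haz x]
    refine Finset.sum_eq_zero fun i hi => ?_
    obtain ⟨m, hzi⟩ := exists_pow_eq hp hz ht i
    rw [powSum_conj ρ (hzi ▸ hconj m) (fixed_pow ρ hx m), h0, map_zero]
  have hzpow : z ^ p = 1 := by
    have h := pow_orderOf_eq_one z
    rwa [hz] at h
  let Φ : (Fin p → {x : V // ρ c x = x}) → V := fun f =>
    ∑ i : Fin p, powSum p ρ (a * z ^ (i : ℕ)) (f i : V)
  have hsub : ∀ (g : Q) (x y : V), powSum p ρ g (x - y) = powSum p ρ g x - powSum p ρ g y :=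
    fun g x y => by simp only [powSum, map_sub, Finset.sum_sub_distrib]
  have hΦ : Function.Injective Φ := by
    intro f f' h
    funext j
    refine Subtype.ext (sub_eq_zero.1 (hinj _ (by rw [map_sub, (f j).2, (f' j).2]) ?_))
    set x : V := (f j : V) - (f' j : V) with hxdef
    have hx : ρ c x = x := by rw [hxdef, map_sub, (f j).2, (f' j).2]
    have hsum : ∑ i : Fin p, powSum p ρ (a * z ^ (i : ℕ)) ((f i : V) - (f' i : V)) = 0 := by
      simp only [hsub, Finset.sum_sub_distrib]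
      exact sub_eq_zero.2 h
    have hj := congrArg (powSum p ρ (a * z ^ (j : ℕ))) hsum
    rw [show powSum p ρ (a * z ^ (j : ℕ)) 0 = 0 from Finset.sum_eq_zero fun k _ => map_zero _,
      show ∀ w : Fin p → V, powSum p ρ (a * z ^ (j : ℕ)) (∑ i, w i) =
        ∑ i, powSum p ρ (a * z ^ (j : ℕ)) (w i) from fun w => by
          simp only [powSum, map_sum]; exact Finset.sum_comm] at hj
    rw [Finset.sum_eq_single j] at hj
    · have hfix : ρ (a * z ^ (j : ℕ)) (powSum p ρ (a * z ^ (j : ℕ)) x) =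
          powSum p ρ (a * z ^ (j : ℕ)) x := powSum_fixed ρ (by
        rw [(haz.pow_right _).mul_pow, ha, one_mul, ← pow_mul, mul_comm, pow_mul, hzpow, one_pow]) _
      rw [powSum_eq_nsmul ρ hfix] at hj
      have hx0 : powSum p ρ (a * z ^ (j : ℕ)) x = 0 := nsmul_eq_zero hcop hj
      obtain ⟨m, hm⟩ := exists_pow_eq hp hz ht (p - j)
      have hzj : z ^ (j : ℕ) * z ^ (t * m) = 1 := by
        rw [hm, ← pow_add, Nat.add_sub_cancel' j.2.le, hzpow]
      have hca : c ^ m * (a * z ^ (j : ℕ)) * (c ^ m)⁻¹ = a := by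
        calc c ^ m * (a * z ^ (j : ℕ)) * (c ^ m)⁻¹
            = (c ^ m * a * (c ^ m)⁻¹) * (c ^ m * z ^ (j : ℕ) * (c ^ m)⁻¹) := by group
          _ = a := by
            rw [hconj, Subgroup.mem_center_iff.1 (pow_mem hzc (j : ℕ)) (c ^ m),
              mul_inv_cancel_right, mul_assoc, ← pow_add, add_comm, pow_add, hzj, mul_one]
      rw [powSum_conj ρ hca (fixed_pow ρ hx m), hx0, map_zero]
    · intro i _ hi
      exact proj_orth hp ρ hfpf ha hz hzc haz j.2 i.2 (fun e => hi (Fin.ext e).symm) _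
    · exact fun h => absurd (Finset.mem_univ _) h
  have h := Nat.card_le_card_of_injective Φ hΦ
  rwa [Nat.card_fun, Nat.card_fin] at h

end core

variable [hpF : Fact p.Prime]

/-- The fixed-point free core. -/
theorem subsingleton_of_fpf [Finite Q] [Finite V] (hp2 : p ≠ 2) (hQ : IsPGroup p Q)
    (hcop : (Nat.card V).Coprime p) (ρ : Q →* AddMonoid.End V)
    (hfpf : ∀ z ∈ Subgroup.center Q, orderOf z = p → ∀ x : V, ρ z x = x → x = 0)
    (hnt : Nontrivial Q)
    (C D : Set Q) (hC : Subgroup.closure C = ⊤) (hD : Subgroup.closure D = ⊤)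
    (hsum : ∀ c ∈ C, ∀ d ∈ D, ∀ x : V, ∃ u v, ρ d u = u ∧ ρ c v = v ∧ x = u + v) :
    Subsingleton V := by
  classical
  have hp : p.Prime := hpF.out
  refine subsingleton_of_forall_eq 0 fun x => ?_
  have hexC : ∀ {T : Set Q}, Subgroup.closure T = ⊤ → ∀ H : Subgroup Q, H ≠ ⊤ → ∃ c ∈ T, c ∉ H := by
    intro T hT H hH
    by_contra hc
    push Not at hc
    exact hH (eq_top_iff.2 (hT ▸ (Subgroup.closure_le H).2 hc))
  by_cases hcyc : IsCyclic Q
  · have hcen : ∀ g : Q, g ∈ Subgroup.center Q := fun g =>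
      Subgroup.mem_center_iff.2 fun h => hcyc.isMulCommutative.is_comm.comm h g
    have hfix : ∀ g : Q, g ≠ 1 → ∀ y : V, ρ g y = y → y = 0 := by
      intro g hg y hy
      obtain ⟨k, hk⟩ := (IsPGroup.iff_orderOf.1 hQ) g
      have hk0 : k ≠ 0 := fun h => hg (orderOf_eq_one_iff.1 (by rw [hk, h, pow_zero]))
      refine hfpf (g ^ p ^ (k - 1)) (hcen _) ?_ y (fixed_pow ρ hy _)
      rw [orderOf_pow' _ (pow_ne_zero _ hp.ne_zero), hk,
        Nat.gcd_eq_right (pow_dvd_pow p (Nat.sub_le _ _)), Nat.pow_div (Nat.sub_le _ _) hp.pos,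
        show k - (k - 1) = 1 by omega, pow_one]
    obtain ⟨c, hc, hc1⟩ := hexC hC ⊥ bot_ne_top
    obtain ⟨d, hd, hd1⟩ := hexC hD ⊥ bot_ne_top
    obtain ⟨u, v, hu, hv, rfl⟩ := hsum c hc d hd x
    rw [hfix d hd1 u hu, hfix c hc1 v hv, add_zero]
  obtain ⟨A, -, hAn, hA, hAcard⟩ := PLocal.CyclicExtension.exists_normal_elementaryAbelian_sq hp2 hQ
    (⊤ : Subgroup Q) (fun h => hcyc (Subgroup.topEquiv.isCyclic.1 h))
  haveI := hAn
  have hord : ∀ y ∈ A, y ≠ 1 → orderOf y = p := fun y hy hy1 =>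
    ((Nat.dvd_prime hp).1 (orderOf_dvd_of_pow_eq_one (hA.2 y hy))).resolve_left
      fun h => hy1 (orderOf_eq_one_iff.1 h)
  have hzp : ∀ y ∈ A, ∃ b ∈ A, b ∉ Subgroup.zpowers y := by
    intro y hy
    by_contra hc
    push Not at hc
    have h1 := Subgroup.card_le_of_le (H := A) (K := Subgroup.zpowers y) hc
    rw [hAcard, Nat.card_zpowers] at h1
    have h2 : orderOf y ≤ p := Nat.le_of_dvd hp.pos (orderOf_dvd_of_pow_eq_one (hA.2 y hy))
    nlinarith [hp.two_le]
  by_cases hcentral : A ≤ Subgroup.center Q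
  · obtain ⟨z, hzA, hz1⟩ := hzp 1 (one_mem A)
    obtain ⟨a, haA, haz⟩ := hzp z hzA
    have hz1' : z ≠ 1 := fun h => hz1 (by rw [h]; exact one_mem _)
    refine nsmul_eq_zero hcop ?_
    rw [← proj_sum hp ρ hfpf (hord z hzA hz1') (hcentral hzA)
      (a := a) (Subgroup.mem_center_iff.1 (hcentral hzA) a)]
    refine Finset.sum_eq_zero fun i _ => ?_
    have hmem : a * z ^ i ∈ A := mul_mem haA (pow_mem hzA i)
    have hne : a * z ^ i ≠ 1 := fun h => haz (by
      rw [eq_inv_of_mul_eq_one_left h]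
      exact inv_mem (pow_mem (Subgroup.mem_zpowers z) i))
    exact hfpf _ (hcentral hmem) (hord _ hmem hne) _
      (powSum_fixed ρ (hA.2 _ hmem) x)
  obtain ⟨a, haA, hac⟩ := SetLike.not_le_iff_exists.1 hcentral
  have hnil : Group.IsNilpotent Q := hQ.isNilpotent
  haveI : Group.IsNilpotent (⊤ : Subgroup Q) :=
    Group.nilpotent_of_mulEquiv Subgroup.topEquiv.symm
  set K : Subgroup Q := ⁅A, ⊤⁆ with hK
  have hAne : A ≠ ⊥ := fun h => hac (by
    rw [h, Subgroup.mem_bot] at haA; rw [haA]; exact one_mem _)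
  have hKA : K < A := Coprime.commutator_lt_of_isNilpotent le_top hAne
    (by rw [Subgroup.normalizer_eq_top])
  have hKne : K ≠ ⊥ := by
    intro h
    refine hac (Subgroup.mem_center_iff.2 fun g => ?_)
    have := Subgroup.commutator_eq_bot_iff_le_centralizer.1 h haA
    exact Subgroup.mem_centralizer_iff.1 this g trivial
  have hKcard : Nat.card K = p := by
    obtain ⟨k, hk2, hk⟩ := (Nat.dvd_prime_pow hp).1 (hAcard ▸ Subgroup.card_dvd_of_le hKA.le)
    rcases (show k = 0 ∨ k = 1 ∨ k = 2 by omega) with rfl | rfl | rfl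
    · rw [pow_zero] at hk; exact absurd (Subgroup.eq_bot_of_card_eq _ hk) hKne
    · rwa [pow_one] at hk
    · exact absurd (Subgroup.eq_of_le_of_card_ge hKA.le (by rw [hk, hAcard])) hKA.ne
  haveI : K.Normal := Subgroup.commutator_normal A ⊤
  have hKc : K ≤ Subgroup.center Q := PLocal.CyclicExtension.le_center_of_card_eq hQ hKcard
  obtain ⟨z, hzK, hz1⟩ := K.bot_or_exists_ne_one.resolve_left hKne
  have hzA := hKA.le hzK
  have hKz : K = Subgroup.zpowers z := (Subgroup.eq_of_le_of_card_ge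
    (Subgroup.zpowers_le.2 hzK) (by rw [Nat.card_zpowers, hord z hzA hz1, hKcard])).symm
  have haz : Commute a z := Subgroup.mem_center_iff.1 (hKc hzK) a
  have hbound : ∀ {T : Set Q}, Subgroup.closure T = ⊤ → ∃ c ∈ T,
      Nat.card {x : V // ρ c x = x} ^ p ≤ Nat.card V := by
    intro T hT
    obtain ⟨c, hc, hca⟩ := hexC hT (Subgroup.centralizer {a}) (fun h => hac (by
      refine Subgroup.mem_center_iff.2 fun g => ?_
      exact Subgroup.mem_centralizer_singleton_iff.1 (h ▸ Subgroup.mem_top g)))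
    refine ⟨c, hc, ?_⟩
    have hmem : a⁻¹ * (c * a * c⁻¹) ∈ K := by
      have := Subgroup.commutator_mem_commutator (inv_mem haA) (Subgroup.mem_top c)
      rwa [commutatorElement_def, inv_inv, mul_assoc, mul_assoc, ← mul_assoc c] at this
    rw [hKz, mem_zpowers_iff_mem_range_orderOf] at hmem
    obtain ⟨t, ht, ht'⟩ := Finset.mem_image.1 hmem
    have hc' : c * a * c⁻¹ = a * z ^ t := by rw [ht', mul_inv_cancel_left]
    refine card_fixed_pow_le hp hcop ρ hfpf (hA.2 a haA) (hord z hzA hz1) (hKc hzK) haz ?_ hc'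
    intro hdvd
    refine hca (Subgroup.mem_centralizer_singleton_iff.2 ?_)
    rw [← hord z hzA hz1, orderOf_dvd_iff_pow_eq_one] at hdvd
    rw [hdvd, mul_one, mul_inv_eq_iff_eq_mul] at hc'
    exact hc'
  obtain ⟨c, hc, hcb⟩ := hbound hC
  obtain ⟨d, hd, hdb⟩ := hbound hD
  have hle : Nat.card V ≤ Nat.card {x : V // ρ d x = x} * Nat.card {x : V // ρ c x = x} := by
    rw [← Nat.card_prod]
    refine Nat.card_le_card_of_surjective (fun w => (w.1 : V) + w.2) fun y => ?_
    obtain ⟨u, v, hu, hv, rfl⟩ := hsum c hc d hd y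
    exact ⟨(⟨u, hu⟩, ⟨v, hv⟩), rfl⟩
  have hone : Nat.card V ≤ 1 := by
    by_contra hlt
    have h1 : Nat.card V ^ p ≤ Nat.card V ^ 2 :=
      calc Nat.card V ^ p ≤ _ := Nat.pow_le_pow_left hle p
        _ = _ := mul_pow _ _ _
        _ ≤ Nat.card V * Nat.card V := Nat.mul_le_mul hdb hcb
        _ = _ := (sq _).symm
    have := (Nat.pow_le_pow_iff_right (show 1 < Nat.card V by omega)).1 h1
    exact hp2 (le_antisymm this hp.two_le)
  exact (Finite.card_le_one_iff_subsingleton.1 hone).elim x 0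

set_option maxHeartbeats 1000000 in
/-- If `V = C(d) + C(c)` for all pairs of generators then the action is trivial. -/
theorem trivial_of_sum (hp2 : p ≠ 2) :
    ∀ (n : ℕ) {Q : Type u} [Group Q] [Finite Q] {V : Type v} [AddCommGroup V] [Finite V],
      Nat.card V = n → IsPGroup p Q → (Nat.card V).Coprime p → ∀ (ρ : Q →* AddMonoid.End V)
      (C D : Set Q), Subgroup.closure C = ⊤ → Subgroup.closure D = ⊤ →
      (∀ c ∈ C, ∀ d ∈ D, ∀ x : V, ∃ u v, ρ d u = u ∧ ρ c v = v ∧ x = u + v) →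
      ∀ g x, ρ g x = x := by
  intro n
  induction n using Nat.strong_induction_on with
  | _ n ih =>
    intro Q _ _ V _ _ hn hQ hcop ρ C D hC hD hsum g x
    let π : Q →* Q ⧸ ρ.toHomUnits.ker := QuotientGroup.mk' _
    let σ : Q ⧸ ρ.toHomUnits.ker →* AddMonoid.End V :=
      (Units.coeHom _).comp (QuotientGroup.kerLift ρ.toHomUnits)
    have hσ : ∀ g, σ (π g) = ρ g := fun g => rfl
    have hQ' : IsPGroup p (Q ⧸ ρ.toHomUnits.ker) := hQ.to_quotient _
    have hgen : ∀ {T : Set Q}, Subgroup.closure T = ⊤ → Subgroup.closure (π '' T) = ⊤ := by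
      intro T hT
      rw [← MonoidHom.map_closure, hT, Subgroup.map_top_of_surjective _ (QuotientGroup.mk'_surjective _)]
    rcases subsingleton_or_nontrivial (Q ⧸ ρ.toHomUnits.ker) with hs | hs
    · rw [← hσ, Subsingleton.elim (π g) 1, map_one]; rfl
    by_cases hfpf : ∀ z ∈ Subgroup.center (Q ⧸ ρ.toHomUnits.ker), orderOf z = p → ∀ x : V, σ z x = x → x = 0
    · have := subsingleton_of_fpf hp2 hQ' hcop σ hfpf hs (π '' C) (π '' D) (hgen hC) (hgen hD)
        (by rintro _ ⟨c, hc, rfl⟩ _ ⟨d, hd, rfl⟩ y; exact hsum c hc d hd y)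
      exact Subsingleton.elim _ _
    push Not at hfpf
    obtain ⟨z, hzc, hzo, y, hy, hy0⟩ := hfpf
    have hzp : z ^ p = 1 := hzo ▸ pow_orderOf_eq_one z
    let E : AddMonoid.End V := ∑ k ∈ Finset.range p, σ (z ^ k)
    have hE : ∀ w, E w = powSum p σ z w := fun w =>
      AddMonoidHom.finsetSum_apply (fun k => σ (z ^ k)) (Finset.range p) w
    have hcommE : ∀ (g : Q) (w : V), ρ g (E w) = E (ρ g w) := fun g w => by
      rw [hE, hE, ← hσ, powSum_comm σ (Subgroup.mem_center_iff.1 hzc (π g)).symm]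
    let W₁ : AddSubgroup V := (E - (p • (1 : AddMonoid.End V))).ker
    let W₂ : AddSubgroup V := AddMonoidHom.ker E
    have hW₁ : ∀ w, w ∈ W₁ ↔ E w = p • w := fun w => by
      show E w - p • w = 0 ↔ _
      exact sub_eq_zero
    have hW₂ : ∀ w, w ∈ W₂ ↔ E w = 0 := fun w => Iff.rfl
    have hz_ne : ∃ w, σ z w ≠ w := by
      by_contra hc
      push Not at hc
      have : z = 1 := QuotientGroup.kerLift_injective ρ.toHomUnits (by
        rw [map_one]; exact Units.ext (AddMonoidHom.ext hc))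
      rw [this, orderOf_one] at hzo
      exact hpF.out.one_lt.ne hzo
    have hEz : ∀ w, E w = p • w → σ z w = w := fun w hw => by
      have h1 : σ z (E w) = E w := by rw [hE]; exact powSum_fixed σ hzp w
      rw [hw, map_nsmul] at h1
      exact sub_eq_zero.1 (nsmul_eq_zero hcop (by rw [smul_sub, h1, sub_self]))
    have key : ∀ W : AddSubgroup V, W ≠ ⊤ → (∀ g w, w ∈ W → ρ g w ∈ W) →
        ∀ f : AddMonoid.End V, (∀ g w, ρ g (f w) = f (ρ g w)) → (∀ w, f w ∈ W) →
        (∀ w ∈ W, f w = p • w) → ∀ w ∈ W, ρ g w = w := by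
      intro W hW hinv f hf hfW hfid w hw
      let τ : Q →* AddMonoid.End W :=
        { toFun := fun g => (((ρ g : V →+ V).comp W.subtype).codRestrict W fun w => hinv g w w.2 :
            AddMonoid.End W)
          map_one' := AddMonoidHom.ext fun w => Subtype.ext (one_app ρ (w : V))
          map_mul' := fun g g' => AddMonoidHom.ext fun w => Subtype.ext (mul_app ρ g g' (w : V)) }
      have hτ : ∀ (g : Q) (w : W), (τ g w : V) = ρ g (w : V) := fun g w => rfl
      have hlt : Nat.card W < Nat.card V :=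
        lt_of_le_of_ne (AddSubgroup.card_le_card_addGroup W) fun h => hW (AddSubgroup.eq_top_of_card_eq _ h)
      have hcopW : (Nat.card W).Coprime p :=
        hcop.coprime_dvd_left (AddSubgroup.card_addSubgroup_dvd_card W)
      have hsumW : ∀ c ∈ C, ∀ d ∈ D, ∀ x : W, ∃ u v, τ d u = u ∧ τ c v = v ∧ x = u + v := by
        intro c hc d hd x
        -- `p` is invertible on `W`
        have hinj : Function.Injective fun y : W => p • y := fun y y' hyy => by
          refine sub_eq_zero.1 (nsmul_eq_zero hcopW ?_)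
          rw [smul_sub]; exact sub_eq_zero.2 hyy
        obtain ⟨y, hy⟩ := Finite.surjective_of_injective hinj x
        obtain ⟨u, v, hu, hv, huv⟩ := hsum c hc d hd (y : V)
        refine ⟨⟨f u, hfW u⟩, ⟨f v, hfW v⟩, Subtype.ext ?_, Subtype.ext ?_, Subtype.ext ?_⟩
        · rw [hτ]; show ρ d (f u) = f u; rw [hf, hu]
        · rw [hτ]; show ρ c (f v) = f v; rw [hf, hv]
        · show (x : V) = f u + f v
          rw [← map_add, ← huv, hfid _ y.2, ← hy]; rfl
      exact congrArg Subtype.val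
        (ih _ (hn ▸ hlt) rfl hQ hcopW τ C D hC hD hsumW g (⟨w, hw⟩ : W))
    have h1 : ∀ w ∈ W₁, ρ g w = w := by
      refine key W₁ (fun h => ?_) (fun g w hw => ?_) E hcommE (fun w => ?_) (fun w hw => (hW₁ w).1 hw)
      · obtain ⟨w, hw⟩ := hz_ne
        exact hw (hEz w ((hW₁ w).1 (h ▸ AddSubgroup.mem_top w)))
      · rw [hW₁] at hw ⊢
        rw [← hcommE, hw, map_nsmul]
      · rw [hW₁, hE (E w), powSum_eq_nsmul σ (by rw [hE]; exact powSum_fixed σ hzp w)]
    have h2 : ∀ w ∈ W₂, ρ g w = w := by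
      refine key W₂ (fun h => ?_) (fun g w hw => ?_) (p • (1 : AddMonoid.End V) - E)
        (fun g w => ?_) (fun w => ?_) (fun w hw => ?_)
      · refine hy0 (nsmul_eq_zero hcop ?_)
        rw [← powSum_eq_nsmul σ hy, ← hE]
        exact (hW₂ y).1 (h ▸ AddSubgroup.mem_top y)
      · rw [hW₂] at hw ⊢
        rw [← hcommE, hw, map_zero]
      · show ρ g (p • w - E w) = p • ρ g w - E (ρ g w)
        rw [map_sub, map_nsmul, hcommE]
      · rw [hW₂]
        show E (p • w - E w) = 0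
        rw [map_sub, map_nsmul, hE (E w),
          powSum_eq_nsmul σ (by rw [hE]; exact powSum_fixed σ hzp w), sub_self]
      · show p • w - E w = p • w
        rw [(hW₂ w).1 hw, sub_zero]
    refine sub_eq_zero.1 (nsmul_eq_zero hcop ?_)
    have hsplit : p • x = E x + (p • x - E x) := by abel
    rw [smul_sub, ← map_nsmul, hsplit, map_add,
      h1 (E x) ((hW₁ _).2 (by rw [hE (E x), powSum_eq_nsmul σ (by rw [hE]; exact powSum_fixed σ hzp x)])),
      h2 _ ((hW₂ _).2 (by
        rw [map_sub, map_nsmul, hE (E x),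
          powSum_eq_nsmul σ (by rw [hE]; exact powSum_fixed σ hzp x), sub_self]))]
    exact sub_self _

end Cfsg.Agent.SimpleFacts.TwoCentralizers
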