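import Cfsg.Agent.SimpleFacts.ChevalleySteinberg
import Cfsg.Agent.SimpleFacts.ChevalleySylow
import Cfsg.Agent.BlockCharsA.DefectZeroVanish

/-!
Consequences for the Steinberg character.
-/

set_option autoImplicit false

namespace Cfsg.Agent.SimpleFacts.ChevalleySteinbergUse

open Cfsg.Lie

variable {F : Type*} [Field F] [Fintype F]

theorem isIrr (D : ChevalleyDatum)
    (hD : D ∈ [chevG2, chevB2, chevD4, chevF4, chevE6, chevE7, chevE8]) :
    Cfsg.IsIrrCharacter (D.group F) (D.steinbergCharacter F) := by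
  classical
  obtain ⟨T, hC⟩ := Cfsg.Agent.Chevalley.Types.All.exists_certified hD
  haveI := Fintype.ofFinite (D.group F)
  haveI := Fintype.ofFinite (Cfsg.Agent.Chevalley.Bruhat.bn (F := F) hC).S
  exact Cfsg.Agent.SimpleFacts.ChevalleySteinberg.isIrr hC

theorem value_on_B (D : ChevalleyDatum)
    (hD : D ∈ [chevG2, chevB2, chevD4, chevF4, chevE6, chevE7, chevE8])
    (b : ((D.borelSubgroup F).subgroupOf (D.group F))) :
    D.steinbergCharacter F b =
      Cfsg.fixedPointCharacter (((D.diagonalSubgroup F).subgroupOf (D.group F)).subgroupOf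
        ((D.borelSubgroup F).subgroupOf (D.group F))) b := by
  classical
  obtain ⟨T, hC⟩ := Cfsg.Agent.Chevalley.Types.All.exists_certified hD
  haveI := Fintype.ofFinite (D.group F)
  haveI := Fintype.ofFinite (Cfsg.Agent.Chevalley.Bruhat.bn (F := F) hC).S
  exact Cfsg.Agent.SimpleFacts.ChevalleySteinberg.value_on_B hC b

theorem degree (D : ChevalleyDatum)
    (hD : D ∈ [chevG2, chevB2, chevD4, chevF4, chevE6, chevE7, chevE8]) :
    D.steinbergCharacter F 1 = ((Fintype.card F ^ (D.nroots / 2) : ℕ) : ℂ) := by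
  obtain ⟨T, hC⟩ := Cfsg.Agent.Chevalley.Types.All.exists_certified hD
  have h := value_on_B (F := F) D hD 1
  rw [OneMemClass.coe_one] at h
  rw [h, Cfsg.fixedPointCharacter, Nat.cast_inj]
  exact Cfsg.Agent.SimpleFacts.ChevalleySteinberg.card_fixed_one hC

theorem vanishes (p : ℕ) [Fact p.Prime] [CharP F p] (D : ChevalleyDatum)
    (hD : D ∈ [chevG2, chevB2, chevD4, chevF4, chevE6, chevE7, chevE8]) (g : D.group F)
    (hg : p ∣ orderOf g) : D.steinbergCharacter F g = 0 := by
  classical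
  obtain ⟨T, hC⟩ := Cfsg.Agent.Chevalley.Types.All.exists_certified hD
  haveI := Fintype.ofFinite (D.group F)
  let χ : Cfsg.IrrCharacter (D.group F) := ⟨_, isIrr D hD⟩
  refine Cfsg.Agent.BlockCharsA.DefectZeroVanish.eq_zero_of_singular Fact.out χ ?_ hg
  have hdeg : Cfsg.charDegree (χ : D.group F → ℂ) = Fintype.card F ^ (D.nroots / 2) := by
    rw [← Nat.cast_inj (R := ℂ), Cfsg.Agent.Blocks.charDegree_cast]
    exact degree D hD
  obtain ⟨P, hP⟩ := Cfsg.Agent.SimpleFacts.ChevalleySylow.exists_sylow (F := F) p D hD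
  rw [hdeg, ← P.card_eq_multiplicity, hP, Nat.card_congr (Subgroup.subgroupOfEquivOfLe
      ((le_sup_left).trans (Cfsg.Agent.Chevalley.Borel.U_sup_V hC).le)).toEquiv,
    Cfsg.Agent.Chevalley.Count.card_U hC, Cfsg.Agent.Chevalley.Count.card_posRoots hC,
    Nat.card_eq_fintype_card]

end Cfsg.Agent.SimpleFacts.ChevalleySteinbergUse
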