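import Cfsg.Agent.SimpleFacts.BNSteinberg
import Cfsg.Agent.Lib.Chevalley.Bruhat
import Cfsg.Agent.Lib.Chevalley.Count
import Cfsg.Agent.Lib.Chevalley.Order

/-!
The Steinberg character of a Chevalley group: irreducible, with the permutation character of `B` on the
cosets of `H` as its restriction to `B`.
-/

set_option autoImplicit false

namespace Cfsg.Agent.SimpleFacts.ChevalleySteinberg

open Cfsg.Lie Cfsg.Agent.Chevalley.Table Cfsg.Agent.Chevalley.Cert Cfsg.Agent.Chevalley.Group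
  Cfsg.Agent.Chevalley.Unip Cfsg.Agent.Chevalley.Borel Cfsg.Agent.Chevalley.Weyl
  Cfsg.Agent.Chevalley.Bruhat Cfsg.Agent.BN.Basic Cfsg.Agent.BN.Parabolic
  Cfsg.Agent.SimpleFacts.BNReps Cfsg.Agent.SimpleFacts.BNSteinberg

variable {D : ChevalleyDatum} {T : Tab} {F : Type*} [Field F] (hC : Certified D T)

/-- The generator of the index `i`. -/
def sgen (i : Fin D.rank) : (bn (F := F) hC).S :=
  ⟨⟨ng hC (D.simple i) 1, ng_mem_group hC (hC.simple_lt i.2) 1⟩, i, i.2, rfl⟩

theorem sgen_bijective : Function.Bijective (sgen (F := F) hC) := by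
  refine ⟨fun i j h => Fin.ext ?_, ?_⟩
  · have h' : ng hC (D.simple i) (1 : F) = ng hC (D.simple j) 1 :=
      congrArg (fun s : (bn (F := F) hC).S => ((s : D.group F) : GL D.Idx F)) h
    exact simple_eq_of_mem (F := F) hC i.2 j.2 (by rw [h', inv_mul_cancel]; exact one_mem _)
  · rintro ⟨n, i, hi, hn⟩
    exact ⟨⟨i, hi⟩, Subtype.ext (Subtype.ext hn.symm)⟩

theorem parabolicIn_eq (J : Finset (Fin D.rank)) :
    D.parabolicIn F (J.map Fin.valEmbedding) =
      par (P := bn (F := F) hC) (sgen hC '' (J : Set (Fin D.rank))) := by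
  have hle : D.parabolicSubgroup F (↑(J.map Fin.valEmbedding) : Set ℕ) ≤ D.group F := by
    refine sup_le (B_le_group hC) ((Subgroup.closure_le _).2 ?_)
    rintro g ⟨j, -, hj, hg⟩
    rw [show g = ng hC (D.simple j) 1 from Units.ext (hg.trans (coe_ng hC _ _).symm)]
    exact ng_mem_group hC (hC.simple_lt hj) 1
  apply Subgroup.map_injective (D.group F).subtype_injective
  rw [ChevalleyDatum.parabolicIn, Subgroup.map_subgroupOf_eq_of_le hle, par, BNPair.parabolic,
    Subgroup.map_sup, MonoidHom.map_closure, ChevalleyDatum.parabolicSubgroup]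
  congr 1
  · exact (Subgroup.map_subgroupOf_eq_of_le (B_le_group hC)).symm
  congr 1
  ext g
  simp only [Set.mem_setOf_eq, Finset.coe_map, Fin.valEmbedding_apply, Set.mem_image, Finset.mem_coe,
    Subgroup.coe_subtype]
  constructor
  · rintro ⟨_, ⟨i, hi, rfl⟩, -, hg⟩
    exact ⟨_, ⟨_, ⟨i, hi, rfl⟩, rfl⟩, Units.ext ((coe_ng hC _ _).trans hg.symm)⟩
  · rintro ⟨_, ⟨_, ⟨i, hi, rfl⟩, rfl⟩, rfl⟩
    exact ⟨_, ⟨i, hi, rfl⟩, i.2, coe_ng hC _ _⟩

variable [Fintype F] [Fintype (bn (F := F) hC).S]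

theorem steinberg_eq : D.steinbergCharacter F = stein (bn (F := F) hC) := by
  classical
  funext g
  let e : Fin D.rank ≃ (bn (F := F) hC).S := Equiv.ofBijective _ (sgen_bijective hC)
  have h1 : (Finset.range D.rank).powerset =
      (Finset.univ : Finset (Finset (Fin D.rank))).map
        ⟨fun J => J.map Fin.valEmbedding, Finset.map_injective _⟩ := by
    ext s
    simp only [Finset.mem_powerset, Finset.mem_map, Finset.mem_univ, true_and,
      Function.Embedding.coeFn_mk]
    constructor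
    · intro hs
      refine ⟨Finset.univ.filter fun i => (i : ℕ) ∈ s, ?_⟩
      ext a
      simp only [Finset.mem_map, Finset.mem_filter, Finset.mem_univ, true_and, Fin.valEmbedding_apply]
      exact ⟨fun ⟨i, hi, e⟩ => e ▸ hi, fun ha => ⟨⟨a, Finset.mem_range.1 (hs ha)⟩, ha, rfl⟩⟩
    · rintro ⟨J, rfl⟩ a ha
      obtain ⟨i, -, rfl⟩ := Finset.mem_map.1 ha
      exact Finset.mem_range.2 i.2
  rw [ChevalleyDatum.steinbergCharacter, stein, h1, Finset.sum_map]
  refine Fintype.sum_equiv (Equiv.finsetCongr e) _ _ fun J => ?_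
  simp only [Function.Embedding.coeFn_mk, Finset.card_map, Equiv.finsetCongr_apply, parabolicIn_eq hC,
    Finset.coe_map]
  rfl

/-- The monomial element of a word, in the group. -/
def nG (L : List ℕ) (hL : ∀ i ∈ L, i < D.rank) : D.group F :=
  ⟨nL hC F L, N_le_group hC (nL_mem_N hC hL)⟩

omit [Fintype F] [Fintype (bn (F := F) hC).S] in
theorem nG_mem (L : List ℕ) (hL : ∀ i ∈ L, i < D.rank) :
    nG (F := F) hC L hL ∈ (bn (F := F) hC).N :=
  Subgroup.mem_subgroupOf.2 (nL_mem_N hC hL)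

/-- The element of the Weyl group given by a word. -/
def wOf (L : List ℕ) (hL : ∀ i ∈ L, i < D.rank) : W (bn (F := F) hC) :=
  mkW (nG_mem hC L hL)

omit [Fintype F] [Fintype (bn (F := F) hC).S] in
theorem exists_wOf (w : W (bn (F := F) hC)) : ∃ L, ∃ hL : ∀ i ∈ L, i < D.rank, wOf hC L hL = w := by
  obtain ⟨n, hn, rfl⟩ := exists_mkW w
  obtain ⟨c, L, hL, e⟩ := (mem_N_iff hC).1 (Subgroup.mem_subgroupOf.1 hn)
  refine ⟨L, hL, (mkW_eq_iff _ _).2 ?_⟩
  show (nL hC F L)⁻¹ * (n : GL D.Idx F) ∈ D.borelSubgroup F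
  rw [e, ← mul_assoc]
  refine Subgroup.mem_sup_right ?_
  simpa using H_conj hC (inv_mem (nL_mem_N (F := F) hC hL)) (tor_mem_H hC c)

omit [Fintype F] [Fintype (bn (F := F) hC).S] in
theorem wOf_eq_one_iff (L : List ℕ) (hL : ∀ i ∈ L, i < D.rank) :
    wOf (F := F) hC L hL = 1 ↔ nL hC F L ∈ D.borelSubgroup F := mkW_eq_one_iff _

omit [Fintype F] [Fintype (bn (F := F) hC).S] in
theorem wOf_append (L L' : List ℕ) (hL : ∀ i ∈ L, i < D.rank) (hL' : ∀ i ∈ L', i < D.rank)
    (h : ∀ i ∈ L ++ L', i < D.rank) :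
    wOf (F := F) hC (L ++ L') h = wOf hC L hL * wOf hC L' hL' := by
  rw [wOf, wOf, wOf, ← mkW_mul]
  congr 1
  exact Subtype.ext (nL_append hC L L')

omit [Fintype F] [Fintype (bn (F := F) hC).S] in
theorem wOf_singleton (i : Fin D.rank) (h : ∀ x ∈ [(i : ℕ)], x < D.rank) :
    wOf (F := F) hC [(i : ℕ)] h = gen (sgen hC i) := by
  rw [wOf, gen]
  congr 1
  exact Subtype.ext (nL_singleton hC i)

omit [Fintype F] [Fintype (bn (F := F) hC).S] in
theorem wOf_reverse (L : List ℕ) (hL : ∀ i ∈ L, i < D.rank) (h : ∀ i ∈ L.reverse, i < D.rank) :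
    wOf (F := F) hC L.reverse h = (wOf hC L hL)⁻¹ := by
  induction L with
  | nil =>
    have : wOf (F := F) hC [] hL = 1 := by
      rw [wOf_eq_one_iff, show nL hC F [] = 1 by simp [nL]]; exact one_mem _
    simp only [List.reverse_nil, this, inv_one]
  | cons i L ih =>
    have hi : i < D.rank := hL i List.mem_cons_self
    have hL' : ∀ j ∈ L, j < D.rank := fun j hj => hL j (List.mem_cons_of_mem i hj)
    have h1 : ∀ x ∈ [i], x < D.rank := by simpa using hi
    have e1 := wOf_append (F := F) hC [i] L h1 hL' hL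
    simp only [List.singleton_append] at e1
    have hr : ∀ x ∈ L.reverse, x < D.rank := fun x hx => hL' x (List.mem_reverse.1 hx)
    have h' : ∀ x ∈ L.reverse ++ [i], x < D.rank := fun x hx =>
      (List.mem_append.1 hx).elim (hr x) (h1 x)
    simp only [List.reverse_cons]
    rw [wOf_append (F := F) hC L.reverse [i] hr h1 h', e1, ih hL' hr, mul_inv_rev,
      wOf_singleton hC ⟨i, hi⟩, gen_inv]

omit [Fintype F] [Fintype (bn (F := F) hC).S] in
/-- If `w⁻¹ p_i` is positive, `s_i` does not shorten `w` on the left. -/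
theorem len_lt_of_pos (L : List ℕ) (hL : ∀ i ∈ L, i < D.rank) (i : Fin D.rank)
    (hpos : 0 < T.phi (wL D L.reverse (D.simple i))) :
    len (wOf (F := F) hC L hL) < len (gen (sgen (F := F) hC i) * wOf hC L hL) := by
  rcases len_gen_mul_cases (wOf (F := F) hC L hL) (sgen hC i) with h | h
  · omega
  exfalso
  obtain ⟨x, hx, hxn⟩ := exists_mem_cell_of_lt (s := sgen hC i) (w := wOf (F := F) hC L hL)
    (by omega) (mem_cell_mkW _)
  obtain ⟨b₁, hb₁, b₂, hb₂, rfl⟩ := mem_dc.1 hx
  obtain ⟨u, hu, t₀, ht₀, hb⟩ := (mem_B_iff hC).1 hb₂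
  obtain ⟨v, hv, t, rfl⟩ := U_split hC (hC.simple_lt i.2) (hC.phi_simple i.2) hu
  have hLr : ∀ i ∈ L.reverse, i < D.rank := fun i hi => hL i (List.mem_reverse.1 hi)
  have hr := wL_lt hC hLr (hC.simple_lt i.2)
  obtain ⟨η, hη, he⟩ := nL_conj_x (F := F) hC hL hr
  have hw : wL D L (wL D L.reverse (D.simple i)) = D.simple i :=
    wL_neg_simple hC hL (hC.simple_lt i.2)
  have hN := nL_mem_N (F := F) hC hL
  have ht1 : (nL hC F L)⁻¹ * t₀ * nL hC F L ∈ D.diagonalSubgroup F := by
    simpa using H_conj hC (inv_mem hN) ht₀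
  have hb3 : xg hC (wL D L.reverse (D.simple i)) (η⁻¹ * t) * ((nL hC F L)⁻¹ * t₀ * nL hC F L) ∈
      D.borelSubgroup F :=
    mul_mem (Subgroup.mem_sup_left (xg_mem_U hC hr hpos _)) (Subgroup.mem_sup_right ht1)
  have hv' : ng hC (D.simple i) 1 * v * (ng hC (D.simple i) (1 : F))⁻¹ ∈ D.borelSubgroup F :=
    Subgroup.mem_sup_left (Uom_le_U hC _ ((Subgroup.mem_normalizer_iff.1
      (ng_normalizes_Uom hC i.2) v).1 hv))
  refine not_mem_cell_both (s := sgen hC i) ?_ hxn
  rw [gen, wOf, ← mkW_mul, cell_mkW]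
  refine mem_dc.2 ⟨b₁ * ⟨_, B_le_group hC hv'⟩, mul_mem hb₁ hv', ⟨_, B_le_group hC hb3⟩, hb3,
    Subtype.ext ?_⟩
  simp only [Subgroup.coe_mul, sgen, nG]
  have e3 := he (η⁻¹ * t)
  rw [hw, mul_inv_cancel_left₀ hη] at e3
  rw [show ((b₂ : GL D.Idx F)) = _ from hb, ← e3]
  group

omit [Fintype F] [Fintype (bn (F := F) hC).S] in
theorem neg_of_top (L : List ℕ) (hL : ∀ i ∈ L, i < D.rank)
    (ht : IsTop (wOf (F := F) hC L hL)) :
    ∀ r < D.nroots, 0 < T.phi r → T.phi (wL D L r) < 0 := by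
  have hLr : ∀ i ∈ L.reverse, i < D.rank := fun i hi => hL i (List.mem_reverse.1 hi)
  have hneg : ∀ i < D.rank, 0 < -T.phi (wL D L (D.simple i)) := by
    intro i hi
    have hne := hC.phi_ne_zero (wL_lt hC hL (hC.simple_lt hi))
    by_contra hcon
    have h1 := len_lt_of_pos (F := F) hC L.reverse hLr ⟨i, hi⟩
      (show 0 < T.phi (wL D L.reverse.reverse (D.simple i)) by rw [List.reverse_reverse]; omega)
    rw [wOf_reverse hC L hL hLr, len_inv] at h1
    have h2 := ht (sgen hC ⟨i, hi⟩)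
    rw [len_mul_gen] at h2
    omega
  intro r hr hp
  have hadd : Additive' D (fun r => -T.phi (wL D L r)) := fun i hi s hs => by
    have := phi_wL_additive hC hL i hi s hs
    dsimp only at this ⊢
    rw [this]; ring
  have := sign_of_simple hC hadd hneg r hr hp
  omega

include hC in
omit [Fintype F] [Fintype (bn (F := F) hC).S] in
theorem pos_of_neg (L : List ℕ) (hL : ∀ i ∈ L, i < D.rank)
    (h : ∀ r < D.nroots, 0 < T.phi r → T.phi (wL D L r) < 0) {s : ℕ} (hs : s < D.nroots)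
    (hn : T.phi s < 0) : 0 < T.phi (wL D L s) := by
  have h1 := h _ (hC.neg_lt hs) (by rw [hC.phi_neg hs]; omega)
  rw [wL_neg hC hL hs, hC.phi_neg (wL_lt hC hL hs)] at h1
  omega

omit [Fintype F] [Fintype (bn (F := F) hC).S] in
theorem top_unique (w w' : W (bn (F := F) hC)) (hw : IsTop w) (hw' : IsTop w') : w = w' := by
  obtain ⟨L, hL, rfl⟩ := exists_wOf hC w
  obtain ⟨L', hL', rfl⟩ := exists_wOf hC w'
  have hn := neg_of_top hC L hL hw
  have hn' := neg_of_top hC L' hL' hw'
  have hL'r : ∀ i ∈ L'.reverse, i < D.rank := fun i hi => hL' i (List.mem_reverse.1 hi)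
  have hM : ∀ i ∈ L ++ L'.reverse, i < D.rank := fun i hi =>
    (List.mem_append.1 hi).elim (hL i) (hL'r i)
  have hpos : ∀ i < D.rank, 0 < T.phi (wL D (L ++ L'.reverse) (D.simple i)) := by
    intro i hi
    rw [wL_append]
    have hs := hC.simple_lt hi
    have hlt := wL_lt hC hL'r hs
    refine pos_of_neg hC L hL hn hlt ?_
    by_contra hcon
    have h1 := hn' _ hlt (by have := hC.phi_ne_zero hlt; omega)
    rw [show wL D L' (wL D L'.reverse (D.simple i)) = D.simple i from
      wL_neg_simple hC hL' hs] at h1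
    have := hC.phi_simple hi
    omega
  obtain ⟨d, hd⟩ := exists_tor_of_pos (F := F) hC hM hpos
  have h1 : wOf (F := F) hC (L ++ L'.reverse) hM = 1 := by
    rw [wOf_eq_one_iff, hd]; exact Subgroup.mem_sup_right (tor_mem_H hC d)
  rw [wOf_append hC L L'.reverse hL hL'r hM, wOf_reverse hC L' hL' hL'r, mul_inv_eq_one] at h1
  exact h1

include hC in
theorem isIrr [Fintype (D.group F)] :
    Cfsg.IsIrrCharacter (D.group F) (D.steinbergCharacter F) := by
  rw [steinberg_eq hC]
  exact isIrr_stein _ (top_unique hC)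

include hC in
theorem value_on_B [Fintype (D.group F)] (b : ((D.borelSubgroup F).subgroupOf (D.group F))) :
    D.steinbergCharacter F b =
      Cfsg.fixedPointCharacter (((D.diagonalSubgroup F).subgroupOf (D.group F)).subgroupOf
        ((D.borelSubgroup F).subgroupOf (D.group F))) b := by
  obtain ⟨t, ht, -⟩ := exists_top (P := bn (F := F) hC)
  rw [steinberg_eq hC, stein_B _ ht (fun w hw => top_unique hC w t hw ht) b.2, cf,
    Cfsg.fixedPointCharacter, Nat.cast_inj]
  obtain ⟨L, hL, rfl⟩ := exists_wOf hC t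
  have hN := nL_mem_N (F := F) hC hL
  set n : D.group F := ⟨nL hC F L, N_le_group hC hN⟩ with hndef
  have hn := neg_of_top hC L hL ht
  -- `B ∩ n B n⁻¹ = H`
  have hstab : ∀ x ∈ D.borelSubgroup F,
      (nL hC F L)⁻¹ * x * nL hC F L ∈ D.borelSubgroup F ↔ x ∈ D.diagonalSubgroup F := by
    intro x hx
    refine ⟨fun h => ?_, fun h => Subgroup.mem_sup_right (by simpa using H_conj hC (inv_mem hN) h)⟩
    obtain ⟨u, hu, h₀, hh₀, e⟩ := (mem_B_iff hC).1 h
    have hV : nL hC F L * u * (nL hC F L)⁻¹ ∈ D.negUnipotent F := by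
      clear e
      rw [U_eq_closure hC] at hu
      induction hu using Subgroup.closure_induction with
      | mem y hy =>
        obtain ⟨r, s, hr, hp, rfl⟩ := hy
        obtain ⟨η, -, hη⟩ := nL_conj_x (F := F) hC hL hr
        rw [hη]
        exact xg_mem_V hC (wL_lt hC hL hr) (hn r hr hp) _
      | one => simp
      | mul y z _ _ ihy ihz =>
        rw [show nL hC F L * (y * z) * (nL hC F L)⁻¹ =
          nL hC F L * y * (nL hC F L)⁻¹ * (nL hC F L * z * (nL hC F L)⁻¹) by group]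
        exact mul_mem ihy ihz
      | inv y _ ih =>
        rw [show nL hC F L * y⁻¹ * (nL hC F L)⁻¹ = (nL hC F L * y * (nL hC F L)⁻¹)⁻¹ by group]
        exact inv_mem ih
    have hx' : x = nL hC F L * u * (nL hC F L)⁻¹ * (nL hC F L * h₀ * (nL hC F L)⁻¹) := by
      calc x = nL hC F L * ((nL hC F L)⁻¹ * x * nL hC F L) * (nL hC F L)⁻¹ := by group
        _ = _ := by rw [e]; group
    rw [← B_inf_VH hC]
    exact ⟨hx, hx' ▸ mul_mem (Subgroup.mem_sup_left hV) (Subgroup.mem_sup_right (H_conj hC hN hh₀))⟩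
  have hmap : ∀ x y : ((D.borelSubgroup F).subgroupOf (D.group F)),
      ((x : D.group F) * n : D.group F ⧸ (bn (F := F) hC).B) = ((y : D.group F) * n : D.group F) ↔
      x⁻¹ * y ∈ ((D.diagonalSubgroup F).subgroupOf (D.group F)).subgroupOf
        ((D.borelSubgroup F).subgroupOf (D.group F)) := by
    intro x y
    rw [QuotientGroup.eq]
    show ((((x : D.group F) * n)⁻¹ * ((y : D.group F) * n) : D.group F) : GL D.Idx F) ∈
      D.borelSubgroup F ↔ (((x : D.group F)⁻¹ * (y : D.group F) : D.group F) : GL D.Idx F) ∈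
      D.diagonalSubgroup F
    rw [← hstab _ (show ((((x : D.group F))⁻¹ * (y : D.group F) : D.group F) : GL D.Idx F) ∈
      D.borelSubgroup F from mul_mem (inv_mem x.2) y.2)]
    simp only [Subgroup.coe_mul, Subgroup.coe_inv, hndef, mul_inv_rev, mul_assoc]
  symm
  refine Nat.card_congr (Equiv.ofBijective (fun z => ⟨Quotient.liftOn' z.1
    (fun x => ((((x : D.group F) * n : D.group F)) : D.group F ⧸ (bn (F := F) hC).B))
      (fun x y h => (hmap x y).2 (QuotientGroup.leftRel_apply.1 h)), ?_, ?_⟩) ?_)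
  · obtain ⟨z, hz⟩ := z
    obtain ⟨x, rfl⟩ := QuotientGroup.mk_surjective z
    have h2 := (hmap (b * x) x).2 (QuotientGroup.eq.1 hz)
    rw [Subgroup.coe_mul, mul_assoc] at h2
    exact h2
  · obtain ⟨z, hz⟩ := z
    obtain ⟨x, rfl⟩ := QuotientGroup.mk_surjective z
    exact ⟨_, mul_left_cell x.2 (mem_cell_mkW _), rfl⟩
  refine ⟨?_, ?_⟩
  · rintro ⟨z, hz⟩ ⟨z', hz'⟩ h
    obtain ⟨x, rfl⟩ := QuotientGroup.mk_surjective z
    obtain ⟨x', rfl⟩ := QuotientGroup.mk_surjective z'
    exact Subtype.ext (QuotientGroup.eq.2 ((hmap x x').1 (congrArg Subtype.val h)))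
  · rintro ⟨y, hy, g, hg, rfl⟩
    obtain ⟨c, hc, c', hc', rfl⟩ := mem_dc.1 hg
    have e1 : ((c * n * c' : D.group F) : D.group F ⧸ (bn (F := F) hC).B) = ((c * n : D.group F)) :=
      QuotientGroup.mk_mul_of_mem _ hc'
    let x : ((D.borelSubgroup F).subgroupOf (D.group F)) := ⟨c, hc⟩
    have h2 : (b : D.group F) • ((c * n * c' : D.group F) : D.group F ⧸ (bn (F := F) hC).B) =
        ((c * n * c' : D.group F)) := hy
    rw [e1] at h2
    have h3 : ((((b * x : ((D.borelSubgroup F).subgroupOf (D.group F))) : D.group F) * n : D.group F) :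
        D.group F ⧸ (bn (F := F) hC).B) = (((x : D.group F) * n : D.group F)) := by
      rw [Subgroup.coe_mul, mul_assoc]
      exact h2
    refine ⟨⟨QuotientGroup.mk x, QuotientGroup.eq.2 ((hmap (b * x) x).1 h3)⟩, ?_⟩
    apply Subtype.ext
    exact e1.symm

include hC in
omit [Fintype (bn (F := F) hC).S] in
theorem card_fixed_one :
    Nat.card (MulAction.fixedBy (((D.borelSubgroup F).subgroupOf (D.group F)) ⧸
      ((D.diagonalSubgroup F).subgroupOf (D.group F)).subgroupOf
        ((D.borelSubgroup F).subgroupOf (D.group F))) (1 : ((D.borelSubgroup F).subgroupOf (D.group F)))) =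
      Fintype.card F ^ (D.nroots / 2) := by
  have hHB : (D.diagonalSubgroup F).subgroupOf (D.group F) ≤
      (D.borelSubgroup F).subgroupOf (D.group F) := fun x hx => Subgroup.mem_sup_right hx
  refine (Nat.card_congr (Equiv.subtypeUnivEquiv fun z => one_smul _ z)).trans ?_
  show (((D.diagonalSubgroup F).subgroupOf (D.group F)).subgroupOf
    ((D.borelSubgroup F).subgroupOf (D.group F))).index = _
  have h := Subgroup.card_mul_index (((D.diagonalSubgroup F).subgroupOf (D.group F)).subgroupOf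
    ((D.borelSubgroup F).subgroupOf (D.group F)))
  rw [Nat.card_congr (Subgroup.subgroupOfEquivOfLe hHB).toEquiv,
    Nat.card_congr (Subgroup.subgroupOfEquivOfLe (H_le_group hC)).toEquiv,
    Nat.card_congr (Subgroup.subgroupOfEquivOfLe (B_le_group hC)).toEquiv,
    Cfsg.Agent.Chevalley.Order.card_B hC, Cfsg.Agent.Chevalley.Count.card_U hC,
    Cfsg.Agent.Chevalley.Count.card_posRoots hC, Nat.card_eq_fintype_card (α := F), mul_comm] at h
  exact Nat.eq_of_mul_eq_mul_right Nat.card_pos h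

end Cfsg.Agent.SimpleFacts.ChevalleySteinberg
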