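import Cfsg.Agent.SimpleFacts.BNUnipotentCount
import Cfsg.Agent.SimpleFacts.ChevalleySteinberg
import Cfsg.Agent.SimpleFacts.ChevalleySylow
import Cfsg.Agent.Lib.Chevalley.Parabolic
import Cfsg.Agent.Lib.Chevalley.NormalForm

/-!
The number of unipotent elements of a finite Chevalley group.
-/

set_option autoImplicit false

open scoped Matrix

namespace Cfsg.Agent.SimpleFacts.ChevalleyUnipotentCount

open Cfsg.Lie Cfsg.Agent.Chevalley.Table Cfsg.Agent.Chevalley.Cert Cfsg.Agent.Chevalley.Group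
  Cfsg.Agent.Chevalley.Unip Cfsg.Agent.Chevalley.Borel Cfsg.Agent.Chevalley.Weyl
  Cfsg.Agent.Chevalley.Bruhat Cfsg.Agent.BN.Basic Cfsg.Agent.BN.Parabolic
  Cfsg.Agent.SimpleFacts.BNReps Cfsg.Agent.SimpleFacts.BNSteinberg
  Cfsg.Agent.SimpleFacts.BNUnipotentCount Cfsg.Agent.SimpleFacts.ChevalleySteinberg
  Cfsg.Agent.Chevalley.Coef

variable {D : ChevalleyDatum} {T : Tab} {F : Type*} [Field F] (hC : Certified D T)

/-- The indices of a set of generators. -/
def idxSet (J : Set (bn (F := F) hC).S) : Set ℕ :=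
  {i | ∃ hi : i < D.rank, sgen hC ⟨i, hi⟩ ∈ J}

/-- `U_J`, in the group. -/
def radG (J : Finset (bn (F := F) hC).S) : Subgroup (D.group F) :=
  (D.unipotentRadical F (idxSet hC (J : Set (bn (F := F) hC).S))).subgroupOf (D.group F)

theorem mem_parabolic {J : Set (bn (F := F) hC).S} {x : D.group F} (hx : x ∈ par J) :
    (x : GL D.Idx F) ∈ D.parabolicSubgroup F (idxSet hC J) := by
  have hle : par (P := bn (F := F) hC) J ≤
      (D.parabolicSubgroup F (idxSet hC J)).comap (D.group F).subtype := by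
    refine sup_le (fun b hb => Subgroup.mem_sup_left hb) ((Subgroup.closure_le _).2 ?_)
    rintro _ ⟨s, hs, rfl⟩
    obtain ⟨i, rfl⟩ := (sgen_bijective hC).2 s
    exact Cfsg.Agent.Chevalley.Parabolic.ng_mem_parabolic hC i.2 (⟨i.2, hs⟩ : (i : ℕ) ∈ idxSet hC J)
  exact hle hx

theorem exists_word {J : Set (bn (F := F) hC).S} {w : W (bn (F := F) hC)} (hw : InK J w) :
    ∃ L : List ℕ, ∃ hL : ∀ i ∈ L, i < D.rank, (∀ i ∈ L, i ∈ idxSet hC J) ∧ wOf hC L hL = w := by
  obtain ⟨Ls, hLs, rfl⟩ := hw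
  induction Ls with
  | nil =>
    refine ⟨[], by simp, by simp, ?_⟩
    rw [wordW_nil, wOf_eq_one_iff, show nL hC F [] = 1 by simp [nL]]
    exact one_mem _
  | cons s Ls ih =>
    obtain ⟨L, hL, hLJ, e⟩ := ih fun x hx => hLs x (List.mem_cons_of_mem _ hx)
    obtain ⟨i, rfl⟩ := (sgen_bijective hC).2 s
    have h1 : ∀ x ∈ [(i : ℕ)], x < D.rank := by simp
    have h2 : ∀ x ∈ [(i : ℕ)] ++ L, x < D.rank := fun x hx =>
      (List.mem_append.1 hx).elim (h1 x) (hL x)
    refine ⟨[(i : ℕ)] ++ L, h2, fun x hx => ?_, ?_⟩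
    · rcases List.mem_append.1 hx with hx | hx
      · rw [List.mem_singleton.1 hx]; exact ⟨i.2, hLs _ List.mem_cons_self⟩
      · exact hLJ x hx
    · rw [wOf_append hC _ L h1 hL h2, wOf_singleton, e, wordW_cons]

theorem neg_of_topIn {J : Set (bn (F := F) hC).S} (L : List ℕ) (hL : ∀ i ∈ L, i < D.rank)
    (ht : IsTopIn J (wOf (F := F) hC L hL)) :
    ∀ r, D.InRootSub (idxSet hC J) r → 0 < T.phi r → T.phi (wL D L r) < 0 := by
  have hLr : ∀ i ∈ L.reverse, i < D.rank := fun i hi => hL i (List.mem_reverse.1 hi)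
  have hneg : ∀ j ∈ idxSet hC J, T.phi (wL D L (D.simple j)) < 0 := by
    rintro j ⟨hj, hjJ⟩
    have hne := hC.phi_ne_zero (wL_lt hC hL (hC.simple_lt hj))
    by_contra hcon
    have h1 := len_lt_of_pos (F := F) hC L.reverse hLr ⟨j, hj⟩
      (show 0 < T.phi (wL D L.reverse.reverse (D.simple j)) by rw [List.reverse_reverse]; omega)
    rw [wOf_reverse hC L hL hLr, len_inv] at h1
    have h2 := ht.2 (sgen hC ⟨j, hj⟩) hjJ
    rw [len_mul_gen] at h2
    omega
  intro r hr hp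
  induction r using Nat.strong_induction_on with
  | _ r ihr =>
    obtain ⟨j, hj, hjJ, h | ⟨hlt, hp', hJ'⟩⟩ :=
      Cfsg.Agent.Chevalley.Parabolic.descend_inRootSub hC hr hp
    · subst h; exact hneg j hjJ
    · have h2 := ihr _ hlt hJ' hp'
      have h3 : T.phi (wL D L (D.reflectRoot j r)) =
          T.phi (wL D L r) - D.cartan j r * T.phi (wL D L (D.simple j)) :=
        phi_wL_additive hC hL j hj r hr.1
      have h4 : T.phi (D.reflectRoot j r) < T.phi r := hC.phi_lt hlt hr.1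
      rw [hC.phi_reflect hj hr.1] at h4
      have hA : 0 < D.cartan j r := by
        by_contra hA
        have := mul_nonpos_of_nonpos_of_nonneg (not_lt.1 hA) (hC.phi_simple hj).le
        omega
      have := mul_nonpos_of_nonneg_of_nonpos hA.le (hneg j hjJ).le
      omega

variable {N : List (List ℤ)} (hN : coefChk T N = true)
include hC hN

/-- `B ∩ n B n⁻¹ = U_J H` for the longest element of `W_J`. -/
theorem stab_eq {J : Set (bn (F := F) hC).S} (L : List ℕ) (hL : ∀ i ∈ L, i < D.rank)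
    (hLJ : ∀ i ∈ L, i ∈ idxSet hC J) (ht : IsTopIn J (wOf (F := F) hC L hL)) {c : GL D.Idx F}
    (hc : c ∈ D.borelSubgroup F) :
    (nL hC F L)⁻¹ * c * nL hC F L ∈ D.borelSubgroup F ↔
      ∃ r ∈ D.unipotentRadical F (idxSet hC J), ∃ h ∈ D.diagonalSubgroup F, c = r * h := by
  classical
  obtain ⟨n, hn⟩ : ∃ n, n = nL hC F L := ⟨_, rfl⟩
  have hnN : n ∈ D.monomialSubgroup F := hn ▸ nL_mem_N hC hL
  have hnP : n ∈ D.parabolicSubgroup F (idxSet hC J) := by
    rw [hn]
    refine list_prod_mem fun x hx => ?_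
    obtain ⟨i, hi, rfl⟩ := List.mem_map.1 hx
    exact Cfsg.Agent.Chevalley.Parabolic.ng_mem_parabolic hC (hL i hi) (hLJ i hi)
  have hnorm := Cfsg.Agent.Chevalley.Parabolic.normalizes (F := F) hC hN (idxSet hC J)
  have hR : ∀ r ∈ D.unipotentRadical F (idxSet hC J), n⁻¹ * r * n ∈ D.borelSubgroup F := fun r hr => by
    refine Subgroup.mem_sup_left ?_
    have h := (Subgroup.mem_normalizer_iff.1 (inv_mem (hnorm hnP)) r).1 hr
    rw [inv_inv] at h
    exact Subgroup.closure_mono (by rintro x ⟨r, t, hr, -, hx⟩; exact ⟨r, t, hr, hx⟩) h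
  have hH : ∀ h ∈ D.diagonalSubgroup F, n⁻¹ * h * n ∈ D.borelSubgroup F := fun h hh =>
    Subgroup.mem_sup_right (by simpa using H_conj hC (inv_mem hnN) hh)
  rw [← hn]
  constructor
  · intro hcn
    obtain ⟨v, hv, h, hh, rfl⟩ := (mem_B_iff hC).1 hc
    rw [← Uge_zero hC] at hv
    obtain ⟨f, hf⟩ := split_decomp hC (fun s => decide (¬ D.InRootSub (idxSet hC J) s)) 0 _ hv
    obtain ⟨A, hA⟩ : ∃ A : GL D.Idx F, A = prodX hC
        ((posFrom D 0).filter fun s => decide (¬ D.InRootSub (idxSet hC J) s)) f := ⟨_, rfl⟩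
    obtain ⟨B, hB⟩ : ∃ B : GL D.Idx F, B = prodX hC
        ((posFrom D 0).filter fun s => !decide (¬ D.InRootSub (idxSet hC J) s)).reverse f := ⟨_, rfl⟩
    rw [← hA, ← hB] at hf
    have hAR : A ∈ D.unipotentRadical F (idxSet hC J) := by
      rw [hA]
      refine list_prod_mem fun y hy => ?_
      obtain ⟨s, hs, rfl⟩ := List.mem_map.1 hy
      obtain ⟨hs', hq⟩ := List.mem_filter.1 hs
      obtain ⟨h3, h4, -⟩ := (mem_posFrom hC).1 hs'
      exact Subgroup.subset_closure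
        ⟨s, _, (hC.posRoot_iff h3).2 h4, of_decide_eq_true hq, coe_xg hC _ _⟩
    have hLr : ∀ i ∈ L.reverse, i < D.rank := fun i hi => hL i (List.mem_reverse.1 hi)
    -- `n⁻¹` differs from the reversed word by a torus element
    obtain ⟨m, hm⟩ : ∃ m, m = nL hC F L.reverse := ⟨_, rfl⟩
    have hd : m⁻¹ * n⁻¹ ∈ D.diagonalSubgroup F := by
      rw [← B_inf_N hC, Subgroup.mem_inf]
      refine ⟨?_, mul_mem (inv_mem (hm ▸ nL_mem_N hC hLr)) (inv_mem hnN)⟩
      have e := wOf_reverse (F := F) hC L hL hLr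
      rw [wOf, wOf, ← mkW_inv, mkW_eq_iff] at e
      rw [hm, hn]
      exact e
    obtain ⟨d, hd'⟩ := (mem_H_iff hC).1 hd
    have hnm : n⁻¹ = m * tor D d := by rw [← hd', mul_inv_cancel_left]
    have hneg := neg_of_topIn hC L.reverse hLr (J := J) (by
      rw [wOf_reverse hC L hL hLr]; exact topIn_inv ht)
    have hBV : n⁻¹ * B * n ∈ D.negUnipotent F := by
      have : B ∈ (D.negUnipotent F).comap (MulAut.conj n⁻¹).toMonoidHom := by
        rw [hB]
        refine list_prod_mem fun y hy => ?_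
        obtain ⟨s, hs, rfl⟩ := List.mem_map.1 hy
        obtain ⟨hs', hq⟩ := List.mem_filter.1 (List.mem_reverse.1 hs)
        obtain ⟨h3, h4, -⟩ := (mem_posFrom hC).1 hs'
        obtain ⟨η, -, e⟩ := nL_conj_x (F := F) hC hLr h3
        show n⁻¹ * xg hC s (f s) * n⁻¹⁻¹ ∈ D.negUnipotent F
        rw [hnm, show m * tor D d * xg hC s (f s) * (m * tor D d)⁻¹ =
          m * (tor D d * xg hC s (f s) * (tor D d)⁻¹) * m⁻¹ by group, tor_conj_x hC _ _ _ h3, hm, e]
        exact xg_mem_V hC (wL_lt hC hLr h3) (hneg s (by simpa using hq) h4) _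
      simpa using this
    have hB1 : n⁻¹ * B * n ∈ (⊥ : Subgroup (GL D.Idx F)) := by
      rw [← B_inf_V hC]
      refine Subgroup.mem_inf.2 ⟨?_, hBV⟩
      have e : n⁻¹ * B * n = (n⁻¹ * A * n)⁻¹ * (n⁻¹ * (v * h) * n) * (n⁻¹ * h * n)⁻¹ := by
        rw [hf]; group
      rw [e]
      exact mul_mem (mul_mem (inv_mem (hR A hAR)) hcn) (inv_mem (hH h hh))
    rw [Subgroup.mem_bot] at hB1
    have hB2 : B = 1 := by
      calc B = n * (n⁻¹ * B * n) * n⁻¹ := by group
        _ = 1 := by rw [hB1]; group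
    exact ⟨A, hAR, h, hh, by rw [hf, hB2, mul_one]⟩
  · rintro ⟨r, hr, h, hh, rfl⟩
    have e : n⁻¹ * (r * h) * n = n⁻¹ * r * n * (n⁻¹ * h * n) := by group
    rw [e]
    exact mul_mem (hR r hr) (hH h hh)

theorem radical_le_U (J : Set ℕ) : D.unipotentRadical F J ≤ D.posUnipotent F :=
  Subgroup.closure_mono fun _ ⟨r, t, hr, _, hg⟩ => ⟨r, t, hr, hg⟩

theorem val_and_card [Finite F] (J : Finset (bn (F := F) hC).S) (t : W (bn (F := F) hC))
    (ht : IsTopIn (J : Set (bn (F := F) hC).S) t) :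
    (Nat.card (radG hC J) * cf (bn (F := F) hC) 1 t =
        Nat.card ((D.posUnipotent F).subgroupOf (D.group F))) ∧
      ∀ u ∈ (D.posUnipotent F).subgroupOf (D.group F),
        (u ∈ radG hC J → cf (bn (F := F) hC) u t = cf (bn (F := F) hC) 1 t) ∧
          (u ∉ radG hC J → cf (bn (F := F) hC) u t = 0) := by
  classical
  haveI : Fintype F := Fintype.ofFinite F
  obtain ⟨L, hL, hLJ, rfl⟩ := exists_word hC ht.1
  obtain ⟨U, hUd⟩ : ∃ U, U = (D.posUnipotent F).subgroupOf (D.group F) := ⟨_, rfl⟩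
  obtain ⟨n, hn⟩ : ∃ n : D.group F, n = nG hC L hL := ⟨_, rfl⟩
  have hnN : (n : GL D.Idx F) ∈ D.monomialSubgroup F := by rw [hn]; exact nL_mem_N hC hL
  have hnc : n ∈ cell (wOf (F := F) hC L hL) := hn ▸ mem_cell_mkW _
  have hRU : radG hC J ≤ U := fun x hx => by
    rw [hUd]; exact Subgroup.mem_subgroupOf.2 (radical_le_U hC hN _ hx)
  have hUB : U ≤ (bn (F := F) hC).B := by
    rw [hUd]; exact fun x hx => Subgroup.mem_subgroupOf.2 (Subgroup.mem_sup_left hx)
  -- every coset in the cell is `v n B` with `v` in `U`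
  have hrep : ∀ y : D.group F ⧸ (bn (F := F) hC).B,
      (∃ x ∈ cell (wOf (F := F) hC L hL), (x : D.group F ⧸ (bn (F := F) hC).B) = y) →
      ∃ v ∈ U, ((v * n : D.group F) : D.group F ⧸ (bn (F := F) hC).B) = y := by
    rintro y ⟨x, hx, rfl⟩
    obtain ⟨c, hc, c', hc', rfl⟩ := mem_dc.1 hx
    obtain ⟨v, hv, h, hh, e⟩ := (mem_B_iff hC).1 (Subgroup.mem_subgroupOf.1 hc)
    refine ⟨⟨v, B_le_group hC (Subgroup.mem_sup_left hv)⟩,
      by rw [hUd]; exact Subgroup.mem_subgroupOf.2 hv, ?_⟩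
    rw [QuotientGroup.eq]
    refine Subgroup.mem_subgroupOf.2 ?_
    simp only [Subgroup.coe_mul, Subgroup.coe_inv, hn, nG, e]
    rw [show (v * nL hC F L)⁻¹ * (v * h * nL hC F L * (c' : GL D.Idx F)) =
      (nL hC F L)⁻¹ * h * nL hC F L * (c' : GL D.Idx F) by group]
    refine mul_mem (Subgroup.mem_sup_right ?_) hc'
    simpa using H_conj hC (inv_mem (nL_mem_N (F := F) hC hL)) hh
  -- when two such cosets agree
  have heq : ∀ v ∈ U, ∀ v' ∈ U,
      ((v * n : D.group F) : D.group F ⧸ (bn (F := F) hC).B) = ((v' * n : D.group F)) ↔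
        v⁻¹ * v' ∈ radG hC J := by
    intro v hv v' hv'
    have hv'' : ((v⁻¹ * v' : D.group F) : GL D.Idx F) ∈ D.posUnipotent F := by
      have := mul_mem (inv_mem hv) hv'
      rw [hUd] at this
      exact this
    rw [QuotientGroup.eq]
    show (((v * n)⁻¹ * (v' * n) : D.group F) : GL D.Idx F) ∈ D.borelSubgroup F ↔
      ((v⁻¹ * v' : D.group F) : GL D.Idx F) ∈ D.unipotentRadical F _
    rw [show (((v * n)⁻¹ * (v' * n) : D.group F) : GL D.Idx F) = (nL hC F L)⁻¹ *
        ((v⁻¹ * v' : D.group F) : GL D.Idx F) * nL hC F L by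
      simp only [Subgroup.coe_mul, Subgroup.coe_inv, hn, nG]; group,
      stab_eq hC hN L hL hLJ ht (Subgroup.mem_sup_left hv'')]
    constructor
    · rintro ⟨r, hr, h, hh, e⟩
      have h1 : h ∈ (⊥ : Subgroup (GL D.Idx F)) := by
        rw [← U_inf_H hC]
        refine Subgroup.mem_inf.2 ⟨?_, hh⟩
        have e' : h = r⁻¹ * ((v⁻¹ * v' : D.group F) : GL D.Idx F) := by
          rw [e, inv_mul_cancel_left]
        rw [e']
        exact mul_mem (inv_mem (radical_le_U hC hN _ hr)) hv''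
      rw [Subgroup.mem_bot] at h1
      rw [e, h1, mul_one]
      exact hr
    · exact fun h => ⟨_, h, 1, one_mem _, (mul_one _).symm⟩
  have hnormR : ∀ v ∈ U, ∀ r ∈ radG hC J, v * r * v⁻¹ ∈ radG hC J := by
    intro v hv r hr
    rw [hUd] at hv
    exact (Subgroup.mem_normalizer_iff.1 (Cfsg.Agent.Chevalley.Parabolic.normalizes hC hN _
      (Subgroup.mem_sup_left (Subgroup.mem_sup_left hv))) _).1 hr
  have hmem : ∀ v ∈ U, v * n ∈ cell (wOf (F := F) hC L hL) := fun v hv =>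
    mul_left_cell (hUB hv) hnc
  rw [← hUd]
  refine ⟨?_, fun u hu => ⟨fun huR => ?_, fun huR => ?_⟩⟩
  · rw [cf_one_eq, Subgroup.card_eq_card_quotient_mul_card_subgroup ((radG hC J).subgroupOf U),
      Nat.card_congr (Subgroup.subgroupOfEquivOfLe hRU).toEquiv, mul_comm]
    congr 1
    symm
    refine Nat.card_congr (Equiv.ofBijective (fun z => Quotient.liftOn' z
      (fun v : U => (⟨((v.1 * n : D.group F) : D.group F ⧸ (bn (F := F) hC).B), v.1 * n,
        hmem v.1 v.2, rfl⟩ :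
        {y : D.group F ⧸ (bn (F := F) hC).B // ∃ x ∈ cell (wOf (F := F) hC L hL),
          (x : D.group F ⧸ (bn (F := F) hC).B) = y}))
      (fun a b h => Subtype.ext ((heq a.1 a.2 b.1 b.2).2
        (Subgroup.mem_subgroupOf.1 (QuotientGroup.leftRel_apply.1 h))))) ?_)
    refine ⟨?_, ?_⟩
    · intro z z' h
      obtain ⟨a, rfl⟩ := QuotientGroup.mk_surjective z
      obtain ⟨b, rfl⟩ := QuotientGroup.mk_surjective z'
      exact QuotientGroup.eq.2
        (Subgroup.mem_subgroupOf.2 ((heq a.1 a.2 b.1 b.2).1 (congrArg Subtype.val h)))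
    · rintro ⟨y, hy⟩
      obtain ⟨v, hv, e⟩ := hrep y hy
      exact ⟨QuotientGroup.mk (⟨v, hv⟩ : U), Subtype.ext e⟩
  · refine Nat.card_congr (Equiv.subtypeEquivRight fun y => ?_)
    refine ⟨fun h => ⟨one_smul _ _, h.2⟩, fun h => ⟨?_, h.2⟩⟩
    obtain ⟨v, hv, rfl⟩ := hrep y h.2
    show ((u * (v * n) : D.group F) : D.group F ⧸ (bn (F := F) hC).B) = ((v * n : D.group F))
    rw [← mul_assoc, heq _ (mul_mem hu hv) _ hv]
    have h1 := hnormR v⁻¹ (inv_mem hv) u⁻¹ (inv_mem huR)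
    simpa [mul_assoc] using h1
  · haveI : IsEmpty (cellFix (bn (F := F) hC) u (wOf (F := F) hC L hL)) := by
      refine ⟨fun z => huR ?_⟩
      obtain ⟨v, hv, hy⟩ := hrep z.1 z.2.2
      have h0 := z.2.1
      rw [← hy] at h0
      have h1 : ((u * v * n : D.group F) : D.group F ⧸ (bn (F := F) hC).B) = ((v * n : D.group F)) := by
        rw [mul_assoc]; exact h0
      have h2 := inv_mem (hnormR v hv _ ((heq _ (mul_mem hu hv) _ hv).1 h1))
      simpa [mul_assoc] using h2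
    exact Nat.card_of_isEmpty

/-- **Steinberg's count of the unipotent elements.** -/
theorem card_unipotent [Fintype F] (p : ℕ) [Fact p.Prime] [CharP F p]
    (hD : D ∈ [chevG2, chevB2, chevD4, chevF4, chevE6, chevE7, chevE8]) :
    Nat.card {g : D.group F // ∃ k : ℕ, orderOf g = p ^ k} =
      Fintype.card F ^ (2 * (D.nroots / 2)) := by
  classical
  haveI := Fintype.ofFinite (D.group F)
  haveI := Fintype.ofFinite (bn (F := F) hC).S
  obtain ⟨U, hU⟩ : ∃ U, U = (D.posUnipotent F).subgroupOf (D.group F) := ⟨_, rfl⟩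
  have hUB : U ≤ (bn (F := F) hC).B := by
    rw [hU]; exact fun x hx => Subgroup.mem_subgroupOf.2 (Subgroup.mem_sup_left hx)
  obtain ⟨P, hP⟩ := Cfsg.Agent.SimpleFacts.ChevalleySylow.exists_sylow (F := F) p D hD
  rw [← hU] at hP
  have hUp : IsPGroup p U := hP ▸ P.isPGroup'
  have hconj : ∀ (J : Finset (bn (F := F) hC).S), ∀ g ∈ par (J : Set (bn (F := F) hC).S),
      (∃ k : ℕ, orderOf g = p ^ k) →
        ∃ x ∈ par (J : Set (bn (F := F) hC).S), x * g * x⁻¹ ∈ U := by
    rintro J g hg ⟨k, hk⟩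
    have hPle : (P : Subgroup (D.group F)) ≤ par (J : Set (bn (F := F) hC).S) :=
      hP.trans_le (hUB.trans (B_le_parabolic _))
    have hz : IsPGroup p (Subgroup.zpowers (⟨g, hg⟩ : par (J : Set (bn (F := F) hC).S))) := by
      refine IsPGroup.of_card (n := k) ?_
      rw [Nat.card_zpowers, Subgroup.orderOf_mk, hk]
    obtain ⟨Q, hQ⟩ := hz.exists_le_sylow
    obtain ⟨x, hx⟩ := MulAction.exists_smul_eq (par (J : Set (bn (F := F) hC).S)) Q (P.subtype hPle)
    refine ⟨x, x.2, ?_⟩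
    have h1 : x * ⟨g, hg⟩ * x⁻¹ ∈ (P.subtype hPle : Subgroup (par (J : Set (bn (F := F) hC).S))) := by
      rw [← hx, Sylow.coe_subgroup_smul]
      exact Subgroup.smul_mem_pointwise_smul _ _ _ (hQ (Subgroup.mem_zpowers _))
    rw [Sylow.coe_subtype, Subgroup.mem_subgroupOf, hP] at h1
    exact h1
  obtain ⟨t, ht⟩ := exists_topIn (P := bn (F := F) hC) ((Finset.univ : Finset (bn (F := F) hC).S) : Set _)
  have h := card_pel (P := bn (F := F) hC) p U (radG hC) hUB hUp hconj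
    (fun J x hx => by rw [hU]; exact Subgroup.mem_subgroupOf.2 (radical_le_U hC hN _ hx))
    (fun J x hx r hr => (Subgroup.mem_normalizer_iff.1 (Cfsg.Agent.Chevalley.Parabolic.normalizes hC hN _
      (mem_parabolic hC hx)) _).1 hr)
    (fun J t ht => hU ▸ (val_and_card hC hN J t ht).1)
    (fun J t ht u hu => (val_and_card hC hN J t ht).2 u (hU ▸ hu))
    Finset.univ t ht
  have hrad : radG (F := F) hC Finset.univ = ⊥ := by
    have e : D.unipotentRadical F
        (idxSet hC ((Finset.univ : Finset (bn (F := F) hC).S) : Set (bn (F := F) hC).S)) = ⊥ := by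
      rw [ChevalleyDatum.unipotentRadical, eq_bot_iff, Subgroup.closure_le]
      rintro g ⟨r, c, hr, hJ, -⟩
      exact absurd ⟨hr.1, fun i hi hiJ => absurd ⟨hi, Finset.mem_coe.2 (Finset.mem_univ _)⟩ hiJ⟩ hJ
    rw [radG, e, Subgroup.bot_subgroupOf]
  have hcard := (val_and_card hC hN Finset.univ t ht).1
  rw [hrad, Subgroup.card_bot, one_mul, ← hU] at hcard
  rw [hcard] at h
  have hpar : par ((Finset.univ : Finset (bn (F := F) hC).S) : Set (bn (F := F) hC).S) = ⊤ := by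
    rw [par, Finset.coe_univ, Set.image_univ, Subtype.range_coe, parabolic_S]
  have e1 : Nat.card (pel p ((Finset.univ : Finset (bn (F := F) hC).S) : Set (bn (F := F) hC).S)) =
      Nat.card {g : D.group F // ∃ k : ℕ, orderOf g = p ^ k} :=
    Nat.card_congr (Equiv.subtypeEquivRight fun g => by rw [hpar]; exact ⟨fun h => h.2, fun h => ⟨Subgroup.mem_top g, h⟩⟩)
  have hUc : Nat.card U = Fintype.card F ^ (D.nroots / 2) := by
    rw [hU, Nat.card_congr (Subgroup.subgroupOfEquivOfLe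
      ((le_sup_left).trans (U_sup_V hC).le)).toEquiv, Cfsg.Agent.Chevalley.Count.card_U hC,
      Cfsg.Agent.Chevalley.Count.card_posRoots hC, Nat.card_eq_fintype_card]
  rw [← e1, h, hUc, ← pow_add, two_mul]

end Cfsg.Agent.SimpleFacts.ChevalleyUnipotentCount
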