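import Cfsg.Agent.SimpleFacts.BNSteinbergValue
import Cfsg.Agent.SimpleFacts.ChevalleyUnipotentCount
import Cfsg.Agent.SimpleFacts.ChevalleySteinbergUse
import Cfsg.Agent.Lib.Characters.Integrality
import Cfsg.Agent.Lib.Chevalley.Types.CoefAll

/-!
The Steinberg character of a finite Chevalley group at elements of order prime to `p`.
-/

set_option autoImplicit false
set_option linter.style.haveILetI false

open scoped Matrix

namespace Cfsg.Agent.SimpleFacts.ChevalleySteinbergValue

open Cfsg.Lie Cfsg.Agent.Chevalley.Table Cfsg.Agent.Chevalley.Cert Cfsg.Agent.Chevalley.Group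
  Cfsg.Agent.Chevalley.Unip Cfsg.Agent.Chevalley.Borel Cfsg.Agent.Chevalley.Weyl
  Cfsg.Agent.Chevalley.Bruhat Cfsg.Agent.BN.Basic Cfsg.Agent.BN.Parabolic
  Cfsg.Agent.SimpleFacts.BNReps Cfsg.Agent.SimpleFacts.BNSteinberg
  Cfsg.Agent.SimpleFacts.BNUnipotentCount Cfsg.Agent.SimpleFacts.ChevalleySteinberg
  Cfsg.Agent.SimpleFacts.ChevalleyUnipotentCount Cfsg.Agent.Chevalley.Coef

variable {D : ChevalleyDatum} {T : Tab} {F : Type*} [Field F] (hC : Certified D T)
  {N : List (List ℤ)} (hN : coefChk T N = true)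

include hC in
theorem idxSet_univ (r : ℕ) (hr : D.IsPosRoot r) :
    D.InRootSub (idxSet (F := F) hC (Set.univ : Set (bn (F := F) hC).S)) r :=
  ⟨hr.1, fun i hi hiJ => absurd (⟨hi, trivial⟩ : i ∈ idxSet (F := F) hC Set.univ) hiJ⟩

include hC in
theorem radical_univ :
    D.unipotentRadical F (idxSet (F := F) hC (Set.univ : Set (bn (F := F) hC).S)) = ⊥ := by
  rw [ChevalleyDatum.unipotentRadical, eq_bot_iff, Subgroup.closure_le]
  rintro g ⟨r, c, hr, hJ, -⟩
  exact absurd (idxSet_univ hC r hr) hJ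

include hC hN in
/-- The opposite of `B` meets `U` trivially. -/
theorem opposite (t₀ : W (bn (F := F) hC)) (ht₀ : IsTop t₀) :
    ∃ n, ∃ hn : n ∈ (bn (F := F) hC).N, mkW hn = t₀ ∧
      ∀ r ∈ (D.posUnipotent F).subgroupOf (D.group F),
        n⁻¹ * r * n ∈ (bn (F := F) hC).B → r = 1 := by
  have ht : IsTopIn (Set.univ : Set (bn (F := F) hC).S) t₀ :=
    ⟨⟨_, fun _ _ => trivial, (exists_reduced t₀).choose_spec.2⟩, fun s _ => ht₀ s⟩
  obtain ⟨L, hL, hLJ, rfl⟩ := exists_word hC ht.1
  refine ⟨nG hC L hL, nG_mem hC L hL, rfl, fun r hr h => ?_⟩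
  have hrU : (r : GL D.Idx F) ∈ D.posUnipotent F := hr
  obtain ⟨r', hr', h', hh', e⟩ :=
    (stab_eq hC hN L hL hLJ ht (Subgroup.mem_sup_left hrU)).1 h
  rw [radical_univ hC, Subgroup.mem_bot] at hr'
  rw [hr', one_mul] at e
  have h1 : (r : GL D.Idx F) ∈ (⊥ : Subgroup (GL D.Idx F)) := by
    rw [← U_inf_H hC]
    exact Subgroup.mem_inf.2 ⟨hrU, e ▸ hh'⟩
  exact Subtype.ext (Subgroup.mem_bot.1 h1)

include hC hN in
/-- The Steinberg character at a `p'`-element is, up to sign, a `p`-power dividing the order of the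
centralizer. -/
theorem exists_value [Fintype F] (p : ℕ) [Fact p.Prime] [CharP F p]
    (hD : D ∈ [chevG2, chevB2, chevD4, chevF4, chevE6, chevE7, chevE8]) (g : D.group F)
    (hg : ¬ p ∣ orderOf g) :
    ∃ (e j : ℕ), p ^ e ∣ Nat.card (Subgroup.centralizer ({g} : Set (D.group F))) ∧
      D.steinbergCharacter F g = (-1) ^ j * ((p ^ e : ℕ) : ℂ) := by
  classical
  haveI := Fintype.ofFinite (D.group F)
  haveI := Fintype.ofFinite (bn (F := F) hC).S
  have hP := ChevalleySylow.exists_sylow (F := F) p D hD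
  obtain ⟨P, hP⟩ := hP
  have hst := steinberg_eq (F := F) hC
  have hvan : ∀ x : D.group F, p ∣ orderOf x → stein (bn (F := F) hC) x = 0 := fun x hx => by
    rw [← congrFun hst x]; exact ChevalleySteinbergUse.vanishes p D hD x hx
  -- a minimal parabolic subgroup
  let S : Finset (Finset (bn (F := F) hC).S) := Finset.univ.filter fun J : Finset (bn (F := F) hC).S =>
    ∃ x : D.group F, x * g * x⁻¹ ∈ par (J : Set (bn (F := F) hC).S)
  have hne : S.Nonempty := by
    refine ⟨Finset.univ, Finset.mem_filter.2 ⟨Finset.mem_univ _, 1, ?_⟩⟩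
    rw [par, Finset.coe_univ, Set.image_univ, Subtype.range_coe, parabolic_S]
    exact Subgroup.mem_top _
  obtain ⟨J, hJ, hJmin⟩ := Finset.exists_min_image S Finset.card hne
  obtain ⟨x, hx⟩ := (Finset.mem_filter.1 hJ).2
  obtain ⟨g', hg'⟩ : ∃ g', g' = x * g * x⁻¹ := ⟨_, rfl⟩
  have hgp' : ¬ p ∣ orderOf g' := by rw [hg', orderOf_conj]; exact hg
  have hmin : ∀ J' : Finset (bn (F := F) hC).S, J' ⊂ J → ∀ y : D.group F,
      y * g' * y⁻¹ ∉ par (J' : Set (bn (F := F) hC).S) := by
    intro J' hJ' y hy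
    refine (Finset.card_lt_card hJ').not_ge (hJmin J' (Finset.mem_filter.2 ⟨Finset.mem_univ _, y * x, ?_⟩))
    rw [show y * x * g * (y * x)⁻¹ = y * g' * y⁻¹ by rw [hg']; group]
    exact hy
  -- the radical
  obtain ⟨R, hR⟩ : ∃ R, R = radG (F := F) hC J := ⟨_, rfl⟩
  have hRU : R ≤ (D.posUnipotent F).subgroupOf (D.group F) := fun r hr => by
    rw [hR] at hr
    exact Subgroup.mem_subgroupOf.2 (radical_le_U hC hN _ hr)
  have hRp : IsPGroup p R := by
    rw [← hP] at hRU
    exact P.isPGroup'.to_le hRU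
  have hcard : ∀ tJ t₀ : W (bn (F := F) hC), IsTopIn (J : Set (bn (F := F) hC).S) tJ → IsTop t₀ →
      Nat.card R * cf (bn (F := F) hC) 1 tJ = cf (bn (F := F) hC) 1 t₀ := by
    intro tJ t₀ htJ ht₀
    have ht : IsTopIn ((Finset.univ : Finset (bn (F := F) hC).S) : Set (bn (F := F) hC).S) t₀ := by
      rw [Finset.coe_univ]
      exact ⟨⟨_, fun _ _ => trivial, (exists_reduced t₀).choose_spec.2⟩, fun s _ => ht₀ s⟩
    have h1 := (val_and_card hC hN Finset.univ t₀ ht).1
    have hrad : radG (F := F) hC Finset.univ = ⊥ := by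
      rw [radG, Finset.coe_univ, radical_univ hC, Subgroup.bot_subgroupOf]
    rw [hrad, Subgroup.card_bot, one_mul] at h1
    rw [hR, (val_and_card hC hN J tJ htJ).1, h1]
  have hval := BNSteinbergValue.value (P := bn (F := F) hC) (p := p) (top_unique hC) J g' (hg' ▸ hx) hmin
    R (fun r hr => Subgroup.mem_subgroupOf.2 (Subgroup.mem_sup_left (hRU hr))) hRp hgp'
    (fun y hy r hr => by
      rw [hR] at hr ⊢
      exact (Subgroup.mem_normalizer_iff.1 (Cfsg.Agent.Chevalley.Parabolic.normalizes hC hN _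
        (mem_parabolic hC hy)) _).1 hr)
    hcard
    (fun t₀ ht₀ => by
      obtain ⟨n, hn, e, h⟩ := opposite hC hN t₀ ht₀
      exact ⟨n, hn, e, fun r hr => h r (hRU hr)⟩)
    hvan
  obtain ⟨e, he⟩ := (hRp.to_le (inf_le_left : R ⊓ Subgroup.centralizer ({g'} : Set (D.group F)) ≤ R)).exists_card_eq
  refine ⟨e, J.card, ?_, ?_⟩
  · rw [← he]
    have h1 : Nat.card (Subgroup.centralizer ({g'} : Set (D.group F))) =
        Nat.card (Subgroup.centralizer ({g} : Set (D.group F))) := by
      refine Nat.card_congr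
        { toFun := fun c => ⟨x⁻¹ * c.1 * x, ?_⟩
          invFun := fun c => ⟨x * c.1 * x⁻¹, ?_⟩
          left_inv := fun c => Subtype.ext (by group)
          right_inv := fun c => Subtype.ext (by group) }
      · have h2 := Subgroup.mem_centralizer_singleton_iff.1 c.2
        rw [Subgroup.mem_centralizer_singleton_iff,
          show g = x⁻¹ * g' * x by rw [hg']; group]
        calc x⁻¹ * (c : D.group F) * x * (x⁻¹ * g' * x) = x⁻¹ * ((c : D.group F) * g') * x := by group
          _ = _ := by rw [h2]; group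
      · have h2 := Subgroup.mem_centralizer_singleton_iff.1 c.2
        rw [Subgroup.mem_centralizer_singleton_iff, hg']
        calc x * (c : D.group F) * x⁻¹ * (x * g * x⁻¹) = x * ((c : D.group F) * g) * x⁻¹ := by group
          _ = _ := by rw [h2]; group
    rw [← h1]
    exact Subgroup.card_dvd_of_le inf_le_right
  · have hconj : stein (bn (F := F) hC) g' = stein (bn (F := F) hC) g := by
      rw [hg', BNSteinbergValue.stein_conj]
    rw [congrFun hst g, ← hconj, hval, he]

/-- **The values of the Steinberg character at elements of order prime to `p`.** -/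
theorem value_semisimple [Fintype F] (p : ℕ) [Fact p.Prime] [CharP F p] (D : ChevalleyDatum)
    (hD : D ∈ [chevG2, chevB2, chevD4, chevF4, chevE6, chevE7, chevE8]) (g : D.group F)
    (hg : ¬ p ∣ orderOf g) :
    D.steinbergCharacter F g =
        ((p ^ (Nat.card (Subgroup.centralizer ({g} : Set (D.group F)))).factorization p : ℕ) : ℂ) ∨
      D.steinbergCharacter F g =
        -((p ^ (Nat.card (Subgroup.centralizer ({g} : Set (D.group F)))).factorization p : ℕ) : ℂ) := by
  classical
  haveI := Fintype.ofFinite (D.group F)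
  have hp : p.Prime := Fact.out
  obtain ⟨T, N, hC, hN⟩ := Cfsg.Agent.Chevalley.Types.CoefAll.exists_certified hD
  obtain ⟨e, j, hdvd, hval⟩ := exists_value hC hN p hD g hg
  obtain ⟨C, hCdef⟩ : ∃ C, C = Subgroup.centralizer ({g} : Set (D.group F)) := ⟨_, rfl⟩
  rw [← hCdef] at hdvd ⊢
  -- integrality of the class sum
  obtain ⟨n, ρ, hρ, hρχ⟩ := ChevalleySteinbergUse.isIrr (F := F) D hD
  haveI := hρ
  have hint := Cfsg.Agent.Characters.class_central_char_isIntegral ρ g
  rw [← hCdef, ← ρ.char_one, hρχ, hval, ChevalleySteinbergUse.degree D hD] at hint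
  have hint' : IsIntegral ℤ (((C.index * p ^ e : ℕ) : ℂ) /
      ((Fintype.card F ^ (D.nroots / 2) : ℕ) : ℂ)) := by
    rcases neg_one_pow_eq_or ℂ j with h | h
    · rw [h, one_mul] at hint; rw [Nat.cast_mul]; exact hint
    · rw [h, neg_one_mul, mul_neg, neg_div] at hint
      rw [Nat.cast_mul]
      simpa using hint.neg
  have hd := Cfsg.Agent.Characters.dvd_of_isIntegral_div (pow_ne_zero _ Fintype.card_ne_zero) hint'
  obtain ⟨P, hP⟩ := ChevalleySylow.exists_sylow (F := F) p D hD
  have hsyl : Fintype.card F ^ (D.nroots / 2) = p ^ (Nat.card (D.group F)).factorization p := by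
    rw [← P.card_eq_multiplicity, hP, Nat.card_congr (Subgroup.subgroupOfEquivOfLe
      ((le_sup_left).trans (U_sup_V hC).le)).toEquiv, Cfsg.Agent.Chevalley.Count.card_U hC,
      Cfsg.Agent.Chevalley.Count.card_posRoots hC, Nat.card_eq_fintype_card]
  have hidx : C.index ≠ 0 := Subgroup.index_ne_zero_of_finite
  have hC0 : Nat.card C ≠ 0 := Nat.card_pos.ne'
  rw [hsyl, hp.pow_dvd_iff_le_factorization (mul_ne_zero hidx (pow_ne_zero _ hp.ne_zero)),
    Nat.factorization_mul hidx (pow_ne_zero _ hp.ne_zero), ← C.index_mul_card,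
    Nat.factorization_mul hidx hC0] at hd
  simp only [Finsupp.coe_add, Pi.add_apply, Nat.factorization_pow, Finsupp.coe_smul, Pi.smul_apply,
    hp.factorization_self, smul_eq_mul, mul_one] at hd
  rw [hp.pow_dvd_iff_le_factorization hC0] at hdvd
  have he : e = (Nat.card C).factorization p := by omega
  rw [← he]
  rcases neg_one_pow_eq_or ℂ j with h | h
  · left; rw [hval, h, one_mul]
  · right; rw [hval, h, neg_one_mul]

end Cfsg.Agent.SimpleFacts.ChevalleySteinbergValue
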