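import Mathlib

/-!
Fine and Herstein: there are `q ^ (n * (n - 1))` nilpotent matrices of size `n` over the field with `q`
elements, by Fitting's decomposition.
-/

set_option autoImplicit false
set_option linter.style.haveILetI false
set_option linter.unusedSectionVars false
set_option maxHeartbeats 400000

namespace Cfsg.Agent.SimpleFacts.NilpotentCount

open Matrix Polynomial

variable {F : Type*} [Field F]

/-- A block diagonal matrix on `Fin (k + l)`. -/
def bd {k l : ℕ} (N : Matrix (Fin k) (Fin k) F) (A : Matrix (Fin l) (Fin l) F) :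
    Matrix (Fin (k + l)) (Fin (k + l)) F :=
  Matrix.reindexAlgEquiv F F finSumFinEquiv (fromBlocks N 0 0 A)

theorem bd_mul {k l : ℕ} (N N' : Matrix (Fin k) (Fin k) F) (A A' : Matrix (Fin l) (Fin l) F) :
    bd N A * bd N' A' = bd (N * N') (A * A') := by
  rw [bd, bd, bd, ← map_mul, fromBlocks_multiply]
  simp

theorem bd_one {k l : ℕ} : bd (1 : Matrix (Fin k) (Fin k) F) (1 : Matrix (Fin l) (Fin l) F) = 1 := by
  rw [bd, fromBlocks_one, map_one]

theorem charpoly_bd {k l : ℕ} {N : Matrix (Fin k) (Fin k) F} (hN : IsNilpotent N)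
    (A : Matrix (Fin l) (Fin l) F) : (bd N A).charpoly = X ^ k * A.charpoly := by
  rw [bd, Matrix.coe_reindexAlgEquiv, charpoly_reindex, charpoly_fromBlocks_zero₁₂]
  congr 1
  have h := (Matrix.isNilpotent_charpoly_sub_pow_of_isNilpotent hN).eq_zero
  rwa [sub_eq_zero, Fintype.card_fin] at h

/-- The multiplicity of the eigenvalue zero. -/
noncomputable def zdim {n : ℕ} (T : Matrix (Fin n) (Fin n) F) : ℕ := T.charpoly.natTrailingDegree

theorem zdim_le {n : ℕ} (T : Matrix (Fin n) (Fin n) F) : zdim T ≤ n := by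
  refine (natTrailingDegree_le_natDegree _).trans ?_
  rw [charpoly_natDegree_eq_dim, Fintype.card_fin]

theorem zdim_bd {k l : ℕ} {N : Matrix (Fin k) (Fin k) F} (hN : IsNilpotent N)
    {A : Matrix (Fin l) (Fin l) F} (hA : IsUnit A) : zdim (bd N A) = k := by
  have h0 : A.charpoly.coeff 0 ≠ 0 := fun h => ((isUnit_iff_isUnit_det A).1 hA).ne_zero (by
    rw [det_eq_sign_charpoly_coeff, h, mul_zero])
  rw [zdim, charpoly_bd hN, natTrailingDegree_mul (pow_ne_zero _ X_ne_zero) (charpoly_monic A).ne_zero,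
    natTrailingDegree_X_pow, natTrailingDegree_eq_zero.2 (Or.inr h0), add_zero]

theorem zdim_conj {n : ℕ} (g : GL (Fin n) F) (T : Matrix (Fin n) (Fin n) F) :
    zdim ((g : Matrix (Fin n) (Fin n) F) * T * ((g⁻¹ : GL (Fin n) F) : Matrix (Fin n) (Fin n) F))
      = zdim T := by
  rw [zdim, zdim, Matrix.coe_units_inv, charpoly_units_conj]

theorem exists_fitting {n : ℕ} (T : Matrix (Fin n) (Fin n) F) :
    ∃ (k l : ℕ) (h : k + l = n) (g : GL (Fin n) F) (N : Matrix (Fin k) (Fin k) F)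
      (A : Matrix (Fin l) (Fin l) F), IsNilpotent N ∧ IsUnit A ∧
        T = (g : Matrix (Fin n) (Fin n) F) * Matrix.reindexAlgEquiv F F (finCongr h) (bd N A) *
          ((g⁻¹ : GL (Fin n) F) : Matrix (Fin n) (Fin n) F) := by
  classical
  let f : Module.End F (Fin n → F) := Matrix.toLin' T
  obtain ⟨m, hm⟩ := Filter.eventually_atTop.1 f.eventually_isCompl_ker_pow_range_pow
  have hc := hm (m + 1) (Nat.le_succ m)
  set U := LinearMap.ker (f ^ (m + 1)) with hU
  set W := LinearMap.range (f ^ (m + 1)) with hW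
  have hfU : ∀ x ∈ U, f x ∈ U := fun x hx => by
    rw [hU, LinearMap.mem_ker, ← Module.End.mul_apply, ← pow_succ, pow_succ', Module.End.mul_apply,
      LinearMap.mem_ker.1 hx, map_zero]
  have hfW : ∀ x ∈ W, f x ∈ W := by
    rintro _ ⟨x, rfl⟩
    exact ⟨f x, by rw [← Module.End.mul_apply, ← pow_succ, pow_succ', Module.End.mul_apply]⟩
  let fU := f.restrict hfU
  let fW := f.restrict hfW
  have hNU : IsNilpotent fU := ⟨m + 1, LinearMap.ext fun x => Subtype.ext (by
    rw [Module.End.pow_restrict]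
    exact x.2)⟩
  have hWinj : Function.Injective fW := (injective_iff_map_eq_zero fW).2 fun x hx => by
    have h1 : f (x : Fin n → F) = 0 := congrArg Subtype.val hx
    have h2 : (x : Fin n → F) ∈ U := by
      rw [hU, LinearMap.mem_ker, pow_succ, Module.End.mul_apply, h1, map_zero]
    exact Subtype.ext ((Submodule.disjoint_def.1 hc.disjoint) _ h2 x.2)
  let bU := Module.finBasis F U
  let bW := Module.finBasis F W
  let e := Submodule.prodEquivOfIsCompl U W hc
  have hkl : Module.finrank F U + Module.finrank F W = n := by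
    rw [Submodule.finrank_add_eq_of_isCompl hc, Module.finrank_fin_fun]
  let b : Module.Basis (Fin n) F (Fin n → F) :=
    ((bU.prod bW).map e).reindex (finSumFinEquiv.trans (finCongr hkl))
  let g : GL (Fin n) F := ⟨(Pi.basisFun F (Fin n)).toMatrix b, b.toMatrix (Pi.basisFun F (Fin n)),
    Module.Basis.toMatrix_mul_toMatrix_flip _ _, Module.Basis.toMatrix_mul_toMatrix_flip _ _⟩
  refine ⟨_, _, hkl, g, LinearMap.toMatrix bU bU fU, LinearMap.toMatrix bW bW fW,
    hNU.map (LinearMap.toMatrixAlgEquiv bU), ?_, ?_⟩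
  · exact ((Module.End.isUnit_iff fW).2
      ⟨hWinj, LinearMap.surjective_of_injective hWinj⟩).map (LinearMap.toMatrixAlgEquiv bW)
  · have h1 : Matrix.reindexAlgEquiv F F (finCongr hkl)
        (bd (LinearMap.toMatrix bU bU fU) (LinearMap.toMatrix bW bW fW)) = LinearMap.toMatrix b b f := by
      rw [bd, ← LinearMap.toMatrix_prodMap, Matrix.coe_reindexAlgEquiv, Matrix.coe_reindexAlgEquiv]
      ext i j
      simp only [reindex_apply, submatrix_apply, LinearMap.toMatrix_apply, b,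
        Module.Basis.repr_reindex_apply, Module.Basis.reindex_apply, Module.Basis.map_apply,
        Module.Basis.map_repr, LinearEquiv.trans_apply, Equiv.symm_trans_apply]
      congr 1
      refine DFunLike.congr_arg _ ?_
      apply e.injective
      rw [LinearEquiv.apply_symm_apply, LinearMap.prodMap_apply, Submodule.coe_prodEquivOfIsCompl',
        Submodule.coe_prodEquivOfIsCompl', map_add]
      rfl
    show _ = (Pi.basisFun F (Fin n)).toMatrix b * _ * b.toMatrix (Pi.basisFun F (Fin n))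
    rw [h1, basis_toMatrix_mul_linearMap_toMatrix_mul_basis_toMatrix, LinearMap.toMatrix_eq_toMatrix']
    exact (LinearMap.toMatrix'_toLin' T).symm

variable [Fintype F]

/-- The nilpotent matrices. -/
abbrev Nil (F : Type*) [Field F] (n : ℕ) : Type _ := {M : Matrix (Fin n) (Fin n) F // IsNilpotent M}

/-- The matrices with a zero eigenvalue of multiplicity `k`. -/
abbrev Str (F : Type*) [Field F] (n k : ℕ) : Type _ := {T : Matrix (Fin n) (Fin n) F // zdim T = k}

theorem card_stratum (k l : ℕ) :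
    Nat.card (Str F (k + l) k) * Nat.card (GL (Fin k) F) =
      Nat.card (GL (Fin (k + l)) F) * Nat.card (Nil F k) := by
  classical
  let Φ : GL (Fin (k + l)) F × Nil F k × GL (Fin l) F → Str F (k + l) k := fun z =>
    ⟨(z.1 : Matrix (Fin (k + l)) (Fin (k + l)) F) * bd z.2.1.1 (z.2.2 : Matrix (Fin l) (Fin l) F) *
      ((z.1⁻¹ : GL (Fin (k + l)) F) : Matrix (Fin (k + l)) (Fin (k + l)) F),
      Eq.trans (zdim_conj z.1 (bd z.2.1.1 (z.2.2 : Matrix (Fin l) (Fin l) F)))
        (zdim_bd (A := (z.2.2 : Matrix (Fin l) (Fin l) F)) z.2.1.2 z.2.2.isUnit)⟩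
  have hΦ : Function.Surjective Φ := by
    rintro ⟨T, hT⟩
    obtain ⟨k', l', h, g, N, A, hN, hA, hTe⟩ := exists_fitting T
    refine Exists.imp (fun z (hz : (Φ z).1 = T) => Subtype.ext hz) ?_
    obtain rfl : k = k' := by
      rw [← hT, hTe, zdim_conj]
      have : zdim (Matrix.reindexAlgEquiv F F (finCongr h) (bd N A)) = zdim (bd N A) := by
        rw [zdim, zdim, Matrix.coe_reindexAlgEquiv, charpoly_reindex]
      rw [this, zdim_bd hN hA]
    obtain rfl : l = l' := by omega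
    refine ⟨(g, ⟨N, hN⟩, hA.unit), ?_⟩
    rw [hTe, finCongr_refl, Matrix.coe_reindexAlgEquiv, reindex_refl_refl]
    rfl
  choose r hr using hΦ
  have key : ∀ {z z' : GL (Fin (k + l)) F × Nil F k × GL (Fin l) F}, Φ z = Φ z' →
      ∃ (x : GL (Fin k) F) (y : GL (Fin l) F),
        (z'.1 : Matrix (Fin (k + l)) (Fin (k + l)) F) = (z.1 : Matrix (Fin (k + l)) (Fin (k + l)) F) * bd (x : Matrix (Fin k) (Fin k) F) (y : Matrix (Fin l) (Fin l) F) ∧
        z'.2.1.1 = ((x⁻¹ : GL (Fin k) F) : Matrix (Fin k) (Fin k) F) * z.2.1.1 * (x : Matrix (Fin k) (Fin k) F) ∧ z'.2.2 = y⁻¹ * z.2.2 * y := by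
    rintro ⟨g, ⟨N, hN⟩, A⟩ ⟨g', ⟨N', hN'⟩, A'⟩ he
    have he' : (g : Matrix (Fin (k + l)) (Fin (k + l)) F) * bd N (A : Matrix (Fin l) (Fin l) F) * ((g⁻¹ : GL (Fin (k + l)) F) : Matrix (Fin (k + l)) (Fin (k + l)) F) =
        (g' : Matrix (Fin (k + l)) (Fin (k + l)) F) * bd N' (A' : Matrix (Fin l) (Fin l) F) * ((g'⁻¹ : GL (Fin (k + l)) F) : Matrix (Fin (k + l)) (Fin (k + l)) F) :=
      congrArg Subtype.val he
    obtain ⟨h, hh⟩ : ∃ h, h = g⁻¹ * g' := ⟨_, rfl⟩
    have hg' : g' = g * h := by rw [hh, mul_inv_cancel_left]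
    have hcomm : bd N (A : Matrix (Fin l) (Fin l) F) * (h : Matrix (Fin (k + l)) (Fin (k + l)) F) =
        (h : Matrix (Fin (k + l)) (Fin (k + l)) F) * bd N' (A' : Matrix (Fin l) (Fin l) F) := by
      have := congrArg (fun M => ((g⁻¹ : GL (Fin (k + l)) F) : Matrix (Fin (k + l)) (Fin (k + l)) F) * M * (g' : Matrix (Fin (k + l)) (Fin (k + l)) F)) he'
      simpa [hh, mul_assoc] using this
    obtain ⟨M, hM⟩ : ∃ M, (h : Matrix (Fin (k + l)) (Fin (k + l)) F) = Matrix.reindexAlgEquiv F F finSumFinEquiv M :=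
      ⟨_, ((Matrix.reindexAlgEquiv F F finSumFinEquiv).apply_symm_apply _).symm⟩
    obtain ⟨a, b, c, d, rfl⟩ : ∃ a b c d, M = fromBlocks a b c d :=
      ⟨_, _, _, _, (fromBlocks_toBlocks M).symm⟩
    rw [hM, bd, bd, ← map_mul, ← map_mul, fromBlocks_multiply, fromBlocks_multiply] at hcomm
    have hcomm' := (Matrix.reindexAlgEquiv F F finSumFinEquiv).injective hcomm
    rw [fromBlocks_inj] at hcomm'
    simp only [Matrix.zero_mul, Matrix.mul_zero, add_zero, zero_add] at hcomm'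
    obtain ⟨ha, hb, hc, hd⟩ := hcomm'
    have hb0 : b = 0 := by
      have hb' : ∀ j : ℕ, N ^ j * b = b * ((A' : Matrix (Fin l) (Fin l) F) ^ j) := fun j => by
        induction j with
        | zero => simp
        | succ j ih => rw [pow_succ, pow_succ, Matrix.mul_assoc, hb, ← Matrix.mul_assoc, ih,
            Matrix.mul_assoc]
      obtain ⟨j, hj⟩ := hN
      have h1 := hb' j
      rw [hj, Matrix.zero_mul, ← Units.val_pow_eq_pow_val] at h1
      simpa [Matrix.mul_assoc] using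
        (congrArg (fun Z => Z * (((A' ^ j)⁻¹ : GL (Fin l) F) : Matrix (Fin l) (Fin l) F)) h1).symm
    have hc0 : c = 0 := by
      have hc' : ∀ j : ℕ, (A : Matrix (Fin l) (Fin l) F) ^ j * c = c * N' ^ j := fun j => by
        induction j with
        | zero => simp
        | succ j ih => rw [pow_succ, pow_succ, Matrix.mul_assoc, hc, ← Matrix.mul_assoc, ih,
            Matrix.mul_assoc]
      obtain ⟨j, hj⟩ := hN'
      have h1 := hc' j
      rw [hj, Matrix.mul_zero, ← Units.val_pow_eq_pow_val] at h1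
      simpa [← Matrix.mul_assoc] using
        congrArg (fun Z => (((A ^ j)⁻¹ : GL (Fin l) F) : Matrix (Fin l) (Fin l) F) * Z) h1
    subst hb0 hc0
    have hu : IsUnit a ∧ IsUnit d := by
      have h1 : IsUnit (fromBlocks a 0 0 d).det := by
        rw [← det_reindexAlgEquiv F F finSumFinEquiv (fromBlocks a 0 0 d), ← hM]
        exact (isUnit_iff_isUnit_det _).1 h.isUnit
      rw [det_fromBlocks_zero₁₂, IsUnit.mul_iff] at h1
      exact ⟨(isUnit_iff_isUnit_det a).2 h1.1, (isUnit_iff_isUnit_det d).2 h1.2⟩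
    obtain ⟨⟨x, rfl⟩, ⟨y, rfl⟩⟩ := hu
    refine ⟨x, y, by rw [hg', Units.val_mul, hM]; rfl, ?_, Units.ext ?_⟩
    · show N' = _
      rw [Matrix.mul_assoc, ha, ← Matrix.mul_assoc, Units.inv_mul, Matrix.one_mul]
    · show (A' : Matrix (Fin l) (Fin l) F) = _
      rw [Units.val_mul, Units.val_mul, Matrix.mul_assoc, hd, ← Matrix.mul_assoc, Units.inv_mul,
        Matrix.one_mul]
  let u : GL (Fin k) F × GL (Fin l) F → GL (Fin (k + l)) F := fun z =>
    ⟨bd (z.1 : Matrix (Fin k) (Fin k) F) (z.2 : Matrix (Fin l) (Fin l) F),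
      bd ((z.1⁻¹ : GL (Fin k) F) : Matrix (Fin k) (Fin k) F) ((z.2⁻¹ : GL (Fin l) F) : Matrix (Fin l) (Fin l) F),
      by rw [bd_mul, Units.mul_inv, Units.mul_inv, bd_one],
      by rw [bd_mul, Units.inv_mul, Units.inv_mul, bd_one]⟩
  let Ψ : Str F (k + l) k × (GL (Fin k) F × GL (Fin l) F) →
      GL (Fin (k + l)) F × Nil F k × GL (Fin l) F := fun z =>
    ((r z.1).1 * u z.2,
      ⟨⟨((z.2.1⁻¹ : GL (Fin k) F) : Matrix (Fin k) (Fin k) F) * (r z.1).2.1.1 * (z.2.1 : Matrix (Fin k) (Fin k) F), by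
          obtain ⟨j, hj⟩ := (r z.1).2.1.2
          exact ⟨j, by rw [Units.conj_pow', hj, Matrix.mul_zero, Matrix.zero_mul]⟩⟩,
        z.2.2⁻¹ * (r z.1).2.2 * z.2.2⟩)
  have hΨΦ : ∀ z, Φ (Ψ z) = z.1 := fun z => by
    conv_rhs => rw [← hr z.1]
    refine Subtype.ext ?_
    show (((r z.1).1 * u z.2 : GL (Fin (k + l)) F) : Matrix (Fin (k + l)) (Fin (k + l)) F) *
        bd (((z.2.1⁻¹ : GL (Fin k) F) : Matrix (Fin k) (Fin k) F) * (r z.1).2.1.1 * (z.2.1 : Matrix (Fin k) (Fin k) F))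
          ((z.2.2⁻¹ * (r z.1).2.2 * z.2.2 : GL (Fin l) F) : Matrix (Fin l) (Fin l) F) *
        ((((r z.1).1 * u z.2)⁻¹ : GL (Fin (k + l)) F) : Matrix (Fin (k + l)) (Fin (k + l)) F) =
      ((r z.1).1 : Matrix (Fin (k + l)) (Fin (k + l)) F) * bd (r z.1).2.1.1 ((r z.1).2.2 : Matrix (Fin l) (Fin l) F) *
        (((r z.1).1⁻¹ : GL (Fin (k + l)) F) : Matrix (Fin (k + l)) (Fin (k + l)) F)
    have hub : (u z.2 : Matrix (Fin (k + l)) (Fin (k + l)) F) = bd (z.2.1 : Matrix (Fin k) (Fin k) F) (z.2.2 : Matrix (Fin l) (Fin l) F) := rfl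
    have hui : (((u z.2)⁻¹ : GL (Fin (k + l)) F) : Matrix (Fin (k + l)) (Fin (k + l)) F) =
        bd ((z.2.1⁻¹ : GL (Fin k) F) : Matrix (Fin k) (Fin k) F) ((z.2.2⁻¹ : GL (Fin l) F) : Matrix (Fin l) (Fin l) F) := rfl
    rw [_root_.mul_inv_rev, Units.val_mul, Units.val_mul, Units.val_mul, Units.val_mul, hub, hui]
    simp only [Matrix.mul_assoc]
    congr 1
    rw [← Matrix.mul_assoc, bd_mul, ← Matrix.mul_assoc (bd _ _) (bd _ _), bd_mul]
    simp [← Matrix.mul_assoc]
  have hbij : Function.Bijective Ψ := by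
    constructor
    · intro z z' e
      have h1 : z.1 = z'.1 := by rw [← hΨΦ z, ← hΨΦ z', e]
      obtain ⟨T, x, y⟩ := z
      obtain ⟨T', x', y'⟩ := z'
      obtain rfl : T = T' := h1
      have h2 : (u (x, y) : Matrix (Fin (k + l)) (Fin (k + l)) F) = (u (x', y') : Matrix (Fin (k + l)) (Fin (k + l)) F) :=
        congrArg Units.val (mul_left_cancel (congrArg Prod.fst e))
      have h3 := fromBlocks_inj.1 ((Matrix.reindexAlgEquiv F F finSumFinEquiv).injective h2)
      exact Prod.ext rfl (Prod.ext (Units.ext h3.1) (Units.ext h3.2.2.2))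
    · intro w
      obtain ⟨x, y, h1, h2, h3⟩ := key (hr (Φ w))
      exact ⟨(Φ w, (x, y)), Prod.ext (Units.ext h1.symm) (Prod.ext (Subtype.ext h2.symm) h3.symm)⟩
  have h := Nat.card_congr (Equiv.ofBijective Ψ hbij)
  rw [Nat.card_prod, Nat.card_prod, Nat.card_prod, Nat.card_prod] at h
  refine Nat.eq_of_mul_eq_mul_right (Nat.card_pos (α := GL (Fin l) F)) ?_
  rw [mul_assoc, h, mul_assoc]

theorem card_GL_succ (n : ℕ) : Nat.card (GL (Fin (n + 1)) F) =
    (Fintype.card F ^ (n + 1) - 1) * Fintype.card F ^ n * Nat.card (GL (Fin n) F) := by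
  rw [Matrix.card_GL_field, Matrix.card_GL_field, Fin.prod_univ_succ, Fin.val_zero, pow_zero, mul_assoc]
  congr 1
  calc (∏ i : Fin n, (Fintype.card F ^ (n + 1) - Fintype.card F ^ ((i.succ : Fin (n + 1)) : ℕ)))
      = ∏ i : Fin n, Fintype.card F * (Fintype.card F ^ n - Fintype.card F ^ (i : ℕ)) :=
        Finset.prod_congr rfl fun i _ => by rw [Fin.val_succ, Nat.mul_sub, pow_succ', pow_succ']
    _ = _ := by rw [Finset.prod_mul_distrib, Finset.prod_const, Finset.card_univ, Fintype.card_fin]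

theorem card_nilpotent (n : ℕ) :
    Nat.card (Nil F n) = Fintype.card F ^ (n * (n - 1)) := by
  classical
  obtain ⟨q, hq⟩ : ∃ q, q = Fintype.card F := ⟨_, rfl⟩
  rw [← hq]
  have hsum : ∀ m : ℕ, (∑ k ∈ Finset.range (m + 1),
      (Nat.card (Nil F k) : ℚ) / Nat.card (GL (Fin k) F)) = (q : ℚ) ^ (m * m) / Nat.card (GL (Fin m) F) := by
    intro m
    have hk : ∀ k ∈ Finset.range (m + 1), (Nat.card (Str F m k) : ℚ) =
        Nat.card (GL (Fin m) F) * ((Nat.card (Nil F k) : ℚ) / Nat.card (GL (Fin k) F)) := by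
      intro k hk
      obtain ⟨l, rfl⟩ := Nat.exists_eq_add_of_le (Nat.lt_succ_iff.1 (Finset.mem_range.1 hk))
      rw [mul_div_assoc', eq_div_iff (Nat.cast_ne_zero.2 Nat.card_pos.ne')]
      exact_mod_cast card_stratum k l
    have htot : Nat.card (Matrix (Fin m) (Fin m) F) =
        ∑ k ∈ Finset.range (m + 1), Nat.card (Str F m k) := by
      rw [Nat.card_eq_fintype_card, ← Finset.card_univ,
        Finset.card_eq_sum_card_fiberwise (f := zdim) (t := Finset.range (m + 1))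
          (fun T _ => Finset.mem_coe.2 (Finset.mem_range.2 (Nat.lt_succ_iff.2 (zdim_le T))))]
      exact Finset.sum_congr rfl fun k _ => (Nat.subtype_card _ (by simp)).symm
    have hM : Nat.card (Matrix (Fin m) (Fin m) F) = q ^ (m * m) := by
      unfold Matrix
      simp [Nat.card_eq_fintype_card, hq, pow_mul]
    rw [eq_div_iff (Nat.cast_ne_zero.2 Nat.card_pos.ne'), Finset.sum_mul, ← Nat.cast_pow, ← hM, htot,
      Nat.cast_sum]
    exact Finset.sum_congr rfl fun k hk' => by rw [hk k hk', mul_comm]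
  rcases n with _ | m
  · exact Nat.card_eq_one_iff_unique.2
      ⟨⟨fun a b => Subtype.ext (Subsingleton.elim _ _)⟩, ⟨⟨0, IsNilpotent.zero⟩⟩⟩
  have h1 := hsum (m + 1)
  rw [Finset.sum_range_succ, hsum m] at h1
  have hG : (Nat.card (GL (Fin m) F) : ℚ) ≠ 0 := Nat.cast_ne_zero.2 Nat.card_pos.ne'
  have hq1 : 1 ≤ q ^ (m + 1) := Nat.one_le_pow _ _ (hq ▸ Fintype.card_pos)
  have hGs : (Nat.card (GL (Fin (m + 1)) F) : ℚ) =
      ((q : ℚ) ^ (m + 1) - 1) * (q : ℚ) ^ m * Nat.card (GL (Fin m) F) := by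
    rw [card_GL_succ, ← hq, Nat.cast_mul, Nat.cast_mul, Nat.cast_sub hq1, Nat.cast_pow, Nat.cast_pow,
      Nat.cast_one]
  have hG' : (Nat.card (GL (Fin (m + 1)) F) : ℚ) ≠ 0 := Nat.cast_ne_zero.2 Nat.card_pos.ne'
  have h2 : (Nat.card (Nil F (m + 1)) : ℚ) = (q : ℚ) ^ ((m + 1) * m) := by
    have h3 := eq_sub_of_add_eq' h1
    rw [div_eq_iff hG', sub_mul, div_mul_cancel₀ _ hG', hGs] at h3
    rw [h3]
    field_simp
    ring
  rw [Nat.add_sub_cancel]
  exact_mod_cast h2

end Cfsg.Agent.SimpleFacts.NilpotentCount
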