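import Mathlib

/-!
The two `q`-identities behind the count of unipotent elements of the symplectic groups: alternating sums
of the numbers of totally isotropic subspaces of a symplectic space.
-/

set_option autoImplicit false

namespace Cfsg.Agent.SimpleFacts.SympUnipotentIdentity

variable {q : ℕ}

/-- The product `(q^(2m) - 1) ... (q^(2(m - k + 1)) - 1)`. -/
def num (q m k : ℕ) : ℚ := ∏ i ∈ Finset.range k, ((q : ℚ) ^ (2 * (m - i)) - 1)

/-- The product `(q - 1) ... (q^k - 1)`. -/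
def den (q k : ℕ) : ℚ := ∏ i ∈ Finset.range k, ((q : ℚ) ^ (i + 1) - 1)

/-- The number of totally isotropic `k`-spaces. -/
def niso (q m k : ℕ) : ℚ := num q m k / den q k

/-- The alternating weight. -/
def wt (q k : ℕ) : ℚ := ∏ i ∈ Finset.range k, (-(q : ℚ) ^ i)

theorem den_ne (hq : 2 ≤ q) (k : ℕ) : den q k ≠ 0 :=
  Finset.prod_ne_zero_iff.2 fun i _ => sub_ne_zero.2 (ne_of_gt
    (one_lt_pow₀ (by exact_mod_cast hq) (Nat.succ_ne_zero i)))

theorem den_succ (k : ℕ) : den q (k + 1) = den q k * ((q : ℚ) ^ (k + 1) - 1) :=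
  Finset.prod_range_succ _ _

theorem num_succ (m k : ℕ) : num q m (k + 1) = num q m k * ((q : ℚ) ^ (2 * (m - k)) - 1) :=
  Finset.prod_range_succ _ _

theorem num_succ_succ (m k : ℕ) :
    num q (m + 1) (k + 1) = ((q : ℚ) ^ (2 * (m + 1)) - 1) * num q m k := by
  rw [num, Finset.prod_range_succ', mul_comm, Nat.sub_zero, num]
  congr 1
  exact Finset.prod_congr rfl fun i _ => by rw [Nat.add_sub_add_right]

theorem num_eq_zero {m k : ℕ} (h : m < k) : num q m k = 0 :=
  Finset.prod_eq_zero (Finset.mem_range.2 h) (by simp)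

theorem niso_zero (m : ℕ) : niso q m 0 = 1 := by simp [niso, num, den]

theorem niso_eq_zero {m k : ℕ} (h : m < k) : niso q m k = 0 := by simp [niso, num_eq_zero h]

theorem niso_succ (hq : 2 ≤ q) (k j : ℕ) :
    niso q (k + j + 1) (k + 1) =
      (q : ℚ) ^ (k + 1) * niso q (k + j) (k + 1) + ((q : ℚ) ^ (k + 2 * j + 1) + 1) * niso q (k + j) k := by
  have h1 := den_ne hq k
  have h2 : (q : ℚ) ^ (k + 1) - 1 ≠ 0 :=
    sub_ne_zero.2 (ne_of_gt (one_lt_pow₀ (by exact_mod_cast hq) (Nat.succ_ne_zero k)))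
  rw [niso, niso, niso, num_succ_succ, num_succ, den_succ, Nat.add_sub_cancel_left]
  field_simp
  ring

theorem sum_step (hq : 2 ≤ q) (m : ℕ) (v v' : ℕ → ℚ) (h0 : ∀ k j, m = k + j →
    (q : ℚ) ^ k * v k + v (k + 1) * ((q : ℚ) ^ (k + 2 * j + 1) + 1) = v' k) :
    ∑ k ∈ Finset.range (m + 2), niso q (m + 1) k * v k =
      ∑ k ∈ Finset.range (m + 1), niso q m k * v' k := by
  have hstep : ∀ k ∈ Finset.range (m + 1), niso q (m + 1) (k + 1) * v (k + 1) =
      (q : ℚ) ^ (k + 1) * niso q m (k + 1) * v (k + 1) +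
        (v' k - (q : ℚ) ^ k * v k) * niso q m k := fun k hk => by
    obtain ⟨j, rfl⟩ := Nat.exists_eq_add_of_le (Nat.lt_succ_iff.1 (Finset.mem_range.1 hk))
    rw [niso_succ hq, ← h0 k j rfl]
    ring
  rw [Finset.sum_range_succ', Finset.sum_congr rfl hstep, Finset.sum_add_distrib, niso_zero]
  have e : ∑ k ∈ Finset.range (m + 1), (q : ℚ) ^ k * niso q m k * v k =
      ∑ k ∈ Finset.range (m + 1), (q : ℚ) ^ (k + 1) * niso q m (k + 1) * v (k + 1) + v 0 := by
    have h := Finset.sum_range_succ' (fun k => (q : ℚ) ^ k * niso q m k * v k) (m + 1)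
    rw [Finset.sum_range_succ, niso_eq_zero (Nat.lt_succ_self m), mul_zero, zero_mul, add_zero] at h
    rw [h, pow_zero, niso_zero, one_mul, one_mul]
  rw [one_mul]
  calc _ = (∑ k ∈ Finset.range (m + 1), (q : ℚ) ^ (k + 1) * niso q m (k + 1) * v (k + 1) + v 0) +
        ∑ k ∈ Finset.range (m + 1), (v' k - (q : ℚ) ^ k * v k) * niso q m k := by ring
    _ = _ := by
      rw [← e, ← Finset.sum_add_distrib]
      exact Finset.sum_congr rfl fun k _ => by ring

theorem sum_wt (hq : 2 ≤ q) : ∀ m : ℕ,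
    ∑ k ∈ Finset.range (m + 1), niso q m k * wt q k = (-1) ^ m * (q : ℚ) ^ (m * m)
  | 0 => by simp [niso_zero, wt]
  | m + 1 => by
    rw [sum_step hq m (wt q) (fun k => -(q : ℚ) ^ (2 * m + 1) * wt q k) fun k j e => by
      rw [wt, wt, Finset.prod_range_succ, e]
      ring]
    simp only [mul_left_comm (niso q m _) (-(q : ℚ) ^ (2 * m + 1))]
    rw [← Finset.mul_sum, sum_wt hq m]
    ring

theorem sum_sq (hq : 2 ≤ q) : ∀ m : ℕ,
    ∑ k ∈ Finset.range (m + 1), niso q m k * ((-1) ^ k * (q : ℚ) ^ ((m - k) * (m - k))) = (-1) ^ m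
  | 0 => by simp [niso_zero]
  | m + 1 => by
    rw [sum_step hq m (fun k => (-1) ^ k * (q : ℚ) ^ ((m + 1 - k) * (m + 1 - k)))
      (fun k => -1 * ((-1) ^ k * (q : ℚ) ^ ((m - k) * (m - k)))) fun k j e => by
      subst e
      rw [show k + j + 1 - (k + 1) = j by omega, show k + j + 1 - k = j + 1 by omega,
        show k + j - k = j by omega]
      ring]
    simp only [mul_left_comm (niso q m _) (-1 : ℚ)]
    rw [← Finset.mul_sum, sum_sq hq m]
    ring

end Cfsg.Agent.SimpleFacts.SympUnipotentIdentity
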