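import Mathlib
import Cfsg.Agent.SimpleFacts.SympUnipotentIdentity
import Cfsg.Agent.Lib.Forms.SympStd
import Cfsg.Agent.S0245

/-!
The symplectic group `Sp_2m(q)` has `q ^ (2 m^2)` elements of `p`-power order.  A unipotent element other
than the identity fixes a vector in the radical of its fixed space, so the alternating weighted numbers
of totally isotropic tuples in its fixed space cancel; counting the pairs the other way round gives a
recursion in `m`.
-/

set_option autoImplicit false
set_option linter.style.haveILetI false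
set_option linter.unusedSectionVars false
set_option maxHeartbeats 800000

namespace Cfsg.Agent.SimpleFacts.SympUnipotentCount

open Matrix Cfsg.Agent.Forms.SympStd Cfsg.Agent.SimpleFacts.SympUnipotentIdentity

variable {F : Type*} [Field F] {m : ℕ}

local notation "Vec" => (Fin m ⊕ Fin m → F)
local notation "Mat" => Matrix (Fin m ⊕ Fin m) (Fin m ⊕ Fin m) F
local notation "Sp" => symplecticGroup (Fin m) F
local notation "β" => sympB m F

/-- Isotropic tuples. -/
def IsoInd (m : ℕ) {k : ℕ} (t : Fin k → (Fin m ⊕ Fin m → F)) : Prop :=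
  LinearIndependent F t ∧ ∀ i j, sympB m F (t i) (t j) = 0

/-- The isotropic `k`-tuples. -/
abbrev ITup (F : Type*) [Field F] (m k : ℕ) : Type _ :=
  {t : Fin k → (Fin m ⊕ Fin m → F) // IsoInd m t}

/-- A symplectic matrix fixes the tuple. -/
def Fixes {k : ℕ} (g : symplecticGroup (Fin m) F) (t : Fin k → Vec) : Prop :=
  ∀ i, (g : Mat) *ᵥ t i = t i

theorem beta_swap (u v : Vec) : β v u = - β u v := by
  rw [sympB_apply, sympB_apply, sympForm_swap]

theorem beta_self (u : Vec) : β u u = 0 := sympB_isAlt u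

theorem beta_mulVec (g : Sp) (u v : Vec) : β ((g : Mat) *ᵥ u) ((g : Mat) *ᵥ v) = β u v := by
  rw [sympB_apply, sympB_apply, sympForm_mulVec]

theorem isoInd_map (g : Sp) {k : ℕ} {t : Fin k → Vec} (h : IsoInd m t) :
    IsoInd m fun i => (g : Mat) *ᵥ t i := by
  refine ⟨?_, fun i j => by rw [beta_mulVec]; exact h.2 i j⟩
  refine h.1.map' (g : Mat).mulVecLin (LinearMap.ker_eq_bot.2 fun u v e => ?_)
  have := congrArg (((g⁻¹ : Sp) : Mat).mulVec) e
  rwa [mulVecLin_apply, mulVecLin_apply, inv_mulVec_of_eq (A := g) rfl,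
    inv_mulVec_of_eq (A := g) rfl] at this

theorem exists_move {k : ℕ} (t t' : ITup F m k) :
    ∃ A : Sp, ∀ i, (A : Mat) *ᵥ t.1 i = t'.1 i := by
  let b := Module.Basis.span t.2.1
  let f : Submodule.span F (Set.range t.1) →ₗ[F] Vec := b.constr F t'.1
  have hb : ∀ i, f (b i) = t'.1 i := fun i => b.constr_basis F _ i
  have hinj : Function.Injective f := by
    refine LinearMap.ker_eq_bot.1 (LinearMap.ker_eq_bot'.2 fun x hx => ?_)
    rw [← b.sum_repr x, map_sum] at hx
    simp only [map_smul, hb] at hx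
    have h := Fintype.linearIndependent_iff.1 t'.2.1 _ hx
    exact b.repr.injective (Finsupp.ext fun i => by simpa using h i)
  have hiso : ∀ x x', Cfsg.sympForm m F (f x) (f x') = Cfsg.sympForm m F x x' := by
    intro x x'
    rw [← sympB_apply, ← sympB_apply]
    have h : (β).compl₁₂ f f =
        (β).compl₁₂ (Submodule.span F (Set.range t.1)).subtype (Submodule.span F (Set.range t.1)).subtype :=
      LinearMap.ext_basis b b fun i j => by
        rw [LinearMap.compl₁₂_apply, LinearMap.compl₁₂_apply, hb, hb, t'.2.2 i j]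
        simp [b, Module.Basis.span_apply, t.2.2 i j]
    exact LinearMap.congr_fun₂ h x x'
  obtain ⟨A, hA⟩ := exists_extend _ f hinj hiso
  exact ⟨A, fun i => by rw [← hb, ← hA, Module.Basis.span_apply]⟩

/-- The stabilizer of a tuple. -/
def stab {k : ℕ} (t : Fin k → Vec) : Subgroup Sp where
  carrier := {g | Fixes g t}
  one_mem' _ := one_mulVec _
  mul_mem' {a b} ha hb i := by rw [mul_mulVec_sp, hb i, ha i]
  inv_mem' {a} ha i := inv_mulVec_of_eq (ha i)

theorem card_pairs {k : ℕ} (t₀ : ITup F m k) (P : Sp → Prop)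
    (hP : ∀ a g, P g → P (a * g * a⁻¹)) :
    Nat.card {z : ↥Sp × ITup F m k // P z.1 ∧ Fixes z.1 z.2.1} =
      Nat.card (ITup F m k) * Nat.card {h : stab t₀.1 // P h} := by
  rw [← Nat.card_prod]
  choose A hA using fun t => exists_move t₀ t
  have hA' : ∀ t i, (((A t)⁻¹ : Sp) : Mat) *ᵥ t.1 i = t₀.1 i := fun t i => inv_mulVec_of_eq (hA t i)
  refine Nat.card_congr
    { toFun := fun z => (z.1.2, ⟨⟨(A z.1.2)⁻¹ * z.1.1 * A z.1.2, fun i => ?_⟩, ?_⟩)
      invFun := fun w => ⟨(A w.1 * w.2.1.1 * (A w.1)⁻¹, w.1), hP _ _ w.2.2, fun i => ?_⟩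
      left_inv := fun z => Subtype.ext (Prod.ext (by simp [mul_assoc]) rfl)
      right_inv := fun w => Prod.ext rfl (Subtype.ext (Subtype.ext (by simp [mul_assoc]))) }
  · rw [mul_mulVec_sp, mul_mulVec_sp, hA, z.2.2 i, hA']
  · have h := hP (A z.1.2)⁻¹ _ z.2.1
    rwa [inv_inv] at h
  · show ((A w.1 * w.2.1.1 * (A w.1)⁻¹ : Sp) : Mat) *ᵥ w.1.1 i = w.1.1 i
    rw [mul_mulVec_sp, mul_mulVec_sp, hA', w.2.1.2 i, hA]

theorem snoc_iff {k : ℕ} (t : Fin k → Vec) (v : Vec) :
    IsoInd m (Fin.snoc t v) ↔ IsoInd m t ∧ (∀ i, β (t i) v = 0) ∧ v ∉ Submodule.span F (Set.range t) := by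
  constructor
  · rintro ⟨h1, h2⟩
    obtain ⟨h3, h4⟩ := linearIndependent_finSnoc.1 h1
    refine ⟨⟨h3, fun i j => ?_⟩, fun i => ?_, h4⟩
    · simpa using h2 i.castSucc j.castSucc
    · simpa using h2 i.castSucc (Fin.last k)
  · rintro ⟨⟨h1, h2⟩, h3, h4⟩
    refine ⟨linearIndependent_finSnoc.2 ⟨h1, h4⟩, fun i j => ?_⟩
    induction i using Fin.lastCases with
    | last =>
      induction j using Fin.lastCases with
      | last => simpa using beta_self v
      | cast j => simp [beta_swap (t j) v, h3 j]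
    | cast i =>
      induction j using Fin.lastCases with
      | last => simpa using h3 i
      | cast j => simpa using h2 i j

theorem finrank_perp {k : ℕ} (t : ITup F m k) :
    Module.finrank F ((β).orthogonal (Submodule.span F (Set.range t.1))) = 2 * m - k := by
  rw [LinearMap.BilinForm.finrank_orthogonal sympB_nondegenerate, finrank_span_eq_card t.2.1,
    Fintype.card_fin, finrank_vec]

theorem mem_perp {k : ℕ} (t : Fin k → Vec) (v : Vec) :
    v ∈ (β).orthogonal (Submodule.span F (Set.range t)) ↔ ∀ i, β (t i) v = 0 := by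
  refine ⟨fun h i => h _ (Submodule.subset_span ⟨i, rfl⟩), fun h x hx => ?_⟩
  show β x v = 0
  induction hx using Submodule.span_induction with
  | mem x hx => obtain ⟨i, rfl⟩ := hx; exact h i
  | zero => simp
  | add x y _ _ hx hy => simp [hx, hy]
  | smul a x _ hx => simp [hx]

theorem le_m {k : ℕ} (t : ITup F m k) : k ≤ m := by
  have h : Submodule.span F (Set.range t.1) ≤ (β).orthogonal (Submodule.span F (Set.range t.1)) :=
    Submodule.span_le.2 (by rintro _ ⟨i, rfl⟩; exact (mem_perp _ _).2 fun j => t.2.2 j i)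
  have h2 := Submodule.finrank_mono h
  rw [finrank_perp, finrank_span_eq_card t.2.1, Fintype.card_fin] at h2
  omega

theorem card_ITup_zero : Nat.card (ITup F m 0) = 1 := by
  rw [Nat.card_eq_one_iff_unique]
  exact ⟨⟨fun a b => Subtype.ext (Subsingleton.elim _ _)⟩,
    ⟨⟨![], linearIndependent_empty_type, fun i => i.elim0⟩⟩⟩

variable [Fintype F]

theorem card_ITup_succ (k : ℕ) :
    Nat.card (ITup F m (k + 1)) =
      Nat.card (ITup F m k) * (Fintype.card F ^ k * (Fintype.card F ^ (2 * (m - k)) - 1)) := by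
  classical
  have hs : ∀ s : ITup F m (k + 1), IsoInd m (Fin.init s.1) ∧
      (∀ i, β (Fin.init s.1 i) (s.1 (Fin.last k)) = 0) ∧
      s.1 (Fin.last k) ∉ Submodule.span F (Set.range (Fin.init s.1)) := fun s =>
    (snoc_iff _ _).1 (by rw [Fin.snoc_init_self]; exact s.2)
  let e : ITup F m (k + 1) ≃ {z : ITup F m k × Vec //
      z.2 ∈ (β).orthogonal (Submodule.span F (Set.range z.1.1)) ∧
        z.2 ∉ Submodule.span F (Set.range z.1.1)} :=
    { toFun := fun s => ⟨(⟨Fin.init s.1, (hs s).1⟩, s.1 (Fin.last k)),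
        (mem_perp _ _).2 (hs s).2.1, (hs s).2.2⟩
      invFun := fun z => ⟨Fin.snoc (α := fun _ => Vec) z.1.1.1 z.1.2,
        (snoc_iff _ _).2 ⟨z.1.1.2, (mem_perp _ _).1 z.2.1, z.2.2⟩⟩
      left_inv := fun s => Subtype.ext (Fin.snoc_init_self s.1)
      right_inv := fun z => Subtype.ext (Prod.ext
        (Subtype.ext (Fin.init_snoc (α := fun _ => Vec) z.1.2 z.1.1.1))
        (Fin.snoc_last (α := fun _ => Vec) z.1.2 z.1.1.1)) }
  have hfib : ∀ t : ITup F m k, Nat.card {v : (β).orthogonal (Submodule.span F (Set.range t.1)) //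
      (v : Vec) ∉ Submodule.span F (Set.range t.1)} =
      Fintype.card F ^ k * (Fintype.card F ^ (2 * (m - k)) - 1) := by
    intro t
    have hk := le_m t
    have hle : Submodule.span F (Set.range t.1) ≤ (β).orthogonal (Submodule.span F (Set.range t.1)) :=
      Submodule.span_le.2 (by rintro _ ⟨i, rfl⟩; exact (mem_perp _ _).2 fun j => t.2.2 j i)
    rw [Nat.card_eq_fintype_card, Fintype.card_subtype_compl, ← Nat.card_eq_fintype_card,
      ← Nat.card_eq_fintype_card, Module.natCard_eq_pow_finrank (K := F), finrank_perp,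
      Nat.card_congr (Equiv.subtypeSubtypeEquivSubtype fun {v} hv => hle hv),
      show Nat.card {v : Vec // v ∈ Submodule.span F (Set.range t.1)} =
        Nat.card (Submodule.span F (Set.range t.1)) from rfl,
      Module.natCard_eq_pow_finrank (K := F) (V := Submodule.span F (Set.range t.1)),
      finrank_span_eq_card t.2.1, Fintype.card_fin, Nat.card_eq_fintype_card, Nat.mul_sub, mul_one,
      ← pow_add, show k + 2 * (m - k) = 2 * m - k by omega]
  obtain ⟨c, hc⟩ : ∃ c, c = Fintype.card F ^ k * (Fintype.card F ^ (2 * (m - k)) - 1) := ⟨_, rfl⟩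
  rw [← hc] at hfib ⊢
  let P : ITup F m k → Set Vec := fun t => {v | v ∈ (β).orthogonal (Submodule.span F (Set.range t.1)) ∧
    v ∉ Submodule.span F (Set.range t.1)}
  have hP : ∀ t : ITup F m k, Nat.card (P t) = c := fun t => by
    rw [← hfib t]
    exact Nat.card_congr
      { toFun := fun v => ⟨⟨v.1, v.2.1⟩, v.2.2⟩
        invFun := fun v => ⟨v.1.1, v.1.2, v.2⟩
        left_inv := fun _ => rfl
        right_inv := fun _ => rfl }
  have he : Nat.card (ITup F m (k + 1)) = Nat.card (Σ t : ITup F m k, P t) :=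
    Nat.card_congr (e.trans
      { toFun := fun z => ⟨z.1.1, z.1.2, z.2⟩
        invFun := fun z => ⟨(z.1, z.2.1), z.2.2⟩
        left_inv := fun _ => rfl
        right_inv := fun _ => rfl })
  haveI := Fintype.ofFinite (ITup F m k)
  rw [he, Nat.card_sigma, Finset.sum_congr rfl fun t _ => hP t, Finset.sum_const, Finset.card_univ,
    smul_eq_mul, Nat.card_eq_fintype_card]

theorem card_ITup (k : ℕ) :
    (Nat.card (ITup F m k) : ℚ) =
      (∏ i ∈ Finset.range k, (Fintype.card F : ℚ) ^ i) * num (Fintype.card F) m k := by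
  induction k with
  | zero => simp [card_ITup_zero, num]
  | succ k ih =>
    have h1 : 1 ≤ Fintype.card F ^ (2 * (m - k)) := Nat.one_le_pow _ _ Fintype.card_pos
    rw [card_ITup_succ, num_succ, Finset.prod_range_succ, Nat.cast_mul, Nat.cast_mul, ih,
      Nat.cast_sub h1, Nat.cast_pow, Nat.cast_pow, Nat.cast_one]
    ring

/-! ### The alternating sum at a non-identity unipotent element -/

theorem exists_radical {p : ℕ} [Fact p.Prime] [CharP F p] {g : Sp} {a : ℕ} (hg : g ^ p ^ a = 1)
    (h1 : g ≠ 1) :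
    ∃ r : Vec, r ≠ 0 ∧ (g : Mat) *ᵥ r = r ∧ ∀ x : Vec, (g : Mat) *ᵥ x = x → β r x = 0 := by
  classical
  have hm : Nonempty (Fin m) := by
    by_contra h
    haveI := not_nonempty_iff.1 h
    exact h1 (sp_ext fun v => funext fun i => Sum.elim (fun j => isEmptyElim j) (fun j => isEmptyElim j) i)
  have hnil : IsNilpotent ((g : Mat) - 1) := ⟨p ^ a, by
    rw [sub_pow_char_pow_of_commute (p := p) a (Commute.one_right _), one_pow,
      ← SubmonoidClass.coe_pow, hg]
    exact sub_self (1 : Mat)⟩
  have hne : (g : Mat) - 1 ≠ 0 := fun h => h1 (Subtype.ext (sub_eq_zero.1 h))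
  obtain ⟨j, hj, hj'⟩ : ∃ j, ((g : Mat) - 1) ^ (j + 2) = 0 ∧ ((g : Mat) - 1) ^ (j + 1) ≠ 0 := by
    have hc := Nat.find_spec hnil
    rcases h : Nat.find hnil with _ | _ | j
    · rw [h, pow_zero] at hc; exact absurd hc one_ne_zero
    · rw [h, pow_one] at hc; exact absurd hc hne
    · exact ⟨j, by rw [h] at hc; exact hc, Nat.find_min hnil (by omega)⟩
  obtain ⟨y, hy⟩ : ∃ y, ((g : Mat) - 1) ^ (j + 1) *ᵥ y ≠ 0 := by
    by_contra h
    push Not at h
    exact hj' (Matrix.ext_iff_mulVec.2 fun v => by rw [h v, zero_mulVec])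
  refine ⟨_, hy, ?_, fun x hx => ?_⟩
  · rw [← sub_eq_zero]
    calc _ = ((g : Mat) - 1) *ᵥ (((g : Mat) - 1) ^ (j + 1) *ᵥ y) := by rw [sub_mulVec _ 1, one_mulVec]
      _ = 0 := by rw [mulVec_mulVec, ← pow_succ', hj, zero_mulVec]
  · rw [pow_succ', ← mulVec_mulVec, sub_mulVec, one_mulVec, map_sub, LinearMap.sub_apply]
    generalize ((g : Mat) - 1) ^ j *ᵥ y = z
    conv_lhs => arg 1; rw [← hx]
    rw [beta_mulVec, sub_self]

/-- The number of fixed isotropic tuples. -/
noncomputable def phi (g : Sp) (k : ℕ) : ℕ := Nat.card {t : ITup F m k // Fixes g t.1}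

theorem alt_phi_eq_zero {g : Sp} {r : Vec} (hr0 : r ≠ 0) (hrg : (g : Mat) *ᵥ r = r)
    (hrad : ∀ x : Vec, (g : Mat) *ᵥ x = x → β r x = 0) :
    ∑ k ∈ Finset.range (m + 1), (-1 : ℚ) ^ k * phi g k / den (Fintype.card F) k = 0 := by
  classical
  let T : ℕ → Type _ := fun k => {t : ITup F m k // Fixes g t.1}
  let A : ℕ → ℕ := fun k => Nat.card {t : T k // r ∉ Submodule.span F (Set.range t.1.1)}
  let C : ℕ → ℕ := fun k => Nat.card {t : T k // r ∈ Submodule.span F (Set.range t.1.1)}
  have hphi : ∀ k, phi g k = A k + C k := fun k => by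
    show Nat.card (T k) = _
    rw [← Nat.card_congr (Equiv.sumCompl fun t : T k => r ∈ Submodule.span F (Set.range t.1.1)),
      Nat.card_sum, add_comm]
  have hC0 : C 0 = 0 := by
    rw [Nat.card_eq_zero]
    refine Or.inl ⟨fun t => hr0 ?_⟩
    simpa using t.2
  have hrem : ∀ {k : ℕ} (j : Fin (k + 1)) (c : Fin (k + 1) → F), c j ≠ 0 →
      Nat.card {t : T (k + 1) // ∑ i, c i • t.1.1 i = r} = A k := by
    intro k j c hcj
    have hrs : ∀ {u : Fin k → Vec}, Fixes g u → ∀ i, β r (u i) = 0 := fun hu i => hrad _ (hu i)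
    have hsum : ∀ (t : Fin (k + 1) → Vec),
        ∑ i, c i • t i = c j • t j + ∑ i, c (j.succAbove i) • t (j.succAbove i) :=
      fun t => Fin.sum_univ_succAbove _ j
    let back : (Fin k → Vec) → Fin (k + 1) → Vec := fun u =>
      j.insertNth ((c j)⁻¹ • (r - ∑ i, c (j.succAbove i) • u i)) u
    refine Nat.card_congr
      { toFun := fun t => ⟨⟨⟨fun i => t.1.1.1 (j.succAbove i),
          t.1.1.2.1.comp _ Fin.succAbove_right_injective, fun a b => t.1.1.2.2 _ _⟩, fun i => t.1.2 _⟩, ?_⟩
        invFun := fun u => ⟨⟨⟨back u.1.1.1, ?_, ?_⟩, ?_⟩, ?_⟩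
        left_inv := ?_
        right_inv := fun u => ?_ }
    · intro hmem
      obtain ⟨d, hd⟩ := (Submodule.mem_span_range_iff_exists_fun F).1 hmem
      have hd' : ∑ i, (j.insertNth (c j) (fun i => c (j.succAbove i) - d i) : Fin (k + 1) → F) i • t.1.1.1 i = 0 := by
        rw [Fin.sum_univ_succAbove _ j, Fin.insertNth_apply_same]
        simp only [Fin.insertNth_apply_succAbove, sub_smul, Finset.sum_sub_distrib]
        rw [hd, ← add_sub_assoc, ← hsum, t.2, sub_self]
      have := Fintype.linearIndependent_iff.1 t.1.1.2.1 _ hd' j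
      rw [Fin.insertNth_apply_same] at this
      exact hcj this
    · refine Fintype.linearIndependent_iff.2 fun a ha => ?_
      rw [Fin.sum_univ_succAbove _ j] at ha
      simp only [back, Fin.insertNth_apply_same, Fin.insertNth_apply_succAbove, smul_smul, smul_sub,
        Finset.smul_sum] at ha
      by_cases haj : a j = 0
      · rw [haj, zero_mul, zero_smul] at ha
        simp only [zero_mul, zero_smul, Finset.sum_const_zero, sub_zero, zero_add] at ha
        intro i
        rcases Fin.eq_self_or_eq_succAbove j i with rfl | ⟨i, rfl⟩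
        · exact haj
        · exact Fintype.linearIndependent_iff.1 u.1.1.2.1 _ ha i
      · exfalso
        refine u.2 ?_
        have hS : ∀ (d : Fin k → F), ∑ i, d i • u.1.1.1 i ∈ Submodule.span F (Set.range u.1.1.1) :=
          fun d => Submodule.sum_mem _ fun i _ => Submodule.smul_mem _ _ (Submodule.subset_span ⟨i, rfl⟩)
        have h3 : (a j * (c j)⁻¹) • r = ∑ i, (a j * ((c j)⁻¹ * c (j.succAbove i))) • u.1.1.1 i -
            ∑ i, a (j.succAbove i) • u.1.1.1 i := by
          linear_combination (norm := module) ha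
        exact (Submodule.smul_mem_iff _ (mul_ne_zero haj (inv_ne_zero hcj))).1
          (h3 ▸ Submodule.sub_mem _ (hS _) (hS _))
    · intro a b
      have hj : ∀ i, β (u.1.1.1 i) ((c j)⁻¹ • (r - ∑ l, c (j.succAbove l) • u.1.1.1 l)) = 0 := fun i => by
        simp [map_sub, u.1.1.2.2, beta_swap r (u.1.1.1 i), hrs u.1.2 i]
      rcases Fin.eq_self_or_eq_succAbove j a with ha | ⟨a, rfl⟩ <;>
        rcases Fin.eq_self_or_eq_succAbove j b with hb | ⟨b, rfl⟩
      · rw [ha, hb]; exact beta_self _
      · rw [ha]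
        simp only [back, Fin.insertNth_apply_same, Fin.insertNth_apply_succAbove]
        rw [beta_swap, hj, neg_zero]
      · rw [hb]
        simp only [back, Fin.insertNth_apply_same, Fin.insertNth_apply_succAbove]
        exact hj a
      · simp only [back, Fin.insertNth_apply_succAbove]
        exact u.1.1.2.2 a b
    · intro a
      rcases Fin.eq_self_or_eq_succAbove j a with rfl | ⟨a, rfl⟩
      · simp only [back, Fin.insertNth_apply_same, mulVec_smul, mulVec_sub, hrg, Matrix.mulVec_sum]
        congr 2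
        exact Finset.sum_congr rfl fun i _ => by rw [u.1.2 i]
      · simp only [back, Fin.insertNth_apply_succAbove]
        exact u.1.2 a
    · rw [hsum]
      simp only [back, Fin.insertNth_apply_same, Fin.insertNth_apply_succAbove]
      rw [smul_inv_smul₀ hcj, sub_add_cancel]
    · intro t
      refine Subtype.ext (Subtype.ext (Subtype.ext ?_))
      show back (fun i => t.1.1.1 (j.succAbove i)) = t.1.1.1
      simp only [back]
      have h := t.2
      rw [hsum] at h
      rw [← eq_sub_of_add_eq h, inv_smul_smul₀ hcj]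
      exact Fin.insertNth_self_removeNth j t.1.1.1
    · refine Subtype.ext (Subtype.ext (Subtype.ext (funext fun i => ?_)))
      simp [back]
  have hstep : ∀ k, C (k + 1) = (Fintype.card F ^ (k + 1) - 1) * A k := by
    intro k
    let e : {t : T (k + 1) // r ∈ Submodule.span F (Set.range t.1.1)} ≃
        Σ c : {c : Fin (k + 1) → F // c ≠ 0}, {t : T (k + 1) // ∑ i, c.1 i • t.1.1 i = r} :=
      { toFun := fun t => ⟨⟨((Submodule.mem_span_range_iff_exists_fun F).1 t.2).choose, fun h => hr0 (by
            rw [← ((Submodule.mem_span_range_iff_exists_fun F).1 t.2).choose_spec, h]; simp)⟩,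
          t.1, ((Submodule.mem_span_range_iff_exists_fun F).1 t.2).choose_spec⟩
        invFun := fun z => ⟨z.2.1, (Submodule.mem_span_range_iff_exists_fun F).2 ⟨_, z.2.2⟩⟩
        left_inv := fun t => rfl
        right_inv := fun z => by
          obtain ⟨⟨c, hc⟩, t, ht⟩ := z
          have h := ((Submodule.mem_span_range_iff_exists_fun F).1
            ((Submodule.mem_span_range_iff_exists_fun F).2 ⟨c, ht⟩ :
              r ∈ Submodule.span F (Set.range t.1.1))).choose_spec
          have heq := funext (Fintype.linearIndependent_iffₛ.1 t.1.2.1 _ _ (h.trans ht.symm))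
          exact Sigma.subtype_ext (Subtype.ext heq) rfl }
    show Nat.card _ = _
    rw [Nat.card_congr e, Nat.card_sigma,
      Finset.sum_congr rfl fun c _ => (Function.ne_iff.1 c.2).elim fun j hj => hrem j c.1 hj,
      Finset.sum_const, Finset.card_univ, smul_eq_mul, Fintype.card_subtype_compl, Fintype.card_fun,
      Fintype.card_fin, Fintype.card_subtype_eq]
  have hCm : C (m + 1) = 0 := by
    rw [Nat.card_eq_zero]
    exact Or.inl ⟨fun t => by have := le_m t.1.1; omega⟩
  have hq := Fintype.one_lt_card (α := F)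
  have hAm : A m = 0 := by
    have h := hstep m
    rw [hCm] at h
    exact (mul_eq_zero.1 h.symm).resolve_left (by
      have := Nat.one_lt_pow (show m + 1 ≠ 0 by omega) hq; omega)
  have hpart : ∀ n, ∑ k ∈ Finset.range (n + 1), (-1 : ℚ) ^ k * phi g k / den (Fintype.card F) k =
      (-1) ^ n * A n / den (Fintype.card F) n := by
    intro n
    induction n with
    | zero => simp [hphi, hC0, den]
    | succ n ih =>
      rw [Finset.sum_range_succ, ih, hphi, hstep, Nat.cast_add, Nat.cast_mul,
        Nat.cast_sub (Nat.one_le_pow _ _ Fintype.card_pos), Nat.cast_pow, Nat.cast_one, den_succ]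
      have h1 := den_ne (q := Fintype.card F) hq n
      have h2 : (Fintype.card F : ℚ) ^ (n + 1) - 1 ≠ 0 :=
        sub_ne_zero.2 (ne_of_gt (one_lt_pow₀ (by exact_mod_cast hq) (Nat.succ_ne_zero n)))
      field_simp
      ring
  rw [hpart, hAm, Nat.cast_zero, mul_zero, zero_div]

end Cfsg.Agent.SimpleFacts.SympUnipotentCount
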