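import Mathlib
import Cfsg.Agent.SimpleFacts.SympUnipotentCount

/-!
The stabilizer of a totally isotropic frame in `Sp_2(k+n)` maps onto `Sp_2n` with unipotent kernel; the
recursion for the number of unipotent elements and its solution.
-/

set_option autoImplicit false
set_option linter.style.haveILetI false
set_option linter.unusedSectionVars false
set_option maxHeartbeats 800000

namespace Cfsg.Agent.SimpleFacts.SympUnipotentRecursion

open Matrix Cfsg.Agent.Forms.SympStd Cfsg.Agent.SimpleFacts.SympUnipotentIdentity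
  Cfsg.Agent.SimpleFacts.SympUnipotentCount

variable {F : Type*} [Field F]

/-- Elements killed by a power of `p`. -/
def Pel (p : ℕ) {G : Type*} [Monoid G] (g : G) : Prop := ∃ a : ℕ, g ^ p ^ a = 1

theorem pel_iff {p : ℕ} [Fact p.Prime] {G : Type*} [Monoid G] (g : G) :
    Pel p g ↔ ∃ k : ℕ, orderOf g = p ^ k := by
  constructor
  · rintro ⟨a, ha⟩
    obtain ⟨k, -, hk⟩ := (Nat.dvd_prime_pow Fact.out).1 (orderOf_dvd_of_pow_eq_one ha)
    exact ⟨k, hk⟩
  · rintro ⟨k, hk⟩
    exact ⟨k, by rw [← hk, pow_orderOf_eq_one]⟩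

theorem pel_conj {p : ℕ} {G : Type*} [Group G] (a g : G) (h : Pel p g) : Pel p (a * g * a⁻¹) := by
  obtain ⟨k, hk⟩ := h
  exact ⟨k, by rw [conj_pow, hk, mul_one, mul_inv_cancel]⟩

theorem card_pel_of_ker {H K : Type*} [Group H] [Group K] [Finite H] {p : ℕ} (f : H →* K)
    (hf : Function.Surjective f) (hker : ∀ h ∈ f.ker, Pel p h) :
    Nat.card {h : H // Pel p h} = Nat.card f.ker * Nat.card {x : K // Pel p x} ∧
      Nat.card H = Nat.card f.ker * Nat.card K := by
  choose s hs using hf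
  have hiff : ∀ h, Pel p h ↔ Pel p (f h) := fun h => by
    refine ⟨fun ⟨a, ha⟩ => ⟨a, by rw [← map_pow, ha, map_one]⟩, fun ⟨a, ha⟩ => ?_⟩
    obtain ⟨b, hb⟩ := hker (h ^ p ^ a) (by rw [MonoidHom.mem_ker, map_pow, ha])
    exact ⟨a + b, by rw [pow_add, pow_mul, hb]⟩
  let e : H ≃ f.ker × K :=
    { toFun := fun h => (⟨h * (s (f h))⁻¹, by
          rw [MonoidHom.mem_ker, map_mul, map_inv, hs, mul_inv_cancel]⟩, f h)
      invFun := fun z => z.1.1 * s z.2
      left_inv := fun h => by simp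
      right_inv := fun z => by
        obtain ⟨⟨a, ha⟩, x⟩ := z
        have h1 : f (a * s x) = x := by rw [map_mul, hs, MonoidHom.mem_ker.1 ha, one_mul]
        exact Prod.ext (Subtype.ext (by simp [h1])) h1 }
  refine ⟨?_, (Nat.card_congr e).trans (Nat.card_prod _ _)⟩
  rw [← Nat.card_prod]
  exact Nat.card_congr ((e.subtypeEquiv (q := fun z => Pel p z.2) fun h => hiff h).trans
    { toFun := fun z => (z.1.1, ⟨z.1.2, z.2⟩)
      invFun := fun w => ⟨(w.1, w.2.1), w.2.2⟩
      left_inv := fun _ => rfl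
      right_inv := fun _ => rfl })

section frame

variable {k n : ℕ}

local notation "V" => (Fin (k + n) ⊕ Fin (k + n) → F)
local notation "V'" => (Fin n ⊕ Fin n → F)
local notation "β" => sympB (k + n) F

/-- The standard isotropic frame. -/
def frame (F : Type*) [Field F] (k n : ℕ) (i : Fin k) : Fin (k + n) ⊕ Fin (k + n) → F :=
  Pi.single (Sum.inl (Fin.castAdd n i)) 1

/-- The last `n` coordinate pairs. -/
def prL (F : Type*) [Field F] (k n : ℕ) :
    (Fin (k + n) ⊕ Fin (k + n) → F) →ₗ[F] (Fin n ⊕ Fin n → F) :=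
  LinearMap.funLeft F F (Sum.map (Fin.natAdd k) (Fin.natAdd k))

/-- Extension by zero. -/
def inL (F : Type*) [Field F] (k n : ℕ) :
    (Fin n ⊕ Fin n → F) →ₗ[F] (Fin (k + n) ⊕ Fin (k + n) → F) where
  toFun y := Sum.elim (Fin.append 0 fun j => y (Sum.inl j)) (Fin.append 0 fun j => y (Sum.inr j))
  map_add' x y := by
    funext i
    rcases i with i | i <;> induction i using Fin.addCases <;> simp
  map_smul' a y := by
    funext i
    rcases i with i | i <;> induction i using Fin.addCases <;> simp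

theorem prL_inL (y : V') : prL F k n (inL F k n y) = y := by
  funext i
  rcases i with i | i <;> simp [prL, inL, LinearMap.funLeft_apply]

theorem inL_low (y : V') (i : Fin k) : inL F k n y (Sum.inr (Fin.castAdd n i)) = 0 := by simp [inL]

theorem isoInd_frame : IsoInd (k + n) (frame F k n) := by
  refine ⟨?_, fun i j => by rw [sympB_apply]; exact sympForm_inl_inl _ _⟩
  refine Fintype.linearIndependent_iff.2 fun c hc i => ?_
  have h := congrFun hc (Sum.inl (Fin.castAdd n i))
  simpa [frame, Finset.sum_apply, Pi.single_apply, Fin.castAdd_inj] using h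

theorem beta_frame (i : Fin k) (x : V) : β (frame F k n i) x = -x (Sum.inr (Fin.castAdd n i)) := by
  rw [sympB_apply, sympForm_eq]
  simp [frame, Pi.single_apply]

theorem form_split (x y : V) (hx : ∀ i : Fin k, x (Sum.inr (Fin.castAdd n i)) = 0)
    (hy : ∀ i : Fin k, y (Sum.inr (Fin.castAdd n i)) = 0) :
    Cfsg.sympForm (k + n) F x y = Cfsg.sympForm n F (prL F k n x) (prL F k n y) := by
  rw [sympForm_eq, sympForm_eq, Fin.sum_univ_add]
  simp [hx, hy, prL, LinearMap.funLeft_apply]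

variable (g : stab (F := F) (frame F k n))

theorem low_eq (x : V) (i : Fin k) :
    ((g.1 : Matrix (Fin (k + n) ⊕ Fin (k + n)) (Fin (k + n) ⊕ Fin (k + n)) F) *ᵥ x) (Sum.inr (Fin.castAdd n i)) = x (Sum.inr (Fin.castAdd n i)) := by
  have h := beta_mulVec g.1 (frame F k n i) x
  rw [g.2 i, beta_frame, beta_frame, neg_inj] at h
  exact h

theorem fix_of_prL_eq_zero (x : V) (h0 : prL F k n x = 0)
    (hlow : ∀ i : Fin k, x (Sum.inr (Fin.castAdd n i)) = 0) : (g.1 : Matrix (Fin (k + n) ⊕ Fin (k + n)) (Fin (k + n) ⊕ Fin (k + n)) F) *ᵥ x = x := by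
  have hx : x = ∑ i, x (Sum.inl (Fin.castAdd n i)) • frame F k n i := by
    funext j
    rcases j with j | j <;> induction j using Fin.addCases with
    | left j => simp [frame, Finset.sum_apply, Pi.single_apply, Fin.castAdd_inj, hlow]
    | right j =>
      have hl : x (Sum.inl (Fin.natAdd k j)) = 0 := congrFun h0 (Sum.inl j)
      have hr : x (Sum.inr (Fin.natAdd k j)) = 0 := congrFun h0 (Sum.inr j)
      have hne : ∀ i : Fin k, Fin.natAdd k j ≠ Fin.castAdd n i := fun i e => by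
        have := congrArg Fin.val e
        simp at this
        omega
      simp [frame, Finset.sum_apply, Pi.single_apply, hl, hr, hne]
  rw [hx, Matrix.mulVec_sum]
  exact Finset.sum_congr rfl fun i _ => by rw [mulVec_smul, g.2 i]

theorem prL_mulVec (x : V) (hlow : ∀ i : Fin k, x (Sum.inr (Fin.castAdd n i)) = 0) :
    prL F k n ((g.1 : Matrix (Fin (k + n) ⊕ Fin (k + n)) (Fin (k + n) ⊕ Fin (k + n)) F) *ᵥ x) =
      prL F k n ((g.1 : Matrix (Fin (k + n) ⊕ Fin (k + n)) (Fin (k + n) ⊕ Fin (k + n)) F) *ᵥ inL F k n (prL F k n x)) := by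
  have h := fix_of_prL_eq_zero g (x - inL F k n (prL F k n x)) (by rw [map_sub, prL_inL, sub_self])
    (fun i => by rw [Pi.sub_apply, hlow, inL_low, sub_zero])
  have h2 : (g.1 : Matrix (Fin (k + n) ⊕ Fin (k + n)) (Fin (k + n) ⊕ Fin (k + n)) F) *ᵥ x =
      (g.1 : Matrix (Fin (k + n) ⊕ Fin (k + n)) (Fin (k + n) ⊕ Fin (k + n)) F) *ᵥ inL F k n (prL F k n x) + (x - inL F k n (prL F k n x)) := by
    conv_rhs => rw [← h, ← mulVec_add, add_sub_cancel]
  rw [h2, map_add, map_sub, prL_inL, sub_self, add_zero]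

/-- The action on the orthogonal space of the frame modulo the frame. -/
noncomputable def projMat : Matrix (Fin n ⊕ Fin n) (Fin n ⊕ Fin n) F :=
  LinearMap.toMatrix' (prL F k n ∘ₗ (g.1 : Matrix (Fin (k + n) ⊕ Fin (k + n)) (Fin (k + n) ⊕ Fin (k + n)) F).mulVecLin ∘ₗ inL F k n)

theorem projMat_mulVec (y : V') :
    projMat g *ᵥ y = prL F k n ((g.1 : Matrix (Fin (k + n) ⊕ Fin (k + n)) (Fin (k + n) ⊕ Fin (k + n)) F) *ᵥ inL F k n y) := by
  rw [projMat, ← Matrix.toLin'_apply, Matrix.toLin'_toMatrix']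
  rfl

theorem projMat_mem : projMat g ∈ symplecticGroup (Fin n) F := by
  rw [mem_sp_iff]
  intro u v
  rw [projMat_mulVec, projMat_mulVec,
    ← form_split _ _ (fun i => by rw [low_eq g, inL_low]) (fun i => by rw [low_eq g, inL_low]),
    sympForm_mulVec, form_split _ _ (inL_low u) (inL_low v), prL_inL, prL_inL]

end frame

/-- The projection of the stabilizer onto the smaller symplectic group. -/
noncomputable def proj (F : Type*) [Field F] (k n : ℕ) :
    stab (F := F) (frame F k n) →* symplecticGroup (Fin n) F where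
  toFun g := ⟨projMat g, projMat_mem g⟩
  map_one' := sp_ext fun y => by
    show projMat (1 : stab (F := F) (frame F k n)) *ᵥ y = (1 : Matrix (Fin n ⊕ Fin n) (Fin n ⊕ Fin n) F) *ᵥ y
    rw [projMat_mulVec, one_mulVec]
    show prL F k n ((1 : Matrix (Fin (k + n) ⊕ Fin (k + n)) (Fin (k + n) ⊕ Fin (k + n)) F) *ᵥ inL F k n y) = y
    rw [one_mulVec, prL_inL]
  map_mul' a b := sp_ext fun y => by
    show projMat (a * b) *ᵥ y = _
    rw [mul_mulVec_sp]
    show projMat (a * b) *ᵥ y = projMat a *ᵥ (projMat b *ᵥ y)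
    rw [projMat_mulVec, projMat_mulVec, projMat_mulVec,
      ← prL_mulVec a _ (fun i => by rw [low_eq b, inL_low]), Subgroup.coe_mul, mul_mulVec_sp]

theorem proj_mulVec {k n : ℕ} (g : stab (F := F) (frame F k n)) (y : Fin n ⊕ Fin n → F) :
    ((proj F k n g : symplecticGroup (Fin n) F) : Matrix _ _ F) *ᵥ y =
      prL F k n ((g.1 : Matrix _ _ F) *ᵥ inL F k n y) := projMat_mulVec g y

theorem proj_surjective (k n : ℕ) : Function.Surjective (proj F k n) := by
  intro A
  let L : (Fin (k + n) ⊕ Fin (k + n) → F) →ₗ[F] (Fin (k + n) ⊕ Fin (k + n) → F) :=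
    LinearMap.id - inL F k n ∘ₗ prL F k n +
      inL F k n ∘ₗ (A : Matrix _ _ F).mulVecLin ∘ₗ prL F k n
  have hL : ∀ v, L v = v - inL F k n (prL F k n v) +
      inL F k n ((A : Matrix _ _ F) *ᵥ prL F k n v) := fun v => rfl
  have hpr : ∀ v, prL F k n (L v) = (A : Matrix _ _ F) *ᵥ prL F k n v := fun v => by
    rw [hL, map_add, map_sub, prL_inL, prL_inL, sub_self, zero_add]
  have hlowl : ∀ v i, L v (Sum.inl (Fin.castAdd n i)) = v (Sum.inl (Fin.castAdd n i)) := fun v i => by
    simp [hL, inL]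
  have hlowr : ∀ v i, L v (Sum.inr (Fin.castAdd n i)) = v (Sum.inr (Fin.castAdd n i)) := fun v i => by
    simp [hL, inL]
  have hmem : LinearMap.toMatrix' L ∈ symplecticGroup (Fin (k + n)) F := by
    rw [mem_sp_iff]
    intro u v
    simp only [← Matrix.toLin'_apply, Matrix.toLin'_toMatrix']
    have h1 := sympForm_mulVec A (prL F k n u) (prL F k n v)
    rw [← hpr, ← hpr] at h1
    rw [sympForm_eq, sympForm_eq, Fin.sum_univ_add, Fin.sum_univ_add]
    rw [sympForm_eq, sympForm_eq] at h1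
    simp only [prL, LinearMap.funLeft_apply, Sum.map_inl, Sum.map_inr] at h1
    simp only [hlowl, hlowr]
    rw [h1]
  have hfix : (⟨_, hmem⟩ : symplecticGroup (Fin (k + n)) F) ∈ stab (frame F k n) := fun i => by
    show LinearMap.toMatrix' L *ᵥ frame F k n i = frame F k n i
    have h0 : prL F k n (frame F k n i) = 0 := by
      funext j
      rcases j with j | j <;>
        simp [prL, frame, LinearMap.funLeft_apply, Pi.single_apply, Fin.ext_iff] <;> omega
    rw [← Matrix.toLin'_apply, Matrix.toLin'_toMatrix', hL, h0, mulVec_zero, map_zero, sub_zero, add_zero]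
  refine ⟨⟨_, hfix⟩, sp_ext fun y => ?_⟩
  rw [proj_mulVec]
  show prL F k n (LinearMap.toMatrix' L *ᵥ inL F k n y) = _
  rw [← Matrix.toLin'_apply, Matrix.toLin'_toMatrix', hpr, prL_inL]

theorem ker_pel {k n : ℕ} {p : ℕ} [Fact p.Prime] [CharP F p]
    (g : stab (F := F) (frame F k n)) (hg : g ∈ (proj F k n).ker) : Pel p g := by
  rcases Nat.eq_zero_or_pos (k + n) with h0 | hpos
  · refine ⟨0, Subtype.ext ?_⟩
    haveI : IsEmpty (Fin (k + n)) := by rw [h0]; infer_instance
    exact sp_ext fun v => funext fun i => i.elim (fun j => isEmptyElim j) fun j => isEmptyElim j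
  haveI : Nonempty (Fin (k + n)) := ⟨⟨0, hpos⟩⟩
  obtain ⟨M, hM⟩ : ∃ M : Matrix (Fin (k + n) ⊕ Fin (k + n)) (Fin (k + n) ⊕ Fin (k + n)) F,
      M = (g.1 : Matrix _ _ F) := ⟨_, rfl⟩
  have hp : ∀ y, prL F k n (M *ᵥ inL F k n y) = y := fun y => by
    rw [hM, ← proj_mulVec, MonoidHom.mem_ker.1 hg]
    exact one_mulVec y
  have hlow : ∀ x i, ((M - 1) *ᵥ x) (Sum.inr (Fin.castAdd n i)) = 0 := fun x i => by
    rw [sub_mulVec, one_mulVec, Pi.sub_apply, hM, low_eq g, sub_self]
  have h3 : (M - 1) ^ 3 = 0 := Matrix.ext_iff_mulVec.2 fun x => by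
    rw [zero_mulVec, show (M - 1) ^ 3 = (M - 1) * ((M - 1) * (M - 1)) by noncomm_ring, ← mulVec_mulVec,
      ← mulVec_mulVec]
    have hd : prL F k n ((M - 1) *ᵥ ((M - 1) *ᵥ x)) = 0 := by
      rw [sub_mulVec, one_mulVec, map_sub, hM, prL_mulVec g _ (by rw [← hM]; exact hlow x), ← hM, hp,
        sub_self]
    have h := fix_of_prL_eq_zero g _ hd (hlow _)
    rw [← hM] at h
    rw [sub_mulVec, one_mulVec, h, sub_self]
  refine ⟨2, Subtype.ext (Subtype.ext ?_)⟩
  have h9 : (M - 1) ^ p ^ 2 = 0 := pow_eq_zero_of_le (by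
    have := (Fact.out : p.Prime).two_le; nlinarith) h3
  rw [sub_pow_char_pow_of_commute (p := p) 2 (Commute.one_right M), one_pow, sub_eq_zero, hM] at h9
  rw [SubmonoidClass.coe_pow, SubmonoidClass.coe_pow, h9]
  rfl

variable [Fintype F] (p : ℕ) [Fact p.Prime] [CharP F p]

/-- The number of unipotent elements. -/
noncomputable def cardU (F : Type*) [Field F] (p m : ℕ) : ℕ :=
  Nat.card {g : symplecticGroup (Fin m) F // Pel p g}

theorem card_orbit {m k : ℕ} (t₀ : ITup F m k) :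
    Nat.card (ITup F m k) * Nat.card (stab t₀.1) = Nat.card (symplecticGroup (Fin m) F) := by
  rw [← Nat.card_prod]
  choose A hA using fun t => exists_move t₀ t
  let act : symplecticGroup (Fin m) F → ITup F m k := fun g =>
    ⟨fun i => (g : Matrix (Fin m ⊕ Fin m) (Fin m ⊕ Fin m) F) *ᵥ t₀.1 i, isoInd_map g t₀.2⟩
  let Ψ : ITup F m k × stab t₀.1 → symplecticGroup (Fin m) F := fun z => A z.1 * z.2.1
  have hΨ : ∀ z i, (Ψ z : Matrix (Fin m ⊕ Fin m) (Fin m ⊕ Fin m) F) *ᵥ t₀.1 i = z.1.1 i := fun z i => by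
    show ((A z.1 * z.2.1 : symplecticGroup (Fin m) F) : Matrix (Fin m ⊕ Fin m) (Fin m ⊕ Fin m) F) *ᵥ t₀.1 i = _
    rw [mul_mulVec_sp, z.2.2 i, hA]
  refine Nat.card_eq_of_bijective Ψ ⟨fun z z' e => ?_, fun g => ?_⟩
  · have h1 : z.1 = z'.1 := Subtype.ext (funext fun i => by rw [← hΨ z i, ← hΨ z' i, e])
    have h2 : A z.1 * z.2.1 = A z'.1 * z'.2.1 := e
    rw [h1] at h2
    exact Prod.ext h1 (Subtype.ext (mul_left_cancel h2))
  · refine ⟨(act g, ⟨(A (act g))⁻¹ * g, fun i => ?_⟩), mul_inv_cancel_left _ _⟩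
    rw [mul_mulVec_sp]
    exact inv_mulVec_of_eq (hA (act g) i)

theorem card_pairs_pel (k n : ℕ) :
    Nat.card {z : ↥(symplecticGroup (Fin (k + n)) F) × ITup F (k + n) k // Pel p z.1 ∧ Fixes z.1 z.2.1} *
        Nat.card (symplecticGroup (Fin n) F) =
      Nat.card (symplecticGroup (Fin (k + n)) F) * cardU F p n := by
  obtain ⟨h1, h2⟩ := card_pel_of_ker (p := p) (proj F k n) (proj_surjective k n) ker_pel
  have h0 : Nat.card {h : stab (F := F) (frame F k n) // Pel p h.1} =
      Nat.card {h : stab (F := F) (frame F k n) // Pel p h} :=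
    Nat.card_congr (Equiv.subtypeEquivRight fun h =>
      exists_congr fun a => by rw [← Subgroup.coe_pow, OneMemClass.coe_eq_one])
  rw [card_pairs ⟨frame F k n, isoInd_frame⟩ (Pel p) pel_conj, h0, h1,
    ← card_orbit (⟨frame F k n, isoInd_frame⟩ : ITup F (k + n) k), h2]
  show _ = _ * cardU F p n
  rw [cardU]
  ring

theorem card_Sp_ratio (k n : ℕ) :
    (Nat.card (symplecticGroup (Fin (k + n)) F) : ℚ) * (Fintype.card F : ℚ) ^ (n * n) =
      (Fintype.card F : ℚ) ^ ((k + n) * (k + n)) * num (Fintype.card F) (k + n) k *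
        Nat.card (symplecticGroup (Fin n) F) := by
  obtain ⟨q, hq⟩ : ∃ q, q = Fintype.card F := ⟨_, rfl⟩
  rw [Cfsg.Agent.S0245.result rfl (k + n), Cfsg.Agent.S0245.result rfl n, ← hq]
  have hcast : ∀ (s : Finset ℕ) (e : ℕ → ℕ),
      ((∏ i ∈ s, (q ^ e i - 1) : ℕ) : ℚ) = ∏ i ∈ s, ((q : ℚ) ^ e i - 1) := fun s e => by
    rw [Nat.cast_prod]
    exact Finset.prod_congr rfl fun i _ => by
      rw [Nat.cast_sub (Nat.one_le_pow _ _ (hq ▸ Fintype.card_pos)), Nat.cast_pow, Nat.cast_one]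
  rw [Nat.cast_mul, Nat.cast_mul, hcast, hcast, Nat.cast_pow, Nat.cast_pow]
  have e : ∏ i ∈ Finset.range (k + n), ((q : ℚ) ^ (2 * (i + 1)) - 1) =
      num q (k + n) k * ∏ i ∈ Finset.range n, ((q : ℚ) ^ (2 * (i + 1)) - 1) := by
    rw [num, ← Finset.prod_range_reflect (fun i => (q : ℚ) ^ (2 * (k + n - i)) - 1) k,
      add_comm k n, Finset.prod_range_add, mul_comm]
    congr 1
    refine Finset.prod_congr rfl fun i hi => ?_
    rw [Finset.mem_range] at hi
    rw [show n + k - (k - 1 - i) = n + i + 1 by omega]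
  rw [e, sq, sq]
  ring

theorem cardU_eq : ∀ m : ℕ, cardU F p m = Fintype.card F ^ (2 * m ^ 2) := by
  intro m
  induction m using Nat.strong_induction_on with
  | _ m ih =>
  classical
  obtain ⟨q, hqdef⟩ : ∃ q, q = Fintype.card F := ⟨_, rfl⟩
  have hq : 2 ≤ q := hqdef ▸ Fintype.one_lt_card
  rw [← hqdef]
  let U := {g : symplecticGroup (Fin m) F // Pel p g}
  haveI : Fintype U := Fintype.ofFinite U
  -- the pairs
  let P : ℕ → ℕ := fun k => ∑ g : U, phi g.1 k
  have hP : ∀ k, P k =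
      Nat.card {z : ↥(symplecticGroup (Fin m) F) × ITup F m k // Pel p z.1 ∧ Fixes z.1 z.2.1} := by
    intro k
    rw [show P k = Nat.card (Σ g : U, {t : ITup F m k // Fixes g.1 t.1}) from Nat.card_sigma.symm]
    exact Nat.card_congr
      { toFun := fun z => ⟨(z.1.1, z.2.1), z.1.2, z.2.2⟩
        invFun := fun z => ⟨⟨z.1.1, z.2.1⟩, z.1.2, z.2.2⟩
        left_inv := fun _ => rfl
        right_inv := fun _ => rfl }
  have hPval : ∀ k n, k + n = m →
      (P k : ℚ) = (q : ℚ) ^ (m * m) * num q m k * ((cardU F p n : ℚ) / (q : ℚ) ^ (n * n)) := by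
    rintro k n rfl
    have hG : (Nat.card (symplecticGroup (Fin n) F) : ℚ) ≠ 0 := Nat.cast_ne_zero.2 Nat.card_pos.ne'
    have hqn : (q : ℚ) ^ (n * n) ≠ 0 := pow_ne_zero _ (by exact_mod_cast (show q ≠ 0 by omega))
    have h1 : (P k : ℚ) * Nat.card (symplecticGroup (Fin n) F) =
        Nat.card (symplecticGroup (Fin (k + n)) F) * cardU F p n := by
      rw [hP]; exact_mod_cast card_pairs_pel p k n
    have h2 := card_Sp_ratio (F := F) k n
    rw [← hqdef] at h2
    apply mul_right_cancel₀ hG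
    rw [h1]
    field_simp
    linear_combination (cardU F p n : ℚ) * h2
  have hone : (1 : symplecticGroup (Fin m) F) ^ p ^ 0 = 1 := one_pow _
  have hsum : ∑ k ∈ Finset.range (m + 1), (-1 : ℚ) ^ k * (P k : ℚ) / den q k =
      (-1) ^ m * (q : ℚ) ^ (m * m) := by
    calc ∑ k ∈ Finset.range (m + 1), (-1 : ℚ) ^ k * (P k : ℚ) / den q k
        = ∑ g : U, ∑ k ∈ Finset.range (m + 1), (-1 : ℚ) ^ k * phi g.1 k / den q k := by
          rw [Finset.sum_comm]
          refine Finset.sum_congr rfl fun k _ => ?_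
          rw [show (P k : ℚ) = ∑ g : U, (phi g.1 k : ℚ) from Nat.cast_sum _ _, Finset.mul_sum,
            Finset.sum_div]
      _ = ∑ k ∈ Finset.range (m + 1), (-1 : ℚ) ^ k * phi (1 : symplecticGroup (Fin m) F) k / den q k := by
          refine Finset.sum_eq_single_of_mem (⟨1, 0, hone⟩ : U) (Finset.mem_univ _) fun g _ hne => ?_
          obtain ⟨a, ha⟩ := g.2
          obtain ⟨r, hr0, hrg, hrad⟩ := exists_radical (p := p) ha fun h => hne (Subtype.ext h)
          rw [hqdef]
          exact alt_phi_eq_zero hr0 hrg hrad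
      _ = ∑ k ∈ Finset.range (m + 1), niso q m k * wt q k := by
          refine Finset.sum_congr rfl fun k _ => ?_
          rw [phi, Nat.card_congr (Equiv.subtypeUnivEquiv
              (p := fun t : ITup F m k => Fixes (1 : symplecticGroup (Fin m) F) t.1)
              fun t i => one_mulVec _),
            card_ITup, ← hqdef, niso, wt, Finset.prod_neg, Finset.card_range]
          ring
      _ = _ := sum_wt hq m
  have hsq := congrArg (fun x : ℚ => (q : ℚ) ^ (m * m) * x) (sum_sq hq m)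
  simp only [Finset.mul_sum] at hsq
  rw [mul_comm ((q : ℚ) ^ (m * m)) ((-1) ^ m), ← hsum, Finset.sum_range_succ', Finset.sum_range_succ'] at hsq
  have hrest : ∀ k ∈ Finset.range m,
      (q : ℚ) ^ (m * m) * (niso q m (k + 1) * ((-1) ^ (k + 1) * (q : ℚ) ^ ((m - (k + 1)) * (m - (k + 1))))) =
        (-1 : ℚ) ^ (k + 1) * (P (k + 1) : ℚ) / den q (k + 1) := by
    intro k hk
    obtain ⟨j, hj⟩ := Nat.exists_eq_add_of_le (Finset.mem_range.1 hk)
    rw [hPval (k + 1) j hj.symm, ih j (by omega), show m - (k + 1) = j by omega, niso, ← hqdef]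
    push_cast
    have hqn : (q : ℚ) ^ (j * j) ≠ 0 := pow_ne_zero _ (by exact_mod_cast (show q ≠ 0 by omega))
    rw [show 2 * j ^ 2 = j * j + j * j by ring, pow_add ((q : ℚ)) (j * j) (j * j)]
    field_simp
  rw [Finset.sum_congr rfl hrest, add_left_cancel_iff, hPval 0 m (zero_add m)] at hsq
  have hqm : (q : ℚ) ^ (m * m) ≠ 0 := pow_ne_zero _ (by exact_mod_cast (show q ≠ 0 by omega))
  rw [niso_zero, Nat.sub_zero] at hsq
  simp only [num, den, Finset.prod_range_zero, pow_zero, one_mul, mul_one, div_one] at hsq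
  rw [mul_div_cancel₀ _ hqm] at hsq
  have hfin : (cardU F p m : ℚ) = ((q ^ (2 * m ^ 2) : ℕ) : ℚ) := by
    rw [← hsq, Nat.cast_pow, show 2 * m ^ 2 = m * m + m * m by ring, pow_add]
  exact_mod_cast hfin

end Cfsg.Agent.SimpleFacts.SympUnipotentRecursion
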