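import Cfsg.Agent.SimpleFacts.ChevalleyDefectZero
import Cfsg.Agent.SimpleFacts.ChevalleySteinbergUse

/-!
The Steinberg character is the only irreducible character of defect zero.
-/

set_option autoImplicit false

namespace Cfsg.Agent.SimpleFacts.ChevalleyDefectZeroUse

open Cfsg.Lie Cfsg.Agent.Chevalley.Table Cfsg.Agent.Chevalley.Cert Cfsg.Agent.Chevalley.Group
  Cfsg.Agent.Chevalley.Borel Cfsg.Agent.Chevalley.Coef Cfsg.Agent.SimpleFacts.SubgroupAverage

variable {D : ChevalleyDatum} {T : Tab} {F : Type*} [Field F]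

theorem steinberg_unique (hC : Certified D T) [Fintype F] (p : ℕ) [Fact p.Prime] [CharP F p]
    {N : List (List ℤ)} (hN : coefChk T N = true)
    (hD : D ∈ [chevG2, chevB2, chevD4, chevF4, chevE6, chevE7, chevE8])
    (χ : D.group F → ℂ) (hχ : Cfsg.IsIrrCharacter (D.group F) χ)
    (hdeg : ∃ d : ℕ, χ 1 = (d : ℂ) ∧ p ^ (Nat.card (D.group F)).factorization p ∣ d) :
    χ = D.steinbergCharacter F := by
  classical
  haveI : Fintype (D.group F) := Fintype.ofFinite _
  haveI : Fintype ↥(D.posUnipotent F) := Fintype.ofFinite _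
  obtain ⟨n, ρ, hρ, rfl⟩ := hχ
  haveI := hρ
  obtain ⟨d, hd, hdvd⟩ := hdeg
  rw [Representation.char_one, Nat.cast_inj] at hd
  subst hd
  have hUG : D.posUnipotent F ≤ D.group F := le_sup_left.trans (B_le_group hC)
  have hUp := Cfsg.Agent.SimpleFacts.ChevalleyRadical.isPGroup_U (F := F) hC p
  have hvan : ∀ g ∈ D.posUnipotent F, g ≠ 1 →
      LinearMap.trace ℂ (Fin n → ℂ) (act ρ g) = 0 := by
    intro g hg hne
    rw [act_eq ρ (hUG hg)]
    show ρ.character ⟨g, hUG hg⟩ = 0
    refine Cfsg.Agent.BlockCharsA.DefectZeroVanish.eq_zero_of_singular (p := p) Fact.out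
      ⟨ρ.character, Cfsg.Agent.Characters.isIrrCharacter_character ρ⟩ ?_ ?_
    · have he : Cfsg.charDegree ρ.character = Module.finrank ℂ (Fin n → ℂ) := by
        apply Nat.cast_injective (R := ℂ)
        exact (Cfsg.Agent.Blocks.charDegree_cast
          (⟨ρ.character, Cfsg.Agent.Characters.isIrrCharacter_character ρ⟩ :
            Cfsg.IrrCharacter (D.group F))).trans ρ.char_one
      simpa only [he] using hdvd
    · obtain ⟨k, hk⟩ := (IsPGroup.iff_orderOf.1 hUp) ⟨g, hg⟩
      rw [Subgroup.orderOf_mk] at hk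
      rw [Subgroup.orderOf_mk, hk]
      refine dvd_pow_self p fun e => hne ?_
      rw [e, pow_zero] at hk
      exact orderOf_eq_one_iff.1 hk
  have hcard : Nat.card ↥(D.posUnipotent F) ∣ Module.finrank ℂ (Fin n → ℂ) := by
    obtain ⟨k, hk⟩ := IsPGroup.iff_card.1 hUp
    rw [hk]
    refine Dvd.dvd.trans (Nat.pow_dvd_pow p ?_) hdvd
    rw [← Nat.Prime.pow_dvd_iff_le_factorization Fact.out Nat.card_pos.ne', ← hk]
    exact Subgroup.card_dvd_of_le hUG
  obtain ⟨v, hv0, hline, hvB, hvn⟩ :=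
    Cfsg.Agent.SimpleFacts.ChevalleyDefectZero.fixed_line hC hN ρ hcard hvan
  have hinner : ∀ J ∈ (Finset.range D.rank).powerset,
      Cfsg.classInner ρ.character (Cfsg.fixedPointCharacter (D.parabolicIn F J)) =
        if J = ∅ then 1 else 0 := by
    intro J hJ
    have hPG := Cfsg.Agent.SimpleFacts.ChevalleyRadical.parabolic_le_group (F := F) hC (↑J : Set ℕ)
    haveI : Fintype ↥(D.parabolicSubgroup F (↑J : Set ℕ)) := Fintype.ofFinite _
    rw [ChevalleyDatum.parabolicIn, classInner_perm ρ hPG]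
    have hUP : D.posUnipotent F ≤ D.parabolicSubgroup F (↑J : Set ℕ) :=
      (le_sup_left).trans (le_sup_left)
    have hone : ∀ a ∈ D.parabolicSubgroup F (↑J : Set ℕ), ∀ b ∈ D.parabolicSubgroup F (↑J : Set ℕ),
        (fun _ : GL D.Idx F => (1 : ℂ)) (a * b) = (fun _ => (1 : ℂ)) a * (fun _ => (1 : ℂ)) b :=
      fun _ _ _ _ => (one_mul 1).symm
    have hsub : LinearMap.range (avg ρ (D.parabolicSubgroup F (↑J : Set ℕ)) fun _ => (1 : ℂ)) ≤
        Submodule.span ℂ {v} := by
      rw [← hline]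
      rintro _ ⟨y, rfl⟩
      refine ⟨avg ρ (D.parabolicSubgroup F (↑J : Set ℕ)) (fun _ => (1 : ℂ)) y, ?_⟩
      refine avg_eq_self ρ rfl (fun _ _ _ _ => (one_mul 1).symm) fun u hu => ?_
      exact act_avg_apply ρ hPG (f := fun _ => (1 : ℂ)) rfl hone (hUP hu) y
    by_cases hJe : J = ∅
    · subst hJe
      rw [if_pos rfl]
      have hle : D.parabolicSubgroup F (↑(∅ : Finset ℕ) : Set ℕ) ≤ D.borelSubgroup F := by
        refine sup_le le_rfl ((Subgroup.closure_le _).2 ?_)
        rintro g ⟨j, hj, -⟩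
        simp at hj
      rw [show LinearMap.range (avg ρ (D.parabolicSubgroup F (↑(∅ : Finset ℕ) : Set ℕ))
          fun _ => (1 : ℂ)) = Submodule.span ℂ {v} from le_antisymm hsub
            ((Submodule.span_singleton_le_iff_mem _ _).2 ⟨v, avg_eq_self ρ rfl hone fun b hb => by
              rw [hvB b (hle hb), one_smul]⟩), finrank_span_singleton hv0, Nat.cast_one]
    · rw [if_neg hJe, Nat.cast_eq_zero, Submodule.finrank_eq_zero, eq_bot_iff]
      intro x hx
      obtain ⟨i, hi⟩ := Finset.nonempty_iff_ne_empty.2 hJe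
      have hir : i < D.rank := Finset.mem_range.1 (Finset.mem_powerset.1 hJ hi)
      obtain ⟨a, rfl⟩ := Submodule.mem_span_singleton.1 (hsub hx)
      by_contra hne
      rw [Submodule.mem_bot] at hne
      have ha : a ≠ 0 := fun e => hne (by rw [e, zero_smul])
      have hnP : ng hC (D.simple i) (1 : F) ∈ D.parabolicSubgroup F (↑J : Set ℕ) :=
        Cfsg.Agent.Chevalley.Parabolic.ng_mem_parabolic hC hir (Finset.mem_coe.2 hi)
      obtain ⟨y, hy⟩ := hx
      have h1 := act_avg_apply ρ hPG (f := fun _ => (1 : ℂ)) rfl hone hnP y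
      rw [hy, one_smul, map_smul] at h1
      exact hvn i hir (smul_right_injective _ ha h1)
  have hst := Cfsg.Agent.SimpleFacts.ChevalleySteinbergUse.isIrr (F := F) D hD
  by_contra hne
  have h0 := Cfsg.Agent.Characters.classInner_isIrr_ne
    (Cfsg.Agent.Characters.isIrrCharacter_character ρ) hst hne
  have hSt : D.steinbergCharacter F = ∑ J ∈ (Finset.range D.rank).powerset,
      (-1 : ℂ) ^ J.card • Cfsg.fixedPointCharacter (D.parabolicIn F J) := by
    funext g
    simp [ChevalleyDatum.steinbergCharacter, Finset.sum_apply]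
  rw [hSt, Cfsg.Agent.Characters.classInner_sum_right, Finset.sum_eq_single ∅] at h0
  · rw [Cfsg.Agent.Characters.classInner_smul_right, hinner ∅ (Finset.empty_mem_powerset _),
      if_pos rfl] at h0
    simp at h0
  · intro J hJ hJe
    rw [Cfsg.Agent.Characters.classInner_smul_right, hinner J hJ, if_neg hJe, mul_zero]
  · intro hh
    exact absurd (Finset.empty_mem_powerset _) hh

end Cfsg.Agent.SimpleFacts.ChevalleyDefectZeroUse
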