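import Cfsg.Agent.SimpleFacts.HeckeGroup
import Cfsg.Agent.Lib.Chevalley.Bruhat

/-!
The constituents of the permutation character of a Chevalley group on the cosets of its Borel subgroup
correspond in number to the conjugacy classes of the Weyl group.
-/

set_option autoImplicit false

namespace Cfsg.Agent.SimpleFacts.ChevalleyPrincipalSeries

open Cfsg.Lie Cfsg.Agent.Chevalley.Table Cfsg.Agent.Chevalley.Cert Cfsg.Agent.Chevalley.Eval
  Cfsg.Agent.Chevalley.Group Cfsg.Agent.Chevalley.Unip Cfsg.Agent.Chevalley.Borel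
  Cfsg.Agent.Chevalley.Bruhat Cfsg.Agent.Chevalley.Weyl Cfsg.Agent.BN.Basic

variable {D : ChevalleyDatum} {T : Tab} {F : Type*} [Field F] (hC : Certified D T)
include hC

theorem card_cell_gen [Fintype F] (s : (bn (F := F) hC).S) :
    Nat.card {x : D.group F // x ∈ cell (gen s)} = Fintype.card F * Nat.card (bn (F := F) hC).B := by
  classical
  obtain ⟨i, hi, hs⟩ := s.2
  have hp := hC.simple_lt hi
  have hxU : ∀ t : F, xg hC (D.simple i) t ∈ D.posUnipotent F := fun t =>
    xg_mem_U hC hp (hC.phi_simple hi) t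
  have hxG : ∀ t : F, xg hC (D.simple i) t ∈ D.group F := fun t => xg_mem_group hC hp t
  have hxB : ∀ t : F, (⟨_, hxG t⟩ : D.group F) ∈ (bn (F := F) hC).B := fun t =>
    Subgroup.mem_sup_left (hxU t)
  have hdc : ∀ x : D.group F, x ∈ cell (gen s) ↔ x ∈ dc (bn (F := F) hC) s := fun x => Iff.rfl
  rw [← Nat.card_eq_fintype_card, ← Nat.card_prod]
  symm
  refine Nat.card_congr (Equiv.ofBijective (fun p => (⟨⟨_, hxG p.1⟩ * (s : D.group F) * p.2,
    (hdc _).2 (mem_dc.2 ⟨_, hxB p.1, p.2, p.2.2, rfl⟩)⟩ : {x : D.group F // x ∈ cell (gen s)}))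
    ⟨?_, ?_⟩)
  · rintro ⟨t, b⟩ ⟨t', b'⟩ h
    have h' : xg hC (D.simple i) t * (s : D.group F).1 * b.1.1 =
        xg hC (D.simple i) t' * (s : D.group F).1 * b'.1.1 :=
      congrArg (fun y : {x : D.group F // x ∈ cell (gen s)} => y.1.1) h
    rw [hs] at h'
    have h2 : (ng hC (D.simple i) (1 : F))⁻¹ * xg hC (D.simple i) (-t' + t) * ng hC (D.simple i) 1 =
        b'.1.1 * b.1.1⁻¹ := by
      rw [xg_add hC, ← xg_inv hC]
      calc _ = (ng hC (D.simple i) (1 : F))⁻¹ * ((xg hC (D.simple i) t')⁻¹ *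
            (xg hC (D.simple i) t * ng hC (D.simple i) 1 * b.1.1)) * b.1.1⁻¹ := by group
        _ = _ := by rw [h']; group
    have h3 : (ng hC (D.simple i) (1 : F))⁻¹ * xg hC (D.simple i) (-t' + t) * ng hC (D.simple i) 1 ∈
        D.borelSubgroup F := by
      rw [h2]; exact mul_mem b'.2 (inv_mem b.2)
    obtain ⟨c, hc⟩ := ng_sq (F := F) hC hi
    have hcB : tor D c ∈ D.borelSubgroup F := Subgroup.mem_sup_right (tor_mem_H hC c)
    have h4 := mul_mem (mul_mem hcB h3) (inv_mem hcB)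
    rw [← hc, show ∀ n x : GL D.Idx F, n * n * (n⁻¹ * x * n) * (n * n)⁻¹ = n * x * n⁻¹ from
      fun n x => by group, ng_conj_x hC hi hp, hC.reflect_simple hi] at h4
    obtain ⟨η, hη, he⟩ := eta_field (F := F) (i := i) (r := D.simple i) hC
    rw [← he] at h4
    have h5 : xg hC (D.neg (D.simple i)) (η * (-t' + t)) ∈ (⊥ : Subgroup (GL D.Idx F)) := by
      rw [← B_inf_V hC]
      refine ⟨h4, xg_mem_V hC (hC.neg_lt hp) ?_ _⟩
      have := hC.phi_simple hi
      rw [hC.phi_neg hp]; omega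
    rw [Subgroup.mem_bot, ← xg_zero hC (D.neg (D.simple i))] at h5
    have h6 := (mul_eq_zero.1 (xg_injective hC (hC.neg_lt hp) h5)).resolve_left hη
    obtain rfl : t' = t := by rw [neg_add_eq_zero] at h6; exact h6
    have : b = b' := Subtype.ext (Subtype.ext (mul_left_cancel h'))
    rw [this]
  · rintro ⟨x, hx⟩
    obtain ⟨b, hb, b', hb', e⟩ := mem_dc.1 ((hdc x).1 hx)
    obtain ⟨u, hu, h, hh, hbu⟩ := (mem_B_iff hC).1 (Subgroup.mem_subgroupOf.1 hb)
    obtain ⟨v, hv, t, hvt⟩ := U_split hC hp (hC.phi_simple hi) hu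
    obtain ⟨v', hv', e1⟩ : ∃ v' ∈ Uom hC F (D.simple i), u = xg hC (D.simple i) t * v' := by
      refine ⟨(xg hC (D.simple i) t)⁻¹ * v * xg hC (D.simple i) t, ?_, by rw [hvt]; group⟩
      have := (Subgroup.mem_normalizer_iff.1 (inv_mem (xg_normalizes_Uom hC hi t)) v).1 hv
      rwa [inv_inv] at this
    have hc : (s : D.group F).1⁻¹ * (v' * h) * (s : D.group F).1 * b'.1 ∈ D.borelSubgroup F := by
      refine mul_mem ?_ hb'
      rw [hs, show (ng hC (D.simple i) (1 : F))⁻¹ * (v' * h) * ng hC (D.simple i) 1 =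
        ((ng hC (D.simple i) (1 : F))⁻¹ * v' * ng hC (D.simple i) 1) *
          ((ng hC (D.simple i) (1 : F))⁻¹ * h * ng hC (D.simple i) 1) by group]
      have h1 := (Subgroup.mem_normalizer_iff.1 (inv_mem (ng_normalizes_Uom hC hi)) v').1 hv'
      rw [inv_inv] at h1
      have h2 := H_conj hC (inv_mem (ng_mem_N (F := F) hC hi)) hh
      rw [inv_inv] at h2
      exact mul_mem (Subgroup.mem_sup_left (Uom_le_U hC _ h1)) (Subgroup.mem_sup_right h2)
    refine ⟨(t, ⟨⟨_, B_le_group hC hc⟩, hc⟩), Subtype.ext (Subtype.ext ?_)⟩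
    show xg hC (D.simple i) t * (s : D.group F).1 *
      ((s : D.group F).1⁻¹ * (v' * h) * (s : D.group F).1 * b'.1) = x.1
    rw [e, Subgroup.coe_mul, Subgroup.coe_mul, hbu, e1]
    group

theorem card_constituents [Fintype F] {M : Type*} [Group M]
    (φ : D.monomialSubgroup F →* M) (hsurj : Function.Surjective φ)
    (hker : φ.ker = (D.diagonalSubgroup F).subgroupOf (D.monomialSubgroup F)) :
    Nat.card {χ : Cfsg.IrrCharacter (D.group F) // ∃ f : D.group F → ℂ,
      Cfsg.IsCharacter (D.group F) f ∧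
      Cfsg.fixedPointCharacter ((D.borelSubgroup F).subgroupOf (D.group F)) =
        (χ : D.group F → ℂ) + f} = Nat.card (ConjClasses M) := by
  classical
  haveI : Fintype (W (bn (F := F) hC)) := Fintype.ofFinite _
  haveI : Fintype (bn (F := F) hC).S := Fintype.ofFinite _
  let ι : (bn (F := F) hC).N →* D.monomialSubgroup F :=
    { toFun := fun n => ⟨n.1.1, n.2⟩
      map_one' := rfl
      map_mul' := fun _ _ => rfl }
  have hιsurj : Function.Surjective (φ.comp ι) := fun m => by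
    obtain ⟨g, rfl⟩ := hsurj m
    exact ⟨⟨⟨g.1, N_le_group hC g.2⟩, g.2⟩, rfl⟩
  have hk : (φ.comp ι).ker = Cfsg.Agent.BN.Basic.T (bn (F := F) hC) := by
    ext n
    rw [MonoidHom.mem_ker, MonoidHom.comp_apply, ← MonoidHom.mem_ker, hker, Subgroup.mem_subgroupOf,
      Subgroup.mem_subgroupOf, ← B_inf_N hC]
    exact Iff.rfl
  let e : W (bn (F := F) hC) ≃* M :=
    (QuotientGroup.quotientMulEquivOfEq hk.symm).trans
      (QuotientGroup.quotientKerEquivOfSurjective _ hιsurj)
  have hq1 : 1 ≤ Fintype.card F := Fintype.card_pos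
  show Nat.card {χ : Cfsg.IrrCharacter (D.group F) // ∃ f : D.group F → ℂ,
      Cfsg.IsCharacter (D.group F) f ∧
      Cfsg.fixedPointCharacter (bn (F := F) hC).B = (χ : D.group F → ℂ) + f} = _
  rw [Cfsg.Agent.SimpleFacts.HeckeGroup.card_constituents _ (card_cell_gen hC) hq1,
    Cfsg.Agent.SimpleFacts.HeckeCentre.finrank_centre_eq _ hq1 le_rfl, Nat.cast_one,
    Cfsg.Agent.SimpleFacts.HeckeCentre.finrank_centre_one]
  refine Nat.card_congr (Equiv.ofBijective (ConjClasses.map e.toMonoidHom) ⟨?_, ?_⟩)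
  · intro a b h
    induction a using Quotient.inductionOn with | _ a =>
    induction b using Quotient.inductionOn with | _ b =>
    have h' : IsConj (e a) (e b) := ConjClasses.mk_eq_mk_iff_isConj.1 h
    exact ConjClasses.mk_eq_mk_iff_isConj.2
      (by simpa using MonoidHom.map_isConj e.symm.toMonoidHom h')
  · exact ConjClasses.map_surjective e.surjective

end Cfsg.Agent.SimpleFacts.ChevalleyPrincipalSeries
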