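import Mathlib
import Cfsg.Agent.Lib.Characters.Inner
import Cfsg.Agent.Lib.Characters.Schur

/-!
# The constituents of the permutation character of `SL_n` on nonzero vectors
-/

set_option autoImplicit false

open Module Matrix

namespace Cfsg.Agent.SimpleFacts.VectorPerm

open Cfsg.Agent.Characters

variable {F : Type*} [Field F] [Fintype F] [DecidableEq F] {n : ℕ}

local notation "Vnz" => {v : Fin n → F // v ≠ 0}
local notation "SLn" => Matrix.SpecialLinearGroup (Fin n) F

/-- `(g, l)` acts by `v ↦ l • g v`. -/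
noncomputable def act (F : Type*) [Field F] (n : ℕ) :
    Matrix.SpecialLinearGroup (Fin n) F × Fˣ →* Equiv.Perm {v : Fin n → F // v ≠ 0} where
  toFun gl :=
    { toFun := fun v => ⟨(gl.2 : F) • Matrix.SpecialLinearGroup.toLin' gl.1 v.1, by
        simp [smul_eq_zero, v.2]⟩
      invFun := fun v => ⟨((gl.2⁻¹ : Fˣ) : F) • (Matrix.SpecialLinearGroup.toLin' gl.1).symm v.1, by
        simp [smul_eq_zero, v.2]⟩
      left_inv := fun v => Subtype.ext (by simp [smul_smul])
      right_inv := fun v => Subtype.ext (by simp [smul_smul]) }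
  map_one' := Equiv.ext fun v => Subtype.ext (by simp)
  map_mul' a b := Equiv.ext fun v => Subtype.ext (by simp [mul_smul])

theorem act_apply (g : SLn) (l : Fˣ) (v : Vnz) :
    (act F n (g, l) v : Fin n → F) = (l : F) • (g : Matrix (Fin n) (Fin n) F) *ᵥ v.1 := by
  show (l : F) • Matrix.SpecialLinearGroup.toLin' g v.1 = _
  rw [Matrix.SpecialLinearGroup.toLin'_apply, Matrix.toLin'_apply]

/-- Number of fixed vectors of `(g, l)`. -/
noncomputable def fix (g : SLn) (l : Fˣ) : ℕ := Nat.card {v : Vnz // act F n (g, l) v = v}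

theorem isCharacter_fix :
    Cfsg.IsCharacter (Matrix.SpecialLinearGroup (Fin n) F × Fˣ) (fun gl => (fix gl.1 gl.2 : ℂ)) :=
  isCharacter_comp (act F n) (isCharacter_permChar Vnz)

/-- The constituent belonging to a linear character of the scalars. -/
noncomputable def psi (θ : Fˣ →* ℂˣ) (g : SLn) : ℂ :=
  (Nat.card Fˣ : ℂ)⁻¹ * ∑ l : Fˣ, (θ l : ℂ) * (fix g l : ℂ)

theorem psi_isClassFunction (θ : Fˣ →* ℂˣ) :
    Cfsg.IsClassFunction (Matrix.SpecialLinearGroup (Fin n) F) (psi θ) := by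
  intro g h
  simp only [psi]
  congr 1
  refine Finset.sum_congr rfl fun l _ => ?_
  congr 1
  have := char_isClassFunction (isCharacter_fix (F := F) (n := n)) (g, l) (h, 1)
  simpa using this

theorem isCharacter_psi (θ : Fˣ →* ℂˣ) :
    Cfsg.IsCharacter (Matrix.SpecialLinearGroup (Fin n) F) (psi θ) := by
  refine isCharacter_of_classInner_nat (psi_isClassFunction θ) fun χ hχ => ?_
  have hprod : Cfsg.IsCharacter (Matrix.SpecialLinearGroup (Fin n) F × Fˣ)
      (fun gl => χ gl.1 * ((θ⁻¹ : Fˣ →* ℂˣ) gl.2 : ℂ)) :=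
    isCharacter_mul
      (show Cfsg.IsCharacter (Matrix.SpecialLinearGroup (Fin n) F × Fˣ) (fun gl => χ gl.1) from
        isCharacter_comp (MonoidHom.fst (Matrix.SpecialLinearGroup (Fin n) F) Fˣ) (isCharacter_of_isIrr hχ))
      (show Cfsg.IsCharacter (Matrix.SpecialLinearGroup (Fin n) F × Fˣ) (fun gl => ((θ⁻¹ : Fˣ →* ℂˣ) gl.2 : ℂ)) from
        isCharacter_comp (MonoidHom.snd (Matrix.SpecialLinearGroup (Fin n) F) Fˣ) (isCharacter_linear θ⁻¹))
  obtain ⟨k, hk⟩ := classInner_char_nat (isCharacter_fix (F := F) (n := n)) hprod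
  refine ⟨k, ?_⟩
  have hconj : ∀ l : Fˣ, starRingEnd ℂ ((θ⁻¹ : Fˣ →* ℂˣ) l : ℂ) = (θ l : ℂ) := fun l => by
    rw [← char_inv (isCharacter_linear θ⁻¹) l]
    simp
  rw [← hk, classInner_def, classInner_def, Fintype.sum_prod_type, Nat.card_prod, Nat.cast_mul, mul_inv,
    mul_assoc]
  congr 1
  rw [Finset.mul_sum]
  refine Finset.sum_congr rfl fun g _ => ?_
  rw [psi, mul_assoc, Finset.sum_mul]
  congr 1
  refine Finset.sum_congr rfl fun l _ => ?_
  simp only [map_mul, hconj]
  ring

noncomputable instance instFintypeScalarChars : Fintype (Fˣ →* ℂˣ) :=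
  haveI : Finite (Fˣ →* ℂˣ) := Nat.finite_of_card_ne_zero (by
    rw [CommGroup.card_monoidHom_of_hasEnoughRootsOfUnity Fˣ ℂ]; exact Nat.card_pos.ne')
  Fintype.ofFinite _

theorem sum_theta (l : Fˣ) :
    ∑ θ : Fˣ →* ℂˣ, (θ l : ℂ) = if l = 1 then (Nat.card Fˣ : ℂ) else 0 := by
  classical
  split_ifs with h
  · subst h
    simp only [map_one, Units.val_one, Finset.sum_const, Finset.card_univ, nsmul_eq_mul, mul_one]
    rw [← CommGroup.card_monoidHom_of_hasEnoughRootsOfUnity Fˣ ℂ, Nat.card_eq_fintype_card]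
  · obtain ⟨θ₀, h0⟩ := CommGroup.exists_apply_ne_one_of_hasEnoughRootsOfUnity Fˣ ℂ h
    have key : (θ₀ l : ℂ) * ∑ θ : Fˣ →* ℂˣ, (θ l : ℂ) = ∑ θ : Fˣ →* ℂˣ, (θ l : ℂ) := by
      rw [Finset.mul_sum]
      exact Fintype.sum_equiv (Equiv.mulLeft θ₀) _ _ fun θ => by simp
    have h1 : ((θ₀ l : ℂ) - 1) * ∑ θ : Fˣ →* ℂˣ, (θ l : ℂ) = 0 := by rw [sub_mul, key, one_mul, sub_self]
    exact (mul_eq_zero.1 h1).resolve_left (sub_ne_zero.2 fun e => h0 (Units.ext e))

theorem sum_psi (g : SLn) : ∑ θ : Fˣ →* ℂˣ, psi θ g = (fix g 1 : ℂ) := by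
  simp only [psi]
  rw [← Finset.mul_sum, Finset.sum_comm]
  simp only [← Finset.sum_mul, sum_theta, ite_mul, zero_mul]
  rw [Finset.sum_ite_eq']
  simp

theorem psi_one (θ : Fˣ →* ℂˣ) :
    psi θ (1 : SLn) = (Nat.card Fˣ : ℂ)⁻¹ * Nat.card Vnz := by
  classical
  rw [psi, Finset.sum_eq_single (1 : Fˣ)]
  · simp [fix, Prod.mk_one_one]
  · intro l _ hl
    have : fix (1 : SLn) l = 0 := by
      rw [fix, Nat.card_eq_zero]
      refine Or.inl ⟨fun ⟨v, hv⟩ => ?_⟩
      have h := congrArg Subtype.val hv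
      rw [act_apply, Matrix.SpecialLinearGroup.coe_one, Matrix.one_mulVec] at h
      refine v.2 ?_
      have h2 : ((l : F) - 1) • v.1 = 0 := by rw [sub_smul, one_smul, h, sub_self]
      exact (smul_eq_zero.1 h2).resolve_left (sub_ne_zero.2 fun e => hl (Units.ext e))
    simp [this]
  · simp

/-- Two linearly independent pairs are moved into one another by `SL_n`, `n ≥ 3`. -/
theorem exists_pair (hn : 3 ≤ n) {u v u' v' : Fin n → F} (h : LinearIndependent F ![u, v])
    (h' : LinearIndependent F ![u', v']) :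
    ∃ g : SLn, (g : Matrix (Fin n) (Fin n) F) *ᵥ u = u' ∧ (g : Matrix (Fin n) (Fin n) F) *ᵥ v = v' := by
  classical
  have hb : ∀ {a b : Fin n → F}, LinearIndependent F ![a, b] → ∃ (t : Basis (Fin n) F (Fin n → F)),
      t ⟨0, by omega⟩ = a ∧ t ⟨1, by omega⟩ = b := by
    intro a b hab
    let B := Basis.sumExtend hab
    haveI : Finite (Basis.sumExtendIndex hab) :=
      haveI := Module.Finite.finite_basis B
      Finite.of_injective (Sum.inr : _ → Fin 2 ⊕ Basis.sumExtendIndex hab) Sum.inr_injective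
    haveI : Fintype (Basis.sumExtendIndex hab) := Fintype.ofFinite _
    have hc : Fintype.card (Basis.sumExtendIndex hab) = n - 2 := by
      have h1 := finrank_eq_card_basis B
      rw [finrank_pi, Fintype.card_fin, Fintype.card_sum, Fintype.card_fin] at h1
      omega
    let e : Fin 2 ⊕ Basis.sumExtendIndex hab ≃ Fin n :=
      ((Equiv.refl _).sumCongr (Fintype.equivFinOfCardEq hc)).trans
        (finSumFinEquiv.trans (finCongr (by omega)))
    refine ⟨B.reindex e, ?_, ?_⟩
    · rw [Basis.reindex_apply, show e.symm ⟨0, by omega⟩ = Sum.inl 0 from e.symm_apply_eq.2 (Fin.ext rfl)]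
      simp [B, Basis.sumExtend, Equiv.ofInjective_apply, Equiv.Set.sumDiffSubset]
      rfl
    · rw [Basis.reindex_apply, show e.symm ⟨1, by omega⟩ = Sum.inl 1 from e.symm_apply_eq.2 (Fin.ext rfl)]
      simp [B, Basis.sumExtend, Equiv.ofInjective_apply, Equiv.Set.sumDiffSubset]
      rfl
  obtain ⟨t, t0, t1⟩ := hb h
  obtain ⟨t', t0', t1'⟩ := hb h'
  let L := t.equiv t' (Equiv.refl _)
  have hdet : LinearMap.det (L : (Fin n → F) →ₗ[F] (Fin n → F)) ≠ 0 := L.isUnit_det'.ne_zero
  set d := LinearMap.det (L : (Fin n → F) →ₗ[F] (Fin n → F)) with hd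
  let i2 : Fin n := ⟨2, by omega⟩
  let S : (Fin n → F) →ₗ[F] (Fin n → F) := t'.constr F fun i => (if i = i2 then d⁻¹ else 1) • t' i
  have hS : ∀ i, S (t' i) = (if i = i2 then d⁻¹ else 1) • t' i := fun i => t'.constr_basis F _ i
  have hSdet : LinearMap.det S = d⁻¹ := by
    rw [← LinearMap.det_toMatrix t', show LinearMap.toMatrix t' t' S =
        Matrix.diagonal (fun i => if i = i2 then d⁻¹ else 1) by
      ext i j
      rw [LinearMap.toMatrix_apply, hS, map_smul, Basis.repr_self, Finsupp.smul_single, smul_eq_mul,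
        mul_one, Matrix.diagonal_apply, Finsupp.single_apply]
      by_cases h : i = j
      · subst h; simp
      · simp [h, Ne.symm h],
      Matrix.det_diagonal, Finset.prod_ite_eq']
    simp
  refine ⟨⟨LinearMap.toMatrix' (S.comp (L : (Fin n → F) →ₗ[F] (Fin n → F))), ?_⟩, ?_, ?_⟩
  · rw [LinearMap.det_toMatrix', LinearMap.det_comp, hSdet, inv_mul_cancel₀ hdet]
  · show LinearMap.toMatrix' _ *ᵥ u = u'
    rw [← Matrix.toLin'_apply, Matrix.toLin'_toMatrix', LinearMap.comp_apply, ← t0,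
      LinearEquiv.coe_coe, Basis.equiv_apply, Equiv.refl_apply, hS, t0',
      if_neg (by simp [i2, Fin.ext_iff]), one_smul]
  · show LinearMap.toMatrix' _ *ᵥ v = v'
    rw [← Matrix.toLin'_apply, Matrix.toLin'_toMatrix', LinearMap.comp_apply, ← t1,
      LinearEquiv.coe_coe, Basis.equiv_apply, Equiv.refl_apply, hS, t1',
      if_neg (by simp [i2, Fin.ext_iff]), one_smul]

/-- The action of `SL_n` on nonzero vectors. -/
noncomputable def vecAct (F : Type*) [Field F] (n : ℕ) :
    Matrix.SpecialLinearGroup (Fin n) F →* Equiv.Perm {v : Fin n → F // v ≠ 0} :=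
  (act F n).comp ((MonoidHom.id _).prod 1)

theorem vecAct_apply (g : SLn) (v : Vnz) :
    (vecAct F n g v : Fin n → F) = (g : Matrix (Fin n) (Fin n) F) *ᵥ v.1 := by
  show (act F n (g, 1) v : Fin n → F) = _
  rw [act_apply, Units.val_one, one_smul]

theorem fix_one_eq (g : SLn) : fix g 1 = Nat.card {v : Vnz // vecAct F n g v = v} := rfl

theorem indep_pair {a : Fin n → F} (ha : a ≠ 0) (hn : 3 ≤ n) :
    ∃ w : Fin n → F, LinearIndependent F ![a, w] := by
  obtain ⟨w, hw⟩ : ∃ w, w ∉ Submodule.span F {a} := by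
    by_contra h
    push Not at h
    have : (⊤ : Submodule F (Fin n → F)) ≤ Submodule.span F {a} := fun x _ => h x
    have h1 := Submodule.finrank_mono this
    rw [finrank_top, finrank_pi, Fintype.card_fin, finrank_span_singleton ha] at h1
    omega
  refine ⟨w, (LinearIndependent.pair_iff' ha).2 fun c hc => hw ?_⟩
  exact Submodule.mem_span_singleton.2 ⟨c, hc⟩

theorem exists_move (hn : 3 ≤ n) (u v : Vnz) : ∃ g : SLn, vecAct F n g u = v := by
  obtain ⟨w, hw⟩ := indep_pair u.2 hn
  obtain ⟨w', hw'⟩ := indep_pair v.2 hn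
  obtain ⟨g, hg, -⟩ := exists_pair hn hw hw'
  exact ⟨g, Subtype.ext (by rw [vecAct_apply, hg])⟩

theorem sum_fix_one (hn : 3 ≤ n) : ∑ g : SLn, fix g 1 = Nat.card SLn := by
  classical
  letI : MulAction SLn Vnz := MulAction.compHom Vnz (vecAct F n)
  haveI : MulAction.IsPretransitive SLn Vnz := ⟨fun u v => exists_move hn u v⟩
  haveI : Nonempty Vnz := ⟨⟨fun _ => 1, fun h => one_ne_zero (congrFun h ⟨0, by omega⟩)⟩⟩
  haveI := Fintype.ofFinite (MulAction.orbitRel.Quotient SLn Vnz)
  have h := MulAction.sum_card_fixedBy_eq_card_orbits_mul_card_group SLn Vnz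
  have h1 : Fintype.card (MulAction.orbitRel.Quotient SLn Vnz) = 1 := by
    rw [← Nat.card_eq_fintype_card, Nat.card_eq_one_iff_unique]
    haveI := (MulAction.pretransitive_iff_subsingleton_quotient SLn Vnz).1 inferInstance
    exact ⟨inferInstance, Nonempty.map Quotient.mk'' (inferInstance : Nonempty Vnz)⟩
  rw [h1, one_mul] at h
  rw [Nat.card_eq_fintype_card, ← h]
  refine Finset.sum_congr rfl fun g _ => ?_
  rw [fix_one_eq, ← Nat.card_eq_fintype_card]
  rfl

/-- The diagonal action on pairs. -/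
def diagPerm (α : Type*) : Equiv.Perm α →* Equiv.Perm (α × α) where
  toFun σ := σ.prodCongr σ
  map_one' := rfl
  map_mul' _ _ := rfl

theorem sum_fix_sq (hn : 3 ≤ n) :
    ∑ g : SLn, fix g 1 * fix g 1 = Fintype.card F * Nat.card SLn := by
  classical
  letI : MulAction SLn (Vnz × Vnz) :=
    MulAction.compHom (Vnz × Vnz) ((diagPerm Vnz).comp (vecAct F n))
  have hsm : ∀ (g : SLn) (x : Vnz × Vnz), g • x = (vecAct F n g x.1, vecAct F n g x.2) := fun g x => rfl
  haveI := Fintype.ofFinite (MulAction.orbitRel.Quotient SLn (Vnz × Vnz))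
  have h := MulAction.sum_card_fixedBy_eq_card_orbits_mul_card_group SLn (Vnz × Vnz)
  rw [Nat.card_eq_fintype_card]
  have h2 : ∀ g : SLn, Fintype.card (MulAction.fixedBy (Vnz × Vnz) g) = fix g 1 * fix g 1 := by
    intro g
    rw [← Nat.card_eq_fintype_card, fix_one_eq, ← Nat.card_prod]
    exact Nat.card_congr
      { toFun := fun x => (⟨x.1.1, congrArg Prod.fst x.2⟩, ⟨x.1.2, congrArg Prod.snd x.2⟩)
        invFun := fun x => ⟨(x.1.1, x.2.1), Prod.ext x.1.2 x.2.2⟩
        left_inv := fun x => rfl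
        right_inv := fun x => rfl }
  rw [Finset.sum_congr rfl fun g _ => (h2 g).symm, h]
  congr 1
  -- the orbits
  let i0 : Fin n := ⟨0, by omega⟩
  obtain ⟨w₀, hw₀⟩ := indep_pair (a := (Pi.single i0 1 : Fin n → F)) (by simp) hn
  let e₀ : Vnz := ⟨Pi.single i0 1, by simp⟩
  have hw0 : w₀ ≠ 0 := hw₀.ne_zero 1
  let f : Fˣ ⊕ Unit → MulAction.orbitRel.Quotient SLn (Vnz × Vnz) := fun s => Quotient.mk''
    (Sum.elim (fun l : Fˣ => (e₀, ⟨(l : F) • e₀.1, by simp [smul_eq_zero, e₀.2]⟩)) (fun _ => (e₀, ⟨w₀, hw0⟩)) s)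
  have hf : Function.Bijective f := by
    constructor
    · intro s s' hss
      obtain ⟨g, hg⟩ := Quotient.eq''.1 hss
      have hg' := (hsm g _).symm.trans hg
      rcases s with l | ⟨⟩ <;> rcases s' with l' | ⟨⟩
      · have h1 := congrArg (fun x : Vnz × Vnz => (x.1 : Fin n → F)) hg'
        have h2 := congrArg (fun x : Vnz × Vnz => (x.2 : Fin n → F)) hg'
        simp only [Sum.elim_inl, vecAct_apply, Matrix.mulVec_smul] at h1 h2
        rw [h1] at h2
        exact congrArg Sum.inl (Units.ext (smul_left_injective F e₀.2 h2)).symm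
      · exfalso
        have h1 := congrArg (fun x : Vnz × Vnz => (x.1 : Fin n → F)) hg'
        have h2 := congrArg (fun x : Vnz × Vnz => (x.2 : Fin n → F)) hg'
        simp only [Sum.elim_inl, Sum.elim_inr, vecAct_apply] at h1 h2
        have hg2 : ∀ x : Fin n → F, (g : Matrix (Fin n) (Fin n) F) *ᵥ x = (l : F) • e₀.1 →
            (g : Matrix (Fin n) (Fin n) F) *ᵥ e₀.1 = e₀.1 → x = (l : F) • e₀.1 := by
          intro x hx he
          refine (Matrix.SpecialLinearGroup.toLin' g).injective ?_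
          simp only [Matrix.SpecialLinearGroup.toLin'_apply, Matrix.toLin'_apply]
          rw [hx, Matrix.mulVec_smul, he]
        exact (LinearIndependent.pair_iff' e₀.2).1 hw₀ (l : F) (hg2 w₀ h2 h1).symm
      · exfalso
        have h1 := congrArg (fun x : Vnz × Vnz => (x.1 : Fin n → F)) hg'
        have h2 := congrArg (fun x : Vnz × Vnz => (x.2 : Fin n → F)) hg'
        simp only [Sum.elim_inl, Sum.elim_inr, vecAct_apply, Matrix.mulVec_smul] at h1 h2
        rw [h1] at h2
        exact (LinearIndependent.pair_iff' e₀.2).1 hw₀ (l' : F) h2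
      · rfl
    · intro O
      obtain ⟨⟨u, v⟩, rfl⟩ := Quotient.exists_rep O
      by_cases hd : LinearIndependent F ![u.1, v.1]
      · obtain ⟨g, hg, hg'⟩ := exists_pair hn hd hw₀
        refine ⟨Sum.inr (), Quotient.sound ⟨g, ?_⟩⟩
        refine (hsm g _).trans ?_
        exact Prod.ext (Subtype.ext (by rw [vecAct_apply]; exact hg))
          (Subtype.ext (by rw [vecAct_apply]; exact hg'))
      · rw [LinearIndependent.pair_iff' u.2] at hd
        push Not at hd
        obtain ⟨c, hc⟩ := hd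
        have hc0 : c ≠ 0 := fun h0 => v.2 (by rw [← hc, h0, zero_smul])
        obtain ⟨g, hg⟩ := exists_move hn u e₀
        refine ⟨Sum.inl (Units.mk0 c hc0), Quotient.sound ⟨g, ?_⟩⟩
        refine (hsm g _).trans ?_
        refine Prod.ext hg (Subtype.ext ?_)
        rw [vecAct_apply, ← hc, Matrix.mulVec_smul, ← vecAct_apply, hg]
        rfl
  rw [← Fintype.card_of_bijective hf, Fintype.card_sum, Fintype.card_units, Fintype.card_unit]
  have := Fintype.one_lt_card (α := F)
  omega

theorem main_deg (hn : 3 ≤ n) :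
    ∃ χ : Fin (Fintype.card F - 1) → (Matrix.SpecialLinearGroup (Fin n) F → ℂ),
      (∀ i, Cfsg.IsIrrCharacter (Matrix.SpecialLinearGroup (Fin n) F) (χ i)) ∧ Function.Injective χ ∧
      (∀ g : SLn, (fix g 1 : ℂ) = 1 + ∑ i, χ i g) ∧
      ∃ i, χ i 1 = (Nat.card Fˣ : ℂ)⁻¹ * Nat.card Vnz - 1 := by
  classical
  let χ' : (Fˣ →* ℂˣ) → SLn → ℂ := fun θ g => psi θ g - (if θ = 1 then 1 else 0)
  -- inner products with the trivial character
  have hone : ∀ θ : Fˣ →* ℂˣ, Cfsg.classInner (psi θ) (fun _ : SLn => (1 : ℂ)) = if θ = 1 then 1 else 0 := by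
    choose m hm using fun θ : Fˣ →* ℂˣ => classInner_char_nat (isCharacter_psi (F := F) (n := n) θ)
      (isCharacter_one (G := Matrix.SpecialLinearGroup (Fin n) F))
    have hsum : ∑ θ, m θ = 1 := by
      have h := classInner_sum_left Finset.univ (fun θ : Fˣ →* ℂˣ => psi (F := F) (n := n) θ) (fun _ => (1 : ℂ))
      simp only [hm] at h
      rw [show (∑ θ : Fˣ →* ℂˣ, psi (F := F) (n := n) θ) = fun g => (fix g 1 : ℂ) by
        funext g; rw [Finset.sum_apply, sum_psi]] at h
      rw [classInner_def] at h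
      simp only [map_one, mul_one] at h
      rw [← Nat.cast_sum, sum_fix_one hn, inv_mul_cancel₀ natCard_ne_zero] at h
      exact_mod_cast h.symm
    have h1 : m 1 ≠ 0 := by
      intro h0
      have h := hm 1
      rw [h0, Nat.cast_zero, classInner_def] at h
      simp only [map_one, mul_one, psi, MonoidHom.one_apply, Units.val_one, one_mul, ← Finset.mul_sum] at h
      have h' : (∑ g : SLn, ∑ l : Fˣ, (fix g l : ℂ)) = 0 :=
        ((mul_eq_zero.1 ((mul_eq_zero.1 h).resolve_left (inv_ne_zero natCard_ne_zero))).resolve_left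
          (inv_ne_zero natCard_ne_zero))
      have h'' : ∑ g : SLn, ∑ l : Fˣ, fix g l = 0 := by exact_mod_cast h'
      simp only [Finset.sum_eq_zero_iff, Finset.mem_univ, forall_const] at h''
      have := h'' 1 1
      rw [fix_one_eq, Nat.card_eq_zero] at this
      rcases this with hE | hI
      · exact hE.elim ⟨⟨fun _ => 1, fun h => one_ne_zero (congrFun h ⟨0, by omega⟩)⟩, by simp⟩
      · exact not_finite {v : Vnz // vecAct F n 1 v = v}
    intro θ
    rw [hm]
    split_ifs with hθ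
    · subst hθ
      have := Finset.single_le_sum (fun i _ => Nat.zero_le (m i)) (Finset.mem_univ (1 : Fˣ →* ℂˣ))
      rw [hsum] at this
      norm_num [show m 1 = 1 by omega]
    · have := Finset.add_le_sum (fun i _ => Nat.zero_le (m i)) (Finset.mem_univ θ) (Finset.mem_univ (1 : Fˣ →* ℂˣ)) hθ
      rw [hsum] at this
      simp [show m θ = 0 by omega]
  have hδ : ∀ θ : Fˣ →* ℂˣ, χ' θ = psi θ - (if θ = 1 then (1 : ℂ) else 0) • fun _ : SLn => (1 : ℂ) := by
    intro θ; funext g; by_cases h : θ = 1 <;> simp [χ', h]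
  have hχ : ∀ θ, Cfsg.IsCharacter (Matrix.SpecialLinearGroup (Fin n) F) (χ' θ) := by
    intro θ
    refine isCharacter_of_classInner_nat (fun g h => by simp only [χ']; rw [psi_isClassFunction θ g h]) fun φ hφ => ?_
    rw [hδ, classInner_sub_left, classInner_smul_left]
    by_cases hφ1 : φ = fun _ => 1
    · subst hφ1
      exact ⟨0, by rw [hone, classInner_isIrr_self isIrrCharacter_one, mul_one, sub_self, Nat.cast_zero]⟩
    · obtain ⟨k, hk⟩ := classInner_char_nat (isCharacter_psi (F := F) (n := n) θ) (isCharacter_of_isIrr hφ)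
      exact ⟨k, by rw [hk, classInner_isIrr_ne isIrrCharacter_one hφ (Ne.symm hφ1), mul_zero, sub_zero]⟩
  have hpi : ∀ g : SLn, (fix g 1 : ℂ) = 1 + ∑ θ, χ' θ g := fun g => by
    simp [χ', Finset.sum_sub_distrib, sum_psi]
  have horth : ∀ θ, Cfsg.classInner (χ' θ) (fun _ : SLn => (1 : ℂ)) = 0 := fun θ => by
    rw [hδ, classInner_sub_left, classInner_smul_left, hone, classInner_isIrr_self isIrrCharacter_one,
      mul_one, sub_self]
  have horth' : ∀ θ, Cfsg.classInner (fun _ : SLn => (1 : ℂ)) (χ' θ) = 0 := fun θ => by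
    rw [classInner_conj_symm, horth, map_zero]
  choose a ha using fun θ θ' => classInner_char_nat (hχ θ) (hχ θ')
  have hcard : Fintype.card (Fˣ →* ℂˣ) = Fintype.card F - 1 := by
    rw [← Nat.card_eq_fintype_card, CommGroup.card_monoidHom_of_hasEnoughRootsOfUnity Fˣ ℂ,
      Nat.card_eq_fintype_card, Fintype.card_units]
  have htot : ∑ θ, ∑ θ', a θ θ' + 1 = Fintype.card F := by
    have h : Cfsg.classInner (fun g : SLn => (fix g 1 : ℂ)) (fun g => (fix g 1 : ℂ)) = (Fintype.card F : ℂ) := by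
      rw [classInner_def]
      simp only [Complex.conj_natCast, ← Nat.cast_mul, ← Nat.cast_sum, sum_fix_sq hn]
      rw [Nat.cast_mul, mul_left_comm, inv_mul_cancel₀ natCard_ne_zero, mul_one]
    rw [show (fun g : SLn => (fix g 1 : ℂ)) = (fun _ => (1 : ℂ)) + ∑ θ, χ' θ by
      funext g; rw [Pi.add_apply, Finset.sum_apply, hpi]] at h
    simp only [classInner_add_left, classInner_add_right, classInner_sum_left, classInner_sum_right,
      classInner_isIrr_self isIrrCharacter_one, horth, horth', ha, Finset.sum_const_zero, add_zero, zero_add] at h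
    rw [Finset.sum_comm]
    exact_mod_cast (add_comm _ _).trans h
  have hdiag : ∀ θ, 1 ≤ a θ θ := by
    intro θ
    rw [Nat.one_le_iff_ne_zero]
    intro h0
    have h : χ' θ = 0 := classInner_self_eq_zero.1 (by rw [ha, h0, Nat.cast_zero])
    have h1 := congrFun h 1
    simp only [χ', psi_one, Pi.zero_apply] at h1
    have hX : Fintype.card Fˣ < Nat.card Vnz := by
      rw [Nat.card_eq_fintype_card]
      refine Fintype.card_lt_of_injective_not_surjective
        (fun l : Fˣ => (⟨Pi.single ⟨0, by omega⟩ (l : F), by simp⟩ : Vnz)) (fun l l' e => ?_) fun hs => ?_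
      · exact Units.ext (Pi.single_injective _ (congrArg Subtype.val e))
      · obtain ⟨l, hl⟩ := hs ⟨Pi.single ⟨1, by omega⟩ 1, by simp⟩
        have := congrFun (congrArg Subtype.val hl) ⟨1, by omega⟩
        simp [Pi.single_apply, Fin.ext_iff] at this
    have hq : (Nat.card Fˣ : ℂ) ≠ 0 := natCard_ne_zero
    split_ifs at h1
    · have e : (Nat.card Vnz : ℂ) = Nat.card Fˣ := by
        field_simp at h1; linear_combination h1
      rw [Nat.cast_inj, Nat.card_eq_fintype_card (α := Fˣ)] at e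
      omega
    · rw [sub_zero, mul_eq_zero] at h1
      rcases h1 with h1 | h1
      · exact inv_ne_zero hq h1
      · rw [Nat.cast_eq_zero] at h1; omega
  have hle : ∀ θ, ∑ θ', a θ θ' = 1 := by
    intro θ
    by_contra hne
    have h1 : ∀ φ, 1 ≤ ∑ θ', a φ θ' := fun φ =>
      (hdiag φ).trans (Finset.single_le_sum (fun i _ => Nat.zero_le (a φ i)) (Finset.mem_univ φ))
    have := Finset.sum_lt_sum (fun φ _ => h1 φ) ⟨θ, Finset.mem_univ θ, lt_of_le_of_ne (h1 θ) (Ne.symm hne)⟩
    simp only [Finset.sum_const, Finset.card_univ, smul_eq_mul, mul_one, hcard] at this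
    omega
  have hirr : ∀ θ, a θ θ = 1 ∧ ∀ θ', θ' ≠ θ → a θ θ' = 0 := by
    intro θ
    have h1 := hdiag θ
    have h2 := Finset.single_le_sum (fun i _ => Nat.zero_le (a θ i)) (Finset.mem_univ θ)
    rw [hle] at h2
    refine ⟨le_antisymm h2 h1, fun θ' hne => ?_⟩
    have h3 := Finset.add_le_sum (fun i _ => Nat.zero_le (a θ i)) (Finset.mem_univ θ) (Finset.mem_univ θ') hne.symm
    rw [hle] at h3
    omega
  let e := (Fintype.equivFinOfCardEq hcard).symm
  refine ⟨fun i => χ' (e i), fun i => isIrr_of_isCharacter_of_norm_one (hχ _) (by rw [ha, (hirr _).1, Nat.cast_one]),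
    fun i j hij => ?_, fun g => by rw [hpi, Equiv.sum_comp e (fun θ => χ' θ g)], e.symm 1, by
      simp [χ', psi_one]⟩
  by_contra hne
  have h : Cfsg.classInner (χ' (e i)) (χ' (e j)) = Cfsg.classInner (χ' (e i)) (χ' (e i)) := by
    simp only at hij; rw [← hij]
  rw [ha, ha, (hirr _).1, (hirr _).2 _ (fun e' => hne (e.injective e').symm)] at h
  norm_num at h

theorem main (hn : 3 ≤ n) :
    ∃ χ : Fin (Fintype.card F - 1) → (Matrix.SpecialLinearGroup (Fin n) F → ℂ),
      (∀ i, Cfsg.IsIrrCharacter (Matrix.SpecialLinearGroup (Fin n) F) (χ i)) ∧ Function.Injective χ ∧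
      ∀ g : SLn, (fix g 1 : ℂ) = 1 + ∑ i, χ i g :=
  let ⟨χ, h1, h2, h3, _⟩ := main_deg hn
  ⟨χ, h1, h2, h3⟩

end Cfsg.Agent.SimpleFacts.VectorPerm
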