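import Cfsg.Agent.SimpleFacts.LargeOrderSemisimple
import Cfsg.Agent.Lib.Classical.Linear
import Cfsg.Agent.Lib.Classical.UnitaryFrames

/-!
# Primes in centralisers of `p`-elements of `PSLₙ` and `PSUₙ`
-/

set_option autoImplicit false

namespace Cfsg.Agent.SimpleFacts.LargeOrderCentralizer

open Matrix
open Cfsg.Agent.SimpleFacts.LargeOrderSemisimple

/-- An element of order `r` of `G / Z`, `r` prime to `|Z|`, lifts to one killed by `r`. -/
theorem lift_prime_order {G : Type*} [Group G] [Finite G] (Z : Subgroup G) [Z.Normal] {r : ℕ}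
    (hr : r.Prime) (hrZ : ¬ r ∣ Nat.card Z) (x : G ⧸ Z) (hx : x ^ r = 1) :
    ∃ g : G, (g : G ⧸ Z) = x ∧ g ^ r = 1 := by
  obtain ⟨g₀, rfl⟩ := QuotientGroup.mk_surjective x
  have hz : g₀ ^ r ∈ Z := by
    rw [← QuotientGroup.eq_one_iff, QuotientGroup.mk_pow]; exact hx
  have hco : Nat.Coprime r (Nat.card Z) := (Nat.Prime.coprime_iff_not_dvd hr).2 hrZ
  obtain ⟨e, he1, he2⟩ := Nat.chineseRemainder hco 1 0
  refine ⟨g₀ ^ e, ?_, ?_⟩
  · rw [QuotientGroup.mk_pow, pow_eq_pow_mod e hx, he1, ← pow_eq_pow_mod 1 hx, pow_one]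
  · obtain ⟨k, hk⟩ := (Nat.modEq_zero_iff_dvd.1 he2)
    have h1 : (⟨_, hz⟩ : Z) ^ Nat.card Z = 1 := pow_card_eq_one'
    have h2 : (g₀ ^ r) ^ Nat.card Z = 1 := congrArg Subtype.val h1
    rw [hk, ← pow_mul, show Nat.card Z * k * r = r * Nat.card Z * k by ring, pow_mul, pow_mul,
      h2, one_pow]

/-- Lifts of commuting elements commute, if one has order prime to the centre. -/
theorem commute_lift {G : Type*} [Group G] [Finite G] {r : ℕ} (hr : r.Prime)
    (hrZ : ¬ r ∣ Nat.card (Subgroup.center G)) {g h : G} (hh : h ^ r = 1)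
    (hc : Commute (g : G ⧸ Subgroup.center G) (h : G ⧸ Subgroup.center G)) : Commute g h := by
  have hz : g * h * g⁻¹ * h⁻¹ ∈ Subgroup.center G := by
    rw [← QuotientGroup.eq_one_iff]
    simp only [QuotientGroup.mk_mul, QuotientGroup.mk_inv]
    rw [hc.eq]; group
  set z := g * h * g⁻¹ * h⁻¹ with hzdef
  have e : g * h * g⁻¹ = z * h := by rw [hzdef]; group
  have hpow : (g * h * g⁻¹) ^ r = 1 := by rw [conj_pow, hh, mul_one, mul_inv_cancel]
  rw [e, Commute.mul_pow ((Subgroup.mem_center_iff.1 hz h).symm : Commute z h), hh, mul_one] at hpow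
  have hzc : z ^ Nat.card (Subgroup.center G) = 1 :=
    congrArg Subtype.val (pow_card_eq_one' (x := (⟨z, hz⟩ : Subgroup.center G)))
  have h1 := pow_gcd_eq_one.2 ⟨hpow, hzc⟩
  rw [((Nat.Prime.coprime_iff_not_dvd hr).2 hrZ).gcd_eq_one, pow_one] at h1
  rw [h1, one_mul, mul_inv_eq_iff_eq_mul] at e
  exact e

variable {F : Type*} [Field F] [Fintype F] {m : ℕ}

theorem eq_one_of_pow (p : ℕ) [Fact p.Prime] [CharP F p] (hm : 3 ≤ m) (r : ℕ) [Fact r.Prime]
    (hrp : r ≠ p) (s a : Matrix (Fin m) (Fin m) F) (hs : s ^ r = 1) (hs1 : s ≠ 1) (hdet : s.det = 1)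
    (ha : a ^ p = 1) (hsa : Commute s a) (c : ℤ) (hrc0 : ¬ (r : ℤ) ∣ c)
    (hrc : ∀ i : ℕ, 1 ≤ i → i ≤ m - 2 → ¬ (r : ℤ) ∣ c ^ i - 1)
    (hcl : ∀ μ ∈ (s.map (algebraMap F (AlgebraicClosure F))).charpoly.roots,
      μ ^ c ∈ (s.map (algebraMap F (AlgebraicClosure F))).charpoly.roots) : a = 1 := by
  haveI : Nonempty (Fin m) := ⟨⟨0, by omega⟩⟩
  haveI : CharP (AlgebraicClosure F) p :=
    charP_of_injective_algebraMap (algebraMap F _).injective p
  let φ : Matrix (Fin m) (Fin m) F →+* Matrix (Fin m) (Fin m) (AlgebraicClosure F) :=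
    (algebraMap F (AlgebraicClosure F)).mapMatrix
  have hφ : Function.Injective φ := fun x y h =>
    Matrix.map_injective (algebraMap F (AlgebraicClosure F)).injective h
  have hnil : IsNilpotent (φ a - 1) := by
    haveI : CharP (Matrix (Fin m) (Fin m) (AlgebraicClosure F)) p :=
      charP_of_injective_algebraMap (algebraMap (AlgebraicClosure F) _).injective p
    refine ⟨p, ?_⟩
    rw [sub_pow_char_of_commute (p := p) (Commute.one_right _), one_pow, ← map_pow, ha, map_one,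
      sub_self]
  have hSr : φ s ^ r = 1 := by rw [← map_pow, hs, map_one]
  have hS1 : φ s ≠ 1 := fun h => hs1 (hφ (by rw [h, map_one]))
  have hSd : (φ s).det = 1 := by
    show ((algebraMap F (AlgebraicClosure F)).mapMatrix s).det = 1
    rw [← RingHom.map_det, hdet, map_one]
  have hnd := nodup_roots (φ s) r hSr hSd (exists_root_ne_one _ p r hrp hSr hS1) hm c hcl hrc0 hrc
  have := eq_zero_of_nodup (φ s) (φ a - 1) hnd ((hsa.map φ).sub_right (Commute.one_right _)) hnil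
  refine hφ ?_
  rw [map_one]
  exact sub_eq_zero.1 this

theorem frob_fix (p f : ℕ) [Fact p.Prime] (hF : Fintype.card F = p ^ f) [CharP (AlgebraicClosure F) p]
    (x : F) : iterateFrobenius (AlgebraicClosure F) p f (algebraMap F _ x) = algebraMap F _ x := by
  rw [iterateFrobenius_def, ← map_pow, ← hF, FiniteField.pow_card]

theorem closed_linear (p f : ℕ) [Fact p.Prime] [CharP F p] (hF : Fintype.card F = p ^ f)
    (s : Matrix (Fin m) (Fin m) F) :
    ∀ μ ∈ (s.map (algebraMap F (AlgebraicClosure F))).charpoly.roots,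
      μ ^ ((p : ℤ) ^ f) ∈ (s.map (algebraMap F (AlgebraicClosure F))).charpoly.roots := by
  haveI : CharP (AlgebraicClosure F) p :=
    charP_of_injective_algebraMap (algebraMap F _).injective p
  intro μ hμ
  obtain ⟨v, hv, hSv⟩ := exists_eigvec _ hμ
  set σ := iterateFrobenius (AlgebraicClosure F) p f with hσ
  refine mem_roots_of_eigvec _ (v := fun i => σ (v i)) ?_ ?_
  · intro h
    exact hv (funext fun i => σ.injective ((congrFun h i).trans (map_zero σ).symm))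
  · funext i
    have h1 := congrArg σ (congrFun hSv i)
    rw [RingHom.map_mulVec] at h1
    have e : (s.map (algebraMap F (AlgebraicClosure F))).map σ =
        s.map (algebraMap F (AlgebraicClosure F)) := by
      ext i j; simp [hσ, frob_fix p f hF]
    rw [e] at h1
    refine Eq.trans h1 ?_
    rw [Pi.smul_apply, smul_eq_mul, map_mul, hσ, iterateFrobenius_def, Pi.smul_apply, smul_eq_mul,
      show ((p : ℤ) ^ f) = ((p ^ f : ℕ) : ℤ) by push_cast; rfl, zpow_natCast]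

theorem closed_unitary (p g : ℕ) [Fact p.Prime] [CharP F p] (hF : Fintype.card F = (p ^ g) ^ 2)
    (s : Matrix (Fin m) (Fin m) F) (hs : sᵀ * s.map (Forms.HermStd.qHom hF) = 1) :
    ∀ μ ∈ (s.map (algebraMap F (AlgebraicClosure F))).charpoly.roots,
      μ ^ (-((p : ℤ) ^ g)) ∈ (s.map (algebraMap F (AlgebraicClosure F))).charpoly.roots := by
  haveI : CharP (AlgebraicClosure F) p :=
    charP_of_injective_algebraMap (algebraMap F _).injective p
  intro μ hμ
  obtain ⟨v, hv, hSv⟩ := exists_eigvec _ hμ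
  set σ := iterateFrobenius (AlgebraicClosure F) p g with hσ
  set S := s.map (algebraMap F (AlgebraicClosure F)) with hS
  have hST : Sᵀ * S.map σ = 1 := by
    have h1 := congrArg (algebraMap F (AlgebraicClosure F)).mapMatrix hs
    rw [map_mul, map_one] at h1
    have e : S.map σ = (s.map (Forms.HermStd.qHom hF)).map (algebraMap F (AlgebraicClosure F)) := by
      ext i j
      simp only [hS, Matrix.map_apply, hσ, iterateFrobenius_def, ← map_pow]
      rfl
    rw [e, hS, ← Matrix.transpose_map]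
    exact h1
  set w : Fin m → AlgebraicClosure F := fun i => σ (v i) with hw
  have hw0 : w ≠ 0 := fun h => hv (funext fun i => σ.injective ((congrFun h i).trans (map_zero σ).symm))
  have h2 : S.map σ *ᵥ w = σ μ • w := by
    funext i
    have h1 := congrArg σ (congrFun hSv i)
    rw [RingHom.map_mulVec] at h1
    refine Eq.trans h1 ?_
    rw [Pi.smul_apply, smul_eq_mul, map_mul, Pi.smul_apply, smul_eq_mul]
  have hμ0 : σ μ ≠ 0 := by
    intro h
    rw [h, zero_smul] at h2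
    have := congrArg (fun x => Sᵀ *ᵥ x) h2
    simp only [Matrix.mulVec_mulVec, hST, Matrix.one_mulVec, Matrix.mulVec_zero] at this
    exact hw0 this
  have h3 : Sᵀ *ᵥ w = (σ μ)⁻¹ • w := by
    have := congrArg (fun x => Sᵀ *ᵥ x) h2
    simp only [Matrix.mulVec_mulVec, hST, Matrix.one_mulVec, Matrix.mulVec_smul] at this
    rw [eq_inv_smul_iff₀ hμ0]
    exact this.symm
  have := mem_roots_of_eigvec _ hw0 h3
  rw [Matrix.charpoly_transpose, hσ, iterateFrobenius_def] at this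
  rwa [show (-((p : ℤ) ^ g)) = -((p ^ g : ℕ) : ℤ) by push_cast; rfl, _root_.zpow_neg, zpow_natCast]

/-! ### The primes of the smaller groups -/

theorem sl_not_dvd (p f : ℕ) [hp : Fact p.Prime] (hF : Fintype.card F = p ^ f) {k r : ℕ} (hk : 2 ≤ k)
    (hr : r.Prime) (h : ¬ r ∣ Nat.card (Matrix.SpecialLinearGroup (Fin k) F)) :
    r ≠ p ∧ ∀ i : ℕ, 1 ≤ i → i ≤ k → ¬ (r : ℤ) ∣ ((p : ℤ) ^ f) ^ i - 1 := by
  obtain ⟨k, rfl⟩ : ∃ k', k = k' + 1 := ⟨k - 1, by omega⟩
  set q := p ^ f with hq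
  have hq1 : 1 < q := by rw [← hF]; exact Fintype.one_lt_card
  have hdvd : ∀ d : ℕ, (q - 1) * d ∣ ∏ i : Fin (k + 1), (q ^ (k + 1) - q ^ (i : ℕ)) →
      ¬ r ∣ d := by
    intro d hd hrd
    rw [← hF, ← Classical.Linear.mul_natCard_SL_fin (by omega)] at hd
    exact h (hrd.trans (Nat.dvd_of_mul_dvd_mul_left (by rw [hF]; omega) hd))
  have hfac : ∀ n j : ℕ, ∏ i : Fin n, (q ^ n - q ^ (i : ℕ)) =
      q ^ (∑ i : Fin n, (i : ℕ)) * ∏ i : Fin n, (q ^ (n - (i : ℕ)) - 1) := by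
    intro n _
    rw [← Finset.prod_pow_eq_pow_sum, ← Finset.prod_mul_distrib]
    refine Finset.prod_congr rfl fun i _ => ?_
    rw [Nat.mul_sub, mul_one, ← pow_add, Nat.add_sub_cancel' i.2.le]
  have hlast : ∏ i : Fin (k + 1), (q ^ (k + 1) - q ^ (i : ℕ)) =
      q ^ (∑ i : Fin (k + 1), (i : ℕ)) *
        ((∏ i : Fin k, (q ^ (k + 1 - (i : ℕ)) - 1)) * (q - 1)) := by
    rw [hfac _ 0, Fin.prod_univ_castSucc (f := fun i : Fin (k + 1) => q ^ (k + 1 - (i : ℕ)) - 1)]
    simp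
  have hr1 : ¬ r ∣ q := by
    intro hd
    refine hdvd q ?_ hd
    rw [hlast]
    have h0 : ∑ i : Fin (k + 1), (i : ℕ) ≠ 0 := fun h' => by
      have := Finset.sum_eq_zero_iff.1 h' (Fin.last k) (Finset.mem_univ _)
      simp at this
      omega
    exact ⟨q ^ ((∑ i : Fin (k + 1), (i : ℕ)) - 1) * (∏ i : Fin k, (q ^ (k + 1 - (i : ℕ)) - 1)), by
      conv_lhs => rw [← Nat.sub_add_cancel (Nat.one_le_iff_ne_zero.2 h0), pow_succ]
      ring⟩
  have hsub : ∀ i : ℕ, 2 ≤ i → i ≤ k + 1 → ¬ r ∣ q ^ i - 1 := by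
    intro i hi hik
    refine hdvd _ ?_
    rw [hlast]
    refine dvd_mul_of_dvd_right ?_ _
    rw [mul_comm]
    refine Nat.mul_dvd_mul ?_ dvd_rfl
    have := Finset.dvd_prod_of_mem (fun j : Fin k => q ^ (k + 1 - (j : ℕ)) - 1)
      (Finset.mem_univ (⟨k + 1 - i, by omega⟩ : Fin k))
    simpa [Nat.sub_sub_self hik] using this
  refine ⟨fun h0 => hr1 (h0 ▸ dvd_pow_self p (fun h0' => by simp [hq, h0'] at hq1)), fun i hi hik hd => ?_⟩
  have hd' : r ∣ q ^ i - 1 := by
    rw [← Int.natCast_dvd_natCast, Nat.cast_sub (Nat.one_le_pow _ _ (by omega)), hq]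
    push_cast
    exact hd
  rcases (show i = 1 ∨ 2 ≤ i by omega) with rfl | hi2
  · exact hsub 2 le_rfl (by omega) (hd'.trans (Nat.pow_sub_one_dvd_pow_sub_one q (by norm_num)))
  · exact hsub i hi2 hik hd'

theorem su_not_dvd (p g : ℕ) [hp : Fact p.Prime] (hF : Fintype.card F = (p ^ g) ^ 2) {k r : ℕ}
    (hk : 2 ≤ k) (hr : r.Prime) (h : ¬ r ∣ Nat.card (Cfsg.SU k F (p ^ g))) :
    r ≠ p ∧ (∀ i : ℕ, 1 ≤ i → i ≤ k → ¬ (r : ℤ) ∣ (-((p : ℤ) ^ g)) ^ i - 1) ∧
      ¬ r ∣ p ^ g + 1 := by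
  obtain ⟨k, rfl⟩ : ∃ k', k = k' + 1 := ⟨k - 1, by omega⟩
  set q := p ^ g with hq
  have hq1 : 1 < q := by
    by_contra h'
    have h1 := Fintype.one_lt_card (α := F)
    rw [hF] at h1
    interval_cases q <;> simp at h1
  have hSU := Classical.Unitary.natCard_SU_mul (n := k + 1) hF (by omega)
  rw [Classical.Unitary.natCard_GU hF, Finset.prod_range_succ'] at hSU
  simp only [Even.zero, if_true, zero_add, pow_one] at hSU
  rw [← mul_assoc _ _ (q + 1), mul_comm (q + 1)] at hSU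
  have hcard := Nat.eq_of_mul_eq_mul_right (show 0 < q + 1 by omega) hSU
  rw [hcard] at h
  have hr1 : ¬ r ∣ q := fun hd => h (dvd_mul_of_dvd_left (hd.trans (dvd_pow_self q ?_)) _)
  swap
  · rw [Nat.add_sub_cancel]
    exact (Nat.div_pos (Nat.le_mul_of_pos_right _ (by omega) |>.trans' (by omega)) (by norm_num)).ne'
  have hfac : ∀ j < k, ¬ r ∣ (if Even (j + 1) then q ^ (j + 1 + 1) + 1 else q ^ (j + 1 + 1) - 1) :=
    fun j hj hd => h (dvd_mul_of_dvd_right (hd.trans (Finset.dvd_prod_of_mem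
      (fun j => if Even (j + 1) then q ^ (j + 1 + 1) + 1 else q ^ (j + 1 + 1) - 1)
      (Finset.mem_range.2 hj))) _)
  have hq2 : ¬ r ∣ q ^ 2 - 1 := by simpa using hfac 0 (by omega)
  have hplus : ¬ r ∣ q + 1 := fun hd =>
    hq2 (hd.trans ⟨q - 1, by rw [← Nat.sq_sub_sq, one_pow]⟩)
  refine ⟨fun h0 => hr1 (h0 ▸ dvd_pow_self p (fun h0' => by simp [hq, h0'] at hq1)), ?_, hplus⟩
  intro i hi hik hd
  rcases Nat.even_or_odd i with he | ho
  · rw [he.neg_pow] at hd
    have hd' : r ∣ q ^ i - 1 := by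
      rw [← Int.natCast_dvd_natCast, Nat.cast_sub (Nat.one_le_pow _ _ (by omega)), hq]
      push_cast
      exact hd
    obtain ⟨j, rfl⟩ : ∃ j, i = j + 1 + 1 := ⟨i - 2, by obtain ⟨t, ht⟩ := he; omega⟩
    have := hfac j (by omega)
    rw [if_neg (by simpa [Nat.even_add_one] using he)] at this
    exact this hd'
  · rw [ho.neg_pow, show -((p : ℤ) ^ g) ^ i - 1 = -((p : ℤ) ^ g) ^ i - 1 from rfl] at hd
    have hd' : r ∣ q ^ i + 1 := by
      rw [← Int.natCast_dvd_natCast, hq]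
      push_cast
      rw [show ((p : ℤ) ^ g) ^ i + 1 = -(-((p : ℤ) ^ g) ^ i - 1) by ring]
      exact dvd_neg.2 hd
    rcases (show i = 1 ∨ 3 ≤ i by obtain ⟨t, ht⟩ := ho; omega) with rfl | h3
    · rw [pow_one] at hd'; exact hplus hd'
    · obtain ⟨j, rfl⟩ : ∃ j, i = j + 1 + 1 := ⟨i - 2, by omega⟩
      have := hfac j (by omega)
      rw [if_pos (by simpa [parity_simps] using ho)] at this
      exact this hd'

/-! ### The statements -/

theorem psl_primes (p : ℕ) [Fact p.Prime] [CharP F p] (n : ℕ) (hn : 4 ≤ n)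
    (a b : Matrix.ProjectiveSpecialLinearGroup (Fin n) F) (ha : orderOf a = p) (hab : Commute a b) :
    (orderOf b).primeFactors ⊆
      (Nat.card (Matrix.SpecialLinearGroup (Fin (n - 2)) F)).primeFactors := by
  intro r hr
  rw [Nat.mem_primeFactors] at hr
  obtain ⟨hrp, hrb, -⟩ := hr
  rw [Nat.mem_primeFactors]
  refine ⟨hrp, ?_, Nat.card_pos.ne'⟩
  by_contra hcon
  obtain ⟨f, -, hF⟩ := FiniteField.card F p
  haveI : Fact r.Prime := ⟨hrp⟩
  haveI : Nonempty (Fin n) := ⟨⟨0, by omega⟩⟩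
  obtain ⟨hne, hrc⟩ := sl_not_dvd p f hF (show 2 ≤ n - 2 by omega) hrp hcon
  set Z := Subgroup.center (Matrix.SpecialLinearGroup (Fin n) F)
  have hZ : Nat.card Z = Nat.gcd n (p ^ (f : ℕ) - 1) := by
    rw [Classical.Linear.natCard_center_SL, Fintype.card_fin, hF]
  have hrq : ¬ r ∣ p ^ (f : ℕ) - 1 := fun h => hrc 1 le_rfl (by omega) (by
    rw [pow_one]
    have := Int.natCast_dvd_natCast.2 h
    rwa [Nat.cast_sub (Nat.one_le_pow _ _ (Fact.out : p.Prime).pos), Nat.cast_pow, Nat.cast_one] at this)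
  have hrZ : ¬ r ∣ Nat.card Z := fun h => hrq (h.trans (hZ ▸ Nat.gcd_dvd_right _ _))
  have hpZ : ¬ p ∣ Nat.card Z := by
    intro h
    have h1 := h.trans (hZ ▸ Nat.gcd_dvd_right _ _)
    have h2 : p ∣ p ^ (f : ℕ) := dvd_pow_self p f.ne_zero
    have := Nat.dvd_sub h2 h1
    rw [Nat.sub_sub_self (Nat.one_le_pow _ _ (Fact.out : p.Prime).pos)] at this
    exact (Fact.out : p.Prime).not_dvd_one this
  obtain ⟨A, hA, hAp⟩ := lift_prime_order Z (Fact.out : p.Prime) hpZ a (orderOf_dvd_iff_pow_eq_one.1 ha.dvd)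
  have hx : orderOf (b ^ (orderOf b / r)) = r :=
    orderOf_pow_orderOf_div (orderOf_pos b).ne' hrb
  obtain ⟨B, hB, hBr⟩ := lift_prime_order Z hrp hrZ (b ^ (orderOf b / r))
    (orderOf_dvd_iff_pow_eq_one.1 hx.dvd)
  have hcomm : Commute A B := commute_lift hrp hrZ hBr (by rw [hA, hB]; exact hab.pow_right _)
  let τ : Matrix.SpecialLinearGroup (Fin n) F →* Matrix (Fin n) (Fin n) F := Cfsg.slToMat n F
  have hinj : Function.Injective τ := fun x y h => Subtype.ext h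
  have hB1 : τ B ≠ 1 := fun h => by
    rw [hinj (h.trans (map_one τ).symm), QuotientGroup.mk_one] at hB
    rw [← hB, orderOf_one] at hx
    exact hrp.one_lt.ne hx
  have h1 := eq_one_of_pow (F := F) p (show 3 ≤ n by omega) r hne (τ B) (τ A)
    (by rw [← map_pow, hBr, map_one]) hB1 B.2 (by rw [← map_pow, hAp, map_one])
    (hcomm.symm.map τ) ((p : ℤ) ^ (f : ℕ))
    (fun h => hne ((Nat.prime_dvd_prime_iff_eq hrp Fact.out).1
      (Int.natCast_dvd_natCast.1 ((Nat.prime_iff_prime_int.1 hrp).dvd_of_dvd_pow h))))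
    hrc (closed_linear p f hF _)
  rw [hinj (h1.trans (map_one τ).symm), QuotientGroup.mk_one] at hA
  rw [← hA, orderOf_one] at ha
  exact (Fact.out : p.Prime).one_lt.ne ha

theorem psu_primes (p : ℕ) [Fact p.Prime] [CharP F p] (m q : ℕ) (hm : 4 ≤ m)
    (hF : Fintype.card F = q ^ 2) (a b : Cfsg.PSU m F q) (ha : orderOf a = p) (hab : Commute a b) :
    (orderOf b).primeFactors ⊆ (Nat.card ↥(Cfsg.SU (m - 2) F q)).primeFactors := by
  intro r hr
  rw [Nat.mem_primeFactors] at hr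
  obtain ⟨hrp, hrb, -⟩ := hr
  rw [Nat.mem_primeFactors]
  refine ⟨hrp, ?_, Nat.card_pos.ne'⟩
  by_contra hcon
  obtain ⟨f, -, hFp⟩ := FiniteField.card F p
  obtain ⟨g, -, rfl⟩ := (Nat.dvd_prime_pow (Fact.out : p.Prime)).1
    (show q ∣ p ^ (f : ℕ) by rw [← hFp, hF]; exact dvd_pow_self q two_ne_zero)
  have hg : g ≠ 0 := by
    intro h
    have := Fintype.one_lt_card (α := F)
    rw [hF, h] at this
    simp at this
  haveI : Fact r.Prime := ⟨hrp⟩
  haveI : Nonempty (Fin m) := ⟨⟨0, by omega⟩⟩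
  obtain ⟨hne, hrc, hplus⟩ := su_not_dvd p g hF (show 2 ≤ m - 2 by omega) hrp hcon
  set Z := Subgroup.center (Cfsg.SU m F (p ^ g))
  have hZ : Nat.card Z = Nat.gcd m (p ^ g + 1) := Classical.Unitary.natCard_center hF (by omega)
  have hrZ : ¬ r ∣ Nat.card Z := fun h => hplus (h.trans (hZ ▸ Nat.gcd_dvd_right _ _))
  have hpZ : ¬ p ∣ Nat.card Z := fun h => (Fact.out : p.Prime).not_dvd_one
    ((Nat.dvd_add_right (dvd_pow_self p hg)).1 (h.trans (hZ ▸ Nat.gcd_dvd_right _ _)))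
  obtain ⟨A, hA, hAp⟩ := lift_prime_order Z (Fact.out : p.Prime) hpZ a (orderOf_dvd_iff_pow_eq_one.1 ha.dvd)
  have hx : orderOf (b ^ (orderOf b / r)) = r :=
    orderOf_pow_orderOf_div (orderOf_pos b).ne' hrb
  obtain ⟨B, hB, hBr⟩ := lift_prime_order Z hrp hrZ (b ^ (orderOf b / r))
    (orderOf_dvd_iff_pow_eq_one.1 hx.dvd)
  have hcomm : Commute A B := commute_lift hrp hrZ hBr (by rw [hA, hB]; exact hab.pow_right _)
  let τ : Cfsg.SU m F (p ^ g) →* Matrix (Fin m) (Fin m) F :=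
    (Cfsg.slToMat m F).comp (Cfsg.SU m F (p ^ g)).subtype
  have hinj : Function.Injective τ := fun x y h => Subtype.ext (Subtype.ext h)
  have hB1 : τ B ≠ 1 := fun h => by
    rw [hinj (h.trans (map_one τ).symm), QuotientGroup.mk_one] at hB
    rw [← hB, orderOf_one] at hx
    exact hrp.one_lt.ne hx
  have h1 := eq_one_of_pow (F := F) p (show 3 ≤ m by omega) r hne (τ B) (τ A)
    (by rw [← map_pow, hBr, map_one]) hB1 B.1.2 (by rw [← map_pow, hAp, map_one])
    (hcomm.symm.map τ) (-((p : ℤ) ^ g))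
    (fun h => hne ((Nat.prime_dvd_prime_iff_eq hrp Fact.out).1
      (Int.natCast_dvd_natCast.1 ((Nat.prime_iff_prime_int.1 hrp).dvd_of_dvd_pow (dvd_neg.1 h)))))
    hrc (closed_unitary p g hF _ ((Classical.Unitary.preserves_iff hF _).1 B.2))
  rw [hinj (h1.trans (map_one τ).symm), QuotientGroup.mk_one] at hA
  rw [← hA, orderOf_one] at ha
  exact (Fact.out : p.Prime).one_lt.ne ha

end Cfsg.Agent.SimpleFacts.LargeOrderCentralizer
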