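import Mathlib

/-!
Sylow `r`-subgroups of `GL_n(q)`, `SL_n(q)` and `Sp_2n(q)` for a prime `r > n` not dividing `q`:
valuations of the orders and block-diagonal homocyclic subgroups attaining them.
-/

set_option autoImplicit false
set_option linter.style.haveILetI false
set_option linter.unusedSectionVars false

namespace Cfsg.Agent.SimpleFacts.HomocyclicSylow

open Matrix

/-! ### Arithmetic -/

section arith

variable (q r : ℕ) [hr : Fact r.Prime]

/-- The multiplicative order of `q` modulo `r`. -/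
noncomputable def ord : ℕ := orderOf (q : ZMod r)

/-- The exponent of `r` in the cyclotomic value at `q` for that order. -/
noncomputable def expo : ℕ :=
  padicValNat r ((Polynomial.cyclotomic (orderOf (q : ZMod r)) ℤ).eval (q : ℤ)).natAbs

variable {q r}

theorem ord_pos (hrq : ¬ r ∣ q) : 0 < ord q r := by
  have h0 : (q : ZMod r) ≠ 0 := fun h => hrq ((ZMod.natCast_eq_zero_iff q r).1 h)
  exact orderOf_pos_iff.2 (isOfFinOrder_iff_pow_eq_one.2
    ⟨r - 1, Nat.sub_pos_of_lt hr.out.one_lt, ZMod.pow_card_sub_one_eq_one h0⟩)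

theorem ord_lt (hrq : ¬ r ∣ q) : ord q r < r := by
  have h0 : (q : ZMod r) ≠ 0 := fun h => hrq ((ZMod.natCast_eq_zero_iff q r).1 h)
  have h1 : ord q r ≤ r - 1 := Nat.le_of_dvd (Nat.sub_pos_of_lt hr.out.one_lt)
    (orderOf_dvd_of_pow_eq_one (ZMod.pow_card_sub_one_eq_one h0))
  have := hr.out.pos
  omega

theorem dvd_pow_sub_one_iff (hq : 2 ≤ q) (i : ℕ) : r ∣ q ^ i - 1 ↔ ord q r ∣ i := by
  rw [← ZMod.natCast_eq_zero_iff, Nat.cast_sub (Nat.one_le_pow _ _ (by omega)), Nat.cast_pow,
    Nat.cast_one, sub_eq_zero, ord, orderOf_dvd_iff_pow_eq_one]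

theorem factorization_ord (hq : 2 ≤ q) (hrq : ¬ r ∣ q) :
    (q ^ ord q r - 1).factorization r = expo q r := by
  classical
  have hd := ord_pos (r := r) hrq
  have h1 : q ^ ord q r - 1 =
      ∏ i ∈ Nat.divisors (ord q r), ((Polynomial.cyclotomic i ℤ).eval (q : ℤ)).natAbs := by
    have h := congrArg (fun f : Polynomial ℤ => (f.eval (q : ℤ)).natAbs)
      (Polynomial.prod_cyclotomic_eq_X_pow_sub_one hd ℤ)
    simp only [Polynomial.eval_prod, Polynomial.eval_sub, Polynomial.eval_pow, Polynomial.eval_X,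
      Polynomial.eval_one] at h
    rw [← Int.natAbsHom_apply, map_prod] at h
    simp only [Int.natAbsHom_apply] at h
    rw [h, show (q : ℤ) ^ ord q r - 1 = ((q ^ ord q r - 1 : ℕ) : ℤ) by
      rw [Nat.cast_sub (Nat.one_le_pow _ _ (by omega)), Nat.cast_pow, Nat.cast_one], Int.natAbs_natCast]
  have hne : ∀ i ∈ Nat.divisors (ord q r),
      ((Polynomial.cyclotomic i ℤ).eval (q : ℤ)).natAbs ≠ 0 := fun i hi h0 => by
    have := Finset.prod_eq_zero hi h0 (f := fun i => ((Polynomial.cyclotomic i ℤ).eval (q : ℤ)).natAbs)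
    rw [← h1] at this
    have := Nat.one_lt_pow hd.ne' (show 1 < q by omega)
    omega
  rw [h1, Nat.factorization_prod hne, Finsupp.finsetSum_apply,
    Finset.sum_eq_single_of_mem (ord q r) (Nat.mem_divisors_self _ hd.ne'), Nat.factorization_def _ hr.out]
  · rfl
  · intro i hi hne'
    refine Nat.factorization_eq_zero_of_not_dvd fun hdvd => ?_
    have hid : i ∣ ord q r := Nat.dvd_of_mem_divisors hi
    have hi0 : 0 < i := Nat.pos_of_mem_divisors hi
    have h2 : (r : ℤ) ∣ (q : ℤ) ^ i - 1 := by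
      refine dvd_trans (Int.natCast_dvd.2 hdvd) ?_
      have := congrArg (Polynomial.eval (q : ℤ))
        (Polynomial.prod_cyclotomic_eq_X_pow_sub_one hi0 ℤ)
      simp only [Polynomial.eval_prod, Polynomial.eval_sub, Polynomial.eval_pow, Polynomial.eval_X,
        Polynomial.eval_one] at this
      rw [← this]
      exact Finset.dvd_prod_of_mem (fun j => (Polynomial.cyclotomic j ℤ).eval (q : ℤ))
        (Nat.mem_divisors_self _ hi0.ne')
    rw [show (q : ℤ) ^ i - 1 = ((q ^ i - 1 : ℕ) : ℤ) by
      rw [Nat.cast_sub (Nat.one_le_pow _ _ (by omega)), Nat.cast_pow, Nat.cast_one],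
      Int.natCast_dvd_natCast, dvd_pow_sub_one_iff hq] at h2
    exact hne' (Nat.dvd_antisymm hid h2)

theorem factorization_pow_sub_one (hq : 2 ≤ q) (hrq : ¬ r ∣ q) {i : ℕ} (hri : ¬ r ∣ i) :
    (q ^ i - 1).factorization r = if ord q r ∣ i then expo q r else 0 := by
  split_ifs with h
  · obtain ⟨m, rfl⟩ := h
    have hrm : ¬ r ∣ m := fun hm => hri (hm.trans (dvd_mul_left m _))
    have hd := ord_pos (r := r) hrq
    obtain ⟨x, hx⟩ : ∃ x, x + 1 = q ^ ord q r :=
      ⟨q ^ ord q r - 1, Nat.sub_add_cancel (Nat.one_le_pow _ _ (by omega))⟩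
    have hx0 : x ≠ 0 := by
      have := Nat.one_lt_pow hd.ne' (show 1 < q by omega)
      omega
    have hgs := geom_sum_mul_add x m
    have hS : ¬ r ∣ ∑ j ∈ Finset.range m, (x + 1) ^ j := by
      rw [← ZMod.natCast_eq_zero_iff, hx]
      push_cast
      rw [show ((q : ZMod r)) ^ ord q r = 1 from pow_orderOf_eq_one _]
      simp only [one_pow, Finset.sum_const, Finset.card_range, nsmul_eq_mul, mul_one]
      rwa [ZMod.natCast_eq_zero_iff]
    have hSne : (∑ j ∈ Finset.range m, (x + 1) ^ j) ≠ 0 := fun h0 => hS (h0 ▸ dvd_zero r)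
    rw [pow_mul, ← hx, ← hgs, Nat.add_sub_cancel, Nat.factorization_mul hSne hx0, Finsupp.add_apply,
      Nat.factorization_eq_zero_of_not_dvd hS, zero_add, ← factorization_ord hq hrq, ← hx,
      Nat.add_sub_cancel]
  · exact Nat.factorization_eq_zero_of_not_dvd fun hd => h ((dvd_pow_sub_one_iff hq i).1 hd)

theorem factorization_GL (hq : 2 ≤ q) (hrq : ¬ r ∣ q) {n : ℕ} (hrn : n < r) :
    (∏ i : Fin n, (q ^ n - q ^ (i : ℕ))).factorization r = expo q r * (n / ord q r) := by
  classical
  have hfac : ∀ i : Fin n, q ^ n - q ^ (i : ℕ) = q ^ (i : ℕ) * (q ^ (n - i) - 1) := fun i => by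
    rw [Nat.mul_sub, mul_one, ← pow_add, Nat.add_sub_cancel' i.2.le]
  have hne : ∀ i : Fin n, q ^ n - q ^ (i : ℕ) ≠ 0 := fun i => by
    have := Nat.pow_lt_pow_right (show 1 < q by omega) i.2
    omega
  rw [Nat.factorization_prod fun i _ => hne i, Finsupp.finsetSum_apply]
  have hterm : ∀ i : Fin n, (q ^ n - q ^ (i : ℕ)).factorization r =
      if ord q r ∣ n - i then expo q r else 0 := fun i => by
    have h1 : q ^ (n - i) - 1 ≠ 0 := by
      have := Nat.one_lt_pow (show n - (i : ℕ) ≠ 0 by omega) (show 1 < q by omega)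
      omega
    rw [hfac, Nat.factorization_mul (pow_ne_zero _ (by omega)) h1, Finsupp.add_apply,
      Nat.factorization_eq_zero_of_not_dvd fun h => hrq (hr.out.dvd_of_dvd_pow h), zero_add,
      factorization_pow_sub_one hq hrq fun h => by have := Nat.le_of_dvd (by omega) h; omega]
  simp only [hterm]
  rw [← Equiv.sum_comp Fin.revPerm]
  simp only [Fin.revPerm_apply]
  have hrev : ∀ i : Fin n, n - (i.rev : ℕ) = i + 1 := fun i => by
    rw [Fin.val_rev]; omega
  simp only [hrev]
  rw [Fin.sum_univ_eq_sum_range (fun i => if ord q r ∣ i + 1 then expo q r else 0), ← Finset.sum_filter,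
    Finset.sum_const, smul_eq_mul, mul_comm]
  congr 1
  exact Nat.card_multiples n (ord q r)

end arith

/-! ### From a homocyclic subgroup of full order to the Sylow subgroups -/

theorem iso_of_hom {G : Type*} [Group G] [Finite G] {r : ℕ} [hr : Fact r.Prime] {a k : ℕ}
    (φ : (Fin k → Multiplicative (ZMod (r ^ a))) →* G) (hφ : Function.Injective φ)
    (hG : (Nat.card G).factorization r = a * k) (P : Sylow r G) :
    Nonempty (↥(P : Subgroup G) ≃* (Fin k → Multiplicative (ZMod (r ^ a)))) := by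
  have hc : Nat.card φ.range = r ^ (Nat.card G).factorization r := by
    rw [hG, ← Nat.card_congr (MonoidHom.ofInjective hφ).toEquiv, Nat.card_fun,
      Nat.card_congr Multiplicative.toAdd, Nat.card_zmod, Nat.card_eq_fintype_card (α := Fin k),
      Fintype.card_fin, pow_mul]
  exact ⟨((Sylow.equiv P (Sylow.ofCard φ.range hc)).trans
    (MulEquiv.subgroupCongr (Sylow.coe_ofCard φ.range hc))).trans (MonoidHom.ofInjective hφ).symm⟩

/-- An element of order `r ^ a` gives a cyclic subgroup of that order. -/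
theorem exists_zmod_hom {G : Type*} [Group G] {r a : ℕ} (x : G) (hx : orderOf x = r ^ a) :
    ∃ φ : Multiplicative (ZMod (r ^ a)) →* G, Function.Injective φ := by
  have e : Multiplicative (ZMod (r ^ a)) ≃* Subgroup.zpowers x := mulEquivOfCyclicCardEq (by
    rw [Nat.card_congr Multiplicative.toAdd, Nat.card_zmod, Nat.card_zpowers, hx])
  exact ⟨(Subgroup.zpowers x).subtype.comp e.toMonoidHom,
    (Subgroup.subtype_injective _).comp e.injective⟩

/-- A cyclic group contains the cyclic groups of all orders dividing its order. -/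
theorem exists_cyclic_hom {G : Type*} [Group G] [Finite G] [IsCyclic G] {r a : ℕ}
    (h : r ^ a ∣ Nat.card G) : ∃ φ : Multiplicative (ZMod (r ^ a)) →* G, Function.Injective φ := by
  obtain ⟨g, hg⟩ := IsCyclic.exists_ofOrder_eq_natCard (α := G)
  obtain ⟨c, hc⟩ := h
  have hc0 : c ≠ 0 := fun h => (Nat.card_pos (α := G)).ne' (by rw [hc, h, mul_zero])
  exact exists_zmod_hom (g ^ c) (by
    rw [orderOf_pow_of_dvd hc0 (by rw [hg, hc]; exact dvd_mul_left c _), hg, hc,
      Nat.mul_div_cancel _ (Nat.pos_of_ne_zero hc0)])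

/-! ### Block diagonal matrices -/

section blocks

variable {F : Type*} [Field F]

/-- Blocks along the diagonal, padded by an identity block. -/
noncomputable def pad (m s : Type*) [Fintype m] [DecidableEq m] [Fintype s] [DecidableEq s] (k : ℕ) :
    (Fin k → Matrix m m F) →* Matrix (m × Fin k ⊕ s) (m × Fin k ⊕ s) F where
  toFun f := fromBlocks (blockDiagonal f) 0 0 1
  map_one' := by rw [blockDiagonal_one, fromBlocks_one]
  map_mul' f g := by
    rw [fromBlocks_multiply]
    simp [← blockDiagonal_mul, Pi.mul_def]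

theorem pad_injective (m s : Type*) [Fintype m] [DecidableEq m] [Fintype s] [DecidableEq s] (k : ℕ) :
    Function.Injective (pad (F := F) m s k) := fun f g h =>
  blockDiagonal_injective (congrArg Matrix.toBlocks₁₁ h |>.trans rfl)

theorem det_pad {m s : Type*} [Fintype m] [DecidableEq m] [Fintype s] [DecidableEq s] {k : ℕ}
    (f : Fin k → Matrix m m F) : (pad m s k f).det = ∏ i, (f i).det := by
  show (fromBlocks (blockDiagonal f) 0 0 (1 : Matrix s s F)).det = _
  rw [det_fromBlocks_zero₁₂, det_blockDiagonal, det_one, mul_one]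

variable [Fintype F]

theorem two_le_card : 2 ≤ Fintype.card F := Fintype.one_lt_card

theorem card_GL_factorization {r n : ℕ} [Fact r.Prime] (hrn : n < r) (hrq : ¬ r ∣ Fintype.card F) :
    (Nat.card (GL (Fin n) F)).factorization r =
      expo (Fintype.card F) r * (n / ord (Fintype.card F) r) := by
  rw [Matrix.card_GL_field]
  exact factorization_GL two_le_card hrq hrn

theorem exists_GL_hom_one {r : ℕ} [hr : Fact r.Prime] (hrq : ¬ r ∣ Fintype.card F) :
    ∃ φ : Multiplicative (ZMod (r ^ expo (Fintype.card F) r)) →*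
        GL (Fin (ord (Fintype.card F) r)) F, Function.Injective φ := by
  classical
  obtain ⟨p, hp⟩ := CharP.exists F
  haveI := Fact.mk (CharP.char_is_prime F p)
  haveI : NeZero (ord (Fintype.card F) r) := ⟨(ord_pos hrq).ne'⟩
  let E := FiniteField.Extension F p (ord (Fintype.card F) r)
  have hcard : Nat.card Eˣ = Fintype.card F ^ ord (Fintype.card F) r - 1 := by
    rw [Nat.card_units, FiniteField.natCard_extension, Nat.card_eq_fintype_card]
  obtain ⟨g, hg⟩ := IsCyclic.exists_ofOrder_eq_natCard (α := Eˣ)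
  have hdvd : r ^ expo (Fintype.card F) r ∣ Nat.card Eˣ := by
    rw [hcard, ← factorization_ord two_le_card hrq]
    exact Nat.ordProj_dvd _ _
  obtain ⟨c, hc⟩ := hdvd
  have hc0 : c ≠ 0 := fun h => (Nat.card_pos (α := Eˣ)).ne' (by rw [hc, h, mul_zero])
  obtain ⟨φ, hφ⟩ := exists_zmod_hom (r := r) (a := expo (Fintype.card F) r) (g ^ c) (by
    rw [orderOf_pow_of_dvd hc0 (by rw [hg, hc]; exact dvd_mul_left c _), hg, hc,
      Nat.mul_div_cancel _ (Nat.pos_of_ne_zero hc0)])
  let b := Module.finBasisOfFinrankEq F E (FiniteField.finrank_extension F p _)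
  exact ⟨(Units.map (Algebra.leftMulMatrix b).toMonoidHom).comp φ,
    (Units.map_injective (Algebra.leftMulMatrix_injective b)).comp hφ⟩

theorem exists_GL_hom {r : ℕ} [hr : Fact r.Prime] (hrq : ¬ r ∣ Fintype.card F) (n : ℕ) :
    ∃ φ : (Fin (n / ord (Fintype.card F) r) → Multiplicative (ZMod (r ^ expo (Fintype.card F) r))) →*
        GL (Fin n) F, Function.Injective φ := by
  classical
  have h1 := exists_GL_hom_one (F := F) hrq
  generalize ord (Fintype.card F) r = d at h1 ⊢
  obtain ⟨φ, hφ⟩ := h1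
  let σ : Fin d × Fin (n / d) ⊕ Fin (n % d) ≃ Fin n := Fintype.equivFinOfCardEq (by
    rw [Fintype.card_sum, Fintype.card_prod, Fintype.card_fin, Fintype.card_fin, Fintype.card_fin,
      Nat.div_add_mod])
  let ψ : (Fin (n / d) → GL (Fin d) F) →* GL (Fin n) F :=
    (Units.map ((Matrix.reindexAlgEquiv F F σ).toRingEquiv.toMonoidHom.comp
      (pad (Fin d) (Fin (n % d)) (n / d)))).comp MulEquiv.piUnits.symm.toMonoidHom
  refine ⟨ψ.comp (φ.compLeft _), ?_⟩
  refine ((Units.map_injective ?_).comp (MulEquiv.injective _)).comp hφ.comp_left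
  exact (Matrix.reindexAlgEquiv F F σ).injective.comp (pad_injective _ _ _)

end blocks

/-! ### Counting the exponents -/

theorem card_filter_dvd (n d : ℕ) : ((Finset.Icc 1 n).filter (fun i => d ∣ i)).card = n / d := by
  rw [show Finset.Icc 1 n = Finset.Ioc 0 n from (Finset.Icc_add_one_left_eq_Ioc 0 n)]
  exact Nat.Ioc_filter_dvd_card_eq_div n d

end Cfsg.Agent.SimpleFacts.HomocyclicSylow
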