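import Mathlib
import Cfsg.Agent.SimpleFacts.HomocyclicSylow
import Cfsg.Agent.S0245

/-!
Block-diagonal homocyclic subgroups of the symplectic groups of full `r`-order, for a prime `r > n`.
-/

set_option autoImplicit false
set_option linter.style.haveILetI false
set_option linter.unusedSectionVars false

namespace Cfsg.Agent.SimpleFacts.HomocyclicSylowSymp

open Matrix Cfsg.Agent.SimpleFacts.HomocyclicSylow

variable {F : Type*} [Field F] [Fintype F] {r : ℕ} [hr : Fact r.Prime]

theorem card_Sp_factorization {n : ℕ} (hr2 : r ≠ 2) (hrn : n < r) (hrq : ¬ r ∣ Fintype.card F) :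
    (Nat.card ↥(Matrix.symplecticGroup (Fin n) F)).factorization r =
      expo (Fintype.card F) r *
        ((Finset.Icc 1 n).filter (fun i => ord (Fintype.card F) r ∣ 2 * i)).card := by
  classical
  have hq := two_le_card (F := F)
  have hne : ∀ i ∈ Finset.range n, Fintype.card F ^ (2 * (i + 1)) - 1 ≠ 0 := fun i _ => by
    have := Nat.one_lt_pow (show 2 * (i + 1) ≠ 0 by omega) (show 1 < Fintype.card F by omega)
    omega
  rw [Cfsg.Agent.S0245.result rfl n, Nat.factorization_mul (pow_ne_zero _ (by omega))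
    (Finset.prod_ne_zero_iff.2 hne), Finsupp.add_apply,
    Nat.factorization_eq_zero_of_not_dvd fun h => hrq (hr.out.dvd_of_dvd_pow h), zero_add,
    Nat.factorization_prod hne, Finsupp.finsetSum_apply]
  have hterm : ∀ i ∈ Finset.range n, (Fintype.card F ^ (2 * (i + 1)) - 1).factorization r =
      if ord (Fintype.card F) r ∣ 2 * (i + 1) then expo (Fintype.card F) r else 0 := fun i hi => by
    refine factorization_pow_sub_one hq hrq fun h => ?_
    rcases hr.out.dvd_mul.1 h with h2 | h2
    · exact hr2 ((Nat.prime_dvd_prime_iff_eq hr.out Nat.prime_two).1 h2)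
    · have := Nat.le_of_dvd (by omega) h2
      have := Finset.mem_range.1 hi
      omega
  rw [Finset.sum_congr rfl hterm, ← Finset.sum_filter, Finset.sum_const, smul_eq_mul, mul_comm]
  congr 1
  refine Finset.card_bij (fun i _ => i + 1) (fun i hi => ?_) (fun i _ j _ h => by omega) (fun i hi => ?_)
  · simp only [Finset.mem_filter, Finset.mem_range, Finset.mem_Icc] at hi ⊢
    exact ⟨by omega, hi.2⟩
  · simp only [Finset.mem_filter, Finset.mem_range, Finset.mem_Icc] at hi
    obtain ⟨⟨h1, h2⟩, h3⟩ := hi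
    exact ⟨i - 1, by simp only [Finset.mem_filter, Finset.mem_range]; exact ⟨by omega,
      by rwa [Nat.sub_add_cancel h1]⟩, Nat.sub_add_cancel h1⟩

/-- Half the order of `q` when this is even. -/
theorem exists_Sp_hom_one {e : ℕ} (hr2 : r ≠ 2) (hrq : ¬ r ∣ Fintype.card F)
    (he : ord (Fintype.card F) r = 2 * e) :
    ∃ φ : Multiplicative (ZMod (r ^ expo (Fintype.card F) r)) →* ↥(Matrix.symplecticGroup (Fin e) F),
      Function.Injective φ := by
  classical
  have hd := ord_pos (q := Fintype.card F) (r := r) hrq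
  have hlt := ord_lt (q := Fintype.card F) (r := r) hrq
  let G := ↥(Matrix.symplecticGroup (Fin e) F)
  let ι : G →* GL (Fin (e + e)) F :=
    ((Matrix.reindexAlgEquiv F F finSumFinEquiv).toRingEquiv.toMonoidHom.comp
      (Matrix.symplecticGroup (Fin e) F).subtype).toHomUnits
  have hι : Function.Injective ι := fun x y h => Subtype.ext
    ((Matrix.reindexAlgEquiv F F finSumFinEquiv).injective (congrArg Units.val h))
  obtain ⟨P⟩ : Nonempty (Sylow r G) := inferInstance
  obtain ⟨Q, hQ⟩ := (P.2.map ι).exists_le_sylow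
  obtain ⟨ψ, hψ⟩ := exists_GL_hom (F := F) hrq (e + e)
  obtain ⟨eQ⟩ := iso_of_hom ψ hψ (card_GL_factorization (by omega) hrq) Q
  have hk : (e + e) / ord (Fintype.card F) r = 1 := by
    rw [he, ← two_mul, Nat.div_self (by omega)]
  haveI : IsCyclic (Q : Subgroup (GL (Fin (e + e)) F)) := by
    generalize (e + e) / ord (Fintype.card F) r = k at eQ hk
    subst hk
    exact isCyclic_of_surjective (eQ.trans (MulEquiv.funUnique (Fin 1) _)).symm.toMonoidHom
      (MulEquiv.surjective _)
  haveI : IsCyclic (P : Subgroup G) := isCyclic_of_injective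
    ((Subgroup.inclusion hQ).comp (ι.subgroupMap (P : Subgroup G)))
    ((Subgroup.inclusion_injective hQ).comp fun x y h => Subtype.ext (hι (congrArg Subtype.val h)))
  obtain ⟨φ, hφ⟩ := exists_cyclic_hom (G := (P : Subgroup G)) (r := r)
    (a := expo (Fintype.card F) r) (by
      rw [P.card_eq_multiplicity, card_Sp_factorization hr2 (by omega) hrq]
      refine pow_dvd_pow r (Nat.le_mul_of_pos_right _ (Finset.card_pos.2 ⟨e, ?_⟩))
      rw [Finset.mem_filter, Finset.mem_Icc, he]
      exact ⟨⟨by omega, le_rfl⟩, dvd_rfl⟩)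
  exact ⟨(P : Subgroup G).subtype.comp φ, (Subgroup.subtype_injective _).comp hφ⟩

/-- `Sp_2m ^ k` inside `Sp_2n` for `m * k + s = n`. -/
theorem exists_block_hom (m k s n : ℕ) (h : m * k + s = n) :
    ∃ ψ : (Fin k → ↥(Matrix.symplecticGroup (Fin m) F)) →* ↥(Matrix.symplecticGroup (Fin n) F),
      Function.Injective ψ := by
  classical
  let τ : Fin m × Fin k ⊕ Fin s ≃ Fin n := Fintype.equivFinOfCardEq (by
    rw [Fintype.card_sum, Fintype.card_prod, Fintype.card_fin, Fintype.card_fin, Fintype.card_fin, h])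
  let σ : (Fin m ⊕ Fin m) × Fin k ⊕ (Fin s ⊕ Fin s) ≃ Fin n ⊕ Fin n :=
    ((Equiv.sumCongr (Equiv.sumProdDistrib _ _ _) (Equiv.refl _)).trans
      (Equiv.sumSumSumComm _ _ _ _)).trans (Equiv.sumCongr τ τ)
  let R := Matrix.reindexAlgEquiv F F σ
  have hRT : ∀ A, (R A)ᵀ = R Aᵀ := fun A => by
    simp only [R, Matrix.coe_reindexAlgEquiv, transpose_reindex]
  have hJ : R (fromBlocks (blockDiagonal fun _ => J (Fin m) F) 0 0 (J (Fin s) F)) = J (Fin n) F := by
    apply R.symm.injective
    rw [AlgEquiv.symm_apply_apply]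
    ext i j
    show _ = (J (Fin n) F) (σ i) (σ j)
    rcases i with ⟨i | i, a⟩ | (i | i) <;> rcases j with ⟨j | j, b⟩ | (j | j) <;>
      simp [σ, J, Matrix.one_apply, blockDiagonal_apply, Prod.ext_iff] <;>
      split_ifs <;> simp_all
  let f : (Fin k → ↥(Matrix.symplecticGroup (Fin m) F)) →* Matrix (Fin n ⊕ Fin n) (Fin n ⊕ Fin n) F :=
    (R.toRingEquiv.toMonoidHom.comp (pad (Fin m ⊕ Fin m) (Fin s ⊕ Fin s) k)).comp
      ((Matrix.symplecticGroup (Fin m) F).subtype.compLeft _)
  have hf : ∀ x, f x ∈ Matrix.symplecticGroup (Fin n) F := fun x => by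
    rw [SymplecticGroup.mem_iff', ← hJ]
    show (R (fromBlocks (blockDiagonal fun i => (x i : Matrix _ _ F)) 0 0 1))ᵀ * R _ *
      R (fromBlocks (blockDiagonal fun i => (x i : Matrix _ _ F)) 0 0 1) = R _
    rw [hRT, ← map_mul, ← map_mul, fromBlocks_transpose, fromBlocks_multiply, fromBlocks_multiply]
    simp only [blockDiagonal_transpose, transpose_one, transpose_zero, Matrix.zero_mul, Matrix.mul_zero,
      add_zero, zero_add, Matrix.one_mul, Matrix.mul_one, ← blockDiagonal_mul]
    congr 3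
    funext i
    exact SymplecticGroup.mem_iff'.1 (x i).2
  exact ⟨f.codRestrict _ hf, fun x y e => funext fun i => Subtype.ext
    (congrFun (pad_injective _ _ _ (R.injective (congrArg Subtype.val e))) i)⟩

/-- `GL_n` inside `Sp_2n`. -/
theorem exists_linear_hom (n : ℕ) :
    ∃ ψ : GL (Fin n) F →* ↥(Matrix.symplecticGroup (Fin n) F), Function.Injective ψ := by
  classical
  let f : GL (Fin n) F →* Matrix (Fin n ⊕ Fin n) (Fin n ⊕ Fin n) F :=
    { toFun := fun A => fromBlocks (A : Matrix (Fin n) (Fin n) F) 0 0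
        ((A⁻¹ : GL (Fin n) F) : Matrix (Fin n) (Fin n) F)ᵀ
      map_one' := by simp
      map_mul' := fun A B => by
        rw [fromBlocks_multiply, _root_.mul_inv_rev]
        simp [transpose_mul] }
  have hf : ∀ A, f A ∈ Matrix.symplecticGroup (Fin n) F := fun A => by
    rw [SymplecticGroup.mem_iff']
    show (fromBlocks _ 0 0 _)ᵀ * J (Fin n) F * fromBlocks _ 0 0 _ = J (Fin n) F
    rw [fromBlocks_transpose, J, fromBlocks_multiply, fromBlocks_multiply]
    simp [← transpose_mul, Matrix.mul_neg, Matrix.neg_mul]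
  exact ⟨f.codRestrict _ hf, fun A B e => Units.ext
    (congrArg Matrix.toBlocks₁₁ (congrArg Subtype.val e))⟩

theorem exists_Sp_hom {n : ℕ} (hr2 : r ≠ 2) (hrq : ¬ r ∣ Fintype.card F) :
    ∃ φ : (Fin ((Finset.Icc 1 n).filter (fun i => ord (Fintype.card F) r ∣ 2 * i)).card →
        Multiplicative (ZMod (r ^ expo (Fintype.card F) r))) →* ↥(Matrix.symplecticGroup (Fin n) F),
      Function.Injective φ := by
  classical
  rcases Nat.even_or_odd (ord (Fintype.card F) r) with ⟨e, he⟩ | hodd
  · rw [← two_mul] at he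
    have hc : ((Finset.Icc 1 n).filter (fun i => ord (Fintype.card F) r ∣ 2 * i)).card = n / e := by
      rw [← card_filter_dvd n e, he]
      simp only [Nat.mul_dvd_mul_iff_left (show 0 < 2 by norm_num)]
    rw [hc]
    obtain ⟨φ, hφ⟩ := exists_Sp_hom_one (F := F) hr2 hrq he
    obtain ⟨ψ, hψ⟩ := exists_block_hom (F := F) e (n / e) (n % e) n (Nat.div_add_mod n e)
    exact ⟨ψ.comp (φ.compLeft _), hψ.comp hφ.comp_left⟩
  · have hc : ((Finset.Icc 1 n).filter (fun i => ord (Fintype.card F) r ∣ 2 * i)).card =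
        n / ord (Fintype.card F) r := by
      rw [← card_filter_dvd n]
      congr 1
      exact Finset.filter_congr fun i _ =>
        ⟨fun h => ((Nat.coprime_two_left.2 hodd).symm).dvd_of_dvd_mul_left h, fun h => h.mul_left 2⟩
    rw [hc]
    obtain ⟨φ, hφ⟩ := exists_GL_hom (F := F) hrq n
    obtain ⟨ψ, hψ⟩ := exists_linear_hom (F := F) n
    exact ⟨ψ.comp φ, hψ.comp hφ⟩

end Cfsg.Agent.SimpleFacts.HomocyclicSylowSymp
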