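import Cfsg.Agent.SimpleFacts.ModularWeightCount
import Cfsg.Agent.SimpleFacts.ChevalleySteinberg
import Cfsg.Agent.Lib.Chevalley.SL2
import Cfsg.Agent.Lib.Chevalley.TorusCard
import Cfsg.Agent.Lib.Chevalley.Count

/-!
The classes of semisimple elements of a Chevalley group with simply connected torus are as numerous as
the modular weights, namely `q` to the rank.
-/

set_option autoImplicit false
set_option linter.style.haveILetI false
set_option linter.unusedSectionVars false
set_option maxHeartbeats 2000000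

namespace Cfsg.Agent.SimpleFacts.ChevalleyModularWeights

open Cfsg.Lie Cfsg.Agent.Chevalley.Table Cfsg.Agent.Chevalley.Cert Cfsg.Agent.Chevalley.Group
  Cfsg.Agent.Chevalley.Unip Cfsg.Agent.Chevalley.Borel Cfsg.Agent.Chevalley.Weyl
  Cfsg.Agent.Chevalley.Bruhat Cfsg.Agent.Chevalley.SL2 Cfsg.Agent.Chevalley.TorusCard
  Cfsg.Agent.BN.Basic Cfsg.Agent.SimpleFacts.BNReps Cfsg.Agent.SimpleFacts.ChevalleySteinberg
  Cfsg.Agent.SimpleFacts.ModularWeights

variable {D : ChevalleyDatum} {T : Tab} {F : Type*} [Field F] [Fintype F] (hC : Certified D T)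

/-- The index of a generator. -/
noncomputable def idx : (bn (F := F) hC).S ≃ Fin D.rank :=
  (Equiv.ofBijective _ (sgen_bijective hC)).symm

theorem coe_gen (s : (bn (F := F) hC).S) :
    ((s : D.group F) : GL D.Idx F) = ng hC (D.simple (idx hC s)) 1 := by
  have h := Equiv.apply_symm_apply (Equiv.ofBijective _ (sgen_bijective (F := F) hC)) s
  conv_lhs => rw [← h]
  rfl

/-- The root subgroup of a simple root as a homomorphism. -/
noncomputable def xU (i : Fin D.rank) : Multiplicative F →* ↥(D.group F) :=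
  (xgHom hC F (D.simple i)).codRestrict _ fun t => xg_mem_group hC (hC.simple_lt i.2) t.toAdd

theorem coe_xU (i : Fin D.rank) (t : Multiplicative F) :
    (xU hC i t : GL D.Idx F) = xg hC (D.simple i) t.toAdd := rfl

/-- The rank-one torus of a simple root as a homomorphism. -/
noncomputable def hU (i : Fin D.rank) : Fˣ →* ↥(D.group F) where
  toFun u := ⟨hg hC (D.simple i) (u : F), H_le_group hC (hg_eq_tor hC (hC.simple_lt i.2) u ▸ tor_mem_H hC _)⟩
  map_one' := Subtype.ext (by
    show hg hC (D.simple i) ((1 : Fˣ) : F) = 1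
    rw [hg, ← ng_inv hC _ (1 : F), Units.val_one, mul_inv_cancel])
  map_mul' u v := Subtype.ext (by
    show hg hC (D.simple i) ((u * v : Fˣ) : F) =
      hg hC (D.simple i) (u : F) * hg hC (D.simple i) (v : F)
    rw [hg_simple hC i.2, hg_simple hC i.2, hg_simple hC i.2, tor_mul]
    congr 1
    funext j
    simp only [Pi.mul_apply]
    split_ifs <;> simp)

theorem coe_hU (i : Fin D.rank) (u : Fˣ) :
    (hU hC i u : GL D.Idx F) = hg hC (D.simple i) (u : F) := rfl

include hC in
theorem ng_tor {i : ℕ} (hi : i < D.rank) (c : ℕ → Fˣ) :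
    ng hC (D.simple i) 1 * tor D c * (ng hC (D.simple i) (1 : F))⁻¹ =
      tor D c * hg hC (D.simple i) (((torChar D c (D.simple i))⁻¹ : Fˣ) : F) := by
  obtain ⟨c', h1, h2⟩ := ng_conj_tor (F := F) hC hi c
  rw [h1, hg_simple hC hi, tor_mul]
  refine dg_congr fun s hs => ?_
  rw [h2 s hs, torChar_reflect hC c hi hs, zpow_neg, ← inv_zpow]
  have e : ∀ a : Fˣ, torChar D (fun j => if j = i then a else 1) s = a ^ D.cartan i s := fun a => by
    rw [torChar, Finset.prod_eq_single i]
    · rw [if_pos rfl]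
    · intro j _ hj; rw [if_neg hj, one_zpow]
    · exact fun h => absurd (Finset.mem_range.2 hi) h
  rw [← e]
  simp only [torChar, Pi.mul_apply, mul_zpow, Finset.prod_mul_distrib]

include hC in
theorem ng_hg {i : ℕ} (hi : i < D.rank) (u : Fˣ) :
    (ng hC (D.simple i) (1 : F))⁻¹ * hg hC (D.simple i) (u : F) * ng hC (D.simple i) 1 ∈
      Set.range fun v : Fˣ => hg hC (D.simple i) (v : F) := by
  refine ⟨u⁻¹, ?_⟩
  have R := rank1 (F := F) hC (hC.simple_lt hi)
  obtain ⟨n, hn⟩ : ∃ n, n = ng hC (D.simple i) (1 : F) := ⟨_, rfl⟩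
  rw [← hn]
  have h1 := ng_tor hC hi (fun j => if j = i then u⁻¹ else 1)
  rw [← hg_simple hC hi, ← hn] at h1
  have ht : torChar D (fun j => if j = i then u⁻¹ else 1) (D.simple i) = u⁻¹ * u⁻¹ := by
    rw [torChar, Finset.prod_eq_single i]
    · rw [if_pos rfl, hC.cartan_simple hi, zpow_two]
    · intro j _ hj; rw [if_neg hj, one_zpow]
    · exact fun h => absurd (Finset.mem_range.2 hi) h
  rw [ht] at h1
  have h2 : hg hC (D.simple i) ((u⁻¹ : Fˣ) : F) * hg hC (D.simple i) (((u⁻¹ * u⁻¹)⁻¹ : Fˣ) : F) =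
      hg hC (D.simple i) (u : F) := by
    rw [← R.H_mul _ _ (Units.ne_zero _) (Units.ne_zero _), ← Units.val_mul]
    congr 2
    rw [mul_inv_rev, inv_inv, inv_mul_cancel_left]
  rw [h2] at h1
  rw [← h1]
  group

theorem card_units_cop (p : ℕ) [Fact p.Prime] [CharP F p] : (Nat.card Fˣ).Coprime p := by
  obtain ⟨f, -, hf⟩ := FiniteField.card F p
  refine (Nat.Prime.coprime_iff_not_dvd (Fact.out : p.Prime)).2 ?_ |>.symm
  rw [Nat.card_units, Nat.card_eq_fintype_card]
  intro h
  have h1 : p ∣ Fintype.card F := hf ▸ dvd_pow_self p f.2.ne'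
  have h2 : p ∣ Fintype.card F - (Fintype.card F - 1) := Nat.dvd_sub h1 h
  rw [Nat.sub_sub_self Fintype.card_pos] at h2
  exact (Fact.out : p.Prime).not_dvd_one h2

include hC in
theorem isPGroup_U (p : ℕ) [Fact p.Prime] [CharP F p] :
    IsPGroup p ↥((D.posUnipotent F).subgroupOf (D.group F)) := by
  obtain ⟨f, -, hf⟩ := FiniteField.card F p
  refine IsPGroup.of_card (n := f * D.posRoots.length) ?_
  rw [Nat.card_congr (Subgroup.subgroupOfEquivOfLe
    (le_sup_left.trans (B_le_group hC))).toEquiv,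
    Cfsg.Agent.Chevalley.Count.card_U hC, Nat.card_eq_fintype_card, hf, pow_mul]

include hC in
theorem mkW_eq_wOf {m : ↥(D.group F)} (hm : m ∈ (bn (F := F) hC).N) {c : ℕ → Fˣ} {L : List ℕ}
    (hL : ∀ i ∈ L, i < D.rank) (e : (m : GL D.Idx F) = tor D c * nL hC F L) :
    mkW hm = wOf hC L hL := by
  rw [wOf, mkW_eq_iff]
  show (m : GL D.Idx F)⁻¹ * nL hC F L ∈ D.borelSubgroup F
  rw [e, mul_inv_rev, tor_inv]
  exact Subgroup.mem_sup_right
    (by simpa using H_conj hC (inv_mem (nL_mem_N (F := F) hC hL)) (tor_mem_H hC c⁻¹))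

include hC in
theorem wOf_cons (i : Fin D.rank) (L : List ℕ) (hL : ∀ j ∈ L, j < D.rank)
    (h : ∀ j ∈ (i : ℕ) :: L, j < D.rank) :
    wOf (F := F) hC ((i : ℕ) :: L) h = gen (sgen hC i) * wOf hC L hL := by
  have e := wOf_append (F := F) hC [(i : ℕ)] L (by simp) hL h
  simpa [wOf_singleton hC i] using e

include hC in
theorem wL_eq_of_wOf {L L' : List ℕ} (hL : ∀ i ∈ L, i < D.rank) (hL' : ∀ i ∈ L', i < D.rank)
    (h : wOf (F := F) hC L hL = wOf hC L' hL') {r : ℕ} (hr : r < D.nroots) :
    wL D L r = wL D L' r := by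
  rw [wOf, wOf, mkW_eq_iff] at h
  have hH : (nL hC F L)⁻¹ * nL hC F L' ∈ D.diagonalSubgroup F := by
    rw [← B_inf_N hC]
    exact Subgroup.mem_inf.2 ⟨h, mul_mem (inv_mem (nL_mem_N hC hL)) (nL_mem_N hC hL')⟩
  obtain ⟨c, hc⟩ := (mem_H_iff hC).1 hH
  obtain ⟨c', hc'⟩ := nL_conj_tor (F := F) hC hL c
  refine wL_congr hC (F := F) (c := c') (c' := 1) hL hL' ?_ hr
  rw [← hc', ← hc, tor_one, one_mul, mul_inv_cancel_left]

variable (k : Type) [Field k] (p : ℕ) [Fact p.Prime] [CharP F p]

/-- The split (B, N)-pair of a Chevalley group. -/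
noncomputable def datum : Datum ↥(D.group F) k p where
  P := bn (F := F) hC
  U := (D.posUnipotent F).subgroupOf (D.group F)
  H := (D.diagonalSubgroup F).subgroupOf (D.group F)
  X s := (xU hC (idx hC s)).range
  Hs s := (hU hC (idx hC s)).range
  U_p := isPGroup_U hC p
  U_le := fun u hu => Subgroup.mem_sup_left hu
  split := fun b hb => by
    obtain ⟨u, hu, h, hh, e⟩ := (mem_B_iff hC).1 (Subgroup.mem_subgroupOf.1 hb)
    exact ⟨⟨u, B_le_group hC (Subgroup.mem_sup_left hu)⟩, hu, ⟨h, H_le_group hC hh⟩, hh,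
      Subtype.ext e⟩
  H_eq := by
    ext g
    show (g : GL D.Idx F) ∈ D.diagonalSubgroup F ↔
      (g : GL D.Idx F) ∈ D.borelSubgroup F ∧ (g : GL D.Idx F) ∈ D.monomialSubgroup F
    rw [← B_inf_N hC, Subgroup.mem_inf]
  H_comm := fun a ha b hb => Subtype.ext (H_comm hC ha hb)
  H_cop := fun h hh => by
    obtain ⟨c, hc⟩ : (h : GL D.Idx F) ∈ (torHom D F).range := by
      rw [range_torHom hC]; exact hh
    refine Nat.Coprime.of_dvd_left (orderOf_dvd_of_pow_eq_one ?_) (card_units_cop (F := F) p)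
    apply Subtype.ext
    rw [Subgroup.coe_pow, ← hc, ← map_pow, show c ^ Nat.card Fˣ = 1 from
      funext fun i => pow_card_eq_one', map_one]
    rfl
  H_conj := fun h hh u hu =>
    (Subgroup.mem_normalizer_iff.1 (H_normalizes_U hC (Subgroup.mem_subgroupOf.1 hh)) (u : GL D.Idx F)).1 hu
  U_inf := by
    rw [eq_bot_iff]
    rintro g ⟨h1, h2⟩
    have h : (g : GL D.Idx F) ∈ D.posUnipotent F ⊓ D.monomialSubgroup F := ⟨h1, h2⟩
    rw [U_inf_N hC, Subgroup.mem_bot] at h
    exact Subgroup.mem_bot.2 (Subtype.ext h)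
  X_le s := by
    rintro _ ⟨t, rfl⟩
    exact Subgroup.mem_subgroupOf.2
      (xg_mem_U hC (hC.simple_lt (idx hC s).2) (hC.phi_simple (idx hC s).2) _)
  X_ne s := fun e => by
    have h : xU hC (idx hC s) (Multiplicative.ofAdd (1 : F)) = 1 :=
      Subgroup.mem_bot.1 (e ▸ ⟨_, rfl⟩)
    have h' := congrArg Subtype.val h
    rw [coe_xU, toAdd_ofAdd, OneMemClass.coe_one, ← xg_zero hC (D.simple (idx hC s))] at h'
    exact one_ne_zero (xg_injective hC (hC.simple_lt (idx hC s).2) h')
  X_conj s := by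
    rintro h hh _ ⟨t, rfl⟩
    obtain ⟨c, hc⟩ := (mem_H_iff hC).1 (Subgroup.mem_subgroupOf.1 hh)
    refine ⟨Multiplicative.ofAdd ((torChar D c (D.simple (idx hC s)) : F) * t.toAdd), Subtype.ext ?_⟩
    rw [Subgroup.coe_mul, Subgroup.coe_mul, Subgroup.coe_inv, coe_xU, coe_xU, hc, toAdd_ofAdd,
      tor_conj_x hC _ _ _ (hC.simple_lt (idx hC s).2)]
  absorb s u hu := by
    have hi := (idx hC s).2
    have hp := hC.simple_lt hi
    obtain ⟨v, hv, t, hvt⟩ := U_split hC hp (hC.phi_simple hi) (Subgroup.mem_subgroupOf.1 hu)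
    obtain ⟨v', hv', e1⟩ : ∃ v' ∈ Uom hC F (D.simple (idx hC s)),
        (u : GL D.Idx F) = xg hC (D.simple (idx hC s)) t * v' := by
      refine ⟨(xg hC (D.simple (idx hC s)) t)⁻¹ * v * xg hC (D.simple (idx hC s)) t, ?_,
        by rw [hvt]; group⟩
      have := (Subgroup.mem_normalizer_iff.1 (inv_mem (xg_normalizes_Uom hC hi t)) v).1 hv
      rwa [inv_inv] at this
    have hn : (ng hC (D.simple (idx hC s)) (1 : F))⁻¹ * v' * ng hC (D.simple (idx hC s)) 1 ∈
        D.posUnipotent F := by
      refine Uom_le_U hC (D.simple (idx hC s)) ?_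
      have := (Subgroup.mem_normalizer_iff.1 (inv_mem (ng_normalizes_Uom hC hi)) v').1 hv'
      rwa [inv_inv] at this
    refine ⟨xU hC (idx hC s) (Multiplicative.ofAdd t), ⟨_, rfl⟩,
      ⟨_, B_le_group hC (Subgroup.mem_sup_left hn)⟩, hn, Subtype.ext ?_⟩
    simp only [Subgroup.coe_mul, coe_xU, coe_gen hC, toAdd_ofAdd, e1]
    group
  Hs_le s := by
    rintro _ ⟨u, rfl⟩
    rw [Subgroup.mem_subgroupOf, coe_hU, hg_eq_tor hC (hC.simple_lt (idx hC s).2)]
    exact tor_mem_H hC _
  sq s := by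
    refine ⟨-1, Subtype.ext ?_⟩
    rw [Subgroup.coe_mul, coe_gen hC, coe_hU, Units.val_neg, Units.val_one,
      ← (rank1 (F := F) hC (hC.simple_lt (idx hC s).2)).w_sq]
  comm_mem s h hh := by
    obtain ⟨c, hc⟩ := (mem_H_iff hC).1 (Subgroup.mem_subgroupOf.1 hh)
    refine ⟨(torChar D c (D.simple (idx hC s)))⁻¹, Subtype.ext ?_⟩
    rw [Subgroup.coe_mul, Subgroup.coe_mul, Subgroup.coe_mul, Subgroup.coe_inv, Subgroup.coe_inv,
      coe_gen hC, hc, ng_tor hC (idx hC s).2, coe_hU,
      hg_eq_tor hC (hC.simple_lt (idx hC s).2), tor_mul, tor_inv, tor_mul]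
    congr 1
    funext j
    simp [mul_comm]
  rank_one s := by
    classical
    have hi := (idx hC s).2
    have hp := hC.simple_lt hi
    have R := rank1 (F := F) hC hp
    let par : ↥(D.group F) → F := fun y =>
      (Function.invFun (xU hC (idx hC s)) y).toAdd
    have hinj : Function.Injective (xU (F := F) hC (idx hC s)) := fun a b h =>
      Multiplicative.toAdd.injective (xg_injective hC hp (congrArg Subtype.val h))
    have hpar : ∀ t, par (xU hC (idx hC s) t) = t.toAdd := fun t => by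
      show Multiplicative.toAdd (Function.invFun _ _) = _
      rw [Function.leftInverse_invFun hinj t]
    let η : ↥(D.group F) → ↥(D.group F) := fun y =>
      if h : par y = 0 then 1 else hU hC (idx hC s) (Units.mk0 (-(par y)⁻¹) (neg_ne_zero.2 (inv_ne_zero h)))
    refine ⟨η, ?_, ?_⟩
    · rintro y ⟨t, rfl⟩ hne
      obtain ⟨a, hat⟩ : ∃ a : F, Multiplicative.ofAdd a = t := ⟨t.toAdd, rfl⟩
      subst hat
      have ha : a ≠ 0 := fun e => hne (by subst e; rw [ofAdd_zero, map_one])
      have hη : η (xU hC (idx hC s) (Multiplicative.ofAdd a)) =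
          hU hC (idx hC s) (Units.mk0 (-a⁻¹) (neg_ne_zero.2 (inv_ne_zero ha))) := by
        have hpa : par (xU hC (idx hC s) (Multiplicative.ofAdd a)) = a := by rw [hpar, toAdd_ofAdd]
        simp only [η]
        rw [dif_neg (by rw [hpa]; exact ha)]
        congr 1
        exact Units.ext (by simp only [Units.val_mk0, hpa])
      rw [hη]
      refine ⟨⟨_, rfl⟩, xU hC (idx hC s) (Multiplicative.ofAdd (-a⁻¹)), ⟨_, rfl⟩,
        xU hC (idx hC s) (Multiplicative.ofAdd (-a⁻¹)), ⟨_, rfl⟩, Subtype.ext ?_⟩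
      simp only [Subgroup.coe_mul, coe_gen hC, coe_xU, coe_hU, toAdd_ofAdd, Units.val_mk0]
      obtain ⟨n, hn⟩ : ∃ n, n = ng hC (D.simple (idx hC s)) (1 : F) := ⟨_, rfl⟩
      rw [← hn] at R ⊢
      obtain ⟨X, hX⟩ : ∃ X : F → GL D.Idx F, ∀ x, X x = xg hC (D.simple (idx hC s)) x := ⟨_, fun _ => rfl⟩
      have e1 : n * xg hC (D.simple (idx hC s)) a * n⁻¹ = xg hC (D.simple (idx hC s)) (-a⁻¹) *
          (hg hC (D.simple (idx hC s)) a⁻¹ * n) * xg hC (D.simple (idx hC s)) (-a⁻¹) := by
        rw [R.w_conj a, R.Y_eq (-a) (neg_ne_zero.2 ha)]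
        simp only [neg_neg, inv_neg]
      have hm1 : hg hC (D.simple (idx hC s)) (-1 : F) = n * n := R.w_sq.symm
      have e2 : hg hC (D.simple (idx hC s)) (-1 : F) * xg hC (D.simple (idx hC s)) (-a⁻¹) =
          xg hC (D.simple (idx hC s)) (-a⁻¹) * hg hC (D.simple (idx hC s)) (-1) := by
        have := R.H_conj (-1) (-a⁻¹) (neg_ne_zero.2 one_ne_zero)
        simpa using this
      rw [hm1] at e2
      have e3 : hg hC (D.simple (idx hC s)) (-a⁻¹) = hg hC (D.simple (idx hC s)) a⁻¹ * (n * n) := by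
        rw [← hm1, ← R.H_mul _ _ (inv_ne_zero ha) (neg_ne_zero.2 one_ne_zero), mul_neg_one]
      calc n * xg hC (D.simple (idx hC s)) a * n = n * xg hC (D.simple (idx hC s)) a * n⁻¹ * (n * n) := by
            group
        _ = xg hC (D.simple (idx hC s)) (-a⁻¹) * (hg hC (D.simple (idx hC s)) a⁻¹ * n) *
              (xg hC (D.simple (idx hC s)) (-a⁻¹) * (n * n)) := by rw [e1, mul_assoc]
        _ = _ := by rw [← e2, e3]; group
    · intro χ hχ Tf hTf
      obtain ⟨h, ⟨u0, rfl⟩, hne⟩ := hχ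
      have hHs : ∀ u, hU hC (idx hC s) u ∈ (D.diagonalSubgroup F).subgroupOf (D.group F) := fun u => by
        rw [Subgroup.mem_subgroupOf, coe_hU, hg_eq_tor hC hp]
        exact tor_mem_H hC _
      let f : Fˣ →* k :=
        (Units.coeHom k).comp (χ.comp ((hU hC (idx hC s)).codRestrict _ hHs))
      have hf : f ≠ 1 := fun e => hne (by
        rw [cv, dif_pos (hHs u0)]
        exact DFunLike.congr_fun e u0)
      have he : ∀ u : Fˣ, η (xU hC (idx hC s) (Multiplicative.ofAdd (-((u⁻¹ : Fˣ) : F)))) =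
          hU hC (idx hC s) u := by
        intro u
        simp only [η]
        have hpu : par (xU hC (idx hC s) (Multiplicative.ofAdd (-((u⁻¹ : Fˣ) : F)))) =
            -((u⁻¹ : Fˣ) : F) := by rw [hpar, toAdd_ofAdd]
        rw [dif_neg (by rw [hpu]; exact neg_ne_zero.2 (Units.ne_zero _))]
        congr 1
        refine Units.ext ?_
        simp only [Units.val_mk0, hpu]
        simp
      rw [← sum_hom_units_eq_zero f hf]
      symm
      refine Finset.sum_bij (fun (u : Fˣ) _ => xU hC (idx hC s) (Multiplicative.ofAdd (-((u⁻¹ : Fˣ) : F))))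
        (fun u _ => (hTf _).2 ⟨⟨_, rfl⟩, fun e => ?_⟩) (fun a _ b _ e => ?_) (fun y hy => ?_) fun u _ => ?_
      · rw [← map_one (xU hC (idx hC s))] at e
        have := Multiplicative.toAdd.injective.eq_iff.2 (hinj e)
        simp at this
      · have := congrArg Multiplicative.toAdd (hinj e)
        simp only [toAdd_ofAdd, neg_inj] at this
        exact inv_injective (Units.ext this)
      · obtain ⟨⟨t, rfl⟩, hne'⟩ := (hTf y).1 hy
        have ht : t.toAdd ≠ 0 := fun e => hne' (by
          rw [show t = 1 from Multiplicative.toAdd.injective (e.trans toAdd_one.symm), map_one])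
        refine ⟨(Units.mk0 (-t.toAdd) (neg_ne_zero.2 ht))⁻¹, Finset.mem_univ _, ?_⟩
        congr 1
        simp
      · rw [he, cv, dif_pos (hHs u)]
        rfl
  up_conj s m hm hlen := by
    rintro _ ⟨t, rfl⟩
    obtain ⟨c, L, hL, e⟩ := (mem_N_iff hC).1 (Subgroup.mem_subgroupOf.1 hm)
    have hi := (idx hC s).2
    have hLr : ∀ i ∈ L.reverse, i < D.rank := fun i hi => hL i (List.mem_reverse.1 hi)
    have hr := wL_lt hC hLr (hC.simple_lt hi)
    have hpos : 0 < T.phi (wL D L.reverse (D.simple (idx hC s))) := by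
      by_contra hcon
      have hne := hC.phi_ne_zero hr
      have hL' : ∀ j ∈ ((idx hC s : Fin D.rank) : ℕ) :: L, j < D.rank := fun j hj => by
        rcases List.mem_cons.1 hj with rfl | h
        · exact hi
        · exact hL j h
      have h1 := len_lt_of_pos (F := F) hC _ hL' (idx hC s) (by
        rw [List.reverse_cons, wL_append]
        show 0 < T.phi (wL D L.reverse (D.reflectRoot (idx hC s) (D.simple (idx hC s))))
        rw [hC.reflect_simple hi, wL_neg hC hLr (hC.simple_lt hi), hC.phi_neg hr]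
        omega)
      rw [wOf_cons hC (idx hC s) L hL hL', gen_mul_cancel] at h1
      rw [mkW_eq_wOf hC hm hL e] at hlen
      rw [show sgen hC (idx hC s) = s from Equiv.apply_symm_apply (Equiv.ofBijective _ (sgen_bijective hC)) s] at h1
      omega
    obtain ⟨η, hη, he⟩ := nL_conj_x (F := F) hC hL hr
    refine Subgroup.mem_subgroupOf.2 ?_
    rw [Subgroup.coe_mul, Subgroup.coe_mul, Subgroup.coe_inv, coe_xU, e]
    have h2 := tor_conj_x hC c⁻¹ (D.simple (idx hC s)) t.toAdd (hC.simple_lt hi)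
    rw [← tor_inv, inv_inv] at h2
    rw [show (tor D c * nL hC F L)⁻¹ * xg hC (D.simple (idx hC s)) t.toAdd * (tor D c * nL hC F L) =
      (nL hC F L)⁻¹ * ((tor D c)⁻¹ * xg hC (D.simple (idx hC s)) t.toAdd * tor D c) * nL hC F L by group,
      h2]
    have h3 := he (η⁻¹ * ((torChar D c⁻¹ (D.simple (idx hC s)) : F) * t.toAdd))
    rw [wL_neg_simple hC hL (hC.simple_lt hi), mul_inv_cancel_left₀ hη] at h3
    rw [← h3]
    convert xg_mem_U hC hr hpos (η⁻¹ * ((torChar D c⁻¹ (D.simple (idx hC s)) : F) * t.toAdd)) using 1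
    group
  move s v m hm hlen hsw := by
    obtain ⟨c, L, hL, e⟩ := (mem_N_iff hC).1 (Subgroup.mem_subgroupOf.1 hm)
    rw [mkW_eq_wOf hC hm hL e] at hlen hsw
    have hi := (idx hC s).2
    have hj := (idx hC v).2
    have hgs : sgen hC (idx hC s) = s :=
      Equiv.apply_symm_apply (Equiv.ofBijective _ (sgen_bijective hC)) s
    have hgv : sgen hC (idx hC v) = v :=
      Equiv.apply_symm_apply (Equiv.ofBijective _ (sgen_bijective hC)) v
    have hr := wL_lt hC hL (hC.simple_lt hj)
    have hLi : ∀ j ∈ ((idx hC s : Fin D.rank) : ℕ) :: L, j < D.rank := fun j hj' => by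
      rcases List.mem_cons.1 hj' with rfl | h
      · exact hi
      · exact hL j h
    have hLv : ∀ j ∈ L ++ [((idx hC v : Fin D.rank) : ℕ)], j < D.rank := fun j hj' => by
      rcases List.mem_append.1 hj' with h | h
      · exact hL j h
      · exact List.mem_singleton.1 h ▸ hj
    have hwv : wOf (F := F) hC (L ++ [((idx hC v : Fin D.rank) : ℕ)]) hLv = wOf hC L hL * gen v := by
      rw [wOf_append hC L [((idx hC v : Fin D.rank) : ℕ)] hL (by simp), wOf_singleton, hgv]
    have hsn : D.reflectRoot (idx hC s) (wL D L (D.simple (idx hC v))) =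
        D.neg (wL D L (D.simple (idx hC v))) := by
      have h1 := wL_eq_of_wOf (F := F) hC hLi hLv
        (by rw [wOf_cons hC (idx hC s) L hL, hgs, hwv]; exact hsw) (hC.simple_lt hj)
      rw [wL_append] at h1
      refine h1.trans ?_
      show wL D L (D.reflectRoot (idx hC v) (D.simple (idx hC v))) = _
      rw [hC.reflect_simple hj, wL_neg hC hL (hC.simple_lt hj)]
    have hpos : 0 < T.phi (wL D L (D.simple (idx hC v))) := by
      by_contra hcon
      have hne := hC.phi_ne_zero hr
      have hrev : ∀ j ∈ (L ++ [((idx hC v : Fin D.rank) : ℕ)]).reverse, j < D.rank := fun j hj' =>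
        hLv j (List.mem_reverse.1 hj')
      have h1 := len_lt_of_pos (F := F) hC _ hrev (idx hC v) (by
        rw [List.reverse_reverse, wL_append]
        show 0 < T.phi (wL D L (D.reflectRoot (idx hC v) (D.simple (idx hC v))))
        rw [hC.reflect_simple hj, wL_neg hC hL (hC.simple_lt hj), hC.phi_neg hr]
        omega)
      rw [wOf_reverse hC _ hLv hrev, hwv, hgv, len_inv, mul_inv_rev, gen_inv, gen_mul_cancel, len_inv,
        ← hsw] at h1
      omega
    have hroot : wL D L (D.simple (idx hC v)) = D.simple (idx hC s) := by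
      by_contra hne
      have h1 := hC.reflect_pos hi hr hne hpos
      rw [hsn, hC.phi_neg hr] at h1
      omega
    refine ⟨?_, ?_⟩
    · rintro _ ⟨t, rfl⟩
      obtain ⟨η, hη, he⟩ := nL_conj_x (F := F) hC hL (hC.simple_lt hj)
      refine ⟨Multiplicative.ofAdd ((torChar D c (D.simple (idx hC s)) : F) * (η * t.toAdd)), Subtype.ext ?_⟩
      rw [Subgroup.coe_mul, Subgroup.coe_mul, Subgroup.coe_inv, coe_xU, coe_xU, e, toAdd_ofAdd,
        ← tor_conj_x hC c _ _ (hC.simple_lt hi), ← hroot, ← he]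
      group
    · obtain ⟨η, hη, he⟩ := nL_conj_ng (F := F) hC hL (hC.simple_lt hj)
      obtain ⟨a, ha⟩ : ∃ a : Fˣ, a = torChar D c (D.simple (idx hC s)) := ⟨_, rfl⟩
      obtain ⟨z, hz⟩ := ng_hg hC hi (a * Units.mk0 η hη)
      refine ⟨hU hC (idx hC s) z, ⟨z, rfl⟩, Subtype.ext ?_⟩
      rw [Subgroup.coe_mul, Subgroup.coe_mul, Subgroup.coe_mul, Subgroup.coe_inv, coe_hU, coe_gen hC,
        coe_gen hC, e]
      obtain ⟨n, hn⟩ : ∃ n, n = ng hC (D.simple (idx hC s)) (1 : F) := ⟨_, rfl⟩
      rw [← hn] at hz ⊢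
      have h1 := he 1
      rw [hroot, mul_one, ng_eq_hg_mul hC _ η, ← hn] at h1
      have h2 := ng_tor hC hi c⁻¹
      rw [← hn, show torChar D c⁻¹ (D.simple (idx hC s)) = a⁻¹ by rw [ha]; simp [torChar], inv_inv,
        ← tor_inv] at h2
      have h3 : hg hC (D.simple (idx hC s)) ((a : F) * η) =
          hg hC (D.simple (idx hC s)) (a : F) * hg hC (D.simple (idx hC s)) η :=
        (rank1 (F := F) hC (hC.simple_lt hi)).H_mul _ _ (Units.ne_zero _) hη
      simp only [Units.val_mul, Units.val_mk0] at hz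
      calc tor D c * nL hC F L * ng hC (D.simple (idx hC v)) 1 * (tor D c * nL hC F L)⁻¹ =
            tor D c * (nL hC F L * ng hC (D.simple (idx hC v)) 1 * (nL hC F L)⁻¹) * (tor D c)⁻¹ := by group
        _ = tor D c * hg hC (D.simple (idx hC s)) η * (n * (tor D c)⁻¹ * n⁻¹) * n := by rw [h1]; group
        _ = hg hC (D.simple (idx hC s)) ((a : F) * η) * n := by
          rw [h2, h3]
          congr 1
          rw [show hg hC (D.simple (idx hC s)) η = hg hC (D.simple (idx hC s)) ((Units.mk0 η hη : Fˣ) : F) from rfl,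
            hg_eq_tor hC (hC.simple_lt hi), hg_eq_tor hC (hC.simple_lt hi), tor_inv, tor_mul, tor_mul,
            tor_mul, tor_mul]
          congr 1
          funext j
          simp [mul_comm, mul_left_comm, mul_assoc]
        _ = _ := by rw [show hg hC (D.simple (idx hC s)) (z : F) = n⁻¹ * hg hC (D.simple (idx hC s)) ((a : F) * η) * n from hz]; group

omit [Fact p.Prime] [CharP F p] in
include hC in
theorem torHom_injective {ed : Fin D.rank → ℕ}
    (hcard : (∏ i, Nat.gcd (Fintype.card F - 1) (ed i)) * Nat.card (D.diagonalSubgroup F) =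
      (Fintype.card F - 1) ^ D.rank)
    (hed : ∀ i, Nat.gcd (Fintype.card F - 1) (ed i) = 1) : Function.Injective (torHom D F) := by
  classical
  rw [Finset.prod_congr rfl fun i _ => hed i, Finset.prod_const_one, one_mul, ← range_torHom hC] at hcard
  have hb : Function.Bijective (torHom D F).rangeRestrict := by
    rw [Nat.bijective_iff_surjective_and_card]
    refine ⟨(torHom D F).rangeRestrict_surjective, ?_⟩
    rw [hcard, Nat.card_fun, Nat.card_fin, Nat.card_units, Nat.card_eq_fintype_card]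
  intro a b h
  exact hb.1 (Subtype.ext h)

include hC in
open Classical in
/-- The number of classes of semisimple elements. -/
theorem card_semisimple_classes {q : ℕ} (hq : Fintype.card F = q) {ed : Fin D.rank → ℕ}
    (hcard : (∏ i, Nat.gcd (Fintype.card F - 1) (ed i)) * Nat.card (D.diagonalSubgroup F) =
      (Fintype.card F - 1) ^ D.rank)
    (hed : ∀ i, Nat.gcd (Fintype.card F - 1) (ed i) = 1):
    Nat.card {c : ConjClasses ↥(D.group F) //
      ∃ g : ↥(D.group F), ConjClasses.mk g = c ∧ (orderOf g).Coprime p} = q ^ D.rank := by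
  let k := AlgebraicClosure (ZMod p)
  haveI : CharP k p := charP_of_injective_algebraMap (algebraMap (ZMod p) k).injective p
  let Dt := datum (F := F) hC k p
  rw [Cfsg.Agent.SimpleFacts.ModularWeightCount.card_regular_classes Dt]
  haveI : NeZero ((Monoid.exponent Fˣ : ℕ) : ZMod p) := ⟨fun h => by
    rw [ZMod.natCast_eq_zero_iff] at h
    have h1 : Monoid.exponent Fˣ ∣ Nat.card Fˣ := Group.exponent_dvd_nat_card
    exact (Fact.out : p.Prime).not_dvd_one ((card_units_cop (F := F) p).symm ▸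
      Nat.dvd_gcd (dvd_refl p) (h.trans h1) : p ∣ 1)⟩
  have hinj := torHom_injective hC hcard hed
  let eH : (Fin D.rank → Fˣ) →* ↥(Dt.H) :=
    ((torHom D F).codRestrict _ fun c => H_le_group hC (tor_mem_H hC _)).codRestrict _ fun c =>
      Subgroup.mem_subgroupOf.2 (tor_mem_H hC _)
  have heH : ∀ c, ((eH c : ↥(D.group F)) : GL D.Idx F) = torHom D F c := fun c => rfl
  have hbij : Function.Bijective eH := by
    refine ⟨fun a b h => hinj (congrArg (fun x : ↥(Dt.H) => ((x : ↥(D.group F)) : GL D.Idx F)) h), ?_⟩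
    rintro ⟨⟨g, hgG⟩, hg⟩
    have hg' : g ∈ (torHom D F).range := by rw [range_torHom hC]; exact hg
    obtain ⟨c, rfl⟩ := hg'
    exact ⟨c, rfl⟩
  let E : (Fin D.rank → Fˣ) ≃* ↥(Dt.H) := MulEquiv.ofBijective eH hbij
  have hsingle : ∀ (i : Fin D.rank) (u : Fˣ), (E (Pi.mulSingle i u) : ↥(D.group F)) = hU hC i u := by
    intro i u
    apply Subtype.ext
    show torHom D F (Pi.mulSingle i u) = _
    rw [coe_hU, hg_simple hC i.2]
    refine congrArg (tor D) (funext fun j => ?_)
    by_cases hj : j < D.rank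
    · rw [ext, dif_pos hj]
      by_cases h : j = i
      · subst h; simp
      · rw [if_neg h, Pi.mulSingle_eq_of_ne (fun e => h (congrArg Fin.val e))]
    · rw [ext, dif_neg hj, if_neg fun (e : j = i) => hj (e ▸ i.2)]
  have htriv : ∀ (χ : ↥(Dt.H) →* kˣ) (s : (bn (F := F) hC).S),
      s ∈ triv Dt χ ↔ (χ.comp E.toMonoidHom).comp (MonoidHom.mulSingle _ (idx hC s)) = 1 := by
    intro χ s
    have hmem : ∀ u, hU hC (idx hC s) u ∈ Dt.H := fun u => hsingle _ u ▸ (E _).2
    constructor
    · intro h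
      refine MonoidHom.ext fun u => Units.ext ?_
      have := h _ ⟨u, rfl⟩
      rw [cv_eq Dt χ (hmem u)] at this
      refine Eq.trans ?_ this
      exact congrArg (fun x => ((χ x : kˣ) : k)) (Subtype.ext (hsingle (idx hC s) u) : E (Pi.mulSingle (idx hC s) u) = ⟨_, hmem u⟩)
    · rintro h _ ⟨u, rfl⟩
      rw [cv_eq Dt χ (hmem u)]
      have := congrArg Units.val (DFunLike.congr_fun h u)
      refine Eq.trans ?_ this
      exact (congrArg (fun x => ((χ x : kˣ) : k)) (Subtype.ext (hsingle (idx hC s) u) : E (Pi.mulSingle (idx hC s) u) = ⟨_, hmem u⟩)).symm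
  let A := Fˣ →* kˣ
  let e1 : {w : (↥(Dt.H) →* kˣ) × Set Dt.P.S // w.2 ⊆ triv Dt w.1} ≃
      (Fin D.rank → {a : A × Bool // a.2 = true → a.1 = 1}) :=
    { toFun := fun w i => ⟨((w.1.1.comp E.toMonoidHom).comp (MonoidHom.mulSingle (fun _ : Fin D.rank => Fˣ) i),
        decide ((idx hC).symm i ∈ w.1.2)), fun h => by
          have h1 := (htriv w.1.1 ((idx hC).symm i)).1 (w.2 (of_decide_eq_true h))
          rwa [Equiv.apply_symm_apply] at h1⟩
      invFun := fun f => ⟨((∏ i, (f i).1.1.comp (Pi.evalMonoidHom _ i)).comp E.symm.toMonoidHom,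
        {s | (f (idx hC s)).1.2 = true}), fun s hs => (htriv _ s).2 (by
          refine MonoidHom.ext fun u => ?_
          simp only [MonoidHom.comp_apply, MulEquiv.coe_toMonoidHom, MulEquiv.symm_apply_apply,
            MonoidHom.finsetProd_apply, Pi.evalMonoidHom_apply, MonoidHom.mulSingle_apply,
            MonoidHom.one_apply]
          refine Finset.prod_eq_one fun i _ => ?_
          by_cases h : i = idx hC s
          · subst h; rw [(f (idx hC s)).2 hs]; rfl
          · rw [Pi.mulSingle_eq_of_ne h, map_one])⟩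
      left_inv := fun w => by
        refine Subtype.ext (Prod.ext (MonoidHom.ext fun x => ?_) ?_)
        · obtain ⟨c, rfl⟩ := E.surjective x
          simp only [MonoidHom.comp_apply, MulEquiv.coe_toMonoidHom, MulEquiv.symm_apply_apply,
            MonoidHom.finsetProd_apply, Pi.evalMonoidHom_apply, MonoidHom.mulSingle_apply]
          refine ((map_prod (w.1.1.comp E.toMonoidHom) (fun i => Pi.mulSingle i (c i)) Finset.univ).symm).trans ?_
          rw [Finset.univ_prod_mulSingle c]
          rfl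
        · ext s
          show decide ((idx hC).symm (idx hC s) ∈ w.1.2) = true ↔ s ∈ w.1.2
          rw [decide_eq_true_iff]
          exact iff_of_eq (congrArg (· ∈ w.1.2) (Equiv.symm_apply_apply (idx hC) s))
      right_inv := fun f => by
        funext i
        refine Subtype.ext (Prod.ext (MonoidHom.ext fun u => ?_) ?_)
        · simp only [MonoidHom.comp_apply, MulEquiv.coe_toMonoidHom, MulEquiv.symm_apply_apply,
            MonoidHom.finsetProd_apply, Pi.evalMonoidHom_apply, MonoidHom.mulSingle_apply]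
          rw [Finset.prod_eq_single i]
          · rw [Pi.mulSingle_eq_same]
          · intro j _ hj; rw [Pi.mulSingle_eq_of_ne hj, map_one]
          · simp
        · refine Bool.eq_iff_iff.2 (decide_eq_true_iff.trans ?_)
          show (f (idx hC ((idx hC).symm i))).1.2 = true ↔ _
          rw [Equiv.apply_symm_apply] }
  let e2 : {a : A × Bool // a.2 = true → a.1 = 1} ≃ Option A :=
    { toFun := fun a => if a.1.2 then none else some a.1.1
      invFun := fun o => o.elim ⟨(1, true), fun _ => rfl⟩ fun a => ⟨(a, false), fun h => by simp at h⟩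
      left_inv := by
        rintro ⟨⟨a, b⟩, h⟩
        cases b
        · rfl
        · obtain rfl : a = 1 := h rfl
          rfl
      right_inv := fun o => by cases o <;> rfl }
  haveI : Finite A := Finite.of_equiv _
    (CommGroup.monoidHom_mulEquiv_of_hasEnoughRootsOfUnity Fˣ k).some.symm.toEquiv
  rw [Nat.card_congr e1, Nat.card_fun, Nat.card_congr e2, Finite.card_option, Nat.card_fin,
    CommGroup.card_monoidHom_of_hasEnoughRootsOfUnity, Nat.card_units, Nat.card_eq_fintype_card]
  congr 1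
  have := Fintype.card_pos (α := F)
  omega

end Cfsg.Agent.SimpleFacts.ChevalleyModularWeights
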