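import Cfsg.Agent.SimpleFacts.ChevalleyWhittaker
import Cfsg.Agent.SimpleFacts.ChevalleyDiag
import Cfsg.Agent.Lib.Chevalley.Twist.RankOne

/-!
An element of a Chevalley group times a diagonal element that commutes with a regular unipotent
element and with a monomial element for the longest word is diagonal.
-/

set_option autoImplicit false

open scoped Matrix

namespace Cfsg.Agent.SimpleFacts.DiagRegularCent

open Cfsg.Lie Cfsg.Agent.Chevalley.Table Cfsg.Agent.Chevalley.Check Cfsg.Agent.Chevalley.Cert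
  Cfsg.Agent.Chevalley.Group Cfsg.Agent.Chevalley.Unip Cfsg.Agent.Chevalley.Borel
  Cfsg.Agent.Chevalley.Weyl Cfsg.Agent.Chevalley.Bruhat Cfsg.Agent.Chevalley.NormalForm
  Cfsg.Agent.Chevalley.Twist

variable {D : ChevalleyDatum} {T : Tab} {F : Type*} [Field F] (hC : Certified D T)
include hC

theorem conj_opr (x : GL D.Idx F) (a : ℕ → F) (L : List ℕ) (f : ℕ → F)
    (hx : ∀ i ∈ L, ∀ t : F, x * xg hC (D.simple i) t * x⁻¹ = xg hC (D.simple i) (a i * t)) :
    x * opr hC D.simple L f * x⁻¹ = opr hC D.simple L fun i => a i * f i := by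
  induction L with
  | nil => simp [opr]
  | cons i L ih =>
    simp only [opr, List.map_cons, List.prod_cons] at ih ⊢
    rw [← ih fun j hj => hx j (List.mem_cons_of_mem i hj), ← hx i List.mem_cons_self]
    group

theorem opr_simple_mem_U {L : List ℕ} (hL : ∀ i ∈ L, i < D.rank) (f : ℕ → F) :
    opr hC D.simple L f ∈ D.posUnipotent F := by
  refine list_prod_mem fun x hx => ?_
  obtain ⟨i, hi, rfl⟩ := List.mem_map.1 hx
  exact xg_mem_U hC (hC.simple_lt (hL i hi)) (hC.phi_simple (hL i hi)) _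

theorem co_opr {co : ℕ → GL D.Idx F → F}
    (hadd : ∀ i < D.rank, ∀ g ∈ D.posUnipotent F, ∀ g' ∈ D.posUnipotent F,
      co i (g * g') = co i g + co i g')
    (hsimple : ∀ i < D.rank, ∀ j < D.rank, ∀ t : F,
      co i (xg hC (D.simple j) t) = if i = j then t else 0)
    {i : ℕ} (hi : i < D.rank) (f : ℕ → F) :
    ∀ L : List ℕ, L.Nodup → (∀ j ∈ L, j < D.rank) →
      co i (opr hC D.simple L f) = if i ∈ L then f i else 0 := by
  intro L
  induction L with
  | nil =>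
    intro _ _
    have h1 := hadd i hi 1 (one_mem _) 1 (one_mem _)
    rw [one_mul] at h1
    simp [opr, left_eq_add.1 h1]
  | cons j L ih =>
    intro hnd hL
    rw [List.nodup_cons] at hnd
    have hj := hL j List.mem_cons_self
    have hL' : ∀ k ∈ L, k < D.rank := fun k hk => hL k (List.mem_cons_of_mem j hk)
    have := ih hnd.2 hL'
    show co i (xg hC (D.simple j) (f j) * opr hC D.simple L f) = _
    rw [hadd i hi _ (xg_mem_U hC (hC.simple_lt hj) (hC.phi_simple hj) _) _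
      (opr_simple_mem_U hC hL' f), this, hsimple i hi j hj]
    by_cases hij : i = j
    · subst hij; simp [hnd.1]
    · simp [hij]

/-- A diagonal element moves a monomial element inside its coset of the torus. -/
theorem dg_conj_nL (hc : ChevalleyChar.consChk T = true) {χ : ℕ → Fˣ} (hχ : D.IsRootCharacter χ) :
    ∀ L : List ℕ, (∀ i ∈ L, i < D.rank) → ∃ h ∈ D.diagonalSubgroup F,
      dg D F χ * nL hC F L * (dg D F χ)⁻¹ = h * nL hC F L := by
  intro L
  induction L with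
  | nil => intro _; exact ⟨1, one_mem _, by simp [nL]⟩
  | cons i L ih =>
    intro hL
    have hi := hL i List.mem_cons_self
    obtain ⟨h, hh, e⟩ := ih fun j hj => hL j (List.mem_cons_of_mem i hj)
    have hr := hC.simple_lt hi
    obtain ⟨c, ec⟩ := ng_simple_eq (F := F) hC hi (a := (χ (D.simple i) : F)) (Units.ne_zero _)
    have e1 : dg D F χ * ng hC (D.simple i) (1 : F) * (dg D F χ)⁻¹ =
        tor D c * ng hC (D.simple i) 1 := by
      rw [← ec, ng, ng]
      have h1 := ChevalleyDiag.dg_conj_xg hC hc hχ hr (1 : F)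
      have h2 := ChevalleyDiag.dg_conj_xg hC hc hχ (hC.neg_lt hr) (-(1 : F)⁻¹)
      rw [mul_one] at h1
      rw [inv_one, mul_neg, mul_one, hχ.1 _ hr, Units.val_inv_eq_inv_val] at h2
      rw [inv_one]
      calc _ = (dg D F χ * xg hC (D.simple i) 1 * (dg D F χ)⁻¹) *
            (dg D F χ * xg hC (D.neg (D.simple i)) (-1) * (dg D F χ)⁻¹) *
            (dg D F χ * xg hC (D.simple i) 1 * (dg D F χ)⁻¹) := by group
        _ = _ := by rw [h1, h2]
    refine ⟨tor D c * (ng hC (D.simple i) 1 * h * (ng hC (D.simple i) 1)⁻¹),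
      mul_mem (tor_mem_H hC c) (H_conj hC (ng_mem_N hC hi) hh), ?_⟩
    rw [nL_cons]
    calc _ = (dg D F χ * ng hC (D.simple i) 1 * (dg D F χ)⁻¹) *
          (dg D F χ * nL hC F L * (dg D F χ)⁻¹) := by group
      _ = _ := by rw [e1, e]; group

/-- The main statement. -/
theorem eq_tor (hc : ChevalleyChar.consChk T = true) {χ : ℕ → Fˣ} (hχ : D.IsRootCharacter χ)
    {g : GL D.Idx F} (hg : g ∈ D.group F) {L₀ top : List ℕ} (hnd : L₀.Nodup)
    (hL₀ : ∀ i, i ∈ L₀ ↔ i < D.rank) (htop : ∀ i ∈ top, i < D.rank)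
    (hneg : ∀ r < D.nroots, 0 < T.phi r → T.phi (wL D top r) < 0)
    (hu : Commute (g * dg D F χ) (opr hC D.simple L₀ fun _ => 1))
    (hn : Commute (g * dg D F χ) (nL hC F top)) :
    ∃ c : ℕ → Fˣ, g = tor D c ∧ ∀ i < D.rank, torChar D c (D.simple i) * χ (D.simple i) = 1 := by
  classical
  obtain ⟨co, hadd, hsimple, hUom⟩ := ChevalleyWhittaker.exists_coordHom (F := F) hC
  have hL₀' : ∀ i ∈ L₀, i < D.rank := fun i hi => (hL₀ i).1 hi
  obtain ⟨d, hd_def⟩ : ∃ d, d = dg D F χ := ⟨_, rfl⟩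
  obtain ⟨u₀, hu₀⟩ : ∃ u, u = opr hC D.simple L₀ (fun _ => (1 : F)) := ⟨_, rfl⟩
  rw [← hd_def] at hu hn
  rw [← hu₀] at hu
  have hu₀U : u₀ ∈ D.posUnipotent F := hu₀ ▸ opr_simple_mem_U hC hL₀' _
  have hd1 : d * u₀ * d⁻¹ = opr hC D.simple L₀ fun i => (χ (D.simple i) : F) := by
    rw [hu₀, hd_def, conj_opr hC _ (fun i => (χ (D.simple i) : F)) L₀ _
      fun i hi t => ChevalleyDiag.dg_conj_xg hC hc hχ (hC.simple_lt (hL₀' i hi)) t]
    simp
  have hu1U : d * u₀ * d⁻¹ ∈ D.posUnipotent F := hd1 ▸ opr_simple_mem_U hC hL₀' _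
  have hUB : D.posUnipotent F ≤ D.borelSubgroup F := le_sup_left
  -- the element lies in the Borel subgroup
  have hgB : g ∈ D.borelSubgroup F := by
    obtain ⟨b, hb, n, hn', u, hu', e⟩ := exists_form hC hg
    obtain ⟨c, L, hL, rfl⟩ := (mem_N_iff hC).1 hn'
    have huU := Uminus_le_U hC _ hu'
    obtain ⟨n, hn_def⟩ : ∃ n, n = tor D c * nL hC F L := ⟨_, rfl⟩
    rw [← hn_def] at e hu' hn'
    obtain ⟨u', hu'_def⟩ : ∃ u', u' = u * (d * u₀ * d⁻¹) * u⁻¹ := ⟨_, rfl⟩
    have hu'U : u' ∈ D.posUnipotent F := hu'_def ▸ mul_mem (mul_mem huU hu1U) (inv_mem huU)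
    have hconj : n * u' * n⁻¹ = b⁻¹ * u₀ * b := by
      have h := hu.eq
      rw [e] at h
      rw [hu'_def]
      calc _ = b⁻¹ * (b * n * u * d * u₀) * d⁻¹ * u⁻¹ * n⁻¹ := by group
        _ = b⁻¹ * (u₀ * (b * n * u * d)) * d⁻¹ * u⁻¹ * n⁻¹ := by rw [h]
        _ = _ := by group
    have hB : n * u' * n⁻¹ ∈ D.borelSubgroup F :=
      hconj ▸ mul_mem (mul_mem (inv_mem hb) (hUB hu₀U)) hb
    suffices hpos : ∀ i < D.rank, 0 < T.phi (wL D L (D.simple i)) by
      obtain ⟨c', hc'⟩ := exists_tor_of_pos (F := F) hC hL hpos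
      rw [e, hn_def, hc', tor_mul]
      exact mul_mem (mul_mem hb (Subgroup.mem_sup_right (tor_mem_H hC _))) (hUB huU)
    intro i hi
    by_contra hcon
    rw [← Uge_zero hC] at hu'U
    obtain ⟨f, hf⟩ := split_decomp hC (fun r => decide (0 < T.phi (wL D L r))) 0 u' hu'U
    rw [Uge_zero hC] at hu'U
    have hA : ∀ {A W : GL D.Idx F}, u' = A * W → n * A * n⁻¹ ∈ D.posUnipotent F →
        n * W * n⁻¹ ∈ D.negUnipotent F → W = 1 := by
      intro A W e' hA hW
      have h1 : n * W * n⁻¹ ∈ (⊥ : Subgroup (GL D.Idx F)) := by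
        rw [← B_inf_V hC]
        refine Subgroup.mem_inf.2 ⟨?_, hW⟩
        rw [show n * W * n⁻¹ = (n * A * n⁻¹)⁻¹ * (n * (A * W) * n⁻¹) by group, ← e']
        exact mul_mem (inv_mem (show n * A * n⁻¹ ∈ D.borelSubgroup F from hUB hA)) hB
      rw [Subgroup.mem_bot, mul_inv_eq_one, mul_eq_left] at h1
      exact h1
    have hW1 := hA hf (by
      have : prodX hC ((posFrom D 0).filter fun r => decide (0 < T.phi (wL D L r))) f ∈
          (D.posUnipotent F).comap (MulAut.conj n).toMonoidHom := by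
        refine list_prod_mem fun y hy => ?_
        obtain ⟨r, hr, rfl⟩ := List.mem_map.1 hy
        obtain ⟨hr', hq⟩ := List.mem_filter.1 hr
        have hlt := ((mem_posFrom hC).1 hr').1
        obtain ⟨η, -, e'⟩ := conj_xg (F := F) hC hL c hlt
        show n * xg hC r (f r) * n⁻¹ ∈ D.posUnipotent F
        rw [hn_def, e']
        exact xg_mem_U hC (wL_lt hC hL hlt) (of_decide_eq_true hq) _
      exact this) (by
      refine (show _ ∈ (D.negUnipotent F).comap (MulAut.conj n).toMonoidHom from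
        list_prod_mem fun y hy => ?_)
      obtain ⟨r, hr, rfl⟩ := List.mem_map.1 hy
      obtain ⟨hr', hq⟩ := List.mem_filter.1 (List.mem_reverse.1 hr)
      have hlt := ((mem_posFrom hC).1 hr').1
      obtain ⟨η, -, e'⟩ := conj_xg (F := F) hC hL c hlt
      show n * xg hC r (f r) * n⁻¹ ∈ D.negUnipotent F
      rw [hn_def, e']
      refine xg_mem_V hC (wL_lt hC hL hlt) ?_ _
      have := hC.phi_ne_zero (wL_lt hC hL hlt)
      simp only [Bool.not_eq_true', decide_eq_false_iff_not] at hq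
      omega)
    rw [hW1, mul_one] at hf
    have h0 : co i u' = 0 := by
      rw [hf]
      refine hUom i hi _ (list_prod_mem fun y hy => ?_)
      obtain ⟨r, hr, rfl⟩ := List.mem_map.1 hy
      obtain ⟨hr', hq⟩ := List.mem_filter.1 hr
      have h := (mem_posFrom hC).1 hr'
      refine Subgroup.subset_closure ⟨r, _, h.1, ⟨h.2.1, fun er => hcon ?_⟩, rfl⟩
      rw [← er]
      exact of_decide_eq_true hq
    have hone : co i 1 = 0 := by
      have h1 := hadd i hi 1 (one_mem _) 1 (one_mem _)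
      rw [one_mul] at h1
      exact left_eq_add.1 h1
    have hinv : co i u + co i u⁻¹ = 0 := by
      rw [← hadd i hi u huU u⁻¹ (inv_mem huU), mul_inv_cancel, hone]
    rw [hu'_def, hadd i hi _ (mul_mem huU hu1U) _ (inv_mem huU), hadd i hi _ huU _ hu1U, hd1,
      co_opr hC hadd hsimple hi _ L₀ hnd hL₀', if_pos ((hL₀ i).2 hi)] at h0
    exact Units.ne_zero (χ (D.simple i)) (by linear_combination h0 - hinv)
  -- it is diagonal
  obtain ⟨v, hv, k, hk, rfl⟩ := (mem_B_iff hC).1 hgB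
  obtain ⟨n₀, hn₀⟩ : ∃ n₀, n₀ = nL hC F top := ⟨_, rfl⟩
  rw [← hn₀] at hn
  have hn₀N : n₀ ∈ D.monomialSubgroup F := hn₀ ▸ nL_mem_N hC htop
  obtain ⟨h, hh, eh⟩ := dg_conj_nL (F := F) hC hc hχ top htop
  rw [← hd_def, ← hn₀] at eh
  have hvV : n₀ * v * n₀⁻¹ ∈ D.negUnipotent F := by
    suffices D.posUnipotent F ≤ (D.negUnipotent F).comap (MulAut.conj n₀).toMonoidHom from this hv
    conv_lhs => rw [U_eq_closure hC]
    rw [Subgroup.closure_le]
    rintro x ⟨r, t, hr, hp, rfl⟩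
    obtain ⟨η, -, e'⟩ := nL_conj_x (F := F) hC htop hr
    show n₀ * xg hC r t * n₀⁻¹ ∈ D.negUnipotent F
    rw [hn₀, e']
    exact xg_mem_V hC (wL_lt hC htop hr) (hneg r hr hp) _
  have hv1 : n₀ * v * n₀⁻¹ = v * (k * h * (n₀ * k * n₀⁻¹)⁻¹) := by
    calc _ = n₀ * (v * k * d) * n₀⁻¹ * (n₀ * d⁻¹ * n₀⁻¹) * (n₀ * k⁻¹ * n₀⁻¹) := by group
      _ = (v * k * d * n₀) * n₀⁻¹ * (n₀ * d⁻¹ * n₀⁻¹) * (n₀ * k⁻¹ * n₀⁻¹) := by rw [hn.eq]
      _ = v * k * (d * n₀ * d⁻¹) * n₀⁻¹ * (n₀ * k⁻¹ * n₀⁻¹) := by group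
      _ = _ := by rw [eh]; group
  have hv2 : n₀ * v * n₀⁻¹ ∈ (⊥ : Subgroup (GL D.Idx F)) := by
    rw [← B_inf_V hC]
    refine Subgroup.mem_inf.2 ⟨?_, hvV⟩
    rw [hv1]
    exact mul_mem (hUB hv) (Subgroup.mem_sup_right
      (mul_mem (mul_mem hk hh) (inv_mem (H_conj hC hn₀N hk))))
  rw [Subgroup.mem_bot, mul_inv_eq_one, mul_eq_left] at hv2
  subst hv2
  rw [one_mul] at hu ⊢
  obtain ⟨c, rfl⟩ := (mem_H_iff hC).1 hk
  refine ⟨c, rfl, fun i hi => Units.ext ?_⟩
  have h1 : tor D c * d * u₀ * (tor D c * d)⁻¹ = u₀ := by rw [hu.eq]; group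
  have h2 : tor D c * d * u₀ * (tor D c * d)⁻¹ =
      opr hC D.simple L₀ fun i => (torChar D c (D.simple i) : F) * (χ (D.simple i) : F) := by
    rw [hu₀, conj_opr hC (tor D c * d)
      (fun i => (torChar D c (D.simple i) : F) * (χ (D.simple i) : F)) L₀ _ fun j hj t => by
      calc _ = tor D c * (d * xg hC (D.simple j) t * d⁻¹) * (tor D c)⁻¹ := by group
        _ = _ := by
          rw [hd_def, ChevalleyDiag.dg_conj_xg hC hc hχ (hC.simple_lt (hL₀' j hj)),
            tor_conj_x hC _ _ _ (hC.simple_lt (hL₀' j hj)), mul_assoc]]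
    simp
  have h3 := congrArg (co i) (h2.symm.trans h1)
  rw [hu₀, co_opr hC hadd hsimple hi _ L₀ hnd hL₀', co_opr hC hadd hsimple hi _ L₀ hnd hL₀',
    if_pos ((hL₀ i).2 hi)] at h3
  rw [Units.val_mul, Units.val_one]
  simpa [(hL₀ i).2 hi] using h3

end Cfsg.Agent.SimpleFacts.DiagRegularCent
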