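import Cfsg.Agent.SimpleFacts.BNUnipotentCount

/-!
Cells of additive products, the lemma of Kilmoyer on double cosets of standard subgroups of the Weyl
group, and an alternating sum over shortest representatives.
-/

set_option autoImplicit false

namespace Cfsg.Agent.SimpleFacts.BNKilmoyer

open Cfsg.Agent.BN.Basic Cfsg.Agent.BN.Parabolic Cfsg.Agent.SimpleFacts.BNReps
  Cfsg.Agent.SimpleFacts.BNSteinberg Cfsg.Agent.SimpleFacts.BNUnipotentCount

variable {G : Type*} [Group G] {P : Cfsg.BNPair G}

theorem cell_mul_add {u v : W P} (h : len (u * v) = len u + len v) {x y : G} (hx : x ∈ cell u)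
    (hy : y ∈ cell v) : x * y ∈ cell (u * v) := by
  obtain ⟨L, hL, rfl⟩ := exists_reduced u
  exact mul_cell_add L hL.symm v (by rw [h, hL]) x y hx hy

/-- An additive product determines the coset of its first factor. -/
theorem cancel : ∀ (L : List P.S), len (wordW L) = L.length → ∀ (w : W P),
    len (w * wordW L) = len w + L.length → ∀ z z' y y' : G, z ∈ cell w → z' ∈ cell w →
    y ∈ cell (wordW L) → y' ∈ cell (wordW L) → (z * y)⁻¹ * (z' * y') ∈ P.B → z⁻¹ * z' ∈ P.B := by
  intro L
  induction L with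
  | nil =>
    intro _ w _ z z' y y' _ _ hy hy' h
    rw [wordW_nil, cell_one] at hy hy'
    have := mul_mem (mul_mem hy h) (inv_mem hy')
    simpa [mul_assoc] using this
  | cons s L ih =>
    intro hred w hlen z z' y y' hz hz' hy hy' h
    rw [wordW_cons] at hy hy' hred hlen
    rw [List.length_cons] at hred hlen
    have h1 := len_wordW_le L
    have h2 := len_gen_mul_le s (wordW L)
    rw [← mul_assoc] at hlen
    have h3 := len_mul_le (w * gen s) (wordW L)
    have h4 := len_mul_gen_cases w s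
    have hws : len (w * gen s) = len w + 1 := by omega
    have hws' : len (w * gen s) = len w + len (gen s) := by
      have h5 := len_wordW_le [s]
      rw [wordW_singleton, List.length_singleton] at h5
      have h6 : len (gen s) ≠ 0 := fun e => gen_ne_one s (eq_one_of_len_eq_zero e)
      omega
    obtain ⟨c, hc, y₁, hy₁, rfl⟩ := cell_decomp hy (P.subset s.2) rfl
    obtain ⟨c', hc', y₁', hy₁', rfl⟩ := cell_decomp hy' (P.subset s.2) rfl
    have hz1 : z * (c * (s : G)) ∈ cell (w * gen s) :=
      cell_mul_add hws' hz (mul_left_cell hc (mem_cell_gen s))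
    have hz1' : z' * (c' * (s : G)) ∈ cell (w * gen s) :=
      cell_mul_add hws' hz' (mul_left_cell hc' (mem_cell_gen s))
    have hd := ih (by omega) (w * gen s) (by omega) _ _ y₁ y₁' hz1 hz1' hy₁ hy₁'
      (by simpa only [mul_assoc] using h)
    -- `d` lies in `B` or in the cell of `s`
    have hd2 : (z * c)⁻¹ * (z' * c') = (s : G) * ((z * (c * s))⁻¹ * (z' * (c' * s))) * (s : G)⁻¹ := by
      group
    have hsinv : (s : G)⁻¹ ∈ cell (gen s) := by simpa [gen_inv] using inv_mem_cell (mem_cell_gen s)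
    have hd3 := mul_cell (mul_right_cell (mem_cell_gen s) hd) hsinv
    rw [← hd2, gen_mul_self, cell_one] at hd3
    rcases hd3 with h5 | h5
    · have := mul_mem (mul_mem hc h5) (inv_mem hc')
      simpa [mul_assoc] using this
    · exfalso
      have h6 := cell_mul_add hws' (mul_right_cell hz hc) h5
      rw [mul_inv_cancel_left] at h6
      exact gen_ne_one s (mul_eq_left.1 (cell_inj h6 (mul_right_cell hz' hc')))

theorem cancel' {w v : W P} (hadd : len (w * v) = len w + len v) {z z' y y' : G} (hz : z ∈ cell w)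
    (hz' : z' ∈ cell w) (hy : y ∈ cell v) (hy' : y' ∈ cell v)
    (h : (z * y)⁻¹ * (z' * y') ∈ P.B) : z⁻¹ * z' ∈ P.B := by
  obtain ⟨L, hL, rfl⟩ := exists_reduced v
  exact cancel L hL.symm w (by rw [hadd, hL]) z z' y y' hz hz' hy hy' h

theorem len_one_inK {K : Set P.S} {x : W P} (hx : InK K x) (h1 : len x = 1) :
    ∃ k ∈ K, x = gen k := by
  obtain ⟨L, hL, rfl, hlen⟩ := inK_reduced hx
  rw [h1] at hlen
  obtain ⟨k, rfl⟩ := List.length_eq_one_iff.1 hlen
  exact ⟨k, hL k List.mem_cons_self, wordW_singleton k⟩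

theorem len_gen (s : P.S) : len (gen s) = 1 := by
  have h1 := len_wordW_le [s]
  rw [wordW_singleton, List.length_singleton] at h1
  have h2 : len (gen s) ≠ 0 := fun e => gen_ne_one s (eq_one_of_len_eq_zero e)
  omega

theorem inK_gen_mem {K : Set P.S} {s : P.S} (h : InK K (gen s)) : s ∈ K := by
  obtain ⟨k, hk, e⟩ := len_one_inK h (len_gen s)
  exact gen_injective e ▸ hk

/-- Left multiplication by the standard subgroup adds the lengths. -/
theorem rep_add_left {J : Set P.S} {w : W P} (hw : Rep J w⁻¹) {v : W P} (hv : InK J v) :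
    len (v * w) = len v + len w := by
  rw [← len_inv, mul_inv_rev, rep_add hw (inK_inv hv), len_inv, len_inv, add_comm]

/-- **The lemma of Kilmoyer**, in the form needed. -/
theorem kilmoyer {J K : Set P.S} {w : W P} (hw : Rep2 J K w) :
    ∀ (n : ℕ) (v v' : W P), len v = n → InK J v → InK K v' → v * w = w * v' →
      InK {s | s ∈ J ∧ InK K (w⁻¹ * gen s * w)} v := by
  intro n
  induction n with
  | zero =>
    intro v v' hn _ _ _
    rw [eq_one_of_len_eq_zero hn]
    exact inK_one _
  | succ n ih =>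
    intro v v' hn hv hv' he
    have hlv : len v' = n + 1 := by
      have h1 := rep_add_left hw.2 hv
      rw [he, rep_add hw.1 hv'] at h1
      omega
    obtain ⟨L', hL', rfl, hlen'⟩ := inK_reduced hv'
    rcases List.eq_nil_or_concat L' with rfl | ⟨M, t, hMt⟩
    · rw [List.length_nil] at hlen'; omega
    obtain rfl : L' = M ++ [t] := by simpa using hMt
    have htK : t ∈ K := hL' t (List.mem_append_right _ List.mem_cons_self)
    have hMK : InK K (wordW M) := ⟨M, fun x hx => hL' x (List.mem_append_left _ hx), rfl⟩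
    rw [List.length_append, List.length_singleton] at hlen'
    have hM := len_wordW_le M
    rw [wordW_append, wordW_singleton] at he hlv hlen'
    have hsh : v * w * gen t = w * wordW M := by rw [he, ← mul_assoc, mul_gen_cancel]
    have hlt : len (v * w * gen t) < len (v * w) := by
      rw [hsh, rep_add hw.1 hMK, rep_add_left hw.2 hv]
      omega
    obtain ⟨Lv, hLv, rfl, hlenv⟩ := inK_reduced hv
    obtain ⟨Lw, hLw, hwe⟩ := exists_reduced w
    have hred : len (wordW (Lv ++ Lw)) = (Lv ++ Lw).length := by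
      rw [wordW_append, hwe, rep_add_left hw.2 hv, List.length_append, hLw, hlenv]
    obtain ⟨j, hj, hje⟩ := exchange_right hred (s := t) (by rw [wordW_append, hwe]; exact hlt)
    rw [wordW_append, hwe] at hje
    rw [List.length_append] at hj
    have hwt := hw.1 t htK
    by_cases hjv : j < Lv.length
    swap
    · exfalso
      rw [List.eraseIdx_append_of_length_le (by omega), wordW_append, mul_assoc, mul_right_inj] at hje
      have h3 := len_wordW_le (Lw.eraseIdx (j - Lv.length))
      rw [List.length_eraseIdx_of_lt (by omega), ← hje] at h3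
      omega
    rw [List.eraseIdx_append_of_lt_length hjv, wordW_append, hwe] at hje
    obtain ⟨v₂, hv₂⟩ : ∃ v₂, v₂ = wordW (Lv.eraseIdx j) := ⟨_, rfl⟩
    rw [← hv₂] at hje
    have hv₂J : InK J v₂ := ⟨_, fun x hx => hLv x (List.mem_of_mem_eraseIdx hx), hv₂.symm⟩
    have hy : InK J ((wordW Lv)⁻¹ * v₂) := inK_mul (inK_inv hv) hv₂J
    have hwy : w * gen t = (wordW Lv)⁻¹ * v₂ * w := by
      rw [mul_assoc, ← hje]; group
    have hy1 : len ((wordW Lv)⁻¹ * v₂) = 1 := by
      have h3 := rep_add hw.1 (inK_gen htK)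
      rw [hwy, rep_add_left hw.2 hy, len_gen] at h3
      omega
    obtain ⟨s, hs, hse⟩ := len_one_inK hy hy1
    have hv₂n : len v₂ = n := by
      have h3 := rep_add_left hw.2 hv₂J
      rw [← hje, hsh, rep_add hw.1 hMK] at h3
      have h4 := len_wordW_le (Lv.eraseIdx j)
      rw [List.length_eraseIdx_of_lt hjv, ← hv₂] at h4
      have h5 := len_mul_le v₂ (gen s)
      rw [← hse] at h5
      have h6 : v₂ * ((wordW Lv)⁻¹ * v₂)⁻¹ = wordW Lv := by group
      have h7 := len_mul_le v₂ ((wordW Lv)⁻¹ * v₂)⁻¹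
      rw [h6, len_inv, hy1] at h7
      omega
    have hsK : InK K (w⁻¹ * gen s * w) := by
      rw [← hse, mul_assoc, ← hwy, inv_mul_cancel_left]
      exact inK_gen htK
    have h2 := ih v₂ (wordW M) hv₂n hv₂J hMK (hje.symm.trans hsh)
    have e : wordW Lv = v₂ * gen s := by
      rw [← gen_inv s, ← hse]; group
    rw [e]
    exact inK_mul h2 (inK_gen ⟨hs, hsK⟩)

/-- Conjugation by the longest element permutes the generators. -/
theorem top_conj {K : Set P.S} {t : W P} (ht : IsTopIn K t) {s : P.S} (hs : s ∈ K) :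
    ∃ s' ∈ K, t * gen s = gen s' * t := by
  have hy : InK K (t * gen s * t⁻¹) := inK_mul (inK_mul ht.1 (inK_gen hs)) (inK_inv ht.1)
  have hy1 : len (t * gen s * t⁻¹) = 1 := by
    have ht' : t⁻¹ = t := topIn_unique (topIn_inv ht) ht
    have h1 := top_add ht (inK_inv hy)
    have h2 : t * (t * gen s * t⁻¹)⁻¹ = (t * gen s)⁻¹ := by
      calc t * (t * gen s * t⁻¹)⁻¹ = t * t * (t * gen s)⁻¹ := by group
        _ = _ := by nth_rw 2 [← ht']; rw [mul_inv_cancel, one_mul]
    rw [h2, len_inv, len_inv] at h1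
    have h3 := top_add ht (inK_gen hs)
    rw [len_gen] at h3
    omega
  obtain ⟨s', hs', e⟩ := len_one_inK hy hy1
  exact ⟨s', hs', by rw [← e, inv_mul_cancel_right]⟩

/-- The generators of `J` are moved by `w` into `K`, and `w` is shortest on both sides. -/
def Good (J K : Set P.S) (w : W P) : Prop :=
  Rep J w⁻¹ ∧ Rep K w ∧ ∀ s ∈ J, InK K (w⁻¹ * gen s * w)

theorem Good.exists_gen {J K : Set P.S} {w : W P} (h : Good J K w) {s : P.S} (hs : s ∈ J) :
    ∃ k ∈ K, gen s * w = w * gen k := by
  have h1 := h.2.2 s hs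
  have h2 := rep_add h.2.1 h1
  rw [show w * (w⁻¹ * gen s * w) = gen s * w by group, rep_add_left h.1 (inK_gen hs), len_gen] at h2
  obtain ⟨k, hk, e⟩ := len_one_inK h1 (by omega)
  exact ⟨k, hk, by rw [← e]; group⟩

variable [Fintype P.S] [Fintype (W P)]

theorem alternating_good {R : Type*} [CommRing R]
    (huniq : ∀ w w' : W P, IsTop w → IsTop w' → w = w') (J : Finset P.S)
    [∀ (K : Finset P.S) (w : W P), Decidable (Good (J : Set P.S) (K : Set P.S) w)] :
    (∑ w : W P, ∑ K : Finset P.S,
      if Good (J : Set P.S) (K : Set P.S) w then (-1 : R) ^ K.card else 0) = (-1) ^ J.card := by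
  classical
  obtain ⟨t₀, ht₀, -⟩ := exists_top (P := P)
  obtain ⟨tJ, htJ⟩ := exists_topIn (P := P) (J : Set P.S)
  have htJ' : tJ⁻¹ = tJ := topIn_unique (topIn_inv htJ) htJ
  have ht₀' : IsTopIn (Set.univ : Set P.S) t₀ :=
    ⟨⟨_, fun _ _ => trivial, (exists_reduced t₀).choose_spec.2⟩, fun s _ => ht₀ s⟩
  have hall : ∀ x : W P, InK (Set.univ : Set P.S) x := fun x =>
    ⟨_, fun _ _ => trivial, (exists_reduced x).choose_spec.2⟩
  have ht₀i : t₀⁻¹ = t₀ := topIn_unique (topIn_inv ht₀') ht₀'
  let A : W P → Finset P.S := fun w => Finset.univ.filter fun k => len w < len (w * gen k)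
  have hA : ∀ w k, k ∈ A w ↔ len w < len (w * gen k) := fun w k => by simp [A]
  obtain ⟨w₀, hw₀⟩ : ∃ w₀, w₀ = tJ * t₀ := ⟨_, rfl⟩
  -- lengths under the top
  have hlen₀ : ∀ x : W P, len (x * t₀) + len x = len t₀ := fun x => by
    have := top_add ht₀' (hall x⁻¹)
    rwa [← len_inv (t₀ * x⁻¹), mul_inv_rev, inv_inv, ht₀i, len_inv] at this
  have hrep₀ : Rep (J : Set P.S) w₀⁻¹ := by
    intro s hs
    have e : w₀⁻¹ * gen s = (gen s * tJ * t₀)⁻¹ := by
      rw [mul_assoc, ← hw₀, mul_inv_rev, gen_inv]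
    rw [e, len_inv, len_inv, hw₀]
    have h1 := hlen₀ tJ
    have h2 := hlen₀ (gen s * tJ)
    have h3 := htJ.2 s hs
    rw [len_mul_gen, htJ'] at h3
    omega
  have hfwd : ∀ s ∈ J, ∃ k ∈ A w₀, gen s * w₀ = w₀ * gen k := by
    intro s hs
    obtain ⟨j, hj, ej⟩ := top_conj htJ (Finset.mem_coe.2 hs)
    obtain ⟨k, -, ek⟩ := top_conj ht₀' (Set.mem_univ j)
    have ek' : gen j * t₀ = t₀ * gen k := by
      calc gen j * t₀ = (t₀⁻¹ * gen j)⁻¹ := by rw [mul_inv_rev, inv_inv, gen_inv]
        _ = (gen k * t₀⁻¹)⁻¹ := by rw [ht₀i]; rw [ek]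
        _ = _ := by rw [mul_inv_rev, inv_inv, gen_inv]
    have ej' : gen s * tJ = tJ * gen j := by
      calc gen s * tJ = (tJ⁻¹ * gen s)⁻¹ := by rw [mul_inv_rev, inv_inv, gen_inv]
        _ = (gen j * tJ⁻¹)⁻¹ := by rw [htJ']; rw [ej]
        _ = _ := by rw [mul_inv_rev, inv_inv, gen_inv]
    have e : gen s * w₀ = w₀ * gen k := by
      rw [hw₀, ← mul_assoc, ej', mul_assoc, ek', ← mul_assoc]
    refine ⟨k, (hA _ _).2 ?_, e⟩
    rw [← e, rep_add_left hrep₀ (inK_gen (Finset.mem_coe.2 hs)), len_gen]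
    omega
  have hbwd : ∀ k ∈ A w₀, ∃ s ∈ J, gen s * w₀ = w₀ * gen k := by
    intro k hk
    obtain ⟨j, -, ej⟩ := top_conj ht₀' (Set.mem_univ k)
    have e1 : w₀ * gen k = tJ * gen j * t₀ := by rw [hw₀, mul_assoc, ej, ← mul_assoc]
    have h1 := (hA _ _).1 hk
    rw [e1, hw₀] at h1
    have h2 := hlen₀ tJ
    have h3 := hlen₀ (tJ * gen j)
    rcases len_mul_gen_cases tJ j with h4 | h4
    · omega
    obtain ⟨L, hL, hLe, hLlen⟩ := inK_reduced htJ.1
    obtain ⟨i, hi, hie⟩ := exchange_right (L := L) (s := j) (by rw [hLe, hLlen]) (by rw [hLe]; omega)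
    rw [hLe] at hie
    have hjJ : j ∈ (J : Set P.S) := inK_gen_mem (by
      rw [show gen j = tJ⁻¹ * wordW (L.eraseIdx i) by rw [← hie]; group]
      exact inK_mul (inK_inv htJ.1) ⟨_, fun x hx => hL x (List.mem_of_mem_eraseIdx hx), rfl⟩)
    obtain ⟨s, hs, es⟩ := top_conj htJ hjJ
    exact ⟨s, hs, by rw [e1, es, hw₀, mul_assoc]⟩
  -- one summand
  have hterm : ∀ w : W P, (∑ K : Finset P.S,
      if Good (J : Set P.S) (K : Set P.S) w then (-1 : R) ^ K.card else 0) =
        if w = w₀ then (-1) ^ J.card else 0 := by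
    intro w
    by_cases hJw : Rep (J : Set P.S) w⁻¹ ∧ ∀ s ∈ J, ∃ k ∈ A w, gen s * w = w * gen k
    swap
    · rw [Finset.sum_eq_zero, if_neg]
      · rintro rfl; exact hJw ⟨hrep₀, hfwd⟩
      · intro K _
        rw [if_neg]
        intro h
        refine hJw ⟨h.1, fun s hs => ?_⟩
        obtain ⟨k, hk, e⟩ := h.exists_gen (Finset.mem_coe.2 hs)
        exact ⟨k, (hA _ _).2 (h.2.1 k hk), e⟩
    obtain ⟨hrep, hf⟩ := hJw
    choose f hfA hfe using hf
    obtain ⟨I, hI⟩ : ∃ I : Finset P.S, I = J.attach.image fun s => f s.1 s.2 := ⟨_, rfl⟩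
    have hcardI : I.card = J.card := by
      rw [hI, Finset.card_image_of_injective, Finset.card_attach]
      intro s s' h
      simp only at h
      have := hfe s.1 s.2
      rw [h, ← hfe s'.1 s'.2, mul_left_inj] at this
      exact Subtype.ext (gen_injective this)
    have hIA : I ⊆ A w := by
      rw [hI]
      intro k hk
      obtain ⟨s, -, rfl⟩ := Finset.mem_image.1 hk
      exact hfA _ _
    have hgood : ∀ K : Finset P.S, Good (J : Set P.S) (K : Set P.S) w ↔ I ⊆ K ∧ K ⊆ A w := by
      intro K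
      constructor
      · intro h
        refine ⟨fun k hk => ?_, fun k hk => (hA _ _).2 (h.2.1 k hk)⟩
        rw [hI] at hk
        obtain ⟨s, -, rfl⟩ := Finset.mem_image.1 hk
        obtain ⟨k, hk, e⟩ := h.exists_gen (Finset.mem_coe.2 s.2)
        rw [hfe s.1 s.2, mul_right_inj] at e
        rw [gen_injective e]
        exact hk
      · rintro ⟨h1, h2⟩
        refine ⟨hrep, fun k hk => (hA _ _).1 (h2 hk), fun s hs => ?_⟩
        rw [mul_assoc, hfe s hs, inv_mul_cancel_left]
        refine inK_gen (h1 ?_)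
        rw [hI]
        exact Finset.mem_image.2 ⟨⟨s, hs⟩, Finset.mem_attach _ _, rfl⟩
    simp only [hgood]
    rw [← Finset.sum_filter]
    have hbij : ∑ K ∈ Finset.univ.filter (fun K => I ⊆ K ∧ K ⊆ A w), (-1 : R) ^ K.card =
        ∑ L ∈ (A w \ I).powerset, (-1 : R) ^ I.card * (-1) ^ L.card := by
      refine Finset.sum_nbij' (fun K => K \ I) (fun L => I ∪ L) ?_ ?_ ?_ ?_ ?_
      · intro K hK
        simp only [Finset.mem_filter, Finset.mem_univ, true_and] at hK
        exact Finset.mem_powerset.2 (Finset.sdiff_subset_sdiff hK.2 subset_rfl)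
      · intro L hL
        simp only [Finset.mem_powerset] at hL
        simp only [Finset.mem_filter, Finset.mem_univ, true_and]
        exact ⟨Finset.subset_union_left, Finset.union_subset hIA (hL.trans Finset.sdiff_subset)⟩
      · intro K hK
        simp only [Finset.mem_filter, Finset.mem_univ, true_and] at hK
        exact Finset.union_sdiff_of_subset hK.1
      · intro L hL
        simp only [Finset.mem_powerset] at hL
        rw [Finset.union_sdiff_left, Finset.sdiff_eq_self_iff_disjoint]
        exact Finset.disjoint_of_subset_left hL Finset.sdiff_disjoint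
      · intro K hK
        simp only [Finset.mem_filter, Finset.mem_univ, true_and] at hK
        rw [← pow_add, ← Finset.card_sdiff_add_card_eq_card hK.1, add_comm]
    have hsum : ∑ L ∈ (A w \ I).powerset, (-1 : R) ^ L.card = if A w \ I = ∅ then 1 else 0 := by
      have key := congrArg (fun z : ℤ => (z : R))
        (Finset.sum_powerset_neg_one_pow_card (x := A w \ I))
      push_cast at key
      exact key
    rw [hbij, ← Finset.mul_sum, hsum, hcardI, mul_ite, mul_one, mul_zero]
    refine if_congr ⟨fun hsub => ?_, fun hw => ?_⟩ rfl rfl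
    · rw [Finset.sdiff_eq_empty_iff_subset] at hsub
      have htop : IsTop (tJ * w) := by
        intro k
        by_cases hk : k ∈ A w
        · have := hsub hk
          rw [hI] at this
          obtain ⟨s, -, rfl⟩ := Finset.mem_image.1 this
          rw [mul_assoc, ← hfe s.1 s.2, ← mul_assoc,
            rep_add_left hrep (inK_mul htJ.1 (inK_gen (Finset.mem_coe.2 s.2))),
            rep_add_left hrep htJ.1]
          have := htJ.2 s.1 (Finset.mem_coe.2 s.2)
          omega
        · rw [hA, not_lt] at hk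
          have h1 := len_mul_gen_cases w k
          rw [mul_assoc, rep_add_left hrep htJ.1]
          have := len_mul_le tJ (w * gen k)
          omega
      rw [hw₀, ← huniq _ _ htop ht₀, ← mul_assoc]
      nth_rw 1 [← htJ']
      rw [inv_mul_cancel, one_mul]
    · subst hw
      rw [Finset.sdiff_eq_empty_iff_subset]
      intro k hk
      obtain ⟨s, hs, e⟩ := hbwd k hk
      rw [hfe s hs, mul_right_inj] at e
      rw [← gen_injective e, hI]
      exact Finset.mem_image.2 ⟨⟨s, hs⟩, Finset.mem_attach _ _, rfl⟩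
  rw [Finset.sum_congr rfl fun w _ => hterm w]
  simp

end Cfsg.Agent.SimpleFacts.BNKilmoyer
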