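import Cfsg.Agent.Lib.BN.Parabolic

/-!
Shortest representatives of cosets and double cosets of standard subgroups of the Weyl group of a
(B, N)-pair.
-/

set_option autoImplicit false

namespace Cfsg.Agent.SimpleFacts.BNReps

open Cfsg.Agent.BN.Basic

variable {G : Type*} [Group G] {P : Cfsg.BNPair G}

/-- `v` is a product of generators from `K`. -/
def InK (K : Set P.S) (v : W P) : Prop := ∃ L : List P.S, (∀ s ∈ L, s ∈ K) ∧ wordW L = v

theorem inK_one (K : Set P.S) : InK K 1 := ⟨[], by simp, by simp⟩

theorem inK_gen {K : Set P.S} {s : P.S} (hs : s ∈ K) : InK K (gen s) :=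
  ⟨[s], by simpa using hs, wordW_singleton s⟩

theorem inK_mul {K : Set P.S} {u v : W P} (hu : InK K u) (hv : InK K v) : InK K (u * v) := by
  obtain ⟨L, hL, rfl⟩ := hu
  obtain ⟨L', hL', rfl⟩ := hv
  exact ⟨L ++ L', fun s hs => (List.mem_append.1 hs).elim (hL s) (hL' s), wordW_append L L'⟩

theorem inK_inv {K : Set P.S} {u : W P} (hu : InK K u) : InK K u⁻¹ := by
  obtain ⟨L, hL, rfl⟩ := hu
  exact ⟨L.reverse, fun s hs => hL s (List.mem_reverse.1 hs), wordW_reverse L⟩

theorem inK_reduced {K : Set P.S} {u : W P} (hu : InK K u) :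
    ∃ L : List P.S, (∀ s ∈ L, s ∈ K) ∧ wordW L = u ∧ L.length = len u := by
  obtain ⟨L, hL, rfl⟩ := hu
  obtain ⟨L', hsub, hprod, hred⟩ := exists_reduced_sublist L
  exact ⟨L', fun s hs => hL s (hsub.subset hs), hprod, by rw [← hprod, hred]⟩

theorem len_mul_gen (w : W P) (s : P.S) : len (w * gen s) = len (gen s * w⁻¹) := by
  rw [← len_inv, mul_inv_rev, gen_inv]

theorem len_mul_gen_cases (w : W P) (s : P.S) :
    len (w * gen s) = len w + 1 ∨ len (w * gen s) + 1 = len w := by
  have h1 := len_gen_mul_ne s w⁻¹
  have h2 := len_gen_mul_le s w⁻¹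
  have h3 := len_le_gen_mul s w⁻¹
  rw [← len_mul_gen] at h1 h2 h3
  rw [len_inv] at h1 h2 h3
  omega

theorem len_gen_mul_cases (w : W P) (s : P.S) :
    len (gen s * w) = len w + 1 ∨ len (gen s * w) + 1 = len w := by
  have h1 := len_gen_mul_ne s w
  have h2 := len_gen_mul_le s w
  have h3 := len_le_gen_mul s w
  omega

theorem len_mul_le (a b : W P) : len (a * b) ≤ len a + len b := by
  obtain ⟨L, hL, rfl⟩ := exists_reduced a
  obtain ⟨L', hL', rfl⟩ := exists_reduced b
  rw [← wordW_append, ← hL, ← hL', ← List.length_append]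
  exact len_wordW_le _

theorem len_mul_wordW_le (a : W P) (L : List P.S) : len (a * wordW L) ≤ len a + L.length :=
  (len_mul_le a _).trans (Nat.add_le_add_left (len_wordW_le L) _)

theorem exchange_right {L : List P.S} (hL : len (wordW L) = L.length) {s : P.S}
    (hlt : len (wordW L * gen s) < len (wordW L)) :
    ∃ j < L.length, wordW L * gen s = wordW (L.eraseIdx j) := by
  have h1 : len (wordW L.reverse) = L.reverse.length := by
    rw [wordW_reverse, len_inv, hL, List.length_reverse]
  have h2 : len (gen s * wordW L.reverse) < len (wordW L.reverse) := by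
    rwa [wordW_reverse, ← len_mul_gen, len_inv]
  obtain ⟨j, hj, h⟩ := exchange h1 h2
  rw [List.length_reverse] at hj
  refine ⟨L.length - 1 - j, by omega, ?_⟩
  have h3 : (L.reverse.eraseIdx j).reverse = L.eraseIdx (L.length - 1 - j) := by
    rw [List.eraseIdx_eq_take_drop_succ, List.eraseIdx_eq_take_drop_succ, List.reverse_append,
      List.drop_reverse, List.take_reverse, List.reverse_reverse, List.reverse_reverse]
    congr 2 <;> omega
  rw [← h3, wordW_reverse, ← h, wordW_reverse, mul_inv_rev, inv_inv, gen_inv]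

/-- No generator from `K` shortens `w` on the right. -/
def Rep (K : Set P.S) (w : W P) : Prop := ∀ s ∈ K, len w < len (w * gen s)

/-- No element of the coset is shorter. -/
def IsShortest (K : Set P.S) (w : W P) : Prop := ∀ v, InK K v → len w ≤ len (w * v)

theorem shortest_add {K : Set P.S} {m : W P} (hm : IsShortest K m) {v : W P} (hv : InK K v) :
    len (m * v) = len m + len v := by
  obtain ⟨L, hL, rfl, hlen⟩ := inK_reduced hv
  clear hv
  induction L using List.reverseRecOn with
  | nil => simp [len_one]
  | append_singleton L s ih =>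
    have hLs : ∀ x ∈ L, x ∈ K := fun x hx => hL x (List.mem_append_left _ hx)
    have hs : s ∈ K := hL s (List.mem_append_right _ List.mem_cons_self)
    simp only [wordW_append, wordW_singleton, List.length_append, List.length_singleton] at hlen ⊢
    have hred : L.length = len (wordW L) := by
      have h1 := len_wordW_le L
      rcases len_mul_gen_cases (wordW L) s with h | h <;> omega
    have ih' := ih hLs hred
    rcases len_mul_gen_cases (m * wordW L) s with h | h
    · rw [mul_assoc] at h
      omega
    exfalso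
    obtain ⟨Lm, hLm, hme⟩ := exists_reduced m
    have hred2 : len (wordW (Lm ++ L)) = (Lm ++ L).length := by
      rw [wordW_append, hme, List.length_append, ih', hLm, hred]
    obtain ⟨j, hj, hje⟩ := exchange_right hred2 (s := s) (by rw [wordW_append, hme]; omega)
    rw [wordW_append, hme] at hje
    rw [List.length_append] at hj
    by_cases hjm : j < Lm.length
    · rw [List.eraseIdx_append_of_lt_length hjm, wordW_append] at hje
      have h2 := hm (wordW L * gen s * (wordW L)⁻¹)
        (inK_mul (inK_mul ⟨L, hLs, rfl⟩ (inK_gen hs)) (inK_inv ⟨L, hLs, rfl⟩))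
      rw [← mul_assoc, ← mul_assoc, hje, mul_inv_cancel_right] at h2
      have h3 := len_wordW_le (Lm.eraseIdx j)
      rw [List.length_eraseIdx_of_lt hjm] at h3
      omega
    · rw [List.eraseIdx_append_of_length_le (by omega), wordW_append, hme, mul_assoc,
        mul_right_inj] at hje
      have h3 := len_wordW_le (L.eraseIdx (j - Lm.length))
      rw [List.length_eraseIdx_of_lt (by omega), ← hje] at h3
      omega

theorem exists_shortest (K : Set P.S) (w : W P) :
    ∃ v, InK K v ∧ IsShortest K (w * v) := by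
  classical
  have h : ∃ k, ∃ v, InK K v ∧ len (w * v) = k := ⟨_, 1, inK_one K, rfl⟩
  obtain ⟨v, hv, hk⟩ := Nat.find_spec h
  refine ⟨v, hv, fun u hu => ?_⟩
  rw [hk, mul_assoc]
  exact Nat.find_min' h ⟨_, inK_mul hv hu, rfl⟩

theorem rep_iff_shortest {K : Set P.S} {w : W P} : Rep K w ↔ IsShortest K w := by
  constructor
  · intro h
    obtain ⟨v, hv, hm⟩ := exists_shortest K w
    by_cases hv1 : v = 1
    · simpa [hv1] using hm
    exfalso
    obtain ⟨L, hL, hLv, hlen⟩ := inK_reduced (inK_inv hv)
    rcases List.eq_nil_or_concat L with rfl | ⟨M, s, hMs⟩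
    · exact hv1 (by simpa using hLv.symm)
    obtain rfl : L = M ++ [s] := by simpa using hMs
    have h1 := shortest_add hm (inK_inv hv)
    rw [mul_inv_cancel_right] at h1
    have h2 := h s (hL s (List.mem_append_right _ List.mem_cons_self))
    rw [wordW_append, wordW_singleton] at hLv
    have h3 : w * gen s = w * v * wordW M := by
      conv_lhs => rw [← mul_inv_cancel_right w v, ← hLv]
      rw [mul_assoc (w * v), mul_gen_cancel]
    have h4 := len_mul_wordW_le (w * v) M
    rw [← h3] at h4
    rw [List.length_append, List.length_singleton] at hlen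
    omega
  · intro h s hs
    have h1 := h _ (inK_gen hs)
    rcases len_mul_gen_cases w s with h2 | h2 <;> omega

theorem rep_add {K : Set P.S} {w : W P} (hw : Rep K w) {v : W P} (hv : InK K v) :
    len (w * v) = len w + len v := shortest_add (rep_iff_shortest.1 hw) hv

theorem rep_unique {K : Set P.S} {w v : W P} (hw : Rep K w) (hwv : Rep K (w * v)) (hv : InK K v) :
    v = 1 := by
  have h1 := rep_add hw hv
  have h2 := rep_add hwv (inK_inv hv)
  rw [mul_inv_cancel_right, len_inv] at h2
  exact eq_one_of_len_eq_zero (by omega)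

theorem exists_rep (K : Set P.S) (w : W P) : ∃ m v, Rep K m ∧ InK K v ∧ w = m * v := by
  obtain ⟨v, hv, hm⟩ := exists_shortest K w
  exact ⟨w * v, v⁻¹, rep_iff_shortest.2 hm, inK_inv hv, (mul_inv_cancel_right w v).symm⟩

/-- The lemma of Deodhar. -/
theorem rep_gen_mul {K : Set P.S} {w : W P} (hw : Rep K w) (s : P.S) :
    Rep K (gen s * w) ∨ ∃ t ∈ K, gen s * w = w * gen t := by
  by_cases h : Rep K (gen s * w)
  · exact Or.inl h
  right
  simp only [Rep, not_forall, not_lt] at h
  obtain ⟨t, ht, hle⟩ := h
  refine ⟨t, ht, ?_⟩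
  have hwt := hw t ht
  have h1 := len_mul_gen_cases w t
  have h3 := len_mul_gen_cases (gen s * w) t
  have h4 := len_gen_mul_cases w s
  have h5 := len_le_gen_mul s (w * gen t)
  rw [← mul_assoc] at h5
  obtain ⟨L, hL, rfl⟩ := exists_reduced w
  have hred : len (wordW (L ++ [t])) = (L ++ [t]).length := by
    rw [wordW_append, wordW_singleton, List.length_append, List.length_singleton]
    omega
  obtain ⟨j, hj, hje⟩ := exchange hred (s := s) (by
    rw [wordW_append, wordW_singleton, ← mul_assoc]; omega)
  rw [wordW_append, wordW_singleton] at hje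
  rw [List.length_append, List.length_singleton] at hj
  by_cases hjL : j < L.length
  · exfalso
    rw [List.eraseIdx_append_of_lt_length hjL, wordW_append, wordW_singleton, ← mul_assoc,
      mul_left_inj] at hje
    have h6 := len_wordW_le (L.eraseIdx j)
    rw [List.length_eraseIdx_of_lt hjL, ← hje] at h6
    omega
  · rw [List.eraseIdx_append_of_length_le (by omega), show j - L.length = 0 by omega] at hje
    simp only [List.eraseIdx_cons_zero, List.append_nil] at hje
    calc gen s * wordW L = gen s * (wordW L * gen t) * gen t := by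
          rw [← mul_assoc, mul_gen_cancel]
      _ = _ := by rw [hje]

/-- Shortest in its double coset. -/
def Rep2 (J K : Set P.S) (w : W P) : Prop := Rep K w ∧ Rep J w⁻¹

theorem exists_rep2 (J K : Set P.S) (w : W P) :
    ∃ a m b, InK J a ∧ Rep2 J K m ∧ InK K b ∧ w = a * m * b := by
  classical
  have h : ∃ k, ∃ a b, InK J a ∧ InK K b ∧ len (a * w * b) = k :=
    ⟨_, 1, 1, inK_one J, inK_one K, rfl⟩
  obtain ⟨a, b, ha, hb, hk⟩ := Nat.find_spec h
  refine ⟨a⁻¹, a * w * b, b⁻¹, inK_inv ha, ⟨fun s hs => ?_, fun s hs => ?_⟩, inK_inv hb, by group⟩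
  · rcases len_mul_gen_cases (a * w * b) s with h1 | h1
    · omega
    · have := Nat.find_min' h ⟨a, b * gen s, ha, inK_mul hb (inK_gen hs), rfl⟩
      rw [← mul_assoc] at this
      omega
  · rcases len_gen_mul_cases (a * w * b) s with h1 | h1
    · rw [len_inv, len_mul_gen, inv_inv]
      omega
    · have := Nat.find_min' h ⟨gen s * a, b, inK_mul (inK_gen hs) ha, hb, rfl⟩
      rw [mul_assoc (gen s) a, mul_assoc (gen s)] at this
      omega

theorem rep_move {J K : Set P.S} {w : W P} (hw : Rep K w) {a : W P} (ha : InK J a) :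
    ∃ a' b, InK J a' ∧ InK K b ∧ a * w = a' * w * b ∧ Rep K (a' * w) := by
  obtain ⟨L, hL, rfl⟩ := ha
  induction L with
  | nil => exact ⟨1, 1, inK_one J, inK_one K, by simp, by simpa using hw⟩
  | cons s L ih =>
    obtain ⟨a', b, ha', hb, he, hr⟩ := ih fun x hx => hL x (List.mem_cons_of_mem _ hx)
    rcases rep_gen_mul hr s with h | ⟨t, ht, h⟩
    · refine ⟨gen s * a', b, inK_mul (inK_gen (hL s List.mem_cons_self)) ha', hb, ?_, ?_⟩
      · simp only [wordW_cons, mul_assoc] at he ⊢
        rw [he]
      · rwa [mul_assoc]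
    · refine ⟨a', gen t * b, ha', inK_mul (inK_gen ht) hb, ?_, hr⟩
      rw [wordW_cons, mul_assoc, he, ← mul_assoc, h, mul_assoc]

theorem rep2_unique {J K : Set P.S} {w w' a b : W P} (hw : Rep2 J K w) (hw' : Rep2 J K w')
    (ha : InK J a) (hb : InK K b) (h : w' = a * w * b) : w' = w := by
  obtain ⟨a', b', ha', hb', he, hr⟩ := rep_move hw.1 ha
  have h1 : w' = a' * w * (b' * b) := by rw [h, he, mul_assoc]
  have h2 := rep_unique hr (h1 ▸ hw'.1) (inK_mul hb' hb)
  rw [h2, mul_one] at h1
  have h3 : w'⁻¹ = w⁻¹ * a'⁻¹ := by rw [h1, mul_inv_rev]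
  have h4 := rep_unique hw.2 (h3 ▸ hw'.2) (inK_inv ha')
  rw [h1, inv_eq_one.1 h4, one_mul]

/-- Every generator shortens `w` on the right. -/
def IsTop (w : W P) : Prop := ∀ s : P.S, len (w * gen s) < len w

theorem exists_top [Finite (W P)] : ∃ w : W P, IsTop w ∧ IsTop w⁻¹ := by
  classical
  haveI := Fintype.ofFinite (W P)
  obtain ⟨w, -, hw⟩ := Finset.exists_max_image (Finset.univ : Finset (W P)) len ⟨1, Finset.mem_univ _⟩
  refine ⟨w, fun s => ?_, fun s => ?_⟩
  · rcases len_mul_gen_cases w s with h | h
    · have := hw _ (Finset.mem_univ (w * gen s)); omega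
    · omega
  · rcases len_mul_gen_cases w⁻¹ s with h | h
    · have := hw _ (Finset.mem_univ (w⁻¹ * gen s)); rw [len_inv] at h; omega
    · omega

theorem alternating_rep [Fintype P.S] {R : Type*} [CommRing R] (w : W P) [Decidable (IsTop w)] :
    ∀ [∀ K : Finset P.S, Decidable (Rep (K : Set P.S) w)],
      (∑ K : Finset P.S, if Rep (K : Set P.S) w then (-1 : R) ^ K.card else 0) =
        if IsTop w then 1 else 0 := by
  intro _
  classical
  rw [← Finset.sum_filter]
  have h : (Finset.univ.filter fun K : Finset P.S => Rep (K : Set P.S) w) =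
      (Finset.univ.filter fun s : P.S => len w < len (w * gen s)).powerset := by
    ext K
    simp [Finset.subset_iff, Rep]
  have key := congrArg (fun z : ℤ => (z : R))
    (Finset.sum_powerset_neg_one_pow_card (x := Finset.univ.filter fun s : P.S => len w < len (w * gen s)))
  push_cast at key
  rw [h, key]
  refine if_congr ?_ rfl rfl
  simp only [Finset.filter_eq_empty_iff, Finset.mem_univ, true_implies]
  exact ⟨fun h s => by have := @h s; rcases len_mul_gen_cases w s with h' | h' <;> omega,
    fun h s => by have := h s; omega⟩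

end Cfsg.Agent.SimpleFacts.BNReps
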