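import Cfsg.Prelude.Def_ParabolicCharacters
import Cfsg.Prelude.Def_Characters
import Cfsg.Agent.SimpleFacts.BNReps
import Cfsg.Agent.Lib.Characters.Inner
import Cfsg.Agent.Lib.Characters.Induction

/-!
The alternating sum of the permutation characters on the parabolic subgroups of a finite group with a
(B, N)-pair whose Weyl group has only one element shortened by all generators: its values on `B`, and its
norm.
-/

set_option autoImplicit false

namespace Cfsg.Agent.SimpleFacts.BNSteinberg

open Cfsg.Agent.BN.Basic Cfsg.Agent.BN.Parabolic Cfsg.Agent.SimpleFacts.BNReps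
  Cfsg.Agent.Characters

section General

variable {G : Type*} [Group G] {P : Cfsg.BNPair G}

/-- The parabolic subgroup of a set of generators. -/
def par (K : Set P.S) : Subgroup G := P.parabolic (Subtype.val '' K)

theorem val_subset (K : Set P.S) : (Subtype.val '' K : Set G) ⊆ P.S := by
  rintro _ ⟨s, -, rfl⟩; exact s.2

theorem inK_of_mem_par {K : Set P.S} {x : G} (hx : x ∈ par K) : ∃ v, InK K v ∧ x ∈ cell v := by
  obtain ⟨n, hn, hxn⟩ := bruhat_of_mem (val_subset K) hx
  obtain ⟨hnN, L, hL, hw⟩ := exists_word_of_mem (val_subset K) (Subgroup.mem_sup_left hn)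
  refine ⟨wordW L, ⟨L, fun s hs => ?_, rfl⟩, hw ▸ hxn⟩
  obtain ⟨t, ht, e⟩ := hL s hs
  exact Subtype.ext e ▸ ht

theorem exists_lift {K : Set P.S} {v : W P} (hv : InK K v) :
    ∃ n, ∃ hn : n ∈ P.N, mkW hn = v ∧ n ∈ par K := by
  obtain ⟨L, hL, rfl⟩ := hv
  induction L with
  | nil => exact ⟨1, one_mem _, mkW_one _, one_mem _⟩
  | cons s L ih =>
    obtain ⟨n, hn, e, hp⟩ := ih fun x hx => hL x (List.mem_cons_of_mem _ hx)
    exact ⟨s * n, mul_mem (P.subset s.2) hn, by rw [mkW_mul (P.subset s.2) hn, e, wordW_cons]; rfl,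
      mul_mem (mem_parabolic_of_mem (Set.mem_image_of_mem _ (hL s List.mem_cons_self))) hp⟩

theorem cell_decomp {a b : W P} {x : G} (hx : x ∈ cell (a * b)) {n : G} (hn : n ∈ P.N)
    (e : mkW hn = a) : ∃ c ∈ P.B, ∃ y ∈ cell b, x = c * n * y := by
  obtain ⟨m, hm, rfl⟩ := exists_mkW b
  rw [← e, ← mkW_mul hn hm, cell_mkW] at hx
  obtain ⟨c, hc, c', hc', rfl⟩ := mem_dc.1 hx
  exact ⟨c, hc, m * c', mul_right_cell (mem_cell_mkW hm) hc', by simp [mul_assoc]⟩

theorem mul_cell_sub : ∀ (L : List P.S) (w : W P) (x y : G), x ∈ cell (wordW L) → y ∈ cell w →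
    ∃ L' : List P.S, L'.Sublist L ∧ x * y ∈ cell (wordW L' * w) := by
  intro L
  induction L with
  | nil =>
    intro w x y hx hy
    rw [wordW_nil, cell_one] at hx
    exact ⟨[], List.Sublist.refl _, by rw [wordW_nil, one_mul]; exact mul_left_cell hx hy⟩
  | cons s L ih =>
    intro w x y hx hy
    rw [wordW_cons] at hx
    obtain ⟨c, hc, z, hz, rfl⟩ := cell_decomp hx (P.subset s.2) rfl
    obtain ⟨L', hL', h⟩ := ih w z y hz hy
    have hcs : c * (s : G) ∈ cell (gen s) := mul_left_cell hc (mem_cell_gen s)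
    rw [mul_assoc]
    rcases mul_cell hcs h with h' | h'
    · exact ⟨s :: L', hL'.cons_cons s, by rw [wordW_cons, mul_assoc]; exact h'⟩
    · exact ⟨L', hL'.cons s, h'⟩

theorem mul_cell_inK {K : Set P.S} {w : W P} {x y : G} (hx : x ∈ par K) (hy : y ∈ cell w) :
    ∃ a, InK K a ∧ x * y ∈ cell (a * w) := by
  obtain ⟨v, ⟨L, hL, rfl⟩, hxv⟩ := inK_of_mem_par hx
  obtain ⟨L', hsub, h⟩ := mul_cell_sub L w x y hxv hy
  exact ⟨_, ⟨L', fun s hs => hL s (hsub.subset hs), rfl⟩, h⟩

theorem cell_mul_inK {K : Set P.S} {w : W P} {x y : G} (hy : y ∈ cell w) (hx : x ∈ par K) :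
    ∃ b, InK K b ∧ y * x ∈ cell (w * b) := by
  obtain ⟨a, ha, h⟩ := mul_cell_inK (inv_mem hx) (inv_mem_cell hy)
  exact ⟨a⁻¹, inK_inv ha, by simpa using inv_mem_cell h⟩

theorem mul_cell_add : ∀ (L : List P.S), len (wordW L) = L.length → ∀ (b : W P),
    len (wordW L * b) = L.length + len b → ∀ x y : G, x ∈ cell (wordW L) → y ∈ cell b →
    x * y ∈ cell (wordW L * b) := by
  intro L
  induction L with
  | nil =>
    intro _ b _ x y hx hy
    rw [wordW_nil, cell_one] at hx
    rw [wordW_nil, one_mul]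
    exact mul_left_cell hx hy
  | cons s L ih =>
    intro hred b hlen x y hx hy
    rw [wordW_cons] at hx hred hlen ⊢
    rw [List.length_cons] at hred hlen
    have h1 := len_wordW_le L
    have h2 := len_gen_mul_le s (wordW L)
    rw [mul_assoc] at hlen ⊢
    have h3 := len_gen_mul_le s (wordW L * b)
    have h4 := len_mul_le (wordW L) b
    obtain ⟨c, hc, z, hz, rfl⟩ := cell_decomp hx (P.subset s.2) rfl
    rw [mul_assoc]
    exact mul_cell_of_le (by omega) (mul_left_cell hc (mem_cell_gen s))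
      (ih (by omega) b (by omega) z y hz hy)

theorem rep_cell_mul {K : Set P.S} {w v : W P} (hw : Rep K w) (hv : InK K v) {x y : G}
    (hx : x ∈ cell w) (hy : y ∈ cell v) : x * y ∈ cell (w * v) := by
  obtain ⟨L, hL, rfl⟩ := exists_reduced w
  exact mul_cell_add L hL.symm v (by rw [rep_add hw hv, hL]) x y hx hy

end General

variable {G : Type*} [Group G] [Finite G] (P : Cfsg.BNPair G)

/-- The fixed cosets of `B` in one cell. -/
def cellFix (b : G) (w : W P) : Type _ :=
  {y : G ⧸ P.B // b • y = y ∧ ∃ x ∈ cell w, (x : G ⧸ P.B) = y}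

/-- Their number. -/
noncomputable def cf (b : G) (w : W P) : ℕ := Nat.card (cellFix P b w)

instance cellFixFinite (b : G) (w : W P) : Finite (cellFix P b w) := by
  unfold cellFix; infer_instance

theorem card_fixed [Fintype (W P)] (K : Set P.S) [DecidablePred (Rep K)] {b : G} (hb : b ∈ P.B) :
    Nat.card (MulAction.fixedBy (G ⧸ par K) b) = ∑ w : W P, if Rep K w then cf P b w else 0 := by
  classical
  rw [← Finset.sum_filter, Finset.sum_subtype (p := Rep K) _ (fun w => by simp) (fun w => cf P b w)]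
  simp only [cf]
  rw [← Nat.card_sigma]
  symm
  have hle : P.B ≤ par K := B_le_parabolic _
  refine Nat.card_congr (Equiv.ofBijective (fun p => ⟨Subgroup.quotientMapOfLE hle p.2.1, ?_⟩) ?_)
  · obtain ⟨w, y, hy, -⟩ := p
    obtain ⟨x, rfl⟩ := QuotientGroup.mk_surjective y
    exact congrArg (Subgroup.quotientMapOfLE hle) hy
  refine ⟨?_, ?_⟩
  · rintro ⟨⟨w, hw⟩, y, hy, x, hx, rfl⟩ ⟨⟨w', hw'⟩, y', hy', x', hx', rfl⟩ h
    have h' : (x : G ⧸ par K) = (x' : G ⧸ par K) := congrArg Subtype.val h
    rw [QuotientGroup.eq] at h'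
    obtain ⟨v, hv, hp⟩ := inK_of_mem_par h'
    have h1 := rep_cell_mul hw hv hx hp
    rw [mul_inv_cancel_left] at h1
    have he := cell_inj h1 hx'
    have hv1 := rep_unique hw (he ▸ hw') hv
    subst hv1
    rw [cell_one] at hp
    rw [mul_one] at he
    subst he
    have e : (x : G ⧸ P.B) = x' := QuotientGroup.eq.2 hp
    congr 1
    exact Subtype.ext e
  · rintro ⟨z, hz⟩
    obtain ⟨x, rfl⟩ := QuotientGroup.mk_surjective z
    obtain ⟨w, hw⟩ := bruhat (P := P) x
    obtain ⟨m, v, hm, hv, rfl⟩ := exists_rep K w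
    obtain ⟨n, hn, hnm⟩ := exists_mkW m
    obtain ⟨c, hc, y, hy, rfl⟩ := cell_decomp hw hn hnm
    have hy' : y ∈ par K := by
      obtain ⟨n', hn', e', hp'⟩ := exists_lift hv
      exact cell_subset_of_nonempty hle (mem_cell_mkW hn') hp' (e'.symm ▸ hy)
    have hcn : c * n ∈ cell m := mul_left_cell hc (hnm ▸ mem_cell_mkW hn)
    have e1 : ((c * n * y : G) : G ⧸ par K) = ((c * n : G) : G ⧸ par K) :=
      (QuotientGroup.mk_mul_of_mem _ hy')
    have hz' : ((b * (c * n) : G) : G ⧸ par K) = ((c * n : G) : G ⧸ par K) := by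
      have h0 : b • ((c * n * y : G) : G ⧸ par K) = ((c * n * y : G) : G ⧸ par K) := hz
      rw [e1] at h0
      exact h0
    refine ⟨⟨⟨m, hm⟩, ((c * n : G) : G ⧸ P.B), ?_, c * n, hcn, rfl⟩, Subtype.ext e1.symm⟩
    -- the representative is fixed
    have h2 := QuotientGroup.eq.1 hz'.symm
    obtain ⟨v', hv', hp⟩ := inK_of_mem_par h2
    have h3 := rep_cell_mul hm hv' hcn hp
    rw [mul_inv_cancel_left] at h3
    have h4 := cell_inj (mul_left_cell hb hcn) h3
    rw [mul_eq_left.1 h4.symm, cell_one] at hp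
    exact (QuotientGroup.eq.2 hp).symm

/-- The alternating sum. -/
noncomputable def stein [Fintype P.S] (g : G) : ℂ :=
  ∑ K : Finset P.S, (-1 : ℂ) ^ K.card * Cfsg.fixedPointCharacter (par (K : Set P.S)) g

theorem stein_B [Fintype P.S] {t : W P} (ht : IsTop t) (huniq : ∀ w : W P, IsTop w → w = t) {b : G}
    (hb : b ∈ P.B) : stein P b = (cf P b t : ℂ) := by
  classical
  haveI := Fintype.ofFinite (W P)
  simp only [stein, Cfsg.fixedPointCharacter, card_fixed P _ hb, Nat.cast_sum, Finset.mul_sum,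
    Nat.cast_ite, Nat.cast_zero, mul_ite, mul_zero]
  rw [Finset.sum_comm]
  rw [Finset.sum_eq_single t]
  · have := alternating_rep (R := ℂ) t
    rw [if_pos ht] at this
    calc _ = (∑ K : Finset P.S, if Rep (K : Set P.S) t then (-1 : ℂ) ^ K.card else 0) *
          (cf P b t : ℂ) := by
            rw [Finset.sum_mul]
            exact Finset.sum_congr rfl fun K _ => by rw [ite_mul, zero_mul]
      _ = _ := by rw [this, one_mul]
  · intro w _ hw
    have := alternating_rep (R := ℂ) w
    rw [if_neg fun h => hw (huniq w h)] at this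
    calc _ = (∑ K : Finset P.S, if Rep (K : Set P.S) w then (-1 : ℂ) ^ K.card else 0) *
          (cf P b w : ℂ) := by
            rw [Finset.sum_mul]
            exact Finset.sum_congr rfl fun K _ => by rw [ite_mul, zero_mul]
      _ = _ := by rw [this, zero_mul]
  · simp

variable [Fintype G]

theorem classInner_perm (J K : Set P.S) [Fintype (W P)] [DecidablePred (Rep2 J K)] :
    Cfsg.classInner (Cfsg.fixedPointCharacter (par J)) (Cfsg.fixedPointCharacter (par K)) =
      ((Finset.univ.filter (Rep2 J K)).card : ℂ) := by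
  classical
  haveI := Fintype.ofFinite (G ⧸ par J)
  haveI := Fintype.ofFinite (G ⧸ par K)
  haveI := Fintype.ofFinite (MulAction.orbitRel.Quotient G ((G ⧸ par J) × (G ⧸ par K)))
  have h := MulAction.sum_card_fixedBy_eq_card_orbits_mul_card_group G ((G ⧸ par J) × (G ⧸ par K))
  have hfix : ∀ g : G, Nat.card (MulAction.fixedBy (G ⧸ par J) g) *
      Nat.card (MulAction.fixedBy (G ⧸ par K) g) =
      Fintype.card (MulAction.fixedBy ((G ⧸ par J) × (G ⧸ par K)) g) := by
    intro g
    rw [← Nat.card_prod, ← Nat.card_eq_fintype_card]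
    exact Nat.card_congr
      { toFun := fun x => ⟨(x.1.1, x.2.1), Prod.ext x.1.2 x.2.2⟩
        invFun := fun x => (⟨x.1.1, congrArg Prod.fst x.2⟩, ⟨x.1.2, congrArg Prod.snd x.2⟩)
        left_inv := fun _ => rfl
        right_inv := fun _ => rfl }
  rw [classInner_def]
  simp only [Cfsg.fixedPointCharacter, Complex.conj_natCast, ← Nat.cast_mul, hfix, ← Nat.cast_sum]
  rw [h, Nat.cast_mul, Nat.card_eq_fintype_card, mul_comm, mul_assoc,
    mul_inv_cancel₀ (Nat.cast_ne_zero.2 Fintype.card_ne_zero), mul_one, Nat.cast_inj]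
  -- the orbits
  choose n hn hnw using fun w : W P => exists_mkW w
  have hnc : ∀ w, n w ∈ cell w := fun w => by
    have := mem_cell_mkW (hn w)
    rwa [hnw] at this
  let f : {w : W P // Rep2 J K w} → MulAction.orbitRel.Quotient G ((G ⧸ par J) × (G ⧸ par K)) :=
    fun w => Quotient.mk'' (((1 : G) : G ⧸ par J), ((n w.1 : G) : G ⧸ par K))
  have hf : Function.Bijective f := by
    constructor
    · rintro ⟨w, hw⟩ ⟨w', hw'⟩ hww
      obtain ⟨g, hg⟩ := Quotient.eq''.1 hww
      have h1 : ((g * 1 : G) : G ⧸ par J) = ((1 : G) : G ⧸ par J) := congrArg Prod.fst hg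
      have h2 : ((g * n w' : G) : G ⧸ par K) = ((n w : G) : G ⧸ par K) := congrArg Prod.snd hg
      rw [QuotientGroup.eq, mul_one, mul_one] at h1
      rw [QuotientGroup.eq] at h2
      have hgJ : g ∈ par J := by simpa using inv_mem h1
      obtain ⟨a, ha, h3⟩ := mul_cell_inK hgJ (hnc w')
      obtain ⟨b, hb, h4⟩ := cell_mul_inK h3 h2
      rw [mul_inv_cancel_left] at h4
      exact Subtype.ext (rep2_unique hw' hw ha hb (cell_inj (hnc w) h4))
    · intro o
      obtain ⟨⟨z, z'⟩, rfl⟩ := Quotient.exists_rep o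
      obtain ⟨x, rfl⟩ := QuotientGroup.mk_surjective z
      obtain ⟨y, rfl⟩ := QuotientGroup.mk_surjective z'
      obtain ⟨w, hw⟩ := bruhat (P := P) (x⁻¹ * y)
      obtain ⟨a, m, b, ha, hm, hb, rfl⟩ := exists_rep2 J K w
      obtain ⟨na, hna, ea, hpa⟩ := exists_lift ha
      obtain ⟨nb, hnb, eb, hpb⟩ := exists_lift hb
      rw [mul_assoc] at hw
      obtain ⟨c, hc, u, hu, he⟩ := cell_decomp hw hna ea
      obtain ⟨c', hc', u', hu', rfl⟩ := cell_decomp hu (hn m) (hnw m)
      have hu'' : u' ∈ par K :=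
        cell_subset_of_nonempty (B_le_parabolic _) (mem_cell_mkW hnb) hpb (eb.symm ▸ hu')
      refine ⟨⟨m, hm⟩, Quotient.sound ⟨(x * c * na * c')⁻¹, Prod.ext ?_ ?_⟩⟩
      · show (((x * c * na * c')⁻¹ * x : G) : G ⧸ par J) = ((1 : G) : G ⧸ par J)
        rw [QuotientGroup.eq, mul_one, mul_inv_rev, inv_inv,
          show x⁻¹ * (x * c * na * c') = c * na * c' by group]
        exact mul_mem (mul_mem (B_le_parabolic _ hc) hpa) (B_le_parabolic _ hc')
      · show (((x * c * na * c')⁻¹ * y : G) : G ⧸ par K) = ((n m : G) : G ⧸ par K)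
        rw [show (x * c * na * c')⁻¹ * y = n m * u' by
          rw [show y = x * (x⁻¹ * y) by group, he]; group]
        exact QuotientGroup.mk_mul_of_mem _ hu''
  rw [← Fintype.card_subtype, ← Nat.card_eq_fintype_card, ← Nat.card_eq_fintype_card,
    Nat.card_eq_of_bijective f hf]

variable [Fintype P.S]

theorem norm_stein (huniq : ∀ w w' : W P, IsTop w → IsTop w' → w = w') :
    Cfsg.classInner (stein P) (stein P) = 1 := by
  classical
  haveI := Fintype.ofFinite (W P)
  obtain ⟨t, ht, ht'⟩ := exists_top (P := P)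
  have he : stein P = ∑ J : Finset P.S, ((-1 : ℂ) ^ J.card) •
      Cfsg.fixedPointCharacter (par (J : Set P.S)) := by
    funext g
    simp [stein, Finset.sum_apply]
  have hinner : ∀ J : Finset P.S, ∑ K : Finset P.S, (-1 : ℂ) ^ K.card *
      Cfsg.classInner (Cfsg.fixedPointCharacter (par (J : Set P.S)))
        (Cfsg.fixedPointCharacter (par (K : Set P.S))) = if J = ∅ then 1 else 0 := by
    intro J
    calc _ = ∑ K : Finset P.S, ∑ w : W P, if Rep2 (J : Set P.S) K w then (-1 : ℂ) ^ K.card else 0 :=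
          Finset.sum_congr rfl fun K _ => by
            rw [classInner_perm, ← Finset.sum_filter, Finset.sum_const, nsmul_eq_mul]; ring
      _ = ∑ w : W P, if Rep (J : Set P.S) w⁻¹ then (if IsTop w then (1 : ℂ) else 0) else 0 := by
          rw [Finset.sum_comm]
          refine Finset.sum_congr rfl fun w _ => ?_
          rw [← alternating_rep (R := ℂ) w]
          split_ifs with hJ
          · exact Finset.sum_congr rfl fun K _ => if_congr ⟨fun h => h.1, fun h => ⟨h, hJ⟩⟩ rfl rfl
          · exact Finset.sum_eq_zero fun K _ => if_neg fun h => hJ h.2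
      _ = _ := by
          rw [Finset.sum_eq_single t (fun w _ hw => ?_) (by simp), if_pos ht]
          · refine if_congr ⟨fun h => ?_, fun h => ?_⟩ rfl rfl
            · by_contra hne
              obtain ⟨s, hs⟩ := Finset.nonempty_iff_ne_empty.2 hne
              have := h s hs
              have := ht' s
              omega
            · intro s hs; simp [h] at hs
          · rw [if_neg (fun h => hw (huniq w t h ht))]
            simp
  calc Cfsg.classInner (stein P) (stein P)
      = ∑ J : Finset P.S, (-1 : ℂ) ^ J.card * ∑ K : Finset P.S, (-1 : ℂ) ^ K.card *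
          Cfsg.classInner (Cfsg.fixedPointCharacter (par (J : Set P.S)))
            (Cfsg.fixedPointCharacter (par (K : Set P.S))) := by
        rw [he, classInner_sum_left]
        refine Finset.sum_congr rfl fun J _ => ?_
        rw [classInner_smul_left, classInner_sum_right]
        congr 1
        refine Finset.sum_congr rfl fun K _ => ?_
        rw [classInner_smul_right, map_pow, map_neg, map_one]
    _ = 1 := by simp only [hinner]; simp

theorem isGen_stein : Cfsg.IsGeneralizedCharacter G (stein P) := by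
  have he : stein P = ∑ J : Finset P.S, (((-1) ^ J.card : ℤ) : ℂ) •
      Cfsg.fixedPointCharacter (par (J : Set P.S)) := by
    funext g
    simp [stein, Finset.sum_apply]
  rw [he]
  exact isGen_sum _ _ fun J _ => isGen_intSmul (isGen_of_isCharacter (isCharacter_permChar _)) _

theorem isIrr_stein (huniq : ∀ w w' : W P, IsTop w → IsTop w' → w = w') :
    Cfsg.IsIrrCharacter G (stein P) := by
  refine isIrr_of_gen_norm_one (isGen_stein P) (norm_stein P huniq) ?_
  obtain ⟨t, ht, -⟩ := exists_top (P := P)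
  rw [stein_B P ht (fun w hw => huniq w t hw ht) (one_mem _), Complex.natCast_re, Nat.cast_pos]
  obtain ⟨x, hx⟩ := cell_nonempty t
  haveI : Nonempty (cellFix P 1 t) := ⟨⟨(x : G ⧸ P.B), one_smul _ _, x, hx, rfl⟩⟩
  exact Nat.card_pos

end Cfsg.Agent.SimpleFacts.BNSteinberg
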