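import Cfsg.Agent.SimpleFacts.BNKilmoyer
import Cfsg.Agent.Lib.Coprime.SchurZassenhaus

/-!
The values at `p'`-elements of the alternating sum of the permutation characters on the parabolic
subgroups of a finite group with a (B, N)-pair, when that sum vanishes at the `p`-singular elements and
`B` has normal `p`-subgroups with the usual properties in the parabolic subgroups.
-/

set_option autoImplicit false
set_option linter.style.haveILetI false

open scoped Pointwise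

namespace Cfsg.Agent.SimpleFacts.BNSteinbergValue

open Cfsg.Agent.BN.Basic Cfsg.Agent.BN.Parabolic Cfsg.Agent.SimpleFacts.BNReps
  Cfsg.Agent.SimpleFacts.BNSteinberg Cfsg.Agent.SimpleFacts.BNUnipotentCount
  Cfsg.Agent.SimpleFacts.BNKilmoyer

section Group

variable {G : Type*} [Group G] [Finite G] {p : ℕ} [Fact p.Prime] {R : Subgroup G}

omit [Finite G] in
theorem pow_mem_coset {g : G} (hg : ∀ r ∈ R, g⁻¹ * r * g ∈ R) {r : G} (hr : r ∈ R) :
    ∀ k : ℕ, ∃ r' ∈ R, (g * r) ^ k = g ^ k * r' := by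
  intro k
  induction k with
  | zero => exact ⟨1, one_mem _, by simp⟩
  | succ k ih =>
    obtain ⟨r', hr', e⟩ := ih
    refine ⟨g⁻¹ * r' * g * r, mul_mem (hg r' hr') hr, ?_⟩
    rw [pow_succ, e, pow_succ]
    group

/-- The `p'`-elements of the coset `g R` are conjugate to `g` under `R`. -/
theorem regular_conj (hRp : IsPGroup p R) {g u : G} (hg : g ∈ Subgroup.normalizer (R : Set G))
    (hu : u ∈ R) (hgp : ¬ p ∣ orderOf g) (hup : ¬ p ∣ orderOf (g * u)) :
    ∃ r ∈ R, r * g * r⁻¹ = g * u := by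
  have hp : p.Prime := Fact.out
  obtain ⟨e, he⟩ := hRp.exists_card_eq
  have hcop : ∀ x : G, ¬ p ∣ orderOf x →
      (Nat.card R).Coprime (Nat.card (Subgroup.zpowers x)) := fun x hx => by
    rw [Nat.card_zpowers, he]
    exact Nat.Coprime.pow_left _ ((Nat.Prime.coprime_iff_not_dvd hp).2 hx)
  have hgu : g * u ∈ Subgroup.normalizer (R : Set G) := mul_mem hg (Subgroup.le_normalizer hu)
  have hsup : R ⊔ Subgroup.zpowers g = R ⊔ Subgroup.zpowers (g * u) := by
    refine le_antisymm (sup_le le_sup_left ?_) (sup_le le_sup_left ?_) <;> rw [Subgroup.zpowers_le]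
    · have := mul_mem (Subgroup.mem_sup_right (S := R) (Subgroup.mem_zpowers (g * u)))
        (inv_mem (Subgroup.mem_sup_left (T := Subgroup.zpowers (g * u)) hu))
      simpa using this
    · exact mul_mem (Subgroup.mem_sup_right (Subgroup.mem_zpowers g)) (Subgroup.mem_sup_left hu)
  obtain ⟨x, hx, hxe⟩ := Cfsg.Agent.Coprime.exists_conj_eq_of_sup_eq (N := R)
    (Subgroup.zpowers_le.2 hg) (Subgroup.zpowers_le.2 hgu) hsup (hcop g hgp) (hcop _ hup)
    (Or.inr inferInstance)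
  have h1 : g * u ∈ MulAut.conj x • Subgroup.zpowers g := by
    rw [hxe]; exact Subgroup.mem_zpowers _
  obtain ⟨z, hz, hze⟩ := h1
  refine ⟨x, hx, ?_⟩
  have hze' : x * z * x⁻¹ = g * u := hze
  have hzR : g⁻¹ * z ∈ R := by
    have h2 : g⁻¹ * x⁻¹ * g ∈ R := by
      have h3 := (Subgroup.mem_normalizer_iff.1 (inv_mem hg) x⁻¹).1 (inv_mem hx)
      rwa [inv_inv] at h3
    have e2 : g⁻¹ * z = g⁻¹ * x⁻¹ * g * u * x := by
      rw [show z = x⁻¹ * (x * z * x⁻¹) * x by group, hze']; group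
    rw [e2]
    exact mul_mem (mul_mem h2 hu) hx
  have hbot : R ⊓ Subgroup.zpowers g = ⊥ := (Subgroup.disjoint_of_coprime_natCard (hcop g hgp)).eq_bot
  have h4 : g⁻¹ * z ∈ R ⊓ Subgroup.zpowers g :=
    ⟨hzR, (Subgroup.zpowers g).mul_mem ((Subgroup.zpowers g).inv_mem (Subgroup.mem_zpowers g)) hz⟩
  rw [hbot, Subgroup.mem_bot, inv_mul_eq_one] at h4
  rw [← hze', ← h4]

/-- A subgroup meeting the coset `g R` contains a conjugate of `g`. -/
theorem exists_conj_mem (hRp : IsPGroup p R) {g r : G} (hg : g ∈ Subgroup.normalizer (R : Set G))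
    (hr : r ∈ R) (hgp : ¬ p ∣ orderOf g) {M : Subgroup G} (hM : g * r ∈ M) :
    ∃ x ∈ R, x * g * x⁻¹ ∈ M := by
  have hp : p.Prime := Fact.out
  obtain ⟨e, he⟩ := hRp.exists_card_eq
  have hg' : ∀ s ∈ R, g⁻¹ * s * g ∈ R := fun s hs => by
    have h := (Subgroup.mem_normalizer_iff.1 (inv_mem hg) s).1 hs
    rwa [inv_inv] at h
  -- the exponent
  have hcop : (p ^ e).Coprime (orderOf g) :=
    Nat.Coprime.pow_left _ ((Nat.Prime.coprime_iff_not_dvd hp).2 hgp)
  obtain ⟨k, hk1, hk2⟩ := Nat.chineseRemainder hcop 0 1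
  have hkd : p ^ e ∣ k := Nat.modEq_zero_iff_dvd.1 hk1
  have hgk : g ^ k = g := by
    conv_rhs => rw [← pow_one g]
    exact pow_eq_pow_iff_modEq.2 hk2
  obtain ⟨r', hr', hxe⟩ := pow_mem_coset hg' hr k
  rw [hgk] at hxe
  have hreg : ¬ p ∣ orderOf ((g * r) ^ k) := by
    intro h
    refine hgp (h.trans ?_)
    rw [orderOf_dvd_iff_pow_eq_one, ← pow_mul]
    obtain ⟨r'', hr'', hne⟩ := pow_mem_coset hg' hr (orderOf g)
    rw [pow_orderOf_eq_one, one_mul] at hne
    obtain ⟨c, hc⟩ := hkd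
    rw [mul_comm k, pow_mul, hne, hc, pow_mul, ← he]
    have h1 : (⟨r'', hr''⟩ : R) ^ Nat.card R = 1 := pow_card_eq_one'
    have h2 : r'' ^ Nat.card R = 1 := congrArg Subtype.val h1
    rw [h2, one_pow]
  obtain ⟨x, hx, hxg⟩ := regular_conj hRp hg hr' hgp (hxe ▸ hreg)
  exact ⟨x, hx, by rw [hxg, ← hxe]; exact pow_mem hM k⟩

variable {X : Type*} [MulAction G X]

/-- A `g`-invariant orbit of `R` contributes `|R|` fixed points to the coset `g R`. -/
theorem card_pairs {g : G} (hg : ∀ r ∈ R, g⁻¹ * r * g ∈ R) (z₀ : X) {u₀ : G} (hu₀R : u₀ ∈ R)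
    (hu₀ : (g * u₀) • z₀ = z₀) :
    Nat.card {a : R × X // a.2 ∈ MulAction.orbit R z₀ ∧ (g * (a.1 : G)) • a.2 = a.2} = Nat.card R := by
  classical
  choose c hc using fun z : MulAction.orbit R z₀ => z.2
  have hc' : ∀ z : MulAction.orbit R z₀, (c z : G) • z₀ = (z : X) := hc
  have hinv : g⁻¹ • z₀ = u₀ • z₀ := by
    conv_lhs => rw [← hu₀]
    rw [mul_smul, inv_smul_smul]
  refine (Nat.card_congr (Equiv.ofBijective
    (fun b : MulAction.orbit R z₀ × MulAction.stabilizer R z₀ =>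
      (⟨(⟨g⁻¹ * (c b.1 : G) * g, hg _ (c b.1).2⟩ * ⟨u₀, hu₀R⟩ * (b.2 : R) * (c b.1)⁻¹, (b.1 : X)),
        b.1.2, ?_⟩ : {a : R × X // a.2 ∈ MulAction.orbit R z₀ ∧ (g * (a.1 : G)) • a.2 = a.2}))
    ?_)).symm.trans (Nat.card_congr (MulAction.orbitProdStabilizerEquivGroup R z₀))
  · have hs : ((b.2 : R) : G) • z₀ = z₀ := b.2.2
    simp only [Subgroup.coe_mul, InvMemClass.coe_inv]
    rw [← hc' b.1]
    simp only [mul_smul, inv_smul_smul, smul_inv_smul, hs]
    rw [← mul_smul g, hu₀]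
  refine ⟨fun b b' h => ?_, fun a => ?_⟩
  · have h1 := congrArg (fun a => a.1.2) h
    have h2 := congrArg (fun a => a.1.1) h
    simp only at h1 h2
    have h3 : b.1 = b'.1 := Subtype.ext h1
    rw [h3, mul_left_inj, mul_right_inj] at h2
    exact Prod.ext h3 (Subtype.ext h2)
  · obtain ⟨⟨u, z⟩, hz, hfix⟩ := a
    obtain ⟨z', hz'⟩ : ∃ z' : MulAction.orbit R z₀, z' = ⟨z, hz⟩ := ⟨_, rfl⟩
    have hzz : (z' : X) = z := by rw [hz']
    have hcz : (c z' : G) • z₀ = z := (hc' z').trans hzz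
    let s : R := (⟨g⁻¹ * (c z' : G) * g, hg _ (c z').2⟩ * ⟨u₀, hu₀R⟩)⁻¹ * u * c z'
    have hs : s ∈ MulAction.stabilizer R z₀ := by
      show (s : G) • z₀ = z₀
      simp only [s, Subgroup.coe_mul, InvMemClass.coe_inv]
      rw [mul_smul, hcz, mul_smul, inv_smul_eq_iff, mul_smul, ← hinv, mul_smul, mul_smul,
        smul_inv_smul, hcz, eq_inv_smul_iff, ← mul_smul]
      exact hfix
    refine ⟨(z', ⟨s, hs⟩), Subtype.ext (Prod.ext ?_ hzz)⟩
    show ⟨g⁻¹ * (c z' : G) * g, hg _ (c z').2⟩ * ⟨u₀, hu₀R⟩ * s * (c z')⁻¹ = u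
    simp only [s]
    group

end Group

variable {G : Type*} [Group G] [Finite G] {P : Cfsg.BNPair G}

omit [Finite G] in
theorem cell_eq_preimage (w : W P) :
    cell w = ((↑) : G → G ⧸ P.B) ⁻¹' {y | ∃ x ∈ cell w, (x : G ⧸ P.B) = y} := by
  ext x
  refine ⟨fun hx => ⟨x, hx, rfl⟩, ?_⟩
  rintro ⟨y, hy, e⟩
  have := mul_right_cell hy (QuotientGroup.eq.1 e)
  rwa [mul_inv_cancel_left] at this

theorem card_cell (w : W P) : Nat.card (cell w) = Nat.card P.B * cf P 1 w := by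
  rw [cell_eq_preimage, QuotientGroup.card_preimage_mk, cf_one_eq]
  rfl

theorem cf_inv (w : W P) : cf P 1 w⁻¹ = cf P 1 w := by
  refine Nat.eq_of_mul_eq_mul_left (Nat.card_pos (α := P.B)) ?_
  rw [← card_cell, ← card_cell]
  exact Nat.card_congr
    { toFun := fun x => ⟨(x : G)⁻¹, by simpa using inv_mem_cell x.2⟩
      invFun := fun x => ⟨(x : G)⁻¹, inv_mem_cell x.2⟩
      left_inv := fun x => Subtype.ext (inv_inv _)
      right_inv := fun x => Subtype.ext (inv_inv _) }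

omit [Finite G] in
/-- Conjugation does not change the sum. -/
theorem stein_conj [Fintype P.S] (x g : G) : stein P (x * g * x⁻¹) = stein P g := by
  refine Finset.sum_congr rfl fun K _ => ?_
  congr 1
  simp only [Cfsg.fixedPointCharacter, Nat.cast_inj]
  refine Nat.card_congr
    { toFun := fun z => ⟨x⁻¹ • z.1, ?_⟩
      invFun := fun z => ⟨x • z.1, ?_⟩
      left_inv := fun z => Subtype.ext (smul_inv_smul x z.1)
      right_inv := fun z => Subtype.ext (inv_smul_smul x z.1) }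
  · show g • x⁻¹ • z.1 = x⁻¹ • z.1
    have h : (x * g * x⁻¹) • z.1 = z.1 := z.2
    rw [mul_smul, mul_smul] at h
    rw [eq_inv_smul_iff]
    exact h
  · show (x * g * x⁻¹) • x • z.1 = x • z.1
    have h : g • z.1 = z.1 := z.2
    rw [mul_smul, mul_smul, inv_smul_smul, h]

/-- `R` is transitive on the cosets of `B` in every left `R`-cell. -/
theorem transitive_cells (J : Finset P.S)
    (R : Subgroup G) (hRB : R ≤ P.B)
    (hRn : ∀ x ∈ par (J : Set P.S), ∀ r ∈ R, x * r * x⁻¹ ∈ R)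
    (hcard : ∀ tJ t₀ : W P, IsTopIn (J : Set P.S) tJ → IsTop t₀ →
      Nat.card R * cf P 1 tJ = cf P 1 t₀)
    (hopp : ∀ t₀ : W P, IsTop t₀ → ∃ n, ∃ hn : n ∈ P.N, mkW hn = t₀ ∧
      ∀ r ∈ R, n⁻¹ * r * n ∈ P.B → r = 1)
    (w : W P) (hw : Rep (J : Set P.S) w⁻¹) {b x : G} (hb : b ∈ P.B) (hx : x ∈ cell w) :
    ∃ r ∈ R, (r * x)⁻¹ * (b * x) ∈ P.B := by
  classical
  haveI := Fintype.ofFinite (W P)
  obtain ⟨t₀, ht₀, -⟩ := exists_top (P := P)
  obtain ⟨tJ, htJ⟩ := exists_topIn (P := P) (J : Set P.S)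
  have htJ' : tJ⁻¹ = tJ := topIn_unique (topIn_inv htJ) htJ
  have hall : ∀ y : W P, InK (Set.univ : Set P.S) y := fun y =>
    ⟨_, fun _ _ => trivial, (exists_reduced y).choose_spec.2⟩
  have ht₀' : IsTopIn (Set.univ : Set P.S) t₀ := ⟨hall _, fun s _ => ht₀ s⟩
  have ht₀i : t₀⁻¹ = t₀ := topIn_unique (topIn_inv ht₀') ht₀'
  have hlen₀ : ∀ y : W P, len (t₀ * y) + len y = len t₀ := fun y => top_add ht₀' (hall y)
  have hlen₀' : ∀ y : W P, len (y * t₀) + len y = len t₀ := fun y => by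
    have := hlen₀ y⁻¹
    rwa [← len_inv (t₀ * y⁻¹), mul_inv_rev, inv_inv, ht₀i, len_inv] at this
  obtain ⟨w₀, hw₀⟩ : ∃ w₀, w₀ = tJ * t₀ := ⟨_, rfl⟩
  -- the number of cosets in the cell of `w₀`
  have hw₀rep : Rep (J : Set P.S) w₀⁻¹ := by
    intro s hs
    rw [hw₀, mul_inv_rev, ht₀i, htJ', mul_assoc]
    have h1 := hlen₀ tJ
    have h2 := hlen₀ (tJ * gen s)
    have h3 := htJ.2 s hs
    omega
  have hcount : cf P 1 w₀ = Nat.card R := by
    have h := cf_mul hw₀rep htJ.1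
    rw [cf_inv, show w₀⁻¹ * tJ = t₀ by
      rw [hw₀, mul_inv_rev, inv_mul_cancel_right, ht₀i]] at h
    have hpos : 0 < cf P 1 tJ := by
      obtain ⟨y, hy⟩ := cell_nonempty tJ
      haveI : Nonempty (cellFix P 1 tJ) := ⟨⟨(y : G ⧸ P.B), one_smul _ _, y, hy, rfl⟩⟩
      exact Nat.card_pos
    exact Nat.eq_of_mul_eq_mul_right hpos (h.symm.trans (hcard tJ t₀ htJ ht₀).symm)
  -- a point with trivial stabiliser
  obtain ⟨m, hm, hme, hmp⟩ := exists_lift htJ.1
  obtain ⟨n, hn, hne, hfree⟩ := hopp t₀ ht₀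
  have hmn : m * n ∈ cell w₀ := by
    have := mem_cell_mkW (P := P) (mul_mem hm hn)
    rwa [mkW_mul hm hn, hme, hne, ← hw₀] at this
  let f : R → {y : G ⧸ P.B // ∃ z ∈ cell w₀, (z : G ⧸ P.B) = y} :=
    fun r => ⟨(((r : G) * (m * n) : G) : G ⧸ P.B), _, mul_left_cell (hRB r.2) hmn, rfl⟩
  have hinj : Function.Injective f := by
    intro r r' h
    have h1 := QuotientGroup.eq.1 (congrArg Subtype.val h)
    have h2 := hRn m⁻¹ (inv_mem hmp) _ (mul_mem (inv_mem r.2) r'.2)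
    rw [inv_inv] at h2
    have h3 := hfree _ h2 (by
      rw [show n⁻¹ * (m⁻¹ * ((r : G)⁻¹ * r') * m) * n = ((r : G) * (m * n))⁻¹ * (r' * (m * n)) by
        group]
      exact h1)
    apply Subtype.ext
    rw [← inv_mul_eq_one]
    calc (r : G)⁻¹ * r' = m * (m⁻¹ * ((r : G)⁻¹ * r') * m) * m⁻¹ := by group
      _ = 1 := by rw [h3]; group
  have hsurj : Function.Surjective f :=
    ((Nat.bijective_iff_injective_and_card f).2 ⟨hinj, by rw [← cf_one_eq, hcount]⟩).2
  have htrans : ∀ z ∈ cell w₀, ∀ z' ∈ cell w₀, ∃ r ∈ R, (r * z)⁻¹ * z' ∈ P.B := by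
    intro z hz z' hz'
    obtain ⟨r, hr⟩ := hsurj ⟨(z : G ⧸ P.B), z, hz, rfl⟩
    obtain ⟨r', hr'⟩ := hsurj ⟨(z' : G ⧸ P.B), z', hz', rfl⟩
    have h1 := QuotientGroup.eq.1 (congrArg Subtype.val hr)
    have h2 := QuotientGroup.eq.1 (congrArg Subtype.val hr')
    refine ⟨(r' : G) * (r : G)⁻¹, mul_mem r'.2 (inv_mem r.2), ?_⟩
    have h3 := mul_mem (inv_mem h1) h2
    rw [show ((r' : G) * (r : G)⁻¹ * z)⁻¹ * z' =
      (((r : G) * (m * n))⁻¹ * z)⁻¹ * (((r' : G) * (m * n))⁻¹ * z') by group]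
    exact h3
  -- extend `w` to `w₀`
  have hadd : len (w * (w⁻¹ * w₀)) = len w + len (w⁻¹ * w₀) := by
    rw [mul_inv_cancel_left, hw₀, ← mul_assoc]
    have h1 := hlen₀' tJ
    have h2 := hlen₀' (w⁻¹ * tJ)
    have h3 := rep_add hw htJ.1
    rw [len_inv] at h3
    omega
  obtain ⟨y, hy⟩ := cell_nonempty (w⁻¹ * w₀)
  have h1 := cell_mul_add hadd hx hy
  have h2 := cell_mul_add hadd (mul_left_cell hb hx) hy
  rw [mul_inv_cancel_left] at h1 h2
  obtain ⟨r, hr, h⟩ := htrans _ h1 _ h2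
  refine ⟨r, hr, cancel' hadd (mul_left_cell (hRB hr) hx) (mul_left_cell hb hx) hy hy ?_⟩
  simpa only [mul_assoc] using h

/-- The pairs of an element of `R` and a fixed coset of a parabolic subgroup. -/
theorem card_total [Fintype (W P)] {p : ℕ} [Fact p.Prime] (J K : Finset P.S) (g : G)
    (hgJ : g ∈ par (J : Set P.S))
    (hmin : ∀ J' : Finset P.S, J' ⊂ J → ∀ x : G, x * g * x⁻¹ ∉ par (J' : Set P.S))
    (R : Subgroup G) (hRB : R ≤ P.B) (hRp : IsPGroup p R) (hgp : ¬ p ∣ orderOf g)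
    (hRn : ∀ x ∈ par (J : Set P.S), ∀ r ∈ R, x * r * x⁻¹ ∈ R)
    (htr : ∀ w : W P, Rep (J : Set P.S) w⁻¹ → ∀ b ∈ P.B, ∀ x ∈ cell w,
      ∃ r ∈ R, (r * x)⁻¹ * (b * x) ∈ P.B)
    [DecidablePred (Good (J : Set P.S) (K : Set P.S))] :
    Nat.card {a : R × (G ⧸ par (K : Set P.S)) // (g * (a.1 : G)) • a.2 = a.2} =
      Nat.card R * (Finset.univ.filter (Good (J : Set P.S) (K : Set P.S))).card := by
  classical
  have hBJ : P.B ≤ par (J : Set P.S) := B_le_parabolic _
  have hRnorm : ∀ x ∈ par (J : Set P.S), x ∈ Subgroup.normalizer (R : Set G) := fun x hx => by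
    refine Subgroup.mem_normalizer_iff.2 fun r => ⟨hRn x hx r, fun h => ?_⟩
    have := hRn x⁻¹ (inv_mem hx) _ h
    simpa [mul_assoc] using this
  choose n hn hnw using fun w : W P => exists_mkW w
  have hnc : ∀ w, n w ∈ cell w := fun w => by
    have := mem_cell_mkW (hn w)
    rwa [hnw] at this
  -- transitivity
  have horb : ∀ w, Good (J : Set P.S) (K : Set P.S) w → ∀ a ∈ par (J : Set P.S),
      (((a * n w : G)) : G ⧸ par (K : Set P.S)) ∈
        MulAction.orbit R ((n w : G) : G ⧸ par (K : Set P.S)) := by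
    intro w hw
    let Q : Subgroup G :=
      { carrier := {a | a ∈ par (J : Set P.S) ∧ ∃ r ∈ R,
          ((a * n w : G) : G ⧸ par (K : Set P.S)) = ((r * n w : G) : G ⧸ par (K : Set P.S))}
        one_mem' := ⟨one_mem _, 1, one_mem _, rfl⟩
        mul_mem' := by
          rintro a a' ⟨ha, r, hr, e⟩ ⟨ha', r', hr', e'⟩
          refine ⟨mul_mem ha ha', a * r' * a⁻¹ * r, mul_mem (hRn a ha r' hr') hr, ?_⟩
          have h1 := congrArg (a • ·) e'
          have h2 := congrArg ((a * r' * a⁻¹) • ·) e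
          simp only [MulAction.Quotient.smul_coe, smul_eq_mul] at h1 h2
          rw [mul_assoc a, h1, mul_assoc (a * r' * a⁻¹) r, ← h2]
          congr 1
          group
        inv_mem' := by
          rintro a ⟨ha, r, hr, e⟩
          refine ⟨inv_mem ha, a⁻¹ * r⁻¹ * a, ?_, ?_⟩
          · simpa using hRn a⁻¹ (inv_mem ha) r⁻¹ (inv_mem hr)
          · have h1 := congrArg ((a⁻¹ * r⁻¹) • ·) e
            simp only [MulAction.Quotient.smul_coe, smul_eq_mul] at h1
            rw [show a⁻¹ * r⁻¹ * (r * n w) = a⁻¹ * n w by group] at h1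
            rw [← h1]
            congr 1
            group }
    have hQ : par (J : Set P.S) ≤ Q := by
      refine sup_le (fun b hb => ?_) ((Subgroup.closure_le _).2 ?_)
      · obtain ⟨r, hr, h⟩ := htr w hw.1 b hb (n w) (hnc w)
        exact ⟨hBJ hb, r, hr, (QuotientGroup.eq.2 (B_le_parabolic _ h)).symm⟩
      · rintro _ ⟨s, hs, rfl⟩
        refine ⟨mem_parabolic_of_mem (Set.mem_image_of_mem _ hs), 1, one_mem _, ?_⟩
        rw [one_mul]
        refine (QuotientGroup.eq.2 ?_).symm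
        have hN : (n w)⁻¹ * ((s : G) * n w) ∈ P.N :=
          mul_mem (inv_mem (hn w)) (mul_mem (P.subset s.2) (hn w))
        refine mem_par_of_cell (hw.2.2 s hs) ?_
        have := mem_cell_mkW (P := P) hN
        rwa [mkW_mul (inv_mem (hn w)) (mul_mem (P.subset s.2) (hn w)), mkW_inv (hn w),
          mkW_mul (P.subset s.2) (hn w), hnw, ← mul_assoc] at this
    intro a ha
    obtain ⟨-, r, hr, e⟩ := hQ ha
    exact ⟨⟨r, hr⟩, e.symm⟩
  -- the fixed cosets lie in the good orbits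
  have hclass : ∀ (u : G) (z : G ⧸ par (K : Set P.S)), u ∈ R → (g * u) • z = z →
      ∃ w, Good (J : Set P.S) (K : Set P.S) w ∧
        z ∈ MulAction.orbit R ((n w : G) : G ⧸ par (K : Set P.S)) := by
    intro u z hu hz
    obtain ⟨x, rfl⟩ := QuotientGroup.mk_surjective z
    obtain ⟨v, hv⟩ := bruhat (P := P) x
    obtain ⟨a, w, b, ha, hw, hb, rfl⟩ := exists_rep2 (J : Set P.S) (K : Set P.S) v
    obtain ⟨na, hna, ea, hpa⟩ := exists_lift ha
    rw [mul_assoc] at hv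
    obtain ⟨c, hc, y, hy, rfl⟩ := cell_decomp hv hna ea
    obtain ⟨c', hc', y', hy', rfl⟩ := cell_decomp hy (hn w) (hnw w)
    have hy'' : y' ∈ par (K : Set P.S) := mem_par_of_cell hb hy'
    obtain ⟨A, hA⟩ : ∃ A, A = c * na * c' := ⟨_, rfl⟩
    have hAJ : A ∈ par (J : Set P.S) := hA ▸ mul_mem (mul_mem (hBJ hc) hpa) (hBJ hc')
    have ez : ((c * na * (c' * n w * y') : G) : G ⧸ par (K : Set P.S)) = ((A * n w : G)) := by
      rw [hA, show c * na * (c' * n w * y') = c * na * c' * n w * y' by group]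
      exact QuotientGroup.mk_mul_of_mem _ hy''
    rw [ez] at hz ⊢
    obtain ⟨g', hg'⟩ : ∃ g', g' = A⁻¹ * g * A := ⟨_, rfl⟩
    obtain ⟨r, hr⟩ : ∃ r, r = A⁻¹ * u * A := ⟨_, rfl⟩
    have hg'J : g' ∈ par (J : Set P.S) := hg' ▸ mul_mem (mul_mem (inv_mem hAJ) hgJ) hAJ
    have hrR : r ∈ R := by
      rw [hr]; simpa using hRn A⁻¹ (inv_mem hAJ) u hu
    have hfix : (n w)⁻¹ * (g' * r * n w) ∈ par (K : Set P.S) := by
      have h1 := QuotientGroup.eq.1 hz.symm
      change (A * n w)⁻¹ * ((g * u) * (A * n w)) ∈ par (K : Set P.S) at h1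
      rw [hg', hr]
      convert h1 using 1
      group
    obtain ⟨v₁, hv₁, hh⟩ := inK_of_mem_par (mul_mem hg'J (hBJ (hRB hrR)))
    have hadd : len (v₁ * w) = len v₁ + len w := rep_add_left hw.2 hv₁
    have h2 := cell_mul_add hadd hh (hnc w)
    obtain ⟨v₂, hv₂, hh2⟩ := inK_of_mem_par hfix
    have h3 := rep_cell_mul hw.1 hv₂ (hnc w) hh2
    rw [mul_inv_cancel_left] at h3
    have hk := kilmoyer hw (len v₁) v₁ v₂ rfl hv₁ hv₂ (cell_inj h2 h3)
    obtain ⟨J', hJ'⟩ : ∃ J' : Finset P.S,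
        J' = J.filter fun s => InK (K : Set P.S) (w⁻¹ * gen s * w) := ⟨_, rfl⟩
    have hJ'' : {s | s ∈ (J : Set P.S) ∧ InK (K : Set P.S) (w⁻¹ * gen s * w)} = (J' : Set P.S) := by
      ext s; simp [hJ']
    rw [hJ''] at hk
    have hmem : g' * r ∈ par (J' : Set P.S) := mem_par_of_cell hk hh
    have hJJ : J' = J := by
      by_contra hne
      have hg'p : ¬ p ∣ orderOf g' := by
        rw [hg', show A⁻¹ * g * A = A⁻¹ * g * A⁻¹⁻¹ by rw [inv_inv], orderOf_conj]
        exact hgp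
      obtain ⟨x', -, hx'⟩ := exists_conj_mem hRp (hRnorm g' hg'J) hrR hg'p hmem
      refine hmin J' (lt_of_le_of_ne (hJ' ▸ Finset.filter_subset _ _) hne) (x' * A⁻¹) ?_
      rw [show x' * A⁻¹ * g * (x' * A⁻¹)⁻¹ = x' * g' * x'⁻¹ by rw [hg']; group]
      exact hx'
    have hgood : Good (J : Set P.S) (K : Set P.S) w := by
      refine ⟨hw.2, hw.1, fun s hs => ?_⟩
      rw [Finset.mem_coe, ← hJJ, hJ', Finset.mem_filter] at hs
      exact hs.2
    exact ⟨w, hgood, horb w hgood A hAJ⟩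
  -- orbits of different representatives
  have hdisj : ∀ w w', Good (J : Set P.S) (K : Set P.S) w → Good (J : Set P.S) (K : Set P.S) w' →
      ∀ z : G ⧸ par (K : Set P.S), z ∈ MulAction.orbit R ((n w : G) : G ⧸ par (K : Set P.S)) →
      z ∈ MulAction.orbit R ((n w' : G) : G ⧸ par (K : Set P.S)) → w = w' := by
    rintro w w' hw hw' z ⟨r, hr⟩ ⟨r', hr'⟩
    have h1 : (((r : G) * n w : G) : G ⧸ par (K : Set P.S)) = (((r' : G) * n w' : G)) :=
      hr.trans hr'.symm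
    obtain ⟨v, hv, hp⟩ := inK_of_mem_par (QuotientGroup.eq.1 h1)
    have h2 := rep_cell_mul hw.2.1 hv (mul_left_cell (hRB r.2) (hnc w)) hp
    rw [mul_inv_cancel_left] at h2
    have h3 : w' = 1 * w * v := by
      rw [one_mul]; exact cell_inj (mul_left_cell (hRB r'.2) (hnc w')) h2
    exact (rep2_unique ⟨hw.2.1, hw.1⟩ ⟨hw'.2.1, hw'.1⟩ (inK_one _) hv h3).symm
  -- each good orbit
  have hg₁ : ∀ r ∈ R, g⁻¹ * r * g ∈ R := fun r hr => by
    simpa using hRn g⁻¹ (inv_mem hgJ) r hr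
  have horbit : ∀ w, Good (J : Set P.S) (K : Set P.S) w →
      Nat.card {a : R × (G ⧸ par (K : Set P.S)) //
        a.2 ∈ MulAction.orbit R ((n w : G) : G ⧸ par (K : Set P.S)) ∧
          (g * (a.1 : G)) • a.2 = a.2} = Nat.card R := by
    intro w hw
    obtain ⟨r, hr⟩ := horb w hw g⁻¹ (inv_mem hgJ)
    refine card_pairs hg₁ _ r.2 ?_
    have h1 : (r : G) • ((n w : G) : G ⧸ par (K : Set P.S)) = ((g⁻¹ * n w : G)) := hr
    rw [mul_smul, h1, MulAction.Quotient.smul_coe, smul_eq_mul, mul_inv_cancel_left]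
  rw [Finset.card_filter, Finset.mul_sum]
  calc Nat.card {a : R × (G ⧸ par (K : Set P.S)) // (g * (a.1 : G)) • a.2 = a.2}
      = Nat.card (Σ w : {w : W P // Good (J : Set P.S) (K : Set P.S) w},
          {a : R × (G ⧸ par (K : Set P.S)) //
            a.2 ∈ MulAction.orbit R ((n w.1 : G) : G ⧸ par (K : Set P.S)) ∧
              (g * (a.1 : G)) • a.2 = a.2}) := by
        refine (Nat.card_congr (Equiv.ofBijective (fun b => ⟨b.2.1, b.2.2.2⟩) ?_)).symm
        refine ⟨?_, ?_⟩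
        · rintro ⟨⟨w, hw⟩, a, ha⟩ ⟨⟨w', hw'⟩, a', ha'⟩ h
          obtain rfl : a = a' := congrArg Subtype.val h
          obtain rfl := hdisj w w' hw hw' _ ha.1 ha'.1
          rfl
        · rintro ⟨⟨u, z⟩, hz⟩
          obtain ⟨w, hw, hwz⟩ := hclass u z u.2 hz
          exact ⟨⟨⟨w, hw⟩, ⟨(u, z), hwz, hz⟩⟩, rfl⟩
    _ = _ := by
        rw [Nat.card_sigma, Finset.sum_congr rfl fun w _ => horbit w.1 w.2, Finset.sum_const,
          Finset.card_univ, smul_eq_mul, ← Finset.mul_sum, ← Finset.card_filter,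
          Fintype.card_subtype, mul_comm]

/-- **The value at a `p'`-element.** -/
theorem value [Fintype P.S] {p : ℕ} [Fact p.Prime]
    (huniq : ∀ w w' : W P, IsTop w → IsTop w' → w = w') (J : Finset P.S) (g : G)
    (hgJ : g ∈ par (J : Set P.S))
    (hmin : ∀ J' : Finset P.S, J' ⊂ J → ∀ x : G, x * g * x⁻¹ ∉ par (J' : Set P.S))
    (R : Subgroup G) (hRB : R ≤ P.B) (hRp : IsPGroup p R) (hgp : ¬ p ∣ orderOf g)
    (hRn : ∀ x ∈ par (J : Set P.S), ∀ r ∈ R, x * r * x⁻¹ ∈ R)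
    (hcard : ∀ tJ t₀ : W P, IsTopIn (J : Set P.S) tJ → IsTop t₀ →
      Nat.card R * cf P 1 tJ = cf P 1 t₀)
    (hopp : ∀ t₀ : W P, IsTop t₀ → ∃ n, ∃ hn : n ∈ P.N, mkW hn = t₀ ∧
      ∀ r ∈ R, n⁻¹ * r * n ∈ P.B → r = 1)
    (hvan : ∀ x : G, p ∣ orderOf x → stein P x = 0) :
    stein P g = (-1) ^ J.card * (Nat.card ↥(R ⊓ Subgroup.centralizer ({g} : Set G)) : ℂ) := by
  classical
  haveI := Fintype.ofFinite (W P)
  haveI := Fintype.ofFinite G
  have hgn : g ∈ Subgroup.normalizer (R : Set G) := by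
    refine Subgroup.mem_normalizer_iff.2 fun r => ⟨hRn g hgJ r, fun h => ?_⟩
    have := hRn g⁻¹ (inv_mem hgJ) _ h
    simpa [mul_assoc] using this
  have htr : ∀ w : W P, Rep (J : Set P.S) w⁻¹ → ∀ b ∈ P.B, ∀ x ∈ cell w,
      ∃ r ∈ R, (r * x)⁻¹ * (b * x) ∈ P.B :=
    fun w hw b hb x hx => transitive_cells J R hRB hRn hcard hopp w hw hb hx
  -- the sum over the coset
  have hsum : ∑ u : R, stein P (g * (u : G)) = (Nat.card R : ℂ) * (-1) ^ J.card := by
    rw [← alternating_good (P := P) (R := ℂ) huniq J, Finset.sum_comm]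
    simp only [stein]
    rw [Finset.sum_comm, Finset.mul_sum]
    refine Finset.sum_congr rfl fun K _ => ?_
    rw [← Finset.mul_sum, ← Finset.sum_filter, Finset.sum_const, nsmul_eq_mul]
    simp only [Cfsg.fixedPointCharacter]
    rw [← Nat.cast_sum, ← Nat.card_sigma]
    have h := card_total J K g hgJ hmin R hRB hRp hgp hRn htr
    rw [show Nat.card (Σ u : R, MulAction.fixedBy (G ⧸ par (K : Set P.S)) (g * (u : G))) =
        Nat.card {a : R × (G ⧸ par (K : Set P.S)) // (g * (a.1 : G)) • a.2 = a.2} from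
      Nat.card_congr
        { toFun := fun a => ⟨(a.1, a.2.1), a.2.2⟩
          invFun := fun a => ⟨a.1.1, a.1.2, a.2⟩
          left_inv := fun _ => rfl
          right_inv := fun _ => rfl }, h, Nat.cast_mul]
    ring
  -- the conjugates of `g` in the coset
  let φ : R → R := fun r => ⟨g⁻¹ * (r : G) * g * (r : G)⁻¹, mul_mem (by
    simpa using hRn g⁻¹ (inv_mem hgJ) r r.2) (inv_mem r.2)⟩
  have hφ : ∀ r : R, g * (φ r : G) = r * g * (r : G)⁻¹ := fun r => by simp [φ, mul_assoc]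
  have hconst : ∀ r : R, stein P (g * (φ r : G)) = stein P g := fun r => by rw [hφ, stein_conj]
  have hfib : ∀ u : R, ((Finset.univ.filter fun r : R => φ r = u).card : ℂ) * stein P (g * (u : G)) =
      (Nat.card ↥(R ⊓ Subgroup.centralizer ({g} : Set G)) : ℂ) * stein P (g * (u : G)) := by
    intro u
    by_cases hu : ∃ r, φ r = u
    · obtain ⟨r₀, rfl⟩ := hu
      congr 2
      rw [← Fintype.card_subtype, ← Nat.card_eq_fintype_card]
      have key : ∀ r : R, φ r = φ r₀ ↔ (r₀ : G)⁻¹ * r ∈ Subgroup.centralizer ({g} : Set G) := by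
        intro r
        rw [Subgroup.mem_centralizer_singleton_iff]
        constructor
        · intro h
          have h1 := hφ r
          rw [h, hφ r₀] at h1
          calc (r₀ : G)⁻¹ * r * g = (r₀ : G)⁻¹ * (r * g * (r : G)⁻¹) * r := by group
            _ = (r₀ : G)⁻¹ * (r₀ * g * (r₀ : G)⁻¹) * r := by rw [h1]
            _ = _ := by group
        · intro h
          have h1 : (r : G) * g * (r : G)⁻¹ = r₀ * g * (r₀ : G)⁻¹ := by
            calc (r : G) * g * (r : G)⁻¹ = r₀ * ((r₀ : G)⁻¹ * r * g) * (r : G)⁻¹ := by group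
              _ = r₀ * (g * ((r₀ : G)⁻¹ * r)) * (r : G)⁻¹ := by rw [h]
              _ = _ := by group
          rw [← hφ, ← hφ, mul_right_inj] at h1
          exact Subtype.ext h1
      exact Nat.card_congr
        { toFun := fun r => ⟨(r₀ : G)⁻¹ * (r.1 : G),
            R.mul_mem (R.inv_mem r₀.2) r.1.2, (key r.1).1 r.2⟩
          invFun := fun c => ⟨⟨(r₀ : G) * c.1, mul_mem r₀.2 c.2.1⟩,
            (key _).2 (by simpa using c.2.2)⟩
          left_inv := fun r => Subtype.ext (Subtype.ext (mul_inv_cancel_left _ _))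
          right_inv := fun c => Subtype.ext (inv_mul_cancel_left _ _) }
    · rw [hvan, mul_zero, mul_zero]
      by_contra hreg
      obtain ⟨r, hr, e⟩ := regular_conj hRp hgn u.2 hgp hreg
      refine hu ⟨⟨r, hr⟩, Subtype.ext ?_⟩
      have := hφ ⟨r, hr⟩
      rw [e, mul_right_inj] at this
      exact this
  have key : (Nat.card R : ℂ) * stein P g =
      (Nat.card ↥(R ⊓ Subgroup.centralizer ({g} : Set G)) : ℂ) * ∑ u : R, stein P (g * (u : G)) := by
    rw [Finset.mul_sum, ← Finset.sum_congr rfl fun u _ => hfib u]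
    calc (Nat.card R : ℂ) * stein P g = ∑ r : R, stein P (g * (φ r : G)) := by
          simp [hconst, Nat.card_eq_fintype_card]
      _ = _ := by
          rw [← Finset.sum_fiberwise Finset.univ φ (fun r => stein P (g * (φ r : G)))]
          refine Finset.sum_congr rfl fun u _ => ?_
          rw [Finset.sum_congr rfl fun r hr => by rw [(Finset.mem_filter.1 hr).2],
            Finset.sum_const, nsmul_eq_mul]
  rw [hsum] at key
  refine mul_left_cancel₀ (a := (Nat.card R : ℂ)) (Nat.cast_ne_zero.2 Nat.card_pos.ne') ?_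
  rw [key]
  ring

end Cfsg.Agent.SimpleFacts.BNSteinbergValue
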