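import Cfsg.Agent.SimpleFacts.BNSteinberg

/-!
Counting the `p`-elements of the standard parabolic subgroups of a finite group with a (B, N)-pair whose
`B` contains a Sylow `p`-subgroup with the usual splitting along the parabolic subgroups.
-/

set_option autoImplicit false

namespace Cfsg.Agent.SimpleFacts.BNUnipotentCount

open Cfsg.Agent.BN.Basic Cfsg.Agent.BN.Parabolic Cfsg.Agent.SimpleFacts.BNReps
  Cfsg.Agent.SimpleFacts.BNSteinberg

variable {G : Type*} [Group G] {P : Cfsg.BNPair G}

/-- The longest element of the standard subgroup of `K`. -/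
def IsTopIn (K : Set P.S) (u : W P) : Prop := InK K u ∧ ∀ s ∈ K, len (u * gen s) < len u

theorem top_word {K : Set P.S} {u : W P} (hu : IsTopIn K u) : ∀ L : List P.S, (∀ s ∈ L, s ∈ K) →
    len (wordW L) = L.length → ∃ Z : List P.S, wordW (Z ++ L) = u ∧ (Z ++ L).length = len u := by
  intro L
  induction L using List.reverseRecOn with
  | nil =>
    intro _ _
    obtain ⟨Z, hZ, e⟩ := exists_reduced u
    exact ⟨Z, by rw [List.append_nil]; exact e, by rw [List.append_nil]; exact hZ⟩
  | append_singleton L s ih =>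
    intro hL hred
    have hLs : ∀ x ∈ L, x ∈ K := fun x hx => hL x (List.mem_append_left _ hx)
    have hs : s ∈ K := hL s (List.mem_append_right _ List.mem_cons_self)
    rw [wordW_append, wordW_singleton, List.length_append, List.length_singleton] at hred
    have h1 := len_wordW_le L
    have hredL : len (wordW L) = L.length := by
      rcases len_mul_gen_cases (wordW L) s with h | h <;> omega
    obtain ⟨Z, hZ, hlen⟩ := ih hLs hredL
    obtain ⟨j, hj, hje⟩ := exchange_right (L := Z ++ L) (s := s) (by rw [hZ, hlen])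
      (by rw [hZ]; exact hu.2 s hs)
    rw [hZ] at hje
    rw [List.length_append] at hj
    by_cases hjZ : j < Z.length
    · rw [List.eraseIdx_append_of_lt_length hjZ, wordW_append] at hje
      refine ⟨Z.eraseIdx j, ?_, ?_⟩
      · rw [wordW_append, wordW_append, wordW_singleton, ← mul_assoc, ← hje, mul_gen_cancel]
      · rw [List.length_append, List.length_eraseIdx_of_lt hjZ, List.length_append,
          List.length_singleton, ← hlen, List.length_append]
        omega
    · exfalso
      rw [List.eraseIdx_append_of_length_le (by omega), wordW_append, ← hZ, wordW_append,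
        mul_assoc, mul_right_inj] at hje
      have h3 := len_wordW_le (L.eraseIdx (j - Z.length))
      rw [List.length_eraseIdx_of_lt (by omega), ← hje] at h3
      omega

theorem top_add {K : Set P.S} {u v : W P} (hu : IsTopIn K u) (hv : InK K v) :
    len (u * v) + len v = len u := by
  obtain ⟨L, hL, hLv, hlen⟩ := inK_reduced (inK_inv hv)
  obtain ⟨Z, hZ, hZlen⟩ := top_word hu L hL (by rw [hLv, hlen])
  rw [wordW_append, hLv] at hZ
  rw [List.length_append] at hZlen
  have h1 := len_wordW_le Z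
  have h2 := len_mul_le (u * v) v⁻¹
  rw [mul_inv_cancel_right] at h2
  rw [len_inv] at h2 hlen
  have h3 : u * v = wordW Z := by rw [← hZ, inv_mul_cancel_right]
  rw [← h3] at h1
  omega

theorem topIn_unique {K : Set P.S} {u u' : W P} (hu : IsTopIn K u) (hu' : IsTopIn K u') :
    u = u' := by
  have hv : InK K (u⁻¹ * u') := inK_mul (inK_inv hu.1) hu'.1
  have h1 := top_add hu hv
  have h2 := top_add hu' (inK_inv hv)
  rw [mul_inv_cancel_left] at h1
  rw [mul_inv_rev, inv_inv, mul_inv_cancel_left, ← len_inv (u'⁻¹ * u), mul_inv_rev, inv_inv] at h2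
  exact inv_mul_eq_one.1 (eq_one_of_len_eq_zero (by omega))

theorem topIn_inv {K : Set P.S} {u : W P} (hu : IsTopIn K u) : IsTopIn K u⁻¹ := by
  refine ⟨inK_inv hu.1, fun s hs => ?_⟩
  have h1 := top_add hu (inK_mul (inK_mul (inK_inv hu.1) (inK_gen hs)) hu.1)
  rw [← mul_assoc, mul_inv_cancel_left] at h1
  rw [len_mul_gen, inv_inv, len_inv]
  have h2 : len (u⁻¹ * gen s * u) ≠ 0 := fun h => by
    refine gen_ne_one s ?_
    have h3 := eq_one_of_len_eq_zero h
    calc gen s = u * (u⁻¹ * gen s * u) * u⁻¹ := by group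
      _ = 1 := by rw [h3]; group
  omega

theorem exists_topIn [Finite (W P)] (K : Set P.S) : ∃ u : W P, IsTopIn K u := by
  classical
  haveI := Fintype.ofFinite (W P)
  obtain ⟨u, hu, hmax⟩ := Finset.exists_max_image
    ((Finset.univ : Finset (W P)).filter fun w => InK K w) len
    ⟨1, Finset.mem_filter.2 ⟨Finset.mem_univ _, inK_one K⟩⟩
  rw [Finset.mem_filter] at hu
  refine ⟨u, hu.2, fun s hs => ?_⟩
  rcases len_mul_gen_cases u s with h | h
  · have := hmax (u * gen s) (Finset.mem_filter.2 ⟨Finset.mem_univ _, inK_mul hu.2 (inK_gen hs)⟩)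
    omega
  · omega

theorem inK_mono {K J : Set P.S} (h : K ⊆ J) {v : W P} (hv : InK K v) : InK J v := by
  obtain ⟨L, hL, rfl⟩ := hv
  exact ⟨L, fun s hs => h (hL s hs), rfl⟩

theorem par_mono {K J : Set P.S} (h : K ⊆ J) : par K ≤ par J :=
  sup_le_sup_left (Subgroup.closure_mono (Set.image_mono h)) _

theorem mem_par_of_cell {K : Set P.S} {w : W P} (hw : InK K w) {x : G} (hx : x ∈ cell w) :
    x ∈ par K := by
  obtain ⟨n, hn, e, hp⟩ := exists_lift hw
  exact cell_subset_of_nonempty (B_le_parabolic _) (mem_cell_mkW hn) hp (e.symm ▸ hx)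

theorem inK_of_cell {K : Set P.S} {w : W P} {x : G} (hx : x ∈ cell w) (hp : x ∈ par K) :
    InK K w := by
  obtain ⟨v, hv, h⟩ := inK_of_mem_par hp
  exact cell_inj hx h ▸ hv

/-- The cosets of `par K` inside `par J` fixed by `g`. -/
noncomputable def fixIn (J K : Set P.S) (g : G) : ℕ :=
  Nat.card {z : G ⧸ par K // g • z = z ∧ ∃ x ∈ par J, (x : G ⧸ par K) = z}

theorem fixIn_conj {J K : Set P.S} {g x : G} (hx : x ∈ par J) :
    fixIn J K (x * g * x⁻¹) = fixIn J K g := by
  refine Nat.card_congr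
    { toFun := fun z => ⟨x⁻¹ • z.1, ?_, ?_⟩
      invFun := fun z => ⟨x • z.1, ?_, ?_⟩
      left_inv := fun z => Subtype.ext (smul_inv_smul x z.1)
      right_inv := fun z => Subtype.ext (inv_smul_smul x z.1) }
  · have h := z.2.1
    rw [mul_smul, mul_smul] at h
    rw [eq_inv_smul_iff]
    exact h
  · obtain ⟨y, hy, e⟩ := z.2.2
    exact ⟨x⁻¹ * y, mul_mem (inv_mem hx) hy, by rw [← e]; rfl⟩
  · rw [mul_smul, mul_smul, inv_smul_smul, z.2.1]
  · obtain ⟨y, hy, e⟩ := z.2.2
    exact ⟨x * y, mul_mem hx hy, by rw [← e]; rfl⟩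

variable [Finite G]

theorem card_fixIn [Fintype (W P)] (J K : Set P.S) [DecidablePred (fun w : W P => Rep K w ∧ InK J w)]
    (hKJ : K ⊆ J) {b : G} (hb : b ∈ P.B) :
    fixIn J K b = ∑ w : W P, if Rep K w ∧ InK J w then cf P b w else 0 := by
  classical
  rw [← Finset.sum_filter, Finset.sum_subtype (p := fun w => Rep K w ∧ InK J w) _ (fun w => by simp)
    (fun w => cf P b w)]
  simp only [cf]
  rw [← Nat.card_sigma]
  symm
  have hle : P.B ≤ par K := B_le_parabolic _
  refine Nat.card_congr (Equiv.ofBijective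
    (fun p => ⟨Subgroup.quotientMapOfLE hle p.2.1, ?_, ?_⟩) ?_)
  · obtain ⟨w, y, hy, -⟩ := p
    obtain ⟨x, rfl⟩ := QuotientGroup.mk_surjective y
    exact congrArg (Subgroup.quotientMapOfLE hle) hy
  · obtain ⟨⟨w, -, hw⟩, y, -, x, hx, rfl⟩ := p
    exact ⟨x, mem_par_of_cell hw hx, rfl⟩
  refine ⟨?_, ?_⟩
  · rintro ⟨⟨w, hw⟩, y, hy, x, hx, rfl⟩ ⟨⟨w', hw'⟩, y', hy', x', hx', rfl⟩ h
    have h' : (x : G ⧸ par K) = (x' : G ⧸ par K) := congrArg Subtype.val h
    rw [QuotientGroup.eq] at h'
    obtain ⟨v, hv, hp⟩ := inK_of_mem_par h'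
    have h1 := rep_cell_mul hw.1 hv hx hp
    rw [mul_inv_cancel_left] at h1
    have he := cell_inj h1 hx'
    have hv1 := rep_unique hw.1 (he ▸ hw'.1) hv
    subst hv1
    rw [cell_one] at hp
    rw [mul_one] at he
    subst he
    have e : (x : G ⧸ P.B) = x' := QuotientGroup.eq.2 hp
    congr 1
    exact Subtype.ext e
  · rintro ⟨z, hz, x, hxJ, rfl⟩
    obtain ⟨w, hw⟩ := bruhat (P := P) x
    have hwJ := inK_of_cell hw hxJ
    obtain ⟨m, v, hm, hv, rfl⟩ := exists_rep K w
    have hmJ : InK J m := by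
      have := inK_mul hwJ (inK_inv (inK_mono hKJ hv))
      rwa [mul_inv_cancel_right] at this
    obtain ⟨n, hn, hnm⟩ := exists_mkW m
    obtain ⟨c, hc, y, hy, rfl⟩ := cell_decomp hw hn hnm
    have hy' : y ∈ par K := mem_par_of_cell hv hy
    have hcn : c * n ∈ cell m := mul_left_cell hc (hnm ▸ mem_cell_mkW hn)
    have e1 : ((c * n * y : G) : G ⧸ par K) = ((c * n : G) : G ⧸ par K) :=
      (QuotientGroup.mk_mul_of_mem _ hy')
    have hz' : ((b * (c * n) : G) : G ⧸ par K) = ((c * n : G) : G ⧸ par K) := by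
      rw [e1] at hz
      exact hz
    refine ⟨⟨⟨m, hm, hmJ⟩, ((c * n : G) : G ⧸ P.B), ?_, c * n, hcn, rfl⟩, Subtype.ext e1.symm⟩
    have h2 := QuotientGroup.eq.1 hz'.symm
    obtain ⟨v', hv', hp⟩ := inK_of_mem_par h2
    have h3 := rep_cell_mul hm hv' hcn hp
    rw [mul_inv_cancel_left] at h3
    have h4 := cell_inj (mul_left_cell hb hcn) h3
    rw [mul_eq_left.1 h4.symm, cell_one] at hp
    exact (QuotientGroup.eq.2 hp).symm

theorem cf_one_eq (w : W P) :
    cf P 1 w = Nat.card {y : G ⧸ P.B // ∃ x ∈ cell w, (x : G ⧸ P.B) = y} :=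
  Nat.card_congr (Equiv.subtypeEquivRight fun y => by simp [one_smul])

theorem cf_one_one : cf P 1 (1 : W P) = 1 := by
  rw [cf_one_eq, Nat.card_eq_one_iff_unique]
  constructor
  · constructor
    rintro ⟨y, x, hx, rfl⟩ ⟨y', x', hx', rfl⟩
    rw [cell_one] at hx hx'
    exact Subtype.ext (QuotientGroup.eq.2 (mul_mem (inv_mem hx) hx'))
  · exact ⟨⟨((1 : G) : G ⧸ P.B), 1, by rw [cell_one]; exact one_mem _, rfl⟩⟩

theorem cf_mul {K : Set P.S} {m v : W P} (hm : Rep K m) (hv : InK K v) :
    cf P 1 (m * v) = cf P 1 m * cf P 1 v := by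
  classical
  rw [cf_one_eq, cf_one_eq, cf_one_eq, ← Nat.card_prod]
  symm
  refine Nat.card_congr (Equiv.ofBijective (fun a =>
    ⟨((a.1.2.choose * a.2.2.choose : G) : G ⧸ P.B), a.1.2.choose * a.2.2.choose,
      rep_cell_mul hm hv a.1.2.choose_spec.1 a.2.2.choose_spec.1, rfl⟩) ?_)
  constructor
  · rintro ⟨a, b⟩ ⟨a', b'⟩ h
    obtain ⟨hxa, hxa'⟩ := a.2.choose_spec
    obtain ⟨hxb, hxb'⟩ := b.2.choose_spec
    obtain ⟨hya, hya'⟩ := a'.2.choose_spec
    obtain ⟨hyb, hyb'⟩ := b'.2.choose_spec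
    have h0 : ((a.2.choose * b.2.choose : G) : G ⧸ P.B) = ((a'.2.choose * b'.2.choose : G)) :=
      congrArg Subtype.val h
    have h1 := QuotientGroup.eq.1 h0
    have hp : (a.2.choose)⁻¹ * a'.2.choose ∈ par K := by
      have := mul_mem (mul_mem (mem_par_of_cell hv hxb) (B_le_parabolic _ h1))
        (inv_mem (mem_par_of_cell hv hyb))
      simpa [mul_assoc] using this
    obtain ⟨v', hv', hp'⟩ := inK_of_mem_par hp
    have h3 := rep_cell_mul hm hv' hxa hp'
    rw [mul_inv_cancel_left] at h3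
    rw [mul_eq_left.1 (cell_inj hya h3).symm, cell_one] at hp'
    have ea : a = a' := Subtype.ext (by rw [← hxa', ← hya']; exact QuotientGroup.eq.2 hp')
    subst ea
    have eb : b = b' := Subtype.ext (by
      rw [← hxb', ← hyb', QuotientGroup.eq]
      simpa [mul_assoc] using h1)
    rw [eb]
  · rintro ⟨y, x, hx, rfl⟩
    obtain ⟨n, hn, hnm⟩ := exists_mkW m
    obtain ⟨c, hc, y, hy, rfl⟩ := cell_decomp hx hn hnm
    have hcn : c * n ∈ cell m := mul_left_cell hc (hnm ▸ mem_cell_mkW hn)
    let a : {y : G ⧸ P.B // ∃ x ∈ cell m, (x : G ⧸ P.B) = y} := ⟨((c * n : G)), c * n, hcn, rfl⟩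
    obtain ⟨hxa, hxa'⟩ := a.2.choose_spec
    have hb : (a.2.choose)⁻¹ * (c * n) ∈ P.B := QuotientGroup.eq.1 hxa'
    let b : {y : G ⧸ P.B // ∃ x ∈ cell v, (x : G ⧸ P.B) = y} :=
      ⟨(((a.2.choose)⁻¹ * (c * n) * y : G)), _, mul_left_cell hb hy, rfl⟩
    obtain ⟨hxb, hxb'⟩ := b.2.choose_spec
    refine ⟨(a, b), Subtype.ext ?_⟩
    show ((a.2.choose * b.2.choose : G) : G ⧸ P.B) = ((c * n * y : G))
    calc ((a.2.choose * b.2.choose : G) : G ⧸ P.B) = a.2.choose • ((b.2.choose : G) : G ⧸ P.B) := rfl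
      _ = a.2.choose • (((a.2.choose)⁻¹ * (c * n) * y : G) : G ⧸ P.B) := by rw [hxb']
      _ = ((a.2.choose * ((a.2.choose)⁻¹ * (c * n) * y) : G) : G ⧸ P.B) := rfl
      _ = _ := by congr 1; group

/-- The alternating sum on `B` is the number of fixed cosets in the top cell. -/
theorem alt_fixIn (J : Finset P.S) {t : W P} (ht : IsTopIn (J : Set P.S) t) {b : G} (hb : b ∈ P.B) :
    ∑ K ∈ J.powerset, (-1 : ℤ) ^ K.card * (fixIn (J : Set P.S) K b : ℤ) = (cf P b t : ℤ) := by
  classical
  haveI := Fintype.ofFinite (W P)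
  have hsum : ∀ w : W P, (∑ K ∈ J.powerset, if Rep (K : Set P.S) w then (-1 : ℤ) ^ K.card else 0) =
      if ∀ s ∈ J, len (w * gen s) < len w then 1 else 0 := by
    intro w
    rw [← Finset.sum_filter]
    have h : (J.powerset.filter fun K : Finset P.S => Rep (K : Set P.S) w) =
        (J.filter fun s => len w < len (w * gen s)).powerset := by
      ext K
      simp only [Finset.mem_filter, Finset.mem_powerset, Finset.subset_iff, BNReps.Rep, Finset.mem_coe]
      exact ⟨fun h x hx => ⟨h.1 hx, h.2 x hx⟩, fun h => ⟨fun x hx => (h hx).1, fun x hx => (h hx).2⟩⟩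
    rw [h, Finset.sum_powerset_neg_one_pow_card]
    refine if_congr ?_ rfl rfl
    rw [Finset.filter_eq_empty_iff]
    exact ⟨fun h s hs => by have := h hs; rcases len_mul_gen_cases w s with h' | h' <;> omega,
      fun h s hs => by have := h s hs; omega⟩
  calc ∑ K ∈ J.powerset, (-1 : ℤ) ^ K.card * (fixIn (J : Set P.S) K b : ℤ)
      = ∑ K ∈ J.powerset, ∑ w : W P,
          (if InK (J : Set P.S) w then (cf P b w : ℤ) else 0) *
            (if Rep (K : Set P.S) w then (-1 : ℤ) ^ K.card else 0) := by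
        refine Finset.sum_congr rfl fun K hK => ?_
        rw [card_fixIn _ _ (Finset.coe_subset.2 (Finset.mem_powerset.1 hK)) hb, Nat.cast_sum,
          Finset.mul_sum]
        refine Finset.sum_congr rfl fun w _ => ?_
        by_cases h1 : Rep (K : Set P.S) w <;> by_cases h2 : InK (J : Set P.S) w <;>
          simp [h1, h2, mul_comm]
    _ = ∑ w : W P, (if InK (J : Set P.S) w then (cf P b w : ℤ) else 0) *
          (if ∀ s ∈ J, len (w * gen s) < len w then 1 else 0) := by
        rw [Finset.sum_comm]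
        exact Finset.sum_congr rfl fun w _ => by rw [← Finset.mul_sum, hsum]
    _ = (cf P b t : ℤ) := by
        rw [Finset.sum_eq_single t]
        · have h2 : ∀ s ∈ J, len (t * gen s) < len t := fun s hs => ht.2 s hs
          rw [if_pos ht.1, if_pos h2, mul_one]
        · intro w _ hw
          by_cases h1 : InK (J : Set P.S) w
          · have h2 : ¬ ∀ s ∈ J, len (w * gen s) < len w := fun h =>
              hw (topIn_unique ⟨h1, fun s hs => h s hs⟩ ht)
            rw [if_neg h2, mul_zero]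
          · rw [if_neg h1, zero_mul]
        · simp

/-- The dual identity: the cells of the longest elements. -/
theorem alt_top (J : Finset P.S) (t : Finset P.S → W P)
    (ht : ∀ K ⊆ J, IsTopIn (K : Set P.S) (t K)) :
    ∑ K ∈ J.powerset, (-1 : ℤ) ^ K.card * ((fixIn (J : Set P.S) K 1 * cf P 1 (t K) : ℕ) : ℤ) = 1 := by
  classical
  haveI := Fintype.ofFinite (W P)
  calc ∑ K ∈ J.powerset, (-1 : ℤ) ^ K.card * ((fixIn (J : Set P.S) K 1 * cf P 1 (t K) : ℕ) : ℤ)
      = ∑ K ∈ J.powerset, ∑ v : W P, (if InK (J : Set P.S) v then (cf P 1 v : ℤ) else 0) *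
          (if ∀ s ∈ K, len (v * gen s) < len v then (-1 : ℤ) ^ K.card else 0) := by
        refine Finset.sum_congr rfl fun K hK => ?_
        have hKJ : (K : Set P.S) ⊆ J := Finset.coe_subset.2 (Finset.mem_powerset.1 hK)
        have htK := ht K (Finset.mem_powerset.1 hK)
        have e : fixIn (J : Set P.S) K 1 * cf P 1 (t K) =
            ∑ v ∈ Finset.univ.filter (fun v => InK (J : Set P.S) v ∧
              ∀ s ∈ K, len (v * gen s) < len v), cf P 1 v := by
          rw [card_fixIn _ _ hKJ (one_mem _), Finset.sum_mul]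
          rw [show (∑ w : W P, (if Rep (K : Set P.S) w ∧ InK (J : Set P.S) w then cf P 1 w else 0) *
              cf P 1 (t K)) = ∑ w ∈ Finset.univ.filter (fun w => Rep (K : Set P.S) w ∧
              InK (J : Set P.S) w), cf P 1 (w * t K) by
            rw [Finset.sum_filter]
            refine Finset.sum_congr rfl fun w _ => ?_
            split_ifs with h
            · rw [cf_mul h.1 htK.1]
            · rw [zero_mul]]
          refine Finset.sum_nbij' (fun w => w * t K) (fun v => v * (t K)⁻¹) ?_ ?_ ?_ ?_ ?_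
          · intro w hw
            simp only [Finset.mem_coe, Finset.mem_filter, Finset.mem_univ, true_and] at hw ⊢
            refine ⟨inK_mul hw.2 (inK_mono hKJ htK.1), fun s hs => ?_⟩
            rw [mul_assoc, rep_add hw.1 (inK_mul htK.1 (inK_gen hs)), rep_add hw.1 htK.1]
            have := htK.2 s hs
            omega
          · intro v hv
            simp only [Finset.mem_coe, Finset.mem_filter, Finset.mem_univ, true_and] at hv ⊢
            obtain ⟨m, u, hm, hu, rfl⟩ := exists_rep (K : Set P.S) v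
            have hu' : IsTopIn (K : Set P.S) u := by
              refine ⟨hu, fun s hs => ?_⟩
              have := hv.2 s hs
              rw [mul_assoc, rep_add hm (inK_mul hu (inK_gen hs)), rep_add hm hu] at this
              omega
            rw [← topIn_unique hu' htK, mul_inv_cancel_right]
            refine ⟨hm, ?_⟩
            have := inK_mul hv.1 (inK_inv (inK_mono hKJ hu))
            rwa [mul_inv_cancel_right] at this
          · intro w _; exact mul_inv_cancel_right w _
          · intro v _; exact inv_mul_cancel_right v _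
          · intro w _; rfl
        rw [e, Nat.cast_sum, Finset.mul_sum, Finset.sum_filter]
        refine Finset.sum_congr rfl fun v _ => ?_
        by_cases h1 : InK (J : Set P.S) v <;>
          by_cases h2 : ∀ s ∈ K, len (v * gen s) < len v <;> simp [h1, h2, mul_comm]
    _ = ∑ v : W P, (if InK (J : Set P.S) v then (cf P 1 v : ℤ) else 0) *
          (if J.filter (fun s => len (v * gen s) < len v) = ∅ then 1 else 0) := by
        rw [Finset.sum_comm]
        refine Finset.sum_congr rfl fun v _ => ?_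
        rw [← Finset.mul_sum, ← Finset.sum_filter]
        congr 1
        rw [show (J.powerset.filter fun K => ∀ s ∈ K, len (v * gen s) < len v) =
            (J.filter fun s => len (v * gen s) < len v).powerset by
          ext K
          simp only [Finset.mem_filter, Finset.mem_powerset, Finset.subset_iff]
          exact ⟨fun h x hx => ⟨h.1 hx, h.2 x hx⟩,
            fun h => ⟨fun x hx => (h hx).1, fun x hx => (h hx).2⟩⟩,
          Finset.sum_powerset_neg_one_pow_card]
    _ = 1 := by
        rw [Finset.sum_eq_single (1 : W P)]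
        · rw [if_pos (inK_one _), cf_one_one, if_pos]
          · simp
          · rw [Finset.filter_eq_empty_iff]
            intro s _
            rw [len_one]
            omega
        · intro v _ hv
          by_cases h1 : InK (J : Set P.S) v
          · rw [if_pos h1, if_neg, mul_zero]
            intro h
            obtain ⟨L, hL, hLv, hlen⟩ := inK_reduced h1
            rcases List.eq_nil_or_concat L with rfl | ⟨M, s, hMs⟩
            · exact hv (by simpa using hLv.symm)
            obtain rfl : L = M ++ [s] := by simpa using hMs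
            refine Finset.notMem_empty s (h ▸ Finset.mem_filter.2
              ⟨hL s (List.mem_append_right _ List.mem_cons_self), ?_⟩)
            rw [List.length_append, List.length_singleton] at hlen
            rw [← hLv, wordW_append, wordW_singleton, mul_gen_cancel] at *
            have := len_wordW_le M
            omega
          · rw [if_neg h1, zero_mul]
        · simp

variable (p : ℕ)

/-- The `p`-elements of `par K`. -/
def pel (K : Set P.S) : Type _ := {g : G // g ∈ par K ∧ ∃ k : ℕ, orderOf g = p ^ k}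

theorem orderOf_conj (x g : G) : orderOf (x * g * x⁻¹) = orderOf g :=
  MulEquiv.orderOf_eq (MulAut.conj x) g

theorem sum_fixIn (J K : Set P.S) (hKJ : K ⊆ J) [Fintype (pel p J)] :
    ∑ g : pel p J, fixIn J K g.1 = fixIn J K 1 * Nat.card (pel p K) := by
  classical
  simp only [fixIn]
  rw [← Nat.card_sigma, ← Nat.card_prod]
  refine Nat.card_congr
    { toFun := fun a => (⟨a.2.1, one_smul _ _, a.2.2.2⟩,
        ⟨(a.2.2.2.choose)⁻¹ * a.1.1 * a.2.2.2.choose, ?_, ?_⟩)
      invFun := fun b => ⟨⟨b.1.2.2.choose * b.2.1 * (b.1.2.2.choose)⁻¹, ?_, ?_⟩,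
        ⟨b.1.1, ?_, b.1.2.2⟩⟩
      left_inv := ?_
      right_inv := ?_ }
  · obtain ⟨hx, hxz⟩ := a.2.2.2.choose_spec
    have h := a.2.2.1
    rw [← hxz] at h
    have h1 := QuotientGroup.eq.1 h.symm
    show (a.2.2.2.choose)⁻¹ * a.1.1 * a.2.2.2.choose ∈ par K
    rw [mul_assoc]
    exact h1
  · obtain ⟨k, hk⟩ := a.1.2.2
    exact ⟨k, by rw [show (a.2.2.2.choose)⁻¹ * a.1.1 * a.2.2.2.choose =
      (a.2.2.2.choose)⁻¹ * a.1.1 * ((a.2.2.2.choose)⁻¹)⁻¹ by rw [inv_inv], orderOf_conj]; exact hk⟩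
  · exact mul_mem (mul_mem b.1.2.2.choose_spec.1 (par_mono hKJ b.2.2.1))
      (inv_mem b.1.2.2.choose_spec.1)
  · obtain ⟨k, hk⟩ := b.2.2.2
    exact ⟨k, by rw [orderOf_conj]; exact hk⟩
  · obtain ⟨hx, hxz⟩ := b.1.2.2.choose_spec
    show (b.1.2.2.choose * b.2.1 * (b.1.2.2.choose)⁻¹) • b.1.1 = b.1.1
    generalize b.1.2.2.choose = x at hx hxz ⊢
    rw [← hxz]
    show ((x * b.2.1 * x⁻¹ * x : G) : G ⧸ par K) = (x : G ⧸ par K)
    rw [inv_mul_cancel_right, QuotientGroup.mk_mul_of_mem _ b.2.2.1]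
  · rintro ⟨⟨g, hg⟩, z, hz⟩
    apply Sigma.subtype_ext
    · apply Subtype.ext
      show hz.2.choose * ((hz.2.choose)⁻¹ * g * hz.2.choose) * (hz.2.choose)⁻¹ = g
      group
    · rfl
  · rintro ⟨⟨z, hz⟩, g, hg⟩
    refine Prod.ext rfl (Subtype.ext ?_)
    show (hz.2.choose)⁻¹ * (hz.2.choose * g * (hz.2.choose)⁻¹) * hz.2.choose = g
    group

variable (U : Subgroup G) (R : Finset P.S → Subgroup G)

/-- **The number of `p`-elements of a standard parabolic subgroup.** -/
theorem card_pel (hUB : U ≤ P.B) (hUp : IsPGroup p ↥U) [Fact p.Prime]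
    (hconj : ∀ (J : Finset P.S), ∀ g ∈ par (J : Set P.S), (∃ k : ℕ, orderOf g = p ^ k) →
      ∃ x ∈ par (J : Set P.S), x * g * x⁻¹ ∈ U)
    (hRU : ∀ J, R J ≤ U)
    (hRn : ∀ (J : Finset P.S), ∀ x ∈ par (J : Set P.S), ∀ r ∈ R J, x * r * x⁻¹ ∈ R J)
    (hcard : ∀ (J : Finset P.S) (t : W P), IsTopIn (J : Set P.S) t →
      Nat.card (R J) * cf P 1 t = Nat.card U)
    (hval : ∀ (J : Finset P.S) (t : W P), IsTopIn (J : Set P.S) t → ∀ u ∈ U,
      (u ∈ R J → cf P u t = cf P 1 t) ∧ (u ∉ R J → cf P u t = 0))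
    (J : Finset P.S) : ∀ t : W P, IsTopIn (J : Set P.S) t →
      Nat.card (pel p (J : Set P.S)) = Nat.card U * cf P 1 t := by
  classical
  haveI := Fintype.ofFinite G
  haveI := Fintype.ofFinite (W P)
  induction J using Finset.strongInduction with
  | _ J ih =>
  intro t ht
  choose tt htt using fun K : Finset P.S => exists_topIn (P := P) (K : Set P.S)
  haveI : Finite (pel p (J : Set P.S)) := by unfold pel; infer_instance
  haveI := Fintype.ofFinite (pel p (J : Set P.S))
  -- the value of the alternating sum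
  have hB : ∀ u ∈ U, ∀ r, r = (if u ∈ R J then (cf P 1 t : ℤ) else 0) →
      ∑ K ∈ J.powerset, (-1 : ℤ) ^ K.card * (fixIn (J : Set P.S) K u : ℤ) = r := by
    intro u hu r hr
    rw [alt_fixIn J ht (hUB hu), hr]
    by_cases h : u ∈ R J
    · rw [if_pos h, (hval J t ht u hu).1 h]
    · rw [if_neg h, (hval J t ht u hu).2 h, Nat.cast_zero]
  have hG : ∀ g : pel p (J : Set P.S),
      ∑ K ∈ J.powerset, (-1 : ℤ) ^ K.card * (fixIn (J : Set P.S) K g.1 : ℤ) =
        if g.1 ∈ R J then (cf P 1 t : ℤ) else 0 := by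
    rintro ⟨g, hg, hgp⟩
    obtain ⟨x, hx, hxU⟩ := hconj J g hg hgp
    have h := hB _ hxU _ rfl
    simp only [fixIn_conj hx] at h
    rw [h]
    refine if_congr ⟨fun h1 => ?_, fun h1 => hRn J x hx g h1⟩ rfl rfl
    have := hRn J x⁻¹ (inv_mem hx) _ h1
    simpa [mul_assoc] using this
  have hR : (Finset.univ.filter fun g : pel p (J : Set P.S) => g.1 ∈ R J).card = Nat.card (R J) := by
    rw [← Fintype.card_subtype, ← Nat.card_eq_fintype_card]
    refine Nat.card_congr
      { toFun := fun g => ⟨g.1.1, g.2⟩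
        invFun := fun r => ⟨⟨r.1, B_le_parabolic _ (hUB (hRU J r.2)), ?_⟩, r.2⟩
        left_inv := fun _ => rfl
        right_inv := fun _ => rfl }
    obtain ⟨k, hk⟩ := (IsPGroup.iff_orderOf).1 hUp ⟨r.1, hRU J r.2⟩
    exact ⟨k, by rwa [Subgroup.orderOf_mk] at hk⟩
  have hrhs : ∑ g : pel p (J : Set P.S), ∑ K ∈ J.powerset,
      (-1 : ℤ) ^ K.card * (fixIn (J : Set P.S) K g.1 : ℤ) = (Nat.card U : ℤ) := by
    rw [Finset.sum_congr rfl fun g _ => hG g, ← Finset.sum_filter, Finset.sum_const, hR,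
      nsmul_eq_mul, ← hcard J t ht]
    push_cast
    rfl
  rw [Finset.sum_comm] at hrhs
  have hlhs : ∀ K ∈ J.powerset, ∑ g : pel p (J : Set P.S),
      (-1 : ℤ) ^ K.card * (fixIn (J : Set P.S) K g.1 : ℤ) =
      (-1 : ℤ) ^ K.card * ((fixIn (J : Set P.S) K 1 * Nat.card (pel p (K : Set P.S)) : ℕ) : ℤ) := by
    intro K hK
    rw [← Finset.mul_sum, ← sum_fixIn p _ _ (Finset.coe_subset.2 (Finset.mem_powerset.1 hK)),
      Nat.cast_sum]
  rw [Finset.sum_congr rfl hlhs] at hrhs
  have halt := alt_top J tt fun K _ => htt K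
  have hdual : ∑ K ∈ J.powerset, (-1 : ℤ) ^ K.card *
      ((fixIn (J : Set P.S) K 1 * (Nat.card U * cf P 1 (tt K)) : ℕ) : ℤ) = (Nat.card U : ℤ) := by
    calc _ = (Nat.card U : ℤ) * ∑ K ∈ J.powerset, (-1 : ℤ) ^ K.card *
          ((fixIn (J : Set P.S) K 1 * cf P 1 (tt K) : ℕ) : ℤ) := by
            rw [Finset.mul_sum]
            exact Finset.sum_congr rfl fun K _ => by push_cast; ring
      _ = _ := by rw [halt, mul_one]
  rw [← Finset.insert_erase (Finset.mem_powerset_self J),
    Finset.sum_insert (Finset.notMem_erase _ _)] at hrhs hdual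
  have hrest : ∀ K ∈ J.powerset.erase J,
      Nat.card (pel p (K : Set P.S)) = Nat.card U * cf P 1 (tt K) := by
    intro K hK
    obtain ⟨hne, hK⟩ := Finset.mem_erase.1 hK
    exact ih K (lt_of_le_of_ne (Finset.mem_powerset.1 hK) hne) (tt K) (htt K)
  rw [Finset.sum_congr rfl fun K hK => by rw [hrest K hK]] at hrhs
  have hJJ : fixIn (J : Set P.S) J (1 : G) = 1 := by
    rw [fixIn, Nat.card_eq_one_iff_unique]
    constructor
    · constructor
      rintro ⟨z, -, x, hx, rfl⟩ ⟨z', -, x', hx', rfl⟩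
      exact Subtype.ext (QuotientGroup.eq.2 (mul_mem (inv_mem hx) hx'))
    · exact ⟨⟨((1 : G) : G ⧸ par (J : Set P.S)), one_smul _ _, 1, one_mem _, rfl⟩⟩
  have h := hrhs.trans hdual.symm
  rw [add_left_inj, hJJ, one_mul, one_mul] at h
  have h2 := mul_left_cancel₀ (pow_ne_zero _ (by norm_num : (-1 : ℤ) ≠ 0)) h
  rw [topIn_unique ht (htt J)]
  exact_mod_cast h2

end Cfsg.Agent.SimpleFacts.BNUnipotentCount
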