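import Cfsg.Agent.Lib.Chevalley.NormalForm

/-!
The centraliser of a central root element of `U` belonging to a dominant root.
-/

set_option autoImplicit false

namespace Cfsg.Agent.SimpleFacts.ChevalleyCentral

open Cfsg.Lie Cfsg.Agent.Chevalley.Table Cfsg.Agent.Chevalley.Cert Cfsg.Agent.Chevalley.Group
  Cfsg.Agent.Chevalley.Unip Cfsg.Agent.Chevalley.Borel Cfsg.Agent.Chevalley.Weyl
  Cfsg.Agent.Chevalley.Weight

/-- `h` is dominant, the largest of its images under the Weyl group, and pairs to one with a single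
fundamental coroot. -/
structure Extremal (D : ChevalleyDatum) (F : Type*) [Field F] (T : Tab) (h : ℕ) : Prop where
  lt : h < D.nroots
  pos : 0 < T.phi h
  dom : ∀ i < D.rank, 0 ≤ D.cartan i h
  max : ∀ L : List ℕ, (∀ i ∈ L, i < D.rank) → T.phi (wL D L h) ≤ T.phi h
  one : ∀ (c : ℕ → Fˣ), torChar D c h = 1 → ∀ i < D.rank, D.cartan i h ≠ 0 → c i = 1

/-- The generators of the centraliser. -/
def cgen (D : ChevalleyDatum) (F : Type*) [Field F] (h : ℕ) : Subgroup (GL D.Idx F) :=
  D.posUnipotent F ⊔ Subgroup.closure {g : GL D.Idx F | ∃ j < D.rank, D.cartan j h = 0 ∧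
    ∃ t : F, (g : Matrix D.Idx D.Idx F) = D.x F (D.neg (D.simple j)) t}

variable {D : ChevalleyDatum} {T : Tab} {F : Type*} [Field F] (hC : Certified D T)
include hC

variable {h : ℕ} (hh : Extremal D F T h)
  (hcent : ∀ r < D.nroots, 0 < T.phi r → ∀ t u : F, Commute (xg hC r t) (xg hC h u))

theorem reflect_eq_self {j : ℕ} (hj : j < D.rank) (hlt : h < D.nroots) (h0 : D.cartan j h = 0) :
    D.reflectRoot j h = h := by
  refine hC.phi_inj (hC.reflect_lt hj hlt) hlt ?_
  rw [hC.phi_reflect hj hlt, h0]; ring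

theorem ng_mem_cgen {j : ℕ} (hj : j < D.rank) (h0 : D.cartan j h = 0) (t : F) :
    ng hC (D.simple j) t ∈ cgen D F h :=
  mul_mem (mul_mem (Subgroup.mem_sup_left (xg_mem_U hC (hC.simple_lt hj) (hC.phi_simple hj) t))
    (Subgroup.mem_sup_right (Subgroup.subset_closure ⟨j, hj, h0, _, coe_xg hC _ _⟩)))
    (Subgroup.mem_sup_left (xg_mem_U hC (hC.simple_lt hj) (hC.phi_simple hj) t))

include hh hcent in
theorem cgen_le_centralizer :
    cgen D F h ≤ Subgroup.centralizer ({xg hC h 1} : Set (GL D.Idx F)) := by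
  refine sup_le ?_ ((Subgroup.closure_le _).2 ?_)
  · rw [U_eq_closure hC, Subgroup.closure_le]
    rintro g ⟨r, t, hr, hp, rfl⟩
    rw [SetLike.mem_coe, Subgroup.mem_centralizer_singleton_iff]
    exact (hcent r hr hp t 1).eq
  · rintro g ⟨j, hj, h0, t, hg⟩
    rw [eq_xg hC hg, SetLike.mem_coe, Subgroup.mem_centralizer_singleton_iff]
    obtain ⟨η, hη, he⟩ := eta_field (F := F) (i := j) (r := D.simple j) hC
    obtain ⟨ε, hε, he'⟩ := eta_field (F := F) (i := j) (r := h) hC
    have e1 := ng_conj_x hC hj (hC.simple_lt hj) (η⁻¹ * t)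
    rw [hC.reflect_simple hj, ← he, mul_inv_cancel_left₀ hη] at e1
    have e2 := ng_conj_x hC hj hh.lt (ε⁻¹ * 1)
    rw [reflect_eq_self hC hj hh.lt h0, ← he', mul_inv_cancel_left₀ hε] at e2
    rw [← e1, ← e2]
    exact ((hcent _ (hC.simple_lt hj) (hC.phi_simple hj) (η⁻¹ * t) (ε⁻¹ * 1)).conj
      (ng hC (D.simple j) 1)).eq

include hh in
theorem nL_mem {L : List ℕ} (hL : ∀ i ∈ L, i < D.rank) (hfix : wL D L h = h) :
    ∃ c : ℕ → Fˣ, ∃ k ∈ cgen D F h, nL hC F L = tor D c * k := by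
  obtain ⟨m, hm⟩ : ∃ m, L.length = m := ⟨_, rfl⟩
  induction m using Nat.strong_induction_on generalizing L with
  | _ m ih =>
    by_cases hpos : ∀ i < D.rank, 0 < T.phi (wL D L (D.simple i))
    · obtain ⟨c, hc⟩ := exists_tor_of_pos (F := F) hC hL hpos
      exact ⟨c, 1, one_mem _, by rw [hc, mul_one]⟩
    simp only [not_forall, not_lt] at hpos
    obtain ⟨j, hj, hle⟩ := hpos
    have hneg : T.phi (wL D L (D.simple j)) < 0 := by
      have := hC.phi_ne_zero (wL_lt hC hL (hC.simple_lt hj))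
      omega
    have hL1 : ∀ i ∈ L ++ [j], i < D.rank := fun i hi => (List.mem_append.1 hi).elim (hL i)
      fun hi => (List.mem_singleton.1 hi) ▸ hj
    have h0 : D.cartan j h = 0 := by
      refine le_antisymm (not_lt.1 fun hp => ?_) (hh.dom j hj)
      have h1 := hh.max (L ++ [j]) hL1
      rw [wL_append, show wL D [j] h = D.reflectRoot j h from rfl] at h1
      have h2 := phi_wL_additive hC hL j hj h hh.lt
      dsimp only at h2
      rw [hfix] at h2
      have := mul_neg_of_pos_of_neg hp hneg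
      omega
    obtain ⟨k, hk, c, e⟩ := exists_delete (F := F) hC hL hj hneg
    have hL' : ∀ i ∈ L.eraseIdx k, i < D.rank := fun i hi => hL i (List.eraseIdx_subset hi)
    have hfix' : wL D (L.eraseIdx k) h = h := by
      have := wL_congr (F := F) hC (c := 1) (c' := c) hL1 hL'
        (by rw [tor_one, one_mul, nL_append, nL_singleton, e]) hh.lt
      rw [← this, wL_append, show wL D [j] h = D.reflectRoot j h from rfl,
        reflect_eq_self hC hj hh.lt h0, hfix]
    obtain ⟨d, k', hk', e'⟩ := ih _ (by rw [← hm, List.length_eraseIdx_of_lt hk]; omega) hL' hfix' rfl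
    refine ⟨c * d, k' * (ng hC (D.simple j) 1)⁻¹,
      mul_mem hk' (inv_mem (ng_mem_cgen hC hj h0 1)), ?_⟩
    rw [← tor_mul]
    calc nL hC F L = nL hC F L * ng hC (D.simple j) 1 * (ng hC (D.simple j) (1 : F))⁻¹ := by group
      _ = _ := by rw [e, e']; group

include hh hcent in
/-- The centraliser. -/
theorem centralizer_eq :
    D.group F ⊓ Subgroup.centralizer ({xg hC h 1} : Set (GL D.Idx F)) = cgen D F h := by
  refine le_antisymm ?_ (le_inf ?_ (cgen_le_centralizer hC hh hcent))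
  swap
  · refine sup_le ((le_sup_left).trans (U_sup_V hC).le) ((Subgroup.closure_le _).2 ?_)
    rintro g ⟨j, hj, -, t, hg⟩
    rw [eq_xg hC hg]
    exact xg_mem_group hC (hC.neg_lt (hC.simple_lt hj)) t
  rintro g ⟨hg, hgc⟩
  obtain ⟨b, hb, n, hn, u, hu, rfl⟩ := Cfsg.Agent.Chevalley.NormalForm.exists_form hC hg
  obtain ⟨v, hv, t₀, ht₀, rfl⟩ := (mem_B_iff hC).1 hb
  obtain ⟨t, rfl⟩ := (mem_H_iff hC).1 ht₀
  obtain ⟨c, L, hL, rfl⟩ := (mem_N_iff hC).1 hn
  have hu' : u ∈ cgen D F h :=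
    Subgroup.mem_sup_left (Cfsg.Agent.Chevalley.NormalForm.Uminus_le_U hC _ hu)
  have hv' : v ∈ cgen D F h := Subgroup.mem_sup_left hv
  have hm : tor D t * (tor D c * nL hC F L) ∈
      Subgroup.centralizer ({xg hC h 1} : Set (GL D.Idx F)) := by
    have := mul_mem (mul_mem (inv_mem (cgen_le_centralizer hC hh hcent hv')) hgc)
      (inv_mem (cgen_le_centralizer hC hh hcent hu'))
    simpa [mul_assoc] using this
  rw [← mul_assoc, tor_mul] at hm
  -- the word fixes `h`
  obtain ⟨η, hη, e⟩ := nL_conj_x (F := F) hC hL hh.lt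
  have hfix : wL D L h = h := by
    have h1 : tor D (t * c) * nL hC F L * xg hC h 1 * (tor D (t * c) * nL hC F L)⁻¹ = xg hC h 1 := by
      rw [(Subgroup.mem_centralizer_singleton_iff.1 hm)]; group
    rw [show tor D (t * c) * nL hC F L * xg hC h 1 * (tor D (t * c) * nL hC F L)⁻¹ =
        tor D (t * c) * (nL hC F L * xg hC h 1 * (nL hC F L)⁻¹) * (tor D (t * c))⁻¹ by group, e,
      tor_conj_x hC _ _ _ (wL_lt hC hL hh.lt)] at h1
    exact xg_eq_xg hC (wL_lt hC hL hh.lt) hh.lt
      (mul_ne_zero (Units.ne_zero _) (mul_ne_zero hη one_ne_zero)) h1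
  obtain ⟨d, k, hk, ek⟩ := nL_mem hC hh hL hfix
  -- the torus part fixes `h`
  have hτ : tor D (t * c * d) ∈ Subgroup.centralizer ({xg hC h 1} : Set (GL D.Idx F)) := by
    have := mul_mem hm (inv_mem (cgen_le_centralizer hC hh hcent hk))
    rwa [ek, ← mul_assoc, tor_mul, mul_inv_cancel_right] at this
  have hχ : torChar D (t * c * d) h = 1 := by
    have h1 := tor_conj_x hC (t * c * d) h (1 : F) hh.lt
    rw [Subgroup.mem_centralizer_singleton_iff.1 hτ, mul_inv_cancel_right, mul_one] at h1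
    exact Units.ext (by rw [Units.val_one]; exact (xg_injective hC hh.lt h1).symm)
  have hτK : tor D (t * c * d) ∈ cgen D F h := by
    rw [tor_eq_prod hC]
    refine list_prod_mem fun x hx => ?_
    obtain ⟨i, hi, rfl⟩ := List.mem_map.1 hx
    have hi' := List.mem_range.1 hi
    by_cases h0 : D.cartan i h = 0
    · exact mul_mem (ng_mem_cgen hC hi' h0 _) (ng_mem_cgen hC hi' h0 _)
    · rw [hh.one _ hχ i hi' h0, hg_eq_tor hC (hC.simple_lt hi')]
      convert one_mem (cgen D F h)
      rw [← tor_one (D := D) (F := F)]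
      congr 1
      funext j
      exact one_zpow _
  have e2 : v * tor D t * (tor D c * nL hC F L) * u = v * tor D (t * c * d) * k * u := by
    rw [ek, ← tor_mul, ← tor_mul]
    group
  rw [e2]
  exact mul_mem (mul_mem (mul_mem hv' hτK) hk) hu'

end Cfsg.Agent.SimpleFacts.ChevalleyCentral
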