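import Cfsg.Prelude.Def_ChevAutomorphisms
import Cfsg.Agent.Lib.Chevalley.Group
import Cfsg.Agent.Lib.Chevalley.Diag
import Cfsg.Agent.Lib.Chevalley.Types.All

/-!
A character of the root lattice, recorded on the roots, is multiplicative along every chain. The one fact about
the tables that is needed is the consistency of chains in fundamental directions, checked type by type.
-/

set_option autoImplicit false

namespace Cfsg.Agent.SimpleFacts.ChevalleyChar

open Cfsg.Lie Cfsg.Agent.Chevalley.Eval Cfsg.Agent.Chevalley.Table Cfsg.Agent.Chevalley.Check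
  Cfsg.Agent.Chevalley.Cert Cfsg.Agent.Chevalley.Relations Cfsg.Agent.Chevalley.Root
  Cfsg.Agent.Chevalley.Diag

/-- At `(r, s)`: the successor of `m r + s` in direction `r` is `(m + 1) r + s`. -/
noncomputable def consPair (T : Tab) (r s : ℕ) : Bool :=
  allR 2 fun m => (chRoot T.E r s (Nat.add m 2)).elim true fun b =>
    (chRoot T.E r s (Nat.add m 1)).elim true fun a => (chRoot T.E r a 1).elim false (Nat.beq b)

/-- The same at all fundamental directions. -/
noncomputable def consChk (T : Tab) : Bool :=
  allR T.l fun i => allR T.n fun s => consPair T (T.simple i) s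

theorem exists_certified_cons {D : ChevalleyDatum}
    (hD : D ∈ [chevG2, chevB2, chevD4, chevF4, chevE6, chevE7, chevE8]) :
    ∃ T : Tab, Certified D T ∧ consChk T = true := by
  simp only [List.mem_cons, List.not_mem_nil, or_false] at hD
  rcases hD with rfl | rfl | rfl | rfl | rfl | rfl | rfl
  · exact ⟨_, Cfsg.Agent.Chevalley.Types.G2.certified, by decide +kernel⟩
  · exact ⟨_, Cfsg.Agent.Chevalley.Types.B2.certified, by decide +kernel⟩
  · exact ⟨_, Cfsg.Agent.Chevalley.Types.D4.certified, by decide +kernel⟩
  · exact ⟨_, Cfsg.Agent.Chevalley.Types.F4.certified, by decide +kernel⟩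
  · exact ⟨_, Cfsg.Agent.Chevalley.Types.E6.certified, by decide +kernel⟩
  · exact ⟨_, Cfsg.Agent.Chevalley.Types.E7.certified, by decide +kernel⟩
  · exact ⟨_, Cfsg.Agent.Chevalley.Types.E8.certified, by decide +kernel⟩

variable {D : ChevalleyDatum} {T : Tab} (hC : Certified D T) (hc : consChk T = true)
include hC hc

theorem chain_consistent : ∀ r < D.nroots, ∀ s < D.nroots, ∀ m a b : ℕ, 1 ≤ m →
    D.chainRoot r s m = some a → D.chainRoot r s (m + 1) = some b → D.chainRoot r a 1 = some b := by
  refine simple_induction hC (fun i hi s hs m a b hm ha hb => ?_)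
    (fun r hr i hi ih s hs m a b hm ha hb => ?_)
  · have hr := hC.simple_lt hi
    have hm2 : m ≤ 2 := by
      obtain ⟨q, hq, -⟩ := Option.map_eq_some_iff.1 hb
      have hne : D.chainEntry (D.simple i) s ≠ [] := by intro h; rw [h] at hq; simp at hq
      obtain ⟨hlt, -⟩ := List.getElem?_eq_some_iff.1 hq
      have := (hC.chain_spec hr hne).2.2.2.1
      omega
    have h0 := of_allR (of_allR hc i (by rw [hC.l_eq]; exact hi)) s (by rw [hC.n_eq]; exact hs)
    have h1 := of_allR h0 (m - 1) (by omega)
    have e : ∀ x j, x < D.nroots → chRoot T.E (D.simple i) x j = D.chainRoot (D.simple i) x j :=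
      fun x j hx => by rw [chRoot, ChevalleyDatum.chainRoot, hC.linked.E_eq _ hr x hx]
    rw [hC.simple_eq hi, Nat.add_eq, Nat.add_eq, show m - 1 + 2 = m + 1 by omega,
      show m - 1 + 1 = m by omega, e s (m + 1) hs, e s m hs, hb, ha] at h1
    simp only [Option.elim_some] at h1
    rw [e a 1 (chainRoot_lt hC hr ha)] at h1
    cases h2 : D.chainRoot (D.simple i) a 1 with
    | none => rw [h2] at h1; exact Bool.noConfusion h1
    | some c => rw [h2] at h1; exact congrArg some (Nat.eq_of_beq_eq_true h1).symm
  · have hs' := hC.reflect_lt hi hs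
    have t := fun j (hj : 1 ≤ j) => (chain_transport hC hj hi hr hs').1
    simp only [hC.reflect_reflect hi hs] at t
    rw [t m hm] at ha
    rw [t (m + 1) (by omega)] at hb
    obtain ⟨a', ha', rfl⟩ := Option.map_eq_some_iff.1 ha
    obtain ⟨b', hb', rfl⟩ := Option.map_eq_some_iff.1 hb
    rw [(chain_transport hC le_rfl hi hr (chainRoot_lt hC hr ha')).1, ih _ hs' m a' b' hm ha' hb']
    rfl

theorem isMulChar {F : Type*} [Field F] {χ : ℕ → Fˣ} (hχ : D.IsRootCharacter χ) :
    IsMulChar D F (fun s => (χ s : F)) := by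
  refine ⟨fun r hr => ?_, fun r hr s k q hq => ?_⟩ <;> dsimp only
  · rw [hχ.1 r hr, ← Units.val_mul, inv_mul_cancel, Units.val_one]
  · have hne : D.chainEntry r s ≠ [] := by intro h; rw [h] at hq; simp at hq
    have hs := (hC.chain_spec hr hne).1
    induction k generalizing q with
    | zero =>
      rw [hχ.2 r s q.1 hr hs (by rw [ChevalleyDatum.chainRoot, Nat.sub_self, hq]; rfl),
        Units.val_mul, zero_add, pow_one]
    | succ k ih =>
      obtain ⟨hk, -⟩ := List.getElem?_eq_some_iff.1 hq
      have hp : (D.chainEntry r s)[k]? = some ((D.chainEntry r s)[k]'(by omega)) :=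
        List.getElem?_eq_getElem (by omega)
      set p := (D.chainEntry r s)[k]'(by omega) with hpdef
      have hp1 := chain_consistent hC hc r hr s hs (k + 1) p.1 q.1 (by omega)
        (by rw [ChevalleyDatum.chainRoot, Nat.add_sub_cancel, hp]; rfl)
        (by rw [ChevalleyDatum.chainRoot, Nat.add_sub_cancel, hq]; rfl)
      rw [hχ.2 r p.1 q.1 hr (hC.chain_step hr hp).1 hp1, Units.val_mul, ih p hp]
      ring

end Cfsg.Agent.SimpleFacts.ChevalleyChar
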