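import Cfsg.Agent.Lib.Characters.Basic
import Cfsg.Agent.Lib.Characters.Inner
import Cfsg.Agent.Lib.Characters.Induction
import Cfsg.Prelude.Def_ParabolicCharacters
import Cfsg.Agent.S0190

/-!
Averaging operators of linear characters of subgroups of a matrix group in a representation.
-/

set_option autoImplicit false

namespace Cfsg.Agent.SimpleFacts.SubgroupAverage

variable {Γ : Type*} [Group Γ] {G : Subgroup Γ} {V : Type*} [AddCommGroup V] [Module ℂ V]

open Classical in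
/-- The action of an element of the ambient group, zero outside the acting subgroup. -/
noncomputable def act (ρ : Representation ℂ ↥G V) (g : Γ) : Module.End ℂ V :=
  if h : g ∈ G then ρ ⟨g, h⟩ else 0

/-- The averaging operator of the function `f` over `S`. -/
noncomputable def avg (ρ : Representation ℂ ↥G V) (S : Subgroup Γ) [Fintype ↥S] (f : Γ → ℂ) :
    Module.End ℂ V :=
  (Nat.card ↥S : ℂ)⁻¹ • ∑ u : ↥S, f ((u : Γ)⁻¹) • act ρ u

variable (ρ : Representation ℂ ↥G V)

theorem act_eq {g : Γ} (h : g ∈ G) : act ρ g = ρ ⟨g, h⟩ := dif_pos h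

theorem act_one : act ρ (1 : Γ) = 1 := by
  rw [act_eq ρ (one_mem _)]; exact map_one ρ

theorem act_mul {g g' : Γ} (h : g ∈ G) (h' : g' ∈ G) : act ρ (g * g') = act ρ g * act ρ g' := by
  rw [act_eq ρ h, act_eq ρ h', act_eq ρ (mul_mem h h'), ← map_mul]; rfl

theorem act_mul_apply {g g' : Γ} (h : g ∈ G) (h' : g' ∈ G) (v : V) :
    act ρ (g * g') v = act ρ g (act ρ g' v) := by
  rw [act_mul ρ h h']; rfl

theorem act_inv_apply {g : Γ} (h : g ∈ G) (v : V) : act ρ g⁻¹ (act ρ g v) = v := by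
  rw [← act_mul_apply ρ (inv_mem h) h, inv_mul_cancel, act_one]; rfl

theorem act_apply_inv {g : Γ} (h : g ∈ G) (v : V) : act ρ g (act ρ g⁻¹ v) = v := by
  rw [← act_mul_apply ρ h (inv_mem h), mul_inv_cancel, act_one]; rfl

theorem act_ne_zero {g : Γ} (h : g ∈ G) {v : V} (hv : v ≠ 0) : act ρ g v ≠ 0 := fun e => hv <| by
  rw [← act_inv_apply ρ h v, e, map_zero]

variable {S : Subgroup Γ} [Fintype ↥S] (hS : S ≤ G) {f : Γ → ℂ} (h1 : f 1 = 1)
  (hm : ∀ a ∈ S, ∀ b ∈ S, f (a * b) = f a * f b)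

include h1 hm in
theorem f_inv {a : Γ} (ha : a ∈ S) : f a * f a⁻¹ = 1 := by
  rw [← hm a ha a⁻¹ (inv_mem ha), mul_inv_cancel, h1]

include hS hm in
theorem avg_mul_act {w : Γ} (hw : w ∈ S) (hinv : f w * f w⁻¹ = 1) :
    avg ρ S f * act ρ w = f w • avg ρ S f := by
  rw [avg, smul_mul_assoc, smul_comm (f w), Finset.sum_mul, Finset.smul_sum (r := f w)]
  congr 1
  refine Fintype.sum_equiv (Equiv.mulRight (⟨w, hw⟩ : ↥S)) _ _ fun u => ?_
  simp only [Equiv.coe_mulRight, Subgroup.coe_mul, smul_mul_assoc]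
  rw [← act_mul ρ (hS u.2) (hS hw), smul_smul, mul_inv_rev,
    hm _ (inv_mem hw) _ (inv_mem u.2), ← mul_assoc, hinv, one_mul]

include hS hm in
theorem act_mul_avg {w : Γ} (hw : w ∈ S) (hinv : f w * f w⁻¹ = 1) :
    act ρ w * avg ρ S f = f w • avg ρ S f := by
  rw [avg, mul_smul_comm, smul_comm (f w), Finset.mul_sum, Finset.smul_sum (r := f w)]
  congr 1
  refine Fintype.sum_equiv (Equiv.mulLeft (⟨w, hw⟩ : ↥S)) _ _ fun u => ?_
  simp only [Equiv.coe_mulLeft, Subgroup.coe_mul, mul_smul_comm]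
  rw [← act_mul ρ (hS hw) (hS u.2), smul_smul, mul_inv_rev,
    hm _ (inv_mem u.2) _ (inv_mem hw), mul_left_comm, hinv, mul_one]

include hS h1 hm in
theorem avg_apply_act {w : Γ} (hw : w ∈ S) (v : V) :
    avg ρ S f (act ρ w v) = f w • avg ρ S f v :=
  LinearMap.congr_fun (avg_mul_act ρ hS hm hw (f_inv h1 hm hw)) v

include hS h1 hm in
theorem act_avg_apply {w : Γ} (hw : w ∈ S) (v : V) :
    act ρ w (avg ρ S f v) = f w • avg ρ S f v :=
  LinearMap.congr_fun (act_mul_avg ρ hS hm hw (f_inv h1 hm hw)) v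

include h1 hm in
theorem avg_eq_self {v : V} (hv : ∀ w ∈ S, act ρ w v = f w • v) : avg ρ S f v = v := by
  rw [avg, LinearMap.smul_apply, LinearMap.sum_apply]
  have : ∀ u : ↥S, (f ((u : Γ)⁻¹) • act ρ u) v = v := fun u => by
    rw [LinearMap.smul_apply, hv u u.2, smul_smul, mul_comm, f_inv h1 hm u.2, one_smul]
  rw [Finset.sum_congr rfl fun u _ => this u, Finset.sum_const, Finset.card_univ,
    ← Nat.card_eq_fintype_card, ← Nat.cast_smul_eq_nsmul ℂ, smul_smul,
    inv_mul_cancel₀ (Nat.cast_ne_zero.2 Nat.card_pos.ne'), one_smul]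

include hS h1 hm in
theorem avg_isProj : LinearMap.IsProj (LinearMap.range (avg ρ S f)) (avg ρ S f) := by
  refine ⟨fun x => LinearMap.mem_range_self _ x, ?_⟩
  rintro _ ⟨y, rfl⟩
  exact avg_eq_self ρ h1 hm fun w hw => act_avg_apply ρ hS h1 hm hw y

include hS h1 hm in
theorem avg_idem (v : V) : avg ρ S f (avg ρ S f v) = avg ρ S f v :=
  (avg_isProj ρ hS h1 hm).2 _ (LinearMap.mem_range_self _ v)

variable [FiniteDimensional ℂ V]

include hS h1 hm in
theorem finrank_avg : (Module.finrank ℂ (LinearMap.range (avg ρ S f)) : ℂ) =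
    (Nat.card ↥S : ℂ)⁻¹ * ∑ u : ↥S, f ((u : Γ)⁻¹) * LinearMap.trace ℂ V (act ρ u) := by
  rw [← (avg_isProj ρ hS h1 hm).trace, avg, map_smul, map_sum, smul_eq_mul]
  simp only [map_smul, smul_eq_mul]

include hS h1 hm in
theorem finrank_avg_of_vanish
    (hv : ∀ g ∈ S, g ≠ 1 → LinearMap.trace ℂ V (act ρ g) = 0) :
    Module.finrank ℂ (LinearMap.range (avg ρ S f)) * Nat.card ↥S = Module.finrank ℂ V := by
  classical
  have h := finrank_avg ρ hS h1 hm
  rw [Finset.sum_eq_single (1 : ↥S)] at h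
  · rw [OneMemClass.coe_one, inv_one, h1, one_mul, act_one, LinearMap.trace_one] at h
    rw [← Nat.cast_inj (R := ℂ), Nat.cast_mul, h, mul_comm _ (Module.finrank ℂ V : ℂ), mul_assoc,
      inv_mul_cancel₀ (Nat.cast_ne_zero.2 Nat.card_pos.ne'), mul_one]
  · intro u _ hu
    rw [hv u u.2 (fun e => hu (Subtype.ext e)), mul_zero]
  · intro hh; exact absurd (Finset.mem_univ _) hh

include hS in
/-- The inner product with a permutation character is the dimension of the fixed space. -/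
theorem classInner_perm [Fintype ↥G] :
    Cfsg.classInner ρ.character (Cfsg.fixedPointCharacter (S.subgroupOf G)) =
      (Module.finrank ℂ (LinearMap.range (avg ρ S fun _ => (1 : ℂ))) : ℂ) := by
  classical
  haveI : Fintype ↥(S.subgroupOf G) := Fintype.ofFinite _
  have hperm : Cfsg.fixedPointCharacter (S.subgroupOf G) =
      Cfsg.indFun (S.subgroupOf G) (fun _ => 1) := by
    have h := Cfsg.Agent.S0190.result (G := ↥G) (↥G ⧸ S.subgroupOf G) ((1 : ↥G) : ↥G ⧸ S.subgroupOf G)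
    rw [MulAction.stabilizer_quotient] at h
    exact h
  rw [hperm, Cfsg.Agent.Characters.frobenius_reciprocity' _ _
    (Cfsg.Agent.Characters.rep_isClassFunction ρ), finrank_avg ρ hS rfl (fun _ _ _ _ => (one_mul 1).symm),
    Cfsg.classInner, Nat.card_congr (Subgroup.subgroupOfEquivOfLe hS).toEquiv]
  congr 1
  refine Fintype.sum_equiv (Subgroup.subgroupOfEquivOfLe hS).toEquiv _ _ fun x => ?_
  simp only [map_one, mul_one, one_mul]
  show LinearMap.trace ℂ V (ρ x.1) = LinearMap.trace ℂ V (act ρ (x.1 : Γ))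
  rw [act_eq ρ x.1.2]

/-- A commuting family has a common eigenvector in a stable subspace. -/
theorem exists_common_eigenvector (A : Set (Module.End ℂ V)) (hA : A.Finite)
    (hcomm : ∀ a ∈ A, ∀ b ∈ A, a * b = b * a) {W : Submodule ℂ V} (hW : W ≠ ⊥)
    (hst : ∀ a ∈ A, ∀ w ∈ W, a w ∈ W) :
    ∃ v ∈ W, v ≠ 0 ∧ ∀ a ∈ A, ∃ c : ℂ, a v = c • v := by
  classical
  suffices key : ∀ s : Finset (Module.End ℂ V), (∀ a ∈ s, a ∈ A) → ∃ W' : Submodule ℂ V,
      W' ≤ W ∧ W' ≠ ⊥ ∧ (∀ a ∈ A, ∀ w ∈ W', a w ∈ W') ∧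
      ∀ a ∈ s, ∃ c : ℂ, ∀ w ∈ W', a w = c • w by
    obtain ⟨W', hle, hne, -, h⟩ := key hA.toFinset fun a ha => hA.mem_toFinset.1 ha
    obtain ⟨v, hv, hv0⟩ := W'.ne_bot_iff.1 hne
    refine ⟨v, hle hv, hv0, fun a ha => ?_⟩
    obtain ⟨c, hc⟩ := h a (hA.mem_toFinset.2 ha)
    exact ⟨c, hc v hv⟩
  intro s
  induction s using Finset.induction_on with
  | empty => exact fun _ => ⟨W, le_rfl, hW, hst, by simp⟩
  | insert b s _ ih =>
    intro hs
    obtain ⟨W', hle, hne, hst', hsc⟩ := ih fun a ha => hs a (Finset.mem_insert_of_mem ha)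
    have hb := hs b (Finset.mem_insert_self b s)
    haveI : Nontrivial W' := Submodule.nontrivial_iff_ne_bot.2 hne
    obtain ⟨c, hc⟩ := Module.End.exists_eigenvalue (b.restrict (hst' b hb))
    obtain ⟨w, hw⟩ := hc.exists_hasEigenvector
    refine ⟨W' ⊓ Module.End.eigenspace b c, inf_le_left.trans hle, ?_, ?_, ?_⟩
    · refine (Submodule.ne_bot_iff _).2 ⟨(w : V), ⟨w.2, ?_⟩, fun e => hw.2 (Subtype.ext e)⟩
      exact Module.End.mem_eigenspace_iff.2 (congrArg Subtype.val hw.apply_eq_smul)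
    · rintro a ha x ⟨hx, hx'⟩
      refine ⟨hst' a ha x hx, Module.End.mem_eigenspace_iff.2 ?_⟩
      rw [show b (a x) = (b * a) x from rfl, hcomm b hb a ha, Module.End.mul_apply,
        Module.End.mem_eigenspace_iff.1 hx', map_smul]
    · intro a ha
      rcases Finset.mem_insert.1 ha with rfl | ha
      · exact ⟨c, fun x hx => Module.End.mem_eigenspace_iff.1 hx.2⟩
      · obtain ⟨d, hd⟩ := hsc a ha
        exact ⟨d, fun x hx => hd x hx.1⟩

/-- The translates of a non-zero vector span an irreducible representation. -/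
theorem span_orbit [ρ.IsIrreducible] {v : V} (hv : v ≠ 0) :
    Submodule.span ℂ {w : V | ∃ g ∈ G, w = act ρ g v} = ⊤ := by
  refine (((Cfsg.Agent.Characters.isIrreducible_iff ρ).1 inferInstance).2 _ ?_).resolve_left ?_
  · intro g w hw
    induction hw using Submodule.span_induction with
    | mem x hx =>
      obtain ⟨g', hg', rfl⟩ := hx
      refine Submodule.subset_span ⟨(g : Γ) * g', mul_mem g.2 hg', ?_⟩
      rw [act_mul_apply ρ g.2 hg', act_eq ρ g.2]
    | zero => simp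
    | add x y _ _ hx hy => rw [map_add]; exact add_mem hx hy
    | smul c x _ hx => rw [map_smul]; exact Submodule.smul_mem _ c hx
  · refine (Submodule.ne_bot_iff _).2 ⟨v, Submodule.subset_span ⟨1, one_mem _, ?_⟩, hv⟩
    rw [act_one]; rfl

end Cfsg.Agent.SimpleFacts.SubgroupAverage
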