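import Cfsg.Agent.SimpleFacts.ChevalleyWhittaker
import Cfsg.Agent.SimpleFacts.SubgroupAverage
import Cfsg.Agent.Lib.Chevalley.Count

/-!
An irreducible character vanishing on the non-trivial elements of `U` has exactly one line fixed by `B`,
and no non-zero vector fixed by a larger parabolic subgroup.
-/

set_option autoImplicit false
set_option maxHeartbeats 2000000

open scoped Matrix

namespace Cfsg.Agent.SimpleFacts.ChevalleyDefectZero

open Cfsg.Lie Cfsg.Agent.Chevalley.Table Cfsg.Agent.Chevalley.Check Cfsg.Agent.Chevalley.Cert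
  Cfsg.Agent.Chevalley.Eval Cfsg.Agent.Chevalley.Group Cfsg.Agent.Chevalley.Unip
  Cfsg.Agent.Chevalley.Borel Cfsg.Agent.Chevalley.Bruhat Cfsg.Agent.Chevalley.Coef
  Cfsg.Agent.Chevalley.Weyl Cfsg.Agent.Chevalley.NormalForm
  Cfsg.Agent.SimpleFacts.ChevalleyWhittaker Cfsg.Agent.SimpleFacts.SubgroupAverage

variable {D : ChevalleyDatum} {T : Tab} {F : Type*} [Field F] (hC : Certified D T)
include hC

theorem card_U_eq [Fintype F] {i : ℕ} (hi : i < D.rank) :
    Nat.card ↥(D.posUnipotent F) = Nat.card ↥(Uom hC F (D.simple i)) * Fintype.card F := by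
  classical
  rw [← Nat.card_eq_fintype_card, ← Nat.card_prod]
  symm
  refine Nat.card_congr (Equiv.ofBijective (fun p => (⟨p.1.1 * xg hC (D.simple i) p.2,
    mul_mem (Uom_le_U hC _ p.1.2) (xg_mem_U hC (hC.simple_lt hi) (hC.phi_simple hi) _)⟩ :
      ↥(D.posUnipotent F))) ⟨?_, ?_⟩)
  · rintro ⟨⟨a, ha⟩, s⟩ ⟨⟨b, hb⟩, t⟩ h
    have h' : a * xg hC (D.simple i) s = b * xg hC (D.simple i) t := congrArg Subtype.val h
    have e : s = t := by
      refine coord_unique hC hi (g := a * xg hC (D.simple i) s) ?_ ?_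
      · rwa [mul_assoc, ← xg_add hC, add_neg_cancel, xg_zero hC, mul_one]
      · rwa [h', mul_assoc, ← xg_add hC, add_neg_cancel, xg_zero hC, mul_one]
    subst e
    obtain rfl : a = b := mul_right_cancel h'
    rfl
  · rintro ⟨g, hg⟩
    obtain ⟨v, hv, t, rfl⟩ := U_split hC (hC.simple_lt hi) (hC.phi_simple hi) hg
    exact ⟨(⟨v, hv⟩, t), rfl⟩

variable [Fintype F] {V : Type*} [AddCommGroup V] [Module ℂ V] [FiniteDimensional ℂ V]

theorem fixed_line {N : List (List ℤ)} (hN : coefChk T N = true)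
    (ρ : Representation ℂ ↥(D.group F) V) [ρ.IsIrreducible] [Fintype ↥(D.posUnipotent F)]
    (hdvd : Nat.card ↥(D.posUnipotent F) ∣ Module.finrank ℂ V)
    (hvan : ∀ g ∈ D.posUnipotent F, g ≠ 1 → LinearMap.trace ℂ V (act ρ g) = 0) :
    ∃ v : V, v ≠ 0 ∧
      LinearMap.range (avg ρ (D.posUnipotent F) fun _ => (1 : ℂ)) = Submodule.span ℂ {v} ∧
      (∀ b ∈ D.borelSubgroup F, act ρ b v = v) ∧
      ∀ i < D.rank, act ρ (ng hC (D.simple i) (1 : F)) v ≠ v := by
  classical
  have hUG : D.posUnipotent F ≤ D.group F := le_sup_left.trans (B_le_group hC)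
  have hHG : D.diagonalSubgroup F ≤ D.group F := H_le_group hC
  have hBG : D.borelSubgroup F ≤ D.group F := B_le_group hC
  have hnLG : ∀ L : List ℕ, (∀ i ∈ L, i < D.rank) → nL hC F L ∈ D.group F := fun L hL =>
    N_le_group hC (nL_mem_N hC hL)
  have hnG : ∀ i < D.rank, ∀ t : F, ng hC (D.simple i) t ∈ D.group F := fun i hi t =>
    ng_mem_group hC (hC.simple_lt hi) t
  have hone : ∀ a ∈ D.posUnipotent F, ∀ b ∈ D.posUnipotent F,
      (fun _ : GL D.Idx F => (1 : ℂ)) (a * b) = (fun _ => (1 : ℂ)) a * (fun _ => (1 : ℂ)) b :=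
    fun _ _ _ _ => (one_mul 1).symm
  -- a common eigenvector of `B` fixed by `U`
  haveI := Cfsg.Agent.Characters.nontrivial_of_isIrreducible ρ
  have hd : 0 < Module.finrank ℂ V := Module.finrank_pos
  have hW : LinearMap.range (avg ρ (D.posUnipotent F) fun _ => (1 : ℂ)) ≠ ⊥ := by
    intro e
    have := finrank_avg_of_vanish ρ hUG (f := fun _ => (1 : ℂ)) rfl hone hvan
    rw [e, finrank_bot, zero_mul] at this
    omega
  have hHU : ∀ h ∈ D.diagonalSubgroup F, ∀ u ∈ D.posUnipotent F,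
      h * u * h⁻¹ ∈ D.posUnipotent F := fun h hh u hu =>
    (Subgroup.mem_normalizer_iff.1 (H_normalizes_U hC hh) u).1 hu
  have hfix : ∀ w : V, w ∈ LinearMap.range (avg ρ (D.posUnipotent F) fun _ => (1 : ℂ)) ↔
      ∀ u ∈ D.posUnipotent F, act ρ u w = w := by
    intro w
    refine ⟨?_, fun h => ⟨w, avg_eq_self ρ rfl hone fun u hu => by rw [h u hu, one_smul]⟩⟩
    rintro ⟨y, rfl⟩ u hu
    rw [act_avg_apply ρ hUG (f := fun _ => (1 : ℂ)) rfl hone hu, one_smul]
  obtain ⟨v, hvW, hv0, heig⟩ := exists_common_eigenvector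
    {a : Module.End ℂ V | ∃ h ∈ D.diagonalSubgroup F, a = act ρ h}
    (by
      refine (Set.Finite.image (act ρ) (Set.toFinite (D.diagonalSubgroup F : Set (GL D.Idx F)))).subset ?_
      rintro a ⟨h, hh, rfl⟩
      exact ⟨h, hh, rfl⟩)
    (by
      rintro a ⟨h, hh, rfl⟩ b ⟨k, hk, rfl⟩
      rw [← act_mul ρ (hHG hh) (hHG hk), ← act_mul ρ (hHG hk) (hHG hh)]
      obtain ⟨c, rfl⟩ := (mem_H_iff hC).1 hh
      obtain ⟨d, rfl⟩ := (mem_H_iff hC).1 hk
      rw [tor_mul, tor_mul, mul_comm c d])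
    hW (by
      rintro a ⟨h, hh, rfl⟩ w hw
      rw [hfix] at hw ⊢
      intro u hu
      have hu' := hHU h⁻¹ (inv_mem hh) u hu
      rw [inv_inv] at hu'
      rw [← act_mul_apply ρ (hUG hu) (hHG hh), show u * h = h * (h⁻¹ * u * h) by group,
        act_mul_apply ρ (hHG hh) (hUG hu'), hw _ hu'])
  have hvU := (hfix v).1 hvW
  have hθ : ∀ b ∈ D.borelSubgroup F, ∃ c : ℂ, act ρ b v = c • v := by
    intro b hb
    obtain ⟨u, hu, h, hh, rfl⟩ := (mem_B_iff hC).1 hb
    obtain ⟨c, hc⟩ := heig _ ⟨h, hh, rfl⟩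
    exact ⟨c, by rw [act_mul_apply ρ (hUG hu) (hHG hh), hc, map_smul, hvU u hu]⟩
  -- the longest element, and the fundamental roots it sends to the negatives of the given ones
  obtain ⟨L₀, hL₀, hneg₀⟩ := exists_top hC
  -- the span of `v` under the averaging operator of a non-degenerate character
  have hψline : ∀ (f : GL D.Idx F → ℂ), f 1 = 1 →
      (∀ a ∈ D.posUnipotent F, ∀ b ∈ D.posUnipotent F, f (a * b) = f a * f b) →
      (∀ i < D.rank, ∃ t : F, f (xg hC (D.simple i) t) ≠ 1) →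
      LinearMap.range (avg ρ (D.posUnipotent F) f) ≤
        Submodule.span ℂ {avg ρ (D.posUnipotent F) f (act ρ (nL hC F L₀)⁻¹ v)} := by
    intro f hf1 hfm hnd
    rw [LinearMap.range_eq_map, ← span_orbit ρ hv0, Submodule.map_span, Submodule.span_le]
    rintro _ ⟨_, ⟨g, hg, rfl⟩, rfl⟩
    obtain ⟨b, hb, n, hn, u, hu, e⟩ := exists_form hC (inv_mem hg)
    obtain ⟨c, L, hL, rfl⟩ := (mem_N_iff hC).1 hn
    have huU := Uminus_le_U hC _ hu
    obtain ⟨b', hb'B, e'⟩ : ∃ b' ∈ D.borelSubgroup F, g = u⁻¹ * ((nL hC F L)⁻¹ * b') := by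
      refine ⟨(tor D c)⁻¹ * b⁻¹,
        mul_mem (inv_mem (Subgroup.mem_sup_right (tor_mem_H hC c))) (inv_mem hb), ?_⟩
      rw [← inv_inv g, e]
      group
    obtain ⟨θ, hθe⟩ := hθ b' hb'B
    have hnG' := inv_mem (hnLG L hL)
    rw [e', act_mul_apply ρ (hUG (inv_mem huU)) (mul_mem hnG' (hBG hb'B)),
      avg_apply_act ρ hUG hf1 hfm (inv_mem huU), act_mul_apply ρ hnG' (hBG hb'B), hθe,
      map_smul, map_smul]
    refine Submodule.smul_mem _ _ (Submodule.smul_mem _ _ ?_)
    by_cases htop : ∀ i < D.rank, T.phi (wL D L (D.simple i)) < 0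
    · obtain ⟨d, hd⟩ := top_tor (F := F) hC hL hL₀ htop hneg₀
      obtain ⟨θ', hθ'⟩ := hθ _ (Subgroup.mem_sup_right (tor_mem_H hC d))
      rw [hd, act_mul_apply ρ (inv_mem (hnLG L₀ hL₀)) (hHG (tor_mem_H hC d)), hθ', map_smul, map_smul]
      exact Submodule.smul_mem _ _ (Submodule.subset_span rfl)
    · simp only [not_forall, not_lt] at htop
      obtain ⟨i, hi, hpos⟩ := htop
      obtain ⟨t, ht⟩ := hnd i hi
      have hlt := wL_lt hC hL (hC.simple_lt hi)
      have hp : 0 < T.phi (wL D L (D.simple i)) := by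
        have := hC.phi_ne_zero hlt
        omega
      obtain ⟨η, -, e2⟩ := nL_conj_x (F := F) hC hL (hC.simple_lt hi)
      have hx : xg hC (D.simple i) t ∈ D.posUnipotent F :=
        xg_mem_U hC (hC.simple_lt hi) (hC.phi_simple hi) t
      have hy : xg hC (wL D L (D.simple i)) (η * t) ∈ D.posUnipotent F := xg_mem_U hC hlt hp _
      have e3 : act ρ (xg hC (D.simple i) t) (act ρ (nL hC F L)⁻¹ v) = act ρ (nL hC F L)⁻¹ v := by
        rw [← act_mul_apply ρ (hUG hx) hnG',
          show xg hC (D.simple i) t * (nL hC F L)⁻¹ = (nL hC F L)⁻¹ *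
            (nL hC F L * xg hC (D.simple i) t * (nL hC F L)⁻¹) by group, e2,
          act_mul_apply ρ hnG' (hUG hy), hvU _ hy]
      have e4 := avg_apply_act ρ hUG hf1 hfm hx (act ρ (nL hC F L)⁻¹ v)
      rw [e3] at e4
      have e5 : avg ρ (D.posUnipotent F) f (act ρ (nL hC F L)⁻¹ v) = 0 := by
        by_contra hne
        refine ht (smul_left_injective ℂ hne ?_)
        show f _ • _ = (1 : ℂ) • _
        rw [one_smul]; exact e4.symm
      rw [e5]
      exact Submodule.zero_mem _
  -- additive characters of `F`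
  obtain ⟨χ, hχ⟩ : ∃ χ : AddChar F ℂ, χ (1 : F) ≠ 1 := AddChar.exists_apply_ne_zero.2 one_ne_zero
  have hprim : χ.IsPrimitive := AddChar.IsPrimitive.of_ne_one fun e => hχ (by rw [e]; rfl)
  have hshift : ∀ a : F, a ≠ 0 → ∃ t : F, χ (a * t) ≠ 1 := fun a ha =>
    ⟨a⁻¹, by rwa [mul_inv_cancel₀ ha]⟩
  have hexf : ∀ a : ℕ → F, (∀ i, a i ≠ 0) → ∃ f : GL D.Idx F → ℂ, f 1 = 1 ∧
      (∀ g ∈ D.posUnipotent F, ∀ g' ∈ D.posUnipotent F, f (g * g') = f g * f g') ∧
      (∀ i < D.rank, ∀ t : F, f (xg hC (D.simple i) t) = χ (a i * t)) ∧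
      ∀ i < D.rank, ∃ t : F, f (xg hC (D.simple i) t) ≠ 1 := by
    intro a ha
    obtain ⟨f, h1, hm, hs⟩ := exists_hom (F := F) hC (fun i => χ.mulShift (a i))
    have hs' : ∀ i < D.rank, ∀ t : F, f (xg hC (D.simple i) t) = χ (a i * t) := fun i hi t => by
      rw [hs i hi t, AddChar.mulShift_apply]
    refine ⟨f, h1, hm, hs', fun i hi => ?_⟩
    obtain ⟨t, ht⟩ := hshift (a i) (ha i)
    exact ⟨t, by rwa [hs' i hi t]⟩
  -- the multiplicity is one
  obtain ⟨m, hm⟩ := hdvd
  have hm1 : m = 1 := by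
    obtain ⟨f, h1, hfm, -, hnd⟩ := hexf (fun _ => 1) fun _ => one_ne_zero
    have h2 := finrank_avg_of_vanish ρ hUG h1 hfm hvan
    rw [hm, mul_comm] at h2
    have h3 := Nat.eq_of_mul_eq_mul_left Nat.card_pos h2
    have h4 := (Submodule.finrank_mono (hψline f h1 hfm hnd)).trans (finrank_span_le_card _)
    simp only [Set.toFinset_singleton, Finset.card_singleton] at h4
    have : 0 < m := by
      rcases Nat.eq_zero_or_pos m with e | e
      · rw [e, mul_zero] at hm; omega
      · exact e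
    omega
  rw [hm1, mul_one] at hm
  have hψne : ∀ (f : GL D.Idx F → ℂ), f 1 = 1 →
      (∀ a ∈ D.posUnipotent F, ∀ b ∈ D.posUnipotent F, f (a * b) = f a * f b) →
      (∀ i < D.rank, ∃ t : F, f (xg hC (D.simple i) t) ≠ 1) →
      avg ρ (D.posUnipotent F) f (act ρ (nL hC F L₀)⁻¹ v) ≠ 0 := by
    intro f hf1 hfm hnd e
    have h1 := hψline f hf1 hfm hnd
    rw [e, Submodule.span_zero_singleton, le_bot_iff] at h1
    have h2 := finrank_avg_of_vanish ρ hUG hf1 hfm hvan
    rw [h1, finrank_bot, zero_mul] at h2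
    omega
  have hline : LinearMap.range (avg ρ (D.posUnipotent F) fun _ => (1 : ℂ)) = Submodule.span ℂ {v} := by
    have h2 := finrank_avg_of_vanish ρ hUG (f := fun _ => (1 : ℂ)) rfl hone hvan
    rw [hm] at h2
    have h3 : Module.finrank ℂ (LinearMap.range (avg ρ (D.posUnipotent F) fun _ => (1 : ℂ))) = 1 :=
      Nat.eq_of_mul_eq_mul_right Nat.card_pos (h2.trans (one_mul _).symm)
    refine (Submodule.eq_of_le_of_finrank_le ((Submodule.span_singleton_le_iff_mem _ _).2 hvW) ?_).symm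
    rw [h3, finrank_span_singleton hv0]
  -- the rank one argument
  have hrank : ∀ i < D.rank, act ρ (ng hC (D.simple i) (1 : F)) v ≠ v ∧
      ∀ t : Fˣ, act ρ (hg hC (D.simple i) (t : F)) v = v := by
    intro i hi
    have hp := hC.simple_lt hi
    have hxU : ∀ s : F, xg hC (D.simple i) s ∈ D.posUnipotent F := fun s =>
      xg_mem_U hC hp (hC.phi_simple hi) s
    have hnn : ng hC (D.simple i) (1 : F) ∈ D.group F := hnG i hi 1
    obtain ⟨w, hwd⟩ : ∃ w : F → V, w = fun s =>
        act ρ (xg hC (D.simple i) s) (act ρ (ng hC (D.simple i) 1) v) := ⟨_, rfl⟩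
    have hwt : ∀ r s : F, act ρ (xg hC (D.simple i) r) (w s) = w (r + s) := fun r s => by
      rw [hwd]; dsimp only
      rw [xg_add hC, act_mul_apply ρ (hUG (hxU r)) (hUG (hxU s))]
    have hw0 : w 0 = act ρ (ng hC (D.simple i) 1) v := by
      rw [hwd]; dsimp only; rw [xg_zero hC, act_one]; rfl
    obtain ⟨j, hj, hji⟩ := exists_simple_to_neg hC hN hL₀ hneg₀ hi
    have hiL₀ : ∀ k ∈ i :: L₀, k < D.rank := fun k hk =>
      (List.mem_cons.1 hk).elim (fun e => e ▸ hi) (hL₀ k)
    obtain ⟨η, hη, hconj⟩ := nL_conj_x (F := F) hC hiL₀ (hC.simple_lt hj)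
    have hwi : wL D (i :: L₀) (D.simple j) = D.simple i := by
      show D.reflectRoot i (wL D L₀ (D.simple j)) = _
      rw [hji, hC.reflect_neg hi hp, hC.reflect_simple hi, hC.neg_neg hp]
    have hmG := inv_mem (hnLG _ hiL₀)
    -- the Fourier sums along `x_i` do not vanish
    have hE : ∀ a : F, a ≠ 0 → ∑ s : F, χ (-(a * s)) • w s ≠ 0 := by
      intro a ha hzero
      obtain ⟨f, h1, hfm, hs, hnd⟩ := hexf (fun k => if k = j then a * η else 1) (fun k => by
        show (if k = j then a * η else (1 : F)) ≠ 0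
        by_cases h : k = j
        · rw [if_pos h]; exact mul_ne_zero ha hη
        · rw [if_neg h]; exact one_ne_zero)
      refine hψne f h1 hfm hnd ?_
      have key : ∀ s : F, avg ρ (D.posUnipotent F) f (act ρ (nL hC F (i :: L₀))⁻¹ (w s)) =
          χ (a * s) • avg ρ (D.posUnipotent F) f (act ρ (nL hC F L₀)⁻¹ v) := by
        intro s
        have hxj : xg hC (D.simple j) (η⁻¹ * s) ∈ D.posUnipotent F :=
          xg_mem_U hC (hC.simple_lt hj) (hC.phi_simple hj) _
        have e1 : act ρ (nL hC F L₀)⁻¹ v = act ρ (nL hC F (i :: L₀))⁻¹ (w 0) := by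
          rw [hw0, ← act_mul_apply ρ hmG hnn, nL_cons]
          congr 2
          group
        have e2 : act ρ (nL hC F (i :: L₀))⁻¹ (w s) =
            act ρ (xg hC (D.simple j) (η⁻¹ * s)) (act ρ (nL hC F L₀)⁻¹ v) := by
          rw [e1, ← act_mul_apply ρ (hUG hxj) hmG,
            show xg hC (D.simple j) (η⁻¹ * s) * (nL hC F (i :: L₀))⁻¹ = (nL hC F (i :: L₀))⁻¹ *
              (nL hC F (i :: L₀) * xg hC (D.simple j) (η⁻¹ * s) * (nL hC F (i :: L₀))⁻¹) by group,
            hconj, hwi, mul_inv_cancel_left₀ hη, act_mul_apply ρ hmG (hUG (hxU s)), hwt, add_zero]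
        rw [e2, avg_apply_act ρ hUG h1 hfm hxj, hs j hj, if_pos rfl, mul_assoc,
          mul_inv_cancel_left₀ hη]
      have h2 := congrArg (fun x => avg ρ (D.posUnipotent F) f (act ρ (nL hC F (i :: L₀))⁻¹ x)) hzero
      simp only [map_sum, map_smul, key, smul_smul, map_zero] at h2
      rw [← Finset.sum_smul] at h2
      have h3 : ∑ s : F, χ (-(a * s)) * χ (a * s) = (Fintype.card F : ℂ) := by
        simp only [← AddChar.map_add_eq_mul, neg_add_cancel, AddChar.map_zero_eq_one, Finset.sum_const,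
          Finset.card_univ, nsmul_eq_mul, mul_one]
      rw [h3] at h2
      exact (smul_eq_zero.1 h2).resolve_left (Nat.cast_ne_zero.2 Fintype.card_ne_zero)
    -- any relation is constant along `x_i`
    have hrel : ∀ (g : ℂ) (c : F → ℂ), g • v + ∑ t : F, c t • w t = 0 →
        ∀ t : F, c t = c 0 := by
      intro g c hgc
      have hz : ∀ a : F, a ≠ 0 → ∑ t : F, c t * χ (a * t) = 0 := by
        intro a ha
        have h1 := congrArg (fun x => ∑ s : F, χ (-(a * s)) • act ρ (xg hC (D.simple i) s) x) hgc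
        simp only [map_add, map_smul, map_sum, map_zero, smul_zero, Finset.sum_const_zero, hwt,
          hvU _ (hxU _), smul_add, Finset.smul_sum, smul_smul, Finset.sum_add_distrib] at h1
        rw [← Finset.sum_smul, ← Finset.sum_mul, Finset.sum_comm] at h1
        have hv' : ∑ s : F, χ (-(a * s)) = 0 := by
          have h := AddChar.sum_mulShift (-a) hprim
          rw [if_neg (neg_ne_zero.2 ha)] at h
          rw [← Nat.cast_zero, ← h]
          exact Finset.sum_congr rfl fun s _ => by congr 1; ring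
        rw [hv', zero_mul, zero_smul, zero_add] at h1
        have h2 : ∀ t : F, ∑ s : F, (χ (-(a * s)) * c t) • w (s + t) =
            (c t * χ (a * t)) • ∑ s : F, χ (-(a * s)) • w s := by
          intro t
          rw [Finset.smul_sum]
          refine Fintype.sum_equiv (Equiv.addRight t) _ _ fun s => ?_
          rw [smul_smul, Equiv.coe_addRight]
          congr 1
          rw [mul_assoc, ← AddChar.map_add_eq_mul, show a * t + -(a * (s + t)) = -(a * s) by ring,
            mul_comm]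
        rw [Finset.sum_congr rfl fun t _ => h2 t, ← Finset.sum_smul] at h1
        exact (smul_eq_zero.1 h1).resolve_right (hE a ha)
      have hc : ∀ t₀ : F, (Fintype.card F : ℂ) * c t₀ = ∑ t : F, c t := by
        intro t₀
        have h1 : ∑ a : F, χ (-(a * t₀)) * ∑ t : F, c t * χ (a * t) = ∑ t : F, c t := by
          rw [Finset.sum_eq_single (0 : F) (fun a _ ha => by rw [hz a ha, mul_zero])
            (fun hh => absurd (Finset.mem_univ _) hh)]
          simp
        rw [← h1]
        simp only [Finset.mul_sum]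
        rw [Finset.sum_comm, Finset.sum_eq_single t₀]
        · have h3 : ∀ a : F, χ (-(a * t₀)) * (c t₀ * χ (a * t₀)) = c t₀ := fun a => by
            rw [mul_left_comm, ← AddChar.map_add_eq_mul, neg_add_cancel, AddChar.map_zero_eq_one,
              mul_one]
          rw [Finset.sum_congr rfl fun a _ => h3 a, Finset.sum_const, Finset.card_univ, nsmul_eq_mul]
        · intro t _ ht
          have h4 := AddChar.sum_mulShift (t - t₀) hprim
          rw [if_neg (sub_ne_zero.2 ht), Nat.cast_zero] at h4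
          have h5 : ∀ a : F, χ (-(a * t₀)) * (c t * χ (a * t)) = c t * χ (a * (t - t₀)) := fun a => by
            rw [mul_left_comm, ← AddChar.map_add_eq_mul, show -(a * t₀) + a * t = a * (t - t₀) by ring]
          rw [Finset.sum_congr rfl fun a _ => h5 a, ← Finset.mul_sum, h4, mul_zero]
        · intro hh; exact absurd (Finset.mem_univ _) hh
      intro t
      exact mul_left_cancel₀ (Nat.cast_ne_zero.2 Fintype.card_ne_zero) ((hc t).trans (hc 0).symm)
    -- `n` does not fix `v`
    have hnv : act ρ (ng hC (D.simple i) (1 : F)) v ≠ v := by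
      intro e
      refine hE 1 one_ne_zero ?_
      have hwv : ∀ s, w s = v := fun s => by rw [hwd]; dsimp only; rw [e, hvU _ (hxU s)]
      simp only [hwv, ← Finset.sum_smul, one_mul]
      have h := AddChar.sum_mulShift (-1 : F) hprim
      rw [if_neg (neg_ne_zero.2 one_ne_zero), Nat.cast_zero] at h
      rw [show ∑ s : F, χ (-s) = 0 by rw [← h]; exact Finset.sum_congr rfl fun s _ => by congr 1; ring,
        zero_smul]
    -- the vectors lie in a space of dimension `q`
    haveI : Fintype ↥(Uom hC F (D.simple i)) := Fintype.ofFinite _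
    have hoU := Uom_le_U (F := F) hC (D.simple i)
    have hoG : Uom hC F (D.simple i) ≤ D.group F := hoU.trans hUG
    have hdim : Module.finrank ℂ (LinearMap.range (avg ρ (Uom hC F (D.simple i)) fun _ => (1 : ℂ))) =
        Fintype.card F := by
      have h := finrank_avg_of_vanish ρ hoG (f := fun _ => (1 : ℂ)) rfl
        (fun _ _ _ _ => (one_mul 1).symm) (fun g hg => hvan g (hoU hg))
      rw [hm, card_U_eq hC hi, mul_comm (Nat.card ↥(Uom hC F (D.simple i)))] at h
      exact Nat.eq_of_mul_eq_mul_right Nat.card_pos h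
    have hnorm : ∀ y ∈ Subgroup.normalizer (Uom hC F (D.simple i) : Set (GL D.Idx F)), y ∈ D.group F →
        ∀ z, (∀ u ∈ Uom hC F (D.simple i), act ρ u z = z) →
          ∀ u ∈ Uom hC F (D.simple i), act ρ u (act ρ y z) = act ρ y z := by
      intro y hy hyG z hz u hu
      have hu' := (Subgroup.mem_normalizer_iff.1 (inv_mem hy) u).1 hu
      rw [inv_inv] at hu'
      rw [← act_mul_apply ρ (hoG hu) hyG, show u * y = y * (y⁻¹ * u * y) by group,
        act_mul_apply ρ hyG (hoG hu'), hz _ hu']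
    have hfixo : ∀ s, ∀ u ∈ Uom hC F (D.simple i), act ρ u (w s) = w s := fun s => by
      rw [hwd]
      exact hnorm _ (xg_normalizes_Uom hC hi s) (hUG (hxU s)) _
        (hnorm _ (ng_normalizes_Uom hC hi) hnn v fun u hu => hvU u (hoU hu))
    obtain ⟨g, c, hgc, hne⟩ : ∃ (g : ℂ) (c : F → ℂ), g • v + ∑ t : F, c t • w t = 0 ∧
        (g ≠ 0 ∨ ∃ t, c t ≠ 0) := by
      let z : Option F → LinearMap.range (avg ρ (Uom hC F (D.simple i)) fun _ => (1 : ℂ)) := fun o =>
        o.elim ⟨v, v, avg_eq_self ρ rfl (fun _ _ _ _ => (one_mul 1).symm)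
            fun u hu => by rw [hvU u (hoU hu), one_smul]⟩
          fun t => ⟨w t, w t, avg_eq_self ρ rfl (fun _ _ _ _ => (one_mul 1).symm)
            fun u hu => by rw [hfixo t u hu, one_smul]⟩
      have hli : ¬ LinearIndependent ℂ z := fun h => by
        have := h.fintype_card_le_finrank
        rw [hdim, Fintype.card_option] at this
        omega
      obtain ⟨g, hg, o, ho⟩ := Fintype.not_linearIndependent_iff.1 hli
      refine ⟨g none, fun t => g (some t), ?_, ?_⟩
      · have h2 := congrArg Subtype.val hg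
        simp only [Fintype.sum_option, Submodule.coe_add, Submodule.coe_sum, Submodule.coe_smul, z,
          Option.elim, ZeroMemClass.coe_zero] at h2
        exact h2
      · cases o with
        | none => exact Or.inl ho
        | some t => exact Or.inr ⟨t, ho⟩
    have hcc := hrel g c hgc
    have hc0 : c 0 ≠ 0 := by
      intro e
      simp only [hcc, e, zero_smul, Finset.sum_const_zero, add_zero] at hgc
      rcases hne with h | ⟨t, ht⟩
      · exact h ((smul_eq_zero.1 hgc).resolve_right hv0)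
      · exact ht (by rw [hcc t, e])
    obtain ⟨lam, hlam⟩ : ∃ lam : ℂ, ∑ t : F, w t = lam • v := by
      refine ⟨-g / c 0, ?_⟩
      simp only [hcc, ← Finset.smul_sum] at hgc
      rw [add_comm, add_eq_zero_iff_eq_neg] at hgc
      have := congrArg (fun x => (c 0)⁻¹ • x) hgc
      simp only [smul_smul, inv_mul_cancel₀ hc0, one_smul, smul_neg, ← neg_smul] at this
      rw [this]
      congr 1
      rw [neg_div, div_eq_inv_mul, mul_neg]
    -- apply `n`
    obtain ⟨tc, htc⟩ := ng_sq (F := F) hC hi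
    obtain ⟨ν, hν⟩ := hθ _ (Subgroup.mem_sup_right (tor_mem_H hC tc))
    have hν0 : ν ≠ 0 := fun e => act_ne_zero ρ (hHG (tor_mem_H hC tc)) hv0 (by rw [hν, e, zero_smul])
    have hnw0 : act ρ (ng hC (D.simple i) 1) (w 0) = ν • v := by
      rw [hw0, ← act_mul_apply ρ hnn hnn, htc, hν]
    have hμ : ∀ s : F, s ≠ 0 → ∃ μ : ℂ, act ρ (ng hC (D.simple i) (-s)) v = μ • w 0 := by
      intro s hs
      obtain ⟨c', hc'⟩ := ng_simple_eq hC hi (neg_ne_zero.2 hs)
      have hh := H_conj hC (inv_mem (ng_mem_N (F := F) hC hi)) (tor_mem_H hC c')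
      rw [inv_inv] at hh
      obtain ⟨μ, hμ⟩ := hθ _ (Subgroup.mem_sup_right hh)
      refine ⟨μ, ?_⟩
      rw [hc', show tor D c' * ng hC (D.simple i) 1 = ng hC (D.simple i) 1 *
          ((ng hC (D.simple i) (1 : F))⁻¹ * tor D c' * ng hC (D.simple i) 1) by group,
        act_mul_apply ρ hnn (hHG hh), hμ, map_smul, hw0]
    choose μ hμ using hμ
    obtain ⟨ε, hε, hεe⟩ := eta_field (F := F) (i := i) (r := D.simple i) hC
    let σ : F → F := fun s => (ε * s)⁻¹
    have hσinv : ∀ s, σ (σ s) = s := fun s => by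
      show (ε * (ε * s)⁻¹)⁻¹ = s
      rw [mul_inv ε s, mul_inv_cancel_left₀ hε, inv_inv]
    have hσ0 : ∀ s, s ≠ 0 → σ s ≠ 0 := fun s hs => inv_ne_zero (mul_ne_zero hε hs)
    have hnw : ∀ t : F, ∀ ht : t ≠ 0,
        act ρ (ng hC (D.simple i) 1) (w t) = (ν * μ (σ t) (hσ0 t ht)) • w (σ t) := by
      intro t ht
      have e1 : ng hC (D.simple i) 1 * xg hC (D.simple i) t * (ng hC (D.simple i) (1 : F))⁻¹ =
          xg hC (D.simple i) (σ t) * ng hC (D.simple i) (-σ t) * xg hC (D.simple i) (σ t) := by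
        rw [ng_conj_x hC hi hp, hC.reflect_simple hi, ← hεe, neg_xg_eq hC]
      have hG1 : xg hC (D.simple i) (σ t) * ng hC (D.simple i) (-σ t) * xg hC (D.simple i) (σ t) ∈
          D.group F := mul_mem (mul_mem (hUG (hxU _)) (hnG i hi _)) (hUG (hxU _))
      rw [hwd]
      dsimp only
      rw [← act_mul_apply ρ hnn (hUG (hxU t)),
        show ng hC (D.simple i) 1 * xg hC (D.simple i) t =
          (ng hC (D.simple i) 1 * xg hC (D.simple i) t * (ng hC (D.simple i) (1 : F))⁻¹) *
            ng hC (D.simple i) 1 by group, e1,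
        act_mul_apply ρ hG1 hnn,
        show act ρ (ng hC (D.simple i) 1) (act ρ (ng hC (D.simple i) 1) v) = ν • v by
          rw [← hw0]; exact hnw0,
        map_smul, act_mul_apply ρ (mul_mem (hUG (hxU _)) (hnG i hi _)) (hUG (hxU _)),
        hvU _ (hxU _), act_mul_apply ρ (hUG (hxU _)) (hnG i hi _), hμ _ (hσ0 t ht), map_smul,
        smul_smul, hw0]
    have hrel2 : ν • v + ∑ s : F, (if hs : s = 0 then -lam else ν * μ s hs) • w s = 0 := by
      have h1 := congrArg (act ρ (ng hC (D.simple i) 1)) hlam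
      rw [map_sum, map_smul, ← hw0, ← Finset.add_sum_erase _ _ (Finset.mem_univ (0 : F)), hnw0] at h1
      rw [← Finset.add_sum_erase _ _ (Finset.mem_univ (0 : F)), dif_pos rfl]
      have h2 : ∑ t ∈ Finset.univ.erase (0 : F), act ρ (ng hC (D.simple i) 1) (w t) =
          ∑ s ∈ Finset.univ.erase (0 : F), (if hs : s = 0 then -lam else ν * μ s hs) • w s := by
        refine Finset.sum_bij (fun t _ => σ t) (fun t ht => ?_) (fun a _ b _ e => ?_) (fun s hs => ?_)
          (fun t ht => ?_)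
        · exact Finset.mem_erase.2 ⟨hσ0 t (Finset.mem_erase.1 ht).1, Finset.mem_univ _⟩
        · rw [← hσinv a, e, hσinv]
        · exact ⟨σ s, Finset.mem_erase.2 ⟨hσ0 s (Finset.mem_erase.1 hs).1, Finset.mem_univ _⟩,
            hσinv s⟩
        · rw [dif_neg (hσ0 t (Finset.mem_erase.1 ht).1), hnw t (Finset.mem_erase.1 ht).1]
      rw [← h2, ← add_assoc, add_comm (ν • v), add_assoc, h1, neg_smul, neg_add_cancel]
    have hcon := hrel ν _ hrel2
    have hμc : ∀ s : F, ∀ hs : s ≠ 0, μ s hs = μ 1 one_ne_zero := by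
      intro s hs
      have a1 := hcon s
      have a2 := hcon 1
      rw [dif_neg hs] at a1
      rw [dif_neg one_ne_zero] at a2
      exact mul_left_cancel₀ hν0 (a1.trans a2.symm)
    have hconst : ∀ a : F, a ≠ 0 → act ρ (ng hC (D.simple i) a) v =
        act ρ (ng hC (D.simple i) (-1)) v := by
      intro a ha
      rw [← neg_neg a, hμ _ (neg_ne_zero.2 ha), hμ 1 one_ne_zero, hμc _ (neg_ne_zero.2 ha)]
    refine ⟨hnv, fun t => ?_⟩
    rw [hg, act_mul_apply ρ (hnG i hi _) (hnG i hi _), ← hconst (-(t : F)) (neg_ne_zero.2 t.ne_zero),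
      ← ng_inv hC, act_apply_inv ρ (hnG i hi _)]
  refine ⟨v, hv0, hline, fun b hb => ?_, fun i hi => (hrank i hi).1⟩
  obtain ⟨u, hu, h, hh, rfl⟩ := (mem_B_iff hC).1 hb
  obtain ⟨c, rfl⟩ := (mem_H_iff hC).1 hh
  rw [act_mul_apply ρ (hUG hu) (hHG hh)]
  suffices key : act ρ (tor D c) v = v by rw [key, hvU u hu]
  have key : ∀ l : List ℕ, (∀ k ∈ l, k < D.rank) →
      (l.map fun k => hg hC (D.simple k) (c k : F)).prod ∈ D.group F ∧
      act ρ (l.map fun k => hg hC (D.simple k) (c k : F)).prod v = v := by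
    intro l
    induction l with
    | nil => intro _; exact ⟨one_mem _, by simp [act_one]⟩
    | cons k l ih =>
      intro hl
      obtain ⟨h1, h2⟩ := ih fun x hx => hl x (List.mem_cons_of_mem k hx)
      have hk := hl k List.mem_cons_self
      have hkG : hg hC (D.simple k) (c k : F) ∈ D.group F :=
        hHG (Subgroup.subset_closure ⟨D.simple k, _, hC.simple_lt hk, (c k).ne_zero, coe_hg hC _ _⟩)
      rw [List.map_cons, List.prod_cons]
      exact ⟨mul_mem hkG h1, by rw [act_mul_apply ρ hkG h1, h2, (hrank k hk).2]⟩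
  rw [tor_eq_prod hC]
  exact (key _ fun k hk => List.mem_range.1 hk).2

end Cfsg.Agent.SimpleFacts.ChevalleyDefectZero
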