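import Cfsg.Agent.Lib.Chevalley.NormalForm

/-!
Tools for the centralisers of products of root elements: stabilisers of tuples of roots in the Weyl group
and products over pairwise commuting roots.
-/

set_option autoImplicit false

open scoped Matrix

namespace Cfsg.Agent.SimpleFacts.ChevalleyPairCentralizer

open Cfsg.Lie Cfsg.Agent.Chevalley.Table Cfsg.Agent.Chevalley.Cert Cfsg.Agent.Chevalley.Group
  Cfsg.Agent.Chevalley.Unip Cfsg.Agent.Chevalley.Borel Cfsg.Agent.Chevalley.Weyl
  Cfsg.Agent.Chevalley.Relations Cfsg.Agent.Chevalley.NormalForm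

variable {D : ChevalleyDatum} {T : Tab} {F : Type*} [Field F] (hC : Certified D T)
include hC

theorem pair_wL {L : List ℕ} (hL : ∀ i ∈ L, i < D.rank) {r s : ℕ} (hr : r < D.nroots)
    (hs : s < D.nroots) : pair D (wL D L r) (wL D L s) = pair D r s := by
  induction L with
  | nil => rfl
  | cons i L ih =>
    have hi := hL i List.mem_cons_self
    have hL' : ∀ j ∈ L, j < D.rank := fun j hj => hL j (List.mem_cons_of_mem i hj)
    exact (pair_reflect hC hi (wL_lt hC hL' hr) (wL_lt hC hL' hs)).trans (ih hL')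

theorem reflect_fix {j r : ℕ} (hj : j < D.rank) (hr : r < D.nroots) (h0 : D.cartan j r = 0) :
    D.reflectRoot j r = r := by
  refine hC.phi_inj (hC.reflect_lt hj hr) hr ?_
  rw [hC.phi_reflect hj hr, h0]; ring

/-- An element fixing the roots of `As` lies in `H` times any subgroup containing the `n_j` of the
fundamental roots orthogonal to all of them, provided a combination of the pairings with `As` is
positive on every other fundamental root and not negative on positive roots. -/
theorem nL_mem_stab {As : List (ℕ × ℤ)} (hA : ∀ a ∈ As, a.1 < D.nroots) {K : Subgroup (GL D.Idx F)}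
    (hK : ∀ j < D.rank, (∀ a ∈ As, D.cartan j a.1 = 0) → ng hC (D.simple j) (1 : F) ∈ K)
    (hpos : ∀ r < D.nroots, 0 < T.phi r → 0 ≤ (As.map fun a => a.2 * pair D a.1 r).sum)
    (hgt : ∀ j < D.rank, (∀ a ∈ As, D.cartan j a.1 = 0) ∨
      0 < (As.map fun a => a.2 * pair D a.1 (D.simple j)).sum)
    {L : List ℕ} (hL : ∀ i ∈ L, i < D.rank) (hfix : ∀ a ∈ As, wL D L a.1 = a.1) :
    ∃ c : ℕ → Fˣ, ∃ k ∈ K, nL hC F L = tor D c * k := by
  obtain ⟨m, hm⟩ : ∃ m, L.length = m := ⟨_, rfl⟩
  induction m using Nat.strong_induction_on generalizing L with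
  | _ m ih =>
    by_cases hp : ∀ i < D.rank, 0 < T.phi (wL D L (D.simple i))
    · obtain ⟨c, hc⟩ := exists_tor_of_pos (F := F) hC hL hp
      exact ⟨c, 1, one_mem _, by rw [hc, mul_one]⟩
    simp only [not_forall, not_lt] at hp
    obtain ⟨j, hj, hle⟩ := hp
    have hlt := wL_lt hC hL (hC.simple_lt hj)
    have hneg : T.phi (wL D L (D.simple j)) < 0 := by
      have := hC.phi_ne_zero hlt
      omega
    have h0 : ∀ a ∈ As, D.cartan j a.1 = 0 := by
      refine (hgt j hj).resolve_right fun h => ?_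
      have h1 := hpos _ (hC.neg_lt hlt) (by rw [hC.phi_neg hlt]; omega)
      have e : ∀ a ∈ As, pair D a.1 (D.neg (wL D L (D.simple j))) = - pair D a.1 (D.simple j) := by
        intro a ha
        rw [← wL_neg hC hL (hC.simple_lt hj)]
        conv_lhs => rw [← hfix a ha]
        rw [pair_wL hC hL (hA a ha) (hC.neg_lt (hC.simple_lt hj)), pair, pair, ← Finset.sum_neg_distrib]
        refine Finset.sum_congr rfl fun i hi => ?_
        rw [hC.cartan_neg (hC.simple_lt hj) (Finset.mem_range.1 hi)]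
        ring
      have e2 : (As.map fun a => a.2 * pair D a.1 (D.neg (wL D L (D.simple j)))) =
          (As.map fun a => a.2 * pair D a.1 (D.simple j)).map Neg.neg := by
        rw [List.map_map]
        refine List.map_congr_left fun a ha => ?_
        rw [e a ha, Function.comp_apply]; ring
      rw [e2, ← List.sum_neg] at h1
      omega
    have hL1 : ∀ i ∈ L ++ [j], i < D.rank := fun i hi => (List.mem_append.1 hi).elim (hL i)
      fun hi => (List.mem_singleton.1 hi) ▸ hj
    obtain ⟨k, hk, c, e⟩ := exists_delete (F := F) hC hL hj hneg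
    have hL' : ∀ i ∈ L.eraseIdx k, i < D.rank := fun i hi => hL i (List.eraseIdx_subset hi)
    have hfix' : ∀ a ∈ As, wL D (L.eraseIdx k) a.1 = a.1 := by
      intro a ha
      have := wL_congr (F := F) hC (c := 1) (c' := c) hL1 hL'
        (by rw [tor_one, one_mul, nL_append, nL_singleton, e]) (hA a ha)
      rw [← this, wL_append, show wL D [j] a.1 = D.reflectRoot j a.1 from rfl,
        reflect_fix hC hj (hA a ha) (h0 a ha), hfix a ha]
    obtain ⟨d, k', hk', e'⟩ := ih _ (by rw [← hm, List.length_eraseIdx_of_lt hk]; omega) hL' hfix' rfl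
    refine ⟨c * d, k' * (ng hC (D.simple j) 1)⁻¹, mul_mem hk' (inv_mem (hK j hj h0)), ?_⟩
    rw [← tor_mul]
    calc nL hC F L = nL hC F L * ng hC (D.simple j) 1 * (ng hC (D.simple j) (1 : F))⁻¹ := by group
      _ = _ := by rw [e, e']; group

theorem prodX_filter_pos {p : ℕ → Bool} (f : ℕ → F) :
    prodX hC D.posRoots (fun r => if p r then f r else 0) = prodX hC (D.posRoots.filter p) f := by
  induction D.posRoots with
  | nil => rfl
  | cons a l ih =>
    by_cases h : p a
    · rw [List.filter_cons_of_pos h]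
      simp only [prodX, List.map_cons, List.prod_cons, h, if_true] at ih ⊢
      rw [ih]
    · rw [List.filter_cons_of_neg h]
      simp only [prodX, List.map_cons, List.prod_cons, h] at ih ⊢
      rw [← ih, if_neg (by simp), xg_zero hC, one_mul]

/-- A product over pairwise commuting positive roots, as a product over all positive roots. -/
theorem prod_eq_prodX {L : List ℕ} (hnd : L.Nodup) (hL : ∀ r ∈ L, r < D.nroots ∧ 0 < T.phi r)
    (hcomm : ∀ r ∈ L, ∀ s ∈ L, ∀ t u : F, Commute (xg hC r t) (xg hC s u)) (f : ℕ → F) :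
    prodX hC L f = prodX hC D.posRoots (fun r => if L.contains r then f r else 0) := by
  rw [prodX_filter_pos hC (p := fun r => L.contains r)]
  have hperm : L.Perm (D.posRoots.filter fun r => L.contains r) := by
    refine (List.perm_ext_iff_of_nodup hnd ((posRoots_sorted.imp ne_of_lt).filter _)).2 fun x => ?_
    simp only [List.mem_filter, mem_posRoots hC, List.contains_iff_mem]
    exact ⟨fun h => ⟨hL x h, h⟩, fun h => h.2⟩
  refine List.Perm.prod_eq' (hperm.map _) ?_
  rw [List.pairwise_map]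
  exact List.Pairwise.imp_of_mem (fun {a b} ha hb _ => hcomm a ha b hb _ _)
    (List.pairwise_of_forall (R := fun _ _ : ℕ => True) fun _ _ => trivial)

/-- Coefficients of products over pairwise commuting positive roots are unique. -/
theorem coeff_unique {L : List ℕ} (hnd : L.Nodup) (hL : ∀ r ∈ L, r < D.nroots ∧ 0 < T.phi r)
    (hcomm : ∀ r ∈ L, ∀ s ∈ L, ∀ t u : F, Commute (xg hC r t) (xg hC s u)) {f g : ℕ → F}
    (h : prodX hC L f = prodX hC L g) : ∀ r ∈ L, f r = g r := by
  intro r hr
  rw [prod_eq_prodX hC hnd hL hcomm, prod_eq_prodX hC hnd hL hcomm] at h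
  have := prodX_inj hC posRoots_sorted (fun s hs => (mem_posRoots hC).1 hs) h r
    ((mem_posRoots hC).2 (hL r hr))
  simpa [hr] using this

/-- A Weyl word carrying such a product into another keeps the support in the list. -/
theorem support {S : List ℕ} (hnd : S.Nodup) (hS : ∀ r ∈ S, r < D.nroots ∧ 0 < T.phi r)
    (hcomm : ∀ r ∈ S, ∀ s ∈ S, ∀ t u : F, Commute (xg hC r t) (xg hC s u))
    {L : List ℕ} (hL : ∀ i ∈ L, i < D.rank) (c : ℕ → Fˣ) {f g : ℕ → F}
    (h : tor D c * nL hC F L * prodX hC S f * (tor D c * nL hC F L)⁻¹ = prodX hC S g) :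
    ∀ r ∈ S, f r ≠ 0 → wL D L r ∈ S := by
  classical
  obtain ⟨n, hn⟩ : ∃ n, n = tor D c * nL hC F L := ⟨_, rfl⟩
  rw [← hn] at h
  obtain ⟨P, hP⟩ : ∃ P : List ℕ, P = S.filter fun r => decide (0 < T.phi (wL D L r)) := ⟨_, rfl⟩
  obtain ⟨N, hN⟩ : ∃ N : List ℕ, N = S.filter fun r => !decide (0 < T.phi (wL D L r)) := ⟨_, rfl⟩
  have hPm : ∀ r ∈ P, r ∈ S ∧ 0 < T.phi (wL D L r) := fun r hr => by
    rw [hP, List.mem_filter] at hr
    exact ⟨hr.1, of_decide_eq_true hr.2⟩
  have hNm : ∀ r ∈ N, r ∈ S ∧ T.phi (wL D L r) < 0 := fun r hr => by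
    rw [hN, List.mem_filter] at hr
    refine ⟨hr.1, ?_⟩
    have := hC.phi_ne_zero (wL_lt hC hL (hS r hr.1).1)
    simp only [Bool.not_eq_true', decide_eq_false_iff_not] at hr
    omega
  have hsplit : prodX hC S f = prodX hC P f * prodX hC N f := by
    rw [prodX, prodX, prodX, ← List.prod_append, ← List.map_append]
    refine List.Perm.prod_eq' (List.Perm.map _ ?_) ?_
    · rw [hP, hN]; exact (List.filter_append_perm _ S).symm
    · rw [List.pairwise_map]
      exact List.Pairwise.imp_of_mem (fun {a b} ha hb _ => hcomm a ha b hb _ _)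
        (List.pairwise_of_forall (R := fun _ _ : ℕ => True) fun _ _ => trivial)
  choose η hη0 hη using fun r : {r : ℕ // r ∈ S} => conj_xg (F := F) hC hL c (hS r.1 r.2).1
  rw [← hn] at hη
  let f' : ℕ → F := fun s => if hs : s ∈ S then η ⟨s, hs⟩ * f s else 0
  have hconj : ∀ Q : List ℕ, (∀ r ∈ Q, r ∈ S) →
      n * prodX hC Q f * n⁻¹ = (Q.map fun r => xg hC (wL D L r) (f' r)).prod := by
    intro Q hQ
    rw [prodX, ← MulAut.conj_apply, map_list_prod, List.map_map]
    refine congrArg List.prod (List.map_congr_left fun r hr => ?_)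
    simp only [Function.comp_apply, MulAut.conj_apply, hη ⟨r, hQ r hr⟩, f', dif_pos (hQ r hr)]
  have hPU : n * prodX hC P f * n⁻¹ ∈ D.posUnipotent F := by
    rw [hconj P fun r hr => (hPm r hr).1]
    refine list_prod_mem fun y hy => ?_
    obtain ⟨r, hr, rfl⟩ := List.mem_map.1 hy
    exact xg_mem_U hC (wL_lt hC hL (hS r (hPm r hr).1).1) (hPm r hr).2 _
  have hNV : n * prodX hC N f * n⁻¹ ∈ D.negUnipotent F := by
    rw [hconj N fun r hr => (hNm r hr).1]
    refine list_prod_mem fun y hy => ?_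
    obtain ⟨r, hr, rfl⟩ := List.mem_map.1 hy
    exact xg_mem_V hC (wL_lt hC hL (hS r (hNm r hr).1).1) (hNm r hr).2 _
  have hgU : prodX hC S g ∈ D.posUnipotent F := by
    refine list_prod_mem fun y hy => ?_
    obtain ⟨r, hr, rfl⟩ := List.mem_map.1 hy
    exact xg_mem_U hC (hS r hr).1 (hS r hr).2 _
  have hN1 : n * prodX hC N f * n⁻¹ = 1 := by
    refine U_inf_V hC ?_ hNV
    have e : n * prodX hC N f * n⁻¹ = (n * prodX hC P f * n⁻¹)⁻¹ * prodX hC S g := by
      rw [← h, hsplit]; group
    rw [e]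
    exact mul_mem (inv_mem hPU) hgU
  rw [mul_inv_eq_one, mul_eq_left] at hN1
  have hN0 : ∀ r ∈ N, f r = 0 := by
    refine coeff_unique hC (L := N) (g := fun _ => 0) (hN ▸ hnd.filter _)
      (fun r hr => hS r (hNm r hr).1) (fun r hr s hs => hcomm r (hNm r hr).1 s (hNm s hs).1) ?_
    rw [hN1]
    simp [prodX, xg_zero hC]
  intro r hr hfr
  have hrP : r ∈ P := by
    rw [hP, List.mem_filter]
    refine ⟨hr, decide_eq_true ?_⟩
    by_contra hcon
    exact hfr (hN0 r (by rw [hN, List.mem_filter]; exact ⟨hr, by simpa using hcon⟩))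
  by_contra hout
  -- the images, as a product over their list
  have hinj : ∀ a ∈ S, ∀ b ∈ S, wL D L a = wL D L b → a = b := fun a ha b hb e => by
    have := congrArg (wL D L.reverse) e
    rwa [wL_reverse hC hL (hS a ha).1, wL_reverse hC hL (hS b hb).1] at this
  let Q : List ℕ := P.map (wL D L)
  let F' : ℕ → F := fun s => f' (wL D L.reverse s)
  have e1 : prodX hC Q F' = prodX hC S g := by
    rw [← h, hsplit, hN1, mul_one, hconj P fun r hr => (hPm r hr).1, prodX]
    simp only [Q, List.map_map]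
    refine congrArg List.prod (List.map_congr_left fun a ha => ?_)
    simp only [Function.comp_apply, F', wL_reverse hC hL (hS a (hPm a ha).1).1]
  have hQS : ∀ s ∈ Q, s < D.nroots ∧ 0 < T.phi s := fun s hs => by
    obtain ⟨a, ha, rfl⟩ := List.mem_map.1 hs
    exact ⟨wL_lt hC hL (hS a (hPm a ha).1).1, (hPm a ha).2⟩
  have hQnd : Q.Nodup :=
    (List.nodup_map_iff_inj_on (hP ▸ hnd.filter _)).2 fun a ha b hb e =>
      hinj a (hPm a ha).1 b (hPm b hb).1 e
  have hQcomm : ∀ a ∈ Q, ∀ b ∈ Q, ∀ t u : F, Commute (xg hC a t) (xg hC b u) := by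
    intro a ha b hb t u
    obtain ⟨a', ha', rfl⟩ := List.mem_map.1 ha
    obtain ⟨b', hb', rfl⟩ := List.mem_map.1 hb
    obtain ⟨ηa, ha0, ea⟩ := conj_xg (F := F) hC hL c (hS a' (hPm a' ha').1).1
    obtain ⟨ηb, hb0, eb⟩ := conj_xg (F := F) hC hL c (hS b' (hPm b' hb').1).1
    rw [← mul_inv_cancel_left₀ ha0 t, ← mul_inv_cancel_left₀ hb0 u, ← ea, ← eb]
    exact (hcomm a' (hPm a' ha').1 b' (hPm b' hb').1 _ _).conj _
  rw [prod_eq_prodX hC hQnd hQS hQcomm, prod_eq_prodX hC hnd hS hcomm] at e1
  have hwQ : wL D L r ∈ Q := List.mem_map.2 ⟨r, hrP, rfl⟩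
  have h2 := prodX_inj hC posRoots_sorted (fun s hs => (mem_posRoots hC).1 hs) e1 (wL D L r)
    ((mem_posRoots hC).2 (hQS _ hwQ))
  simp only [List.contains_iff_mem, hwQ, if_true, hout, if_false, F', f',
    wL_reverse hC hL (hS r hr).1, dif_pos hr] at h2
  exact mul_ne_zero (hη0 ⟨r, hr⟩) hfr h2

end Cfsg.Agent.SimpleFacts.ChevalleyPairCentralizer
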