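import Cfsg.Agent.SimpleFacts.ChevalleyRadical

/-!
Weakly closed subgroups of `U` are the unipotent radicals.
-/

set_option autoImplicit false

open scoped Matrix commutatorElement Pointwise

namespace Cfsg.Agent.SimpleFacts.ChevalleyWeaklyClosed

open Cfsg.Lie Cfsg.Agent.Chevalley.Table Cfsg.Agent.Chevalley.Check Cfsg.Agent.Chevalley.Cert
  Cfsg.Agent.Chevalley.Eval Cfsg.Agent.Chevalley.Group Cfsg.Agent.Chevalley.Unip
  Cfsg.Agent.Chevalley.Borel Cfsg.Agent.Chevalley.Bruhat Cfsg.Agent.Chevalley.Coef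
  Cfsg.Agent.SimpleFacts.ChevalleyRadical

variable {D : ChevalleyDatum} {T : Tab}

/-- A subgroup supplementing the derived group of a finite nilpotent group is everything. -/
theorem eq_top_of_sup_commutator {G : Type*} [Group G] [Finite G] [Group.IsNilpotent G]
    {H : Subgroup G} (h : H ⊔ commutator G = ⊤) : H = ⊤ := by
  by_contra hne
  obtain ⟨M, hM, hHM⟩ := (eq_top_or_exists_le_coatom H).resolve_left hne
  haveI hMn : M.Normal := Subgroup.NormalizerCondition.normal_of_coatom M Group.normalizerCondition_of_isNilpotent hM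
  obtain ⟨x, hx⟩ : ∃ x, x ∉ M := by
    by_contra hc
    simp only [not_exists, not_not] at hc
    exact hM.1 ((Subgroup.eq_top_iff' M).2 hc)
  have hsup : M ⊔ Subgroup.zpowers x = ⊤ := by
    refine hM.2 _ (lt_of_le_of_ne le_sup_left fun e => hx ?_)
    rw [e]; exact Subgroup.mem_sup_right (Subgroup.mem_zpowers x)
  have hgen : ∀ g : G, ∃ k : ℤ, (QuotientGroup.mk g : G ⧸ M) = (QuotientGroup.mk x) ^ k := by
    intro g
    have hg : g ∈ M ⊔ Subgroup.zpowers x := by rw [hsup]; trivial
    obtain ⟨m, hm, y, ⟨k, rfl⟩, rfl⟩ := Subgroup.mem_sup_of_normal_left.1 hg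
    exact ⟨k, by rw [QuotientGroup.mk_mul, (QuotientGroup.eq_one_iff m).2 hm, one_mul, QuotientGroup.mk_zpow]⟩
  have hc : commutator G ≤ M := by
    rw [commutator_def, Subgroup.commutator_le]
    intro a _ b _
    rw [← QuotientGroup.eq_one_iff (N := M)]
    obtain ⟨i, hi⟩ := hgen a
    obtain ⟨j, hj⟩ := hgen b
    show QuotientGroup.mk' M ⁅a, b⁆ = 1
    rw [map_commutatorElement, commutatorElement_eq_one_iff_mul_comm, QuotientGroup.mk'_apply,
      QuotientGroup.mk'_apply, hi, hj, ← zpow_add, ← zpow_add, add_comm]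
  exact hM.1 (top_le_iff.1 (h ▸ sup_le hHM hc))

variable {F : Type*} [Field F]

open Classical in
/-- The image of an element of `U` in the abelianisation of `U`. -/
noncomputable def ab (D : ChevalleyDatum) (F : Type*) [Field F] (g : GL D.Idx F) :
    Abelianization ↥(D.posUnipotent F) :=
  if h : g ∈ D.posUnipotent F then Abelianization.of ⟨g, h⟩ else 1

theorem ab_of {g : GL D.Idx F} (h : g ∈ D.posUnipotent F) :
    ab D F g = Abelianization.of ⟨g, h⟩ := dif_pos h

theorem ab_mul {g g' : GL D.Idx F} (h : g ∈ D.posUnipotent F) (h' : g' ∈ D.posUnipotent F) :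
    ab D F (g * g') = ab D F g * ab D F g' := by
  rw [ab_of h, ab_of h', ab_of (mul_mem h h'), ← map_mul]; rfl

theorem ab_one : ab D F (1 : GL D.Idx F) = 1 := by
  rw [ab_of (one_mem _)]; exact map_one _

theorem ab_inv {g : GL D.Idx F} (h : g ∈ D.posUnipotent F) : ab D F g⁻¹ = (ab D F g)⁻¹ := by
  rw [ab_of h, ab_of (inv_mem h), ← map_inv]; rfl

theorem ab_prod : ∀ l : List (GL D.Idx F), (∀ g ∈ l, g ∈ D.posUnipotent F) →
    ab D F l.prod = (l.map (ab D F)).prod
  | [], _ => by simp [ab_one]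
  | a :: l, h => by
    rw [List.prod_cons, List.map_cons, List.prod_cons,
      ab_mul (h a List.mem_cons_self) (list_prod_mem fun g hg => h g (List.mem_cons_of_mem a hg)),
      ab_prod l fun g hg => h g (List.mem_cons_of_mem a hg)]

variable (hC : Certified D T)
include hC

/-- The commutator formula in the abelianisation. -/
theorem ab_commWord {r s : ℕ} (hr : r < D.nroots) (hs : s < D.nroots) (hp : 0 < T.phi r)
    (hps : 0 < T.phi s) (hne : s ≠ r) (t u : F) :
    ((D.commTerms r s).map fun c =>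
      ab D F (xg hC c.1 ((c.2.1 : F) * (-t) ^ c.2.2.1 * u ^ c.2.2.2))).prod = 1 := by
  have hsn : s ≠ D.neg r := by
    rintro rfl
    rw [hC.phi_neg hr] at hps
    omega
  have hU := xg_mem_U (F := F) hC hr hp
  have hU' := xg_mem_U (F := F) hC hs hps
  have hW : ∀ g ∈ (D.commWord F r s t u).map (fun p => xg hC p.1 p.2), g ∈ D.posUnipotent F := by
    intro g hg
    obtain ⟨p, hp', rfl⟩ := List.mem_map.1 hg
    simp only [ChevalleyDatum.commWord, List.mem_map] at hp'
    obtain ⟨c, hc, rfl⟩ := hp'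
    obtain ⟨hk, i, j, hi, hj, hphi⟩ := commTerms_phi hC hr hs c hc
    refine xg_mem_U hC hk ?_ _
    rw [hphi]
    have : (0 : ℤ) < i := by exact_mod_cast hi
    positivity
  have h := congrArg (ab D F) (xg_comm hC hr hs hne hsn t u)
  rw [ab_mul (hU' u) (hU t), ab_mul (mul_mem (hU t) (hU' u)) (list_prod_mem hW), ab_mul (hU t) (hU' u),
    mul_comm (ab D F (xg hC s u)), left_eq_mul, ab_prod _ hW, ChevalleyDatum.commWord, List.map_map,
    List.map_map] at h
  exact h

theorem ab_xg_add {r : ℕ} (hr : r < D.nroots) (hp : 0 < T.phi r) (t u : F) :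
    ab D F (xg hC r (t + u)) = ab D F (xg hC r t) * ab D F (xg hC r u) := by
  rw [xg_add hC, ab_mul (xg_mem_U hC hr hp t) (xg_mem_U hC hr hp u)]

/-- A single commutator term with a unit coefficient. -/
theorem ab_single {r s k : ℕ} (hr : r < D.nroots) (hs : s < D.nroots) (hp : 0 < T.phi r)
    (hps : 0 < T.phi s) (hne : s ≠ r) {c : ℤ} (hc : c = 1 ∨ c = -1)
    (h : D.commTerms r s = [(k, c, 1, 1)]) (v : F) : ab D F (xg hC k v) = 1 := by
  have hw := ab_commWord hC hr hs hp hps hne (-1 : F) ((c : F) * v)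
  simp only [h, List.map_cons, List.map_nil, List.prod_cons, List.prod_nil, mul_one, pow_one,
    neg_neg] at hw
  rcases hc with rfl | rfl <;> simpa using hw

/-- Two commutator terms with unit coefficients. -/
theorem ab_double {r s k l : ℕ} (hr : r < D.nroots) (hs : s < D.nroots) (hp : 0 < T.phi r)
    (hps : 0 < T.phi s) (hne : s ≠ r) {c d : ℤ} (hc : c = 1 ∨ c = -1) (hd : d = 1 ∨ d = -1)
    (h : D.commTerms r s = [(k, c, 1, 1), (l, d, 2, 1)]) (hl : l < D.nroots) (hpl : 0 < T.phi l)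
    {σ : F} (hσ0 : σ ≠ 0) (hσ1 : σ ≠ 1) (v : F) :
    ab D F (xg hC k v) = 1 ∧ ab D F (xg hC l v) = 1 := by
  have hw : ∀ t u : F, ab D F (xg hC k ((c : F) * t * u)) *
      ab D F (xg hC l ((d : F) * t ^ 2 * u)) = 1 := fun t u => by
    have := ab_commWord hC hr hs hp hps hne (-t) u
    simpa [h] using this
  have hl' : ∀ v, ab D F (xg hC l v) = 1 := by
    intro v
    have hσ2 : σ ^ 2 - σ ≠ 0 := by
      rw [pow_two, show σ * σ - σ = σ * (σ - 1) by ring]
      exact mul_ne_zero hσ0 (sub_ne_zero.2 hσ1)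
    obtain ⟨u, hu⟩ : ∃ u, u = (d : F) * v * (σ ^ 2 - σ)⁻¹ := ⟨_, rfl⟩
    have h1 := hw σ u
    have h2 := hw 1 (σ * u)
    rw [show (c : F) * 1 * (σ * u) = c * σ * u by ring] at h2
    have e := h1.trans h2.symm
    rw [mul_right_inj] at e
    have hadd := ab_xg_add hC hl hpl ((d : F) * 1 ^ 2 * (σ * u)) v
    rw [← e] at hadd
    have hv : (d : F) * 1 ^ 2 * (σ * u) + v = (d : F) * σ ^ 2 * u := by
      have hdd : (d : F) * d = 1 := by rcases hd with rfl | rfl <;> simp
      have hv' : v = (d : F) * u * (σ ^ 2 - σ) := by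
        rw [hu]
        calc v = ((d : F) * d) * v * ((σ ^ 2 - σ)⁻¹ * (σ ^ 2 - σ)) := by
              rw [hdd, inv_mul_cancel₀ hσ2]; ring
          _ = _ := by ring
      rw [hv']; ring
    rw [hv, left_eq_mul] at hadd
    exact hadd
  refine ⟨?_, hl' v⟩
  have := hw 1 ((c : F) * v)
  rw [hl', mul_one] at this
  rcases hc with rfl | rfl <;> simpa using this

omit hC in
/-- A root reached by one of the two shapes of commutators. -/
def shapeOk (D : ChevalleyDatum) (r a b : ℕ) : Bool :=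
  (D.posRoots.contains a && D.posRoots.contains b && a != b) &&
    match D.commTerms a b with
    | [(k, c, 1, 1)] => k == r && (c == 1 || c == -1)
    | [(k, c, 1, 1), (l, d, 2, 1)] => (k == r || l == r) && (c == 1 || c == -1) && (d == 1 || d == -1) &&
        D.posRoots.contains l
    | _ => false

theorem ab_of_shape {r a b : ℕ} (h : shapeOk D r a b = true) {σ : F} (hσ0 : σ ≠ 0) (hσ1 : σ ≠ 1)
    (v : F) : ab D F (xg hC r v) = 1 := by
  simp only [shapeOk, Bool.and_eq_true, List.contains_iff_mem, bne_iff_ne] at h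
  obtain ⟨⟨⟨ha, hb⟩, hne⟩, hm⟩ := h
  obtain ⟨ha1, ha2⟩ := (mem_posRoots hC).1 ha
  obtain ⟨hb1, hb2⟩ := (mem_posRoots hC).1 hb
  split at hm
  · rename_i k c heq
    simp only [Bool.and_eq_true, beq_iff_eq, Bool.or_eq_true] at hm
    obtain ⟨rfl, hc⟩ := hm
    exact ab_single hC ha1 hb1 ha2 hb2 (Ne.symm hne) hc heq v
  · rename_i k c l d heq
    simp only [Bool.and_eq_true, beq_iff_eq, Bool.or_eq_true, List.contains_iff_mem] at hm
    obtain ⟨⟨⟨hk, hc⟩, hd⟩, hl⟩ := hm
    obtain ⟨hl1, hl2⟩ := (mem_posRoots hC).1 hl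
    have hboth := ab_double hC ha1 hb1 ha2 hb2 (Ne.symm hne) hc hd heq hl1 hl2 hσ0 hσ1 v
    rcases hk with rfl | rfl
    exacts [hboth.1, hboth.2]
  · exact absurd hm Bool.false_ne_true

/-- **Weakly closed subgroups of `U` are unipotent radicals.** -/
theorem weakly_closed_eq_radical [Finite F] (p : ℕ) [Fact p.Prime] [CharP F p]
    {N : List (List ℤ)} (hN : coefChk T N = true)
    (hgen : ∀ r < D.nroots, 0 < T.phi r → (∀ i < D.rank, r ≠ D.simple i) →
      ∀ v : F, ab D F (xg hC r v) = 1)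
    (hsep : ∀ i < D.rank, ∀ j < D.rank, i ≠ j → ∃ c : ℕ → Fˣ,
      torChar D c (D.simple j) = 1 ∧ torChar D c (D.simple i) ≠ 1)
    (X : Subgroup (GL D.Idx F)) (hXU : X ≤ D.posUnipotent F)
    (hwc : ∀ g ∈ D.group F, X.map (MulAut.conj g).toMonoidHom ≤ D.posUnipotent F →
      X.map (MulAut.conj g).toMonoidHom = X) :
    ∃ J : Set ℕ, (∀ j ∈ J, j < D.rank) ∧ X = D.unipotentRadical F J := by
  classical
  obtain ⟨n, hn⟩ : ∃ n : ℕ → GL D.Idx F, n = fun i => ng hC (D.simple i) 1 := ⟨_, rfl⟩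
  let Nx : Subgroup (GL D.Idx F) := Subgroup.normalizer (X : Set (GL D.Idx F))
  obtain ⟨J, hJdef⟩ : ∃ J : Set ℕ, J = {i | i < D.rank ∧ n i ∈ Nx} := ⟨_, rfl⟩
  refine ⟨J, fun j hj => by rw [hJdef] at hj; exact hj.1, ?_⟩
  have hNx : ∀ g : GL D.Idx F, X.map (MulAut.conj g).toMonoidHom = X → g ∈ Nx := by
    intro g hg
    refine Subgroup.mem_normalizer_iff.2 fun x => ⟨fun hx => ?_, fun hx => ?_⟩
    · rw [← hg]; exact ⟨x, hx, rfl⟩
    · rw [← hg] at hx
      obtain ⟨y, hy, e⟩ := hx
      have : y = x := (MulAut.conj g).injective e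
      exact this ▸ hy
  -- `B` normalises `X`
  have hUN : D.posUnipotent F ≤ Nx := fun u hu => hNx u <| hwc u (B_le_group hC (Subgroup.mem_sup_left hu)) (by
    rintro _ ⟨x, hx, rfl⟩
    exact mul_mem (mul_mem hu (hXU hx)) (inv_mem hu))
  have htorU : ∀ c : ℕ → Fˣ, ∀ u ∈ D.posUnipotent F, tor D c * u * (tor D c)⁻¹ ∈ D.posUnipotent F := by
    intro c u hu
    rw [U_eq_closure hC] at hu ⊢
    refine conj_closure_le ?_ u hu
    rintro x ⟨r, t, hr, hp, rfl⟩
    rw [tor_conj_x hC c r t hr]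
    exact Subgroup.subset_closure ⟨r, _, hr, hp, rfl⟩
  have htor : ∀ c : ℕ → Fˣ, tor D c ∈ Nx := fun c =>
    hNx _ <| hwc _ (B_le_group hC (Subgroup.mem_sup_right (tor_mem_H hC c))) (by
      rintro _ ⟨x, hx, rfl⟩
      exact htorU c x (hXU hx))
  -- `X ≤ U_J`
  have hXJ : X ≤ D.unipotentRadical F J := by
    intro g hg
    have hnorm := Cfsg.Agent.Chevalley.Parabolic.normalizes (F := F) hC hN J
    obtain ⟨L, hL, hneg⟩ := exists_longest_sub hC J
    have hL0 : ∀ i ∈ L, i < D.rank := fun i hi => (hL i hi).1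
    obtain ⟨m, hmd⟩ : ∃ m, m = nL hC F L := ⟨_, rfl⟩
    have hmP : m ∈ D.parabolicSubgroup F J := by
      rw [hmd]
      refine list_prod_mem fun x hx => ?_
      obtain ⟨i, hi, rfl⟩ := List.mem_map.1 hx
      exact Cfsg.Agent.Chevalley.Parabolic.ng_mem_parabolic hC (hL i hi).1 (hL i hi).2
    have hmN : m ∈ Nx := by
      rw [hmd]
      refine list_prod_mem fun x hx => ?_
      obtain ⟨i, hi, rfl⟩ := List.mem_map.1 hx
      have := (hL i hi).2
      rw [hJdef, hn] at this
      exact this.2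
    have hgn : m * g * m⁻¹ ∈ D.posUnipotent F := hXU ((Subgroup.mem_normalizer_iff.1 hmN g).1 hg)
    have hgU := hXU hg
    rw [← Uge_zero hC] at hgU
    obtain ⟨f, hf⟩ := split_decomp hC (fun s => decide (¬ D.InRootSub J s)) 0 _ hgU
    obtain ⟨A, hA⟩ : ∃ A : GL D.Idx F, A = prodX hC
        ((posFrom D 0).filter fun s => decide (¬ D.InRootSub J s)) f := ⟨_, rfl⟩
    obtain ⟨B, hB⟩ : ∃ B : GL D.Idx F, B = prodX hC
        ((posFrom D 0).filter fun s => !decide (¬ D.InRootSub J s)).reverse f := ⟨_, rfl⟩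
    rw [← hA, ← hB] at hf
    have hAR : A ∈ D.unipotentRadical F J := by
      rw [hA]
      refine list_prod_mem fun y hy => ?_
      obtain ⟨s, hs, rfl⟩ := List.mem_map.1 hy
      obtain ⟨hs', hq⟩ := List.mem_filter.1 hs
      obtain ⟨h3, h4, -⟩ := (mem_posFrom hC).1 hs'
      exact Subgroup.subset_closure
        ⟨s, _, (hC.posRoot_iff h3).2 h4, of_decide_eq_true hq, coe_xg hC _ _⟩
    have hB1 : m * B * m⁻¹ = 1 := by
      refine U_inf_V hC ?_ ?_
      · have e : m * B * m⁻¹ = (m * A * m⁻¹)⁻¹ * (m * g * m⁻¹) := by rw [hf]; group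
        rw [e]
        exact mul_mem
          (inv_mem (radical_le_U hC J ((Subgroup.mem_normalizer_iff.1 (hnorm hmP) A).1 hAR))) hgn
      · have : B ∈ (D.negUnipotent F).comap (MulAut.conj m).toMonoidHom := by
          rw [hB]
          refine list_prod_mem fun y hy => ?_
          obtain ⟨s, hs, rfl⟩ := List.mem_map.1 hy
          obtain ⟨hs', hq⟩ := List.mem_filter.1 (List.mem_reverse.1 hs)
          obtain ⟨h3, h4, -⟩ := (mem_posFrom hC).1 hs'
          obtain ⟨η, -, e⟩ := nL_conj_x (F := F) hC hL0 h3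
          show m * xg hC s (f s) * m⁻¹ ∈ D.negUnipotent F
          rw [hmd, e]
          exact xg_mem_V hC (wL_lt hC hL0 h3) (hneg s (by simpa using hq) h4) _
        exact this
    rw [mul_inv_eq_one, mul_eq_left] at hB1
    rw [hf, hB1, mul_one]
    exact hAR
  -- coordinates on the fundamental roots
  obtain ⟨φ, hφ⟩ : ∃ φ : ℕ → F → Abelianization ↥(D.posUnipotent F),
      φ = fun i t => ab D F (xg hC (D.simple i) t) := ⟨_, rfl⟩
  have φ_add : ∀ i < D.rank, ∀ t u : F, φ i (t + u) = φ i t * φ i u := fun i hi t u => by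
    rw [hφ]; exact ab_xg_add hC (hC.simple_lt hi) (hC.phi_simple hi) t u
  have φ_zero : ∀ i, φ i 0 = 1 := fun i => by rw [hφ]; simp only [xg_zero hC, ab_one]
  let Φ : (ℕ → F) → Abelianization ↥(D.posUnipotent F) := fun f =>
    ∏ i ∈ Finset.range D.rank, φ i (f i)
  have Φ_add : ∀ f f' : ℕ → F, Φ (f + f') = Φ f * Φ f' := fun f f' => by
    simp only [Φ, ← Finset.prod_mul_distrib]
    exact Finset.prod_congr rfl fun i hi => φ_add i (Finset.mem_range.1 hi) _ _
  have Φ_single : ∀ i < D.rank, ∀ t, Φ (Pi.single i t) = φ i t := fun i hi t => by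
    simp only [Φ]
    rw [Finset.prod_eq_single i]
    · rw [Pi.single_eq_same]
    · intro j _ hne; rw [Pi.single_eq_of_ne hne, φ_zero]
    · intro hh; exact absurd (Finset.mem_range.2 hi) hh
  have coords : ∀ g ∈ D.posUnipotent F, ∃ f : ℕ → F, ab D F g = Φ f ∧
      ∀ i < D.rank, g * xg hC (D.simple i) (-f i) ∈ Uom hC F (D.simple i) := by
    intro g hg
    rw [U_eq_closure hC] at hg
    induction hg using Subgroup.closure_induction with
    | mem x hx =>
      obtain ⟨r, t, hr, hp, rfl⟩ := hx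
      by_cases hs : ∃ i < D.rank, r = D.simple i
      · obtain ⟨i, hi, rfl⟩ := hs
        refine ⟨Pi.single i t, by rw [Φ_single i hi, hφ], fun j hj => ?_⟩
        by_cases hij : j = i
        · subst hij
          rw [Pi.single_eq_same, ← xg_add hC, add_neg_cancel, xg_zero hC]
          exact one_mem _
        · rw [Pi.single_eq_of_ne hij, neg_zero, xg_zero hC, mul_one]
          exact Subgroup.subset_closure
            ⟨_, t, hr, ⟨hp, fun e => hij (hC.simple_inj hi hj e).symm⟩, rfl⟩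
      · simp only [not_exists, not_and] at hs
        refine ⟨0, ?_, fun j hj => ?_⟩
        · rw [hgen r hr hp hs t]
          exact (Finset.prod_eq_one fun i _ => by rw [Pi.zero_apply, φ_zero]).symm
        · rw [Pi.zero_apply, neg_zero, xg_zero hC, mul_one]
          exact Subgroup.subset_closure ⟨_, t, hr, ⟨hp, hs j hj⟩, rfl⟩
    | one =>
      refine ⟨0, ?_, fun j hj => ?_⟩
      · rw [ab_one]
        exact (Finset.prod_eq_one fun i _ => by rw [Pi.zero_apply, φ_zero]).symm
      · rw [Pi.zero_apply, neg_zero, xg_zero hC, mul_one]; exact one_mem _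
    | mul x y hx hy ihx ihy =>
      obtain ⟨f, hf, hf'⟩ := ihx
      obtain ⟨f', hf2, hf2'⟩ := ihy
      rw [← U_eq_closure hC] at hx hy
      refine ⟨f + f', by rw [ab_mul hx hy, hf, hf2, Φ_add], fun i hi => ?_⟩
      have e : x * y * xg hC (D.simple i) (-(f + f') i) = x * xg hC (D.simple i) (-f i) *
          (xg hC (D.simple i) (f i) * (y * xg hC (D.simple i) (-f' i)) *
            (xg hC (D.simple i) (f i))⁻¹) := by
        rw [show -(f + f') i = -f' i + -f i by rw [Pi.add_apply]; ring, xg_add hC,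
          ← xg_inv hC (D.simple i) (f i)]
        group
      rw [e]
      exact mul_mem (hf' i hi)
        ((Subgroup.mem_normalizer_iff.1 (xg_normalizes_Uom hC hi (f i)) _).1 (hf2' i hi))
    | inv x hx ihx =>
      obtain ⟨f, hf, hf'⟩ := ihx
      rw [← U_eq_closure hC] at hx
      refine ⟨-f, ?_, fun i hi => ?_⟩
      · have h1 : Φ (-f) * Φ f = 1 := by
          rw [← Φ_add, neg_add_cancel]
          exact Finset.prod_eq_one fun i _ => by rw [Pi.zero_apply, φ_zero]
        rw [ab_inv hx, hf]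
        exact (eq_inv_of_mul_eq_one_left h1).symm
      · have e : x⁻¹ * xg hC (D.simple i) (-(-f) i) = xg hC (D.simple i) (-f i) *
            (x * xg hC (D.simple i) (-f i))⁻¹ * (xg hC (D.simple i) (-f i))⁻¹ := by
          rw [Pi.neg_apply, neg_neg, mul_inv_rev, ← xg_inv hC (D.simple i) (f i), inv_inv]
          group
        rw [e]
        exact (Subgroup.mem_normalizer_iff.1 (xg_normalizes_Uom hC hi _) _).1 (inv_mem (hf' i hi))
  -- the image of `X`
  let M : Subgroup (Abelianization ↥(D.posUnipotent F)) :=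
    (X.subgroupOf (D.posUnipotent F)).map Abelianization.of
  have hscale : ∀ (c : ℕ → Fˣ) (f : ℕ → F), Φ f ∈ M →
      Φ (fun i => (torChar D c (D.simple i) : F) * f i) ∈ M := by
    intro c f hf
    let σ : ↥(D.posUnipotent F) →* ↥(D.posUnipotent F) :=
      { toFun := fun u => ⟨tor D c * u.1 * (tor D c)⁻¹, htorU c u.1 u.2⟩
        map_one' := Subtype.ext (by simp)
        map_mul' := fun u v => Subtype.ext (by simp [mul_assoc]) }
    have hφσ : ∀ i < D.rank, ∀ t : F,
        φ i ((torChar D c (D.simple i) : F) * t) = Abelianization.map σ (φ i t) := by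
      intro i hi t
      rw [hφ]
      simp only
      rw [← tor_conj_x hC c _ t (hC.simple_lt hi),
        ab_of (xg_mem_U hC (hC.simple_lt hi) (hC.phi_simple hi) t),
        ab_of (htorU c _ (xg_mem_U hC (hC.simple_lt hi) (hC.phi_simple hi) t))]
      rfl
    have : Φ (fun i => (torChar D c (D.simple i) : F) * f i) = Abelianization.map σ (Φ f) := by
      simp only [Φ, map_prod]
      exact Finset.prod_congr rfl fun i hi => hφσ i (Finset.mem_range.1 hi) _
    rw [this]
    obtain ⟨x, hx, e⟩ := hf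
    refine ⟨σ x, (Subgroup.mem_normalizer_iff.1 (htor c) _).1 hx, ?_⟩
    rw [← e]; rfl
  have hsub : ∀ f f' : ℕ → F, Φ f ∈ M → Φ f' ∈ M → Φ (f - f') ∈ M := by
    intro f f' h h'
    have : Φ (f - f') * Φ f' = Φ f := by rw [← Φ_add, sub_add_cancel]
    rw [eq_mul_inv_of_mul_eq this]
    exact mul_mem h (inv_mem h')
  -- every fundamental root group outside `J` lies in the image of `X`
  have hroot : ∀ i < D.rank, i ∉ J → ∀ t : F, φ i t ∈ M := by
    intro i hi hiJ
    obtain ⟨x, hx, hxU⟩ : ∃ x ∈ X, x ∉ Uom hC F (D.simple i) := by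
      by_contra hcon
      simp only [not_exists, not_and, not_not] at hcon
      refine hiJ ?_
      rw [hJdef, hn]
      refine ⟨hi, hNx _ (hwc _ (N_le_group hC (ng_mem_N hC hi)) ?_)⟩
      rintro _ ⟨y, hy, rfl⟩
      exact Uom_le_U hC _ ((Subgroup.mem_normalizer_iff.1 (ng_normalizes_Uom hC hi) y).1 (hcon y hy))
    obtain ⟨f, hf, hf'⟩ := coords x (hXU hx)
    have hfi : f i ≠ 0 := fun e => hxU (by
      have := hf' i hi
      rwa [e, neg_zero, xg_zero hC, mul_one] at this)
    have hfM : Φ f ∈ M := by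
      rw [← hf, ab_of (hXU hx)]
      exact ⟨⟨x, hXU hx⟩, hx, rfl⟩
    -- remove the other coordinates
    have elim : ∀ s : Finset ℕ, ∃ g : ℕ → F, g i ≠ 0 ∧ Φ g ∈ M ∧
        ∀ j ∈ s, j < D.rank → j ≠ i → g j = 0 := by
      intro s
      induction s using Finset.induction_on with
      | empty => exact ⟨f, hfi, hfM, by simp⟩
      | insert a s _ ih =>
        obtain ⟨g, hg, hgM, hgz⟩ := ih
        by_cases ha : a < D.rank ∧ a ≠ i
        · obtain ⟨c, hc1, hc2⟩ := hsep i hi a ha.1 (Ne.symm ha.2)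
          refine ⟨(fun k => (torChar D c (D.simple k) : F) * g k) - g, ?_,
            hsub _ _ (hscale c g hgM) hgM, ?_⟩
          · rw [Pi.sub_apply, sub_ne_zero]
            intro e
            exact hc2 (Units.ext (mul_right_cancel₀ hg (e.trans (one_mul _).symm)))
          · intro j hj hjr hji
            rw [Pi.sub_apply]
            rcases Finset.mem_insert.1 hj with rfl | hj
            · rw [hc1, Units.val_one, one_mul, sub_self]
            · rw [hgz j hj hjr hji, mul_zero, sub_zero]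
        · refine ⟨g, hg, hgM, fun j hj hjr hji => ?_⟩
          rcases Finset.mem_insert.1 hj with rfl | hj
          · exact absurd ⟨hjr, hji⟩ ha
          · exact hgz j hj hjr hji
    obtain ⟨g, hg, hgM, hgz⟩ := elim (Finset.range D.rank)
    obtain ⟨a, ha, haM⟩ : ∃ a : F, a ≠ 0 ∧ φ i a ∈ M := by
      refine ⟨g i, hg, ?_⟩
      have : Φ g = φ i (g i) := by
        simp only [Φ]
        rw [Finset.prod_eq_single i]
        · intro j hj hne; rw [hgz j hj (Finset.mem_range.1 hj) hne, φ_zero]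
        · intro hh; exact absurd (Finset.mem_range.2 hi) hh
      rwa [← this]
    have hsq : ∀ s : F, φ i (s * s * a) ∈ M := by
      intro s
      by_cases hs : s = 0
      · simp only [hs, zero_mul, φ_zero]; exact one_mem _
      obtain ⟨c, hcd⟩ : ∃ c : ℕ → Fˣ, c = fun k => if k = i then Units.mk0 s hs else 1 := ⟨_, rfl⟩
      have hχ : (torChar D c (D.simple i) : F) = s * s := by
        rw [torChar, Finset.prod_eq_single i]
        · simp [hcd, hC.cartan_simple hi, pow_two]
        · intro j _ hne; simp [hcd, hne]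
        · intro hh; exact absurd (Finset.mem_range.2 hi) hh
      have h1 := hscale c (Pi.single i a) (by rw [Φ_single i hi]; exact haM)
      have e : (fun k => (torChar D c (D.simple k) : F) * (Pi.single i a : ℕ → F) k) =
          Pi.single i (s * s * a) := by
        funext k
        by_cases hk : k = i
        · subst hk; rw [Pi.single_eq_same, Pi.single_eq_same, hχ]
        · rw [Pi.single_eq_of_ne hk, Pi.single_eq_of_ne hk, mul_zero]
      rwa [e, Φ_single i hi] at h1
    intro t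
    haveI : Fintype F := Fintype.ofFinite F
    by_cases h2 : (2 : F) = 0
    · have hch : ringChar F = 2 :=
        CharP.ringChar_of_prime_eq_zero Nat.prime_two (by exact_mod_cast h2)
      obtain ⟨s, hs⟩ := FiniteField.isSquare_of_char_two hch (t / a)
      have := hsq s
      rwa [← hs, div_mul_cancel₀ _ ha] at this
    · obtain ⟨u, hu⟩ : ∃ u, u = t / a := ⟨_, rfl⟩
      have e : t = (u + 1) / 2 * ((u + 1) / 2) * a + -((u - 1) / 2 * ((u - 1) / 2) * a) := by
        rw [hu]; field_simp; ring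
      have hinv : φ i (-((u - 1) / 2 * ((u - 1) / 2) * a)) =
          (φ i ((u - 1) / 2 * ((u - 1) / 2) * a))⁻¹ :=
        eq_inv_of_mul_eq_one_left (by rw [← φ_add i hi, neg_add_cancel, φ_zero])
      rw [e, φ_add i hi, hinv]
      exact mul_mem (hsq _) (inv_mem (hsq _))
  -- conclusion
  let Y : Subgroup (GL D.Idx F) := Subgroup.closure {g | ∃ (r : ℕ) (t : F), r < D.nroots ∧
    0 < T.phi r ∧ D.InRootSub J r ∧ g = xg hC r t}
  have hYU : Y ≤ D.posUnipotent F := (Subgroup.closure_le _).2 fun g ⟨r, t, hr, hp, _, hg⟩ => by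
    rw [hg]; exact xg_mem_U hC hr hp t
  have hYL : Y ≤ D.leviSubgroup F J := (Subgroup.closure_le _).2 fun g ⟨r, t, hr, hp, hJ, hg⟩ => by
    rw [hg]
    exact Subgroup.mem_sup_right (Subgroup.subset_closure ⟨r, t, hJ, coe_xg hC r t⟩)
  haveI : Group.IsNilpotent ↥(D.posUnipotent F) := (isPGroup_U (F := F) hC p).isNilpotent
  have htop : (X ⊔ Y).subgroupOf (D.posUnipotent F) = ⊤ := by
    refine eq_top_of_sup_commutator ?_
    rw [← Abelianization.ker_of, ← Subgroup.comap_map_eq]
    refine (Subgroup.eq_top_iff' _).2 fun u => Subgroup.mem_comap.2 ?_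
    obtain ⟨f, hf, -⟩ := coords u.1 u.2
    rw [ab_of u.2] at hf
    rw [hf]
    refine Subgroup.prod_mem _ fun i hi => ?_
    have hi' := Finset.mem_range.1 hi
    by_cases hiJ : i ∈ J
    · have hU := xg_mem_U (F := F) hC (hC.simple_lt hi') (hC.phi_simple hi') (f i)
      refine ⟨⟨_, hU⟩, Subgroup.mem_sup_right (Subgroup.subset_closure
        ⟨_, f i, hC.simple_lt hi', hC.phi_simple hi',
          (Cfsg.Agent.Chevalley.Parabolic.simple_inRootSub hC hi' hiJ).1, rfl⟩), ?_⟩
      rw [hφ]; exact (ab_of hU).symm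
    · obtain ⟨y, hy, e⟩ := hroot i hi' hiJ (f i)
      exact ⟨y, Subgroup.mem_sup_left hy, e⟩
  refine le_antisymm hXJ fun g hg => ?_
  have hgU := radical_le_U hC J hg
  have hgXY : (⟨g, hgU⟩ : ↥(D.posUnipotent F)) ∈ (X ⊔ Y).subgroupOf (D.posUnipotent F) := by
    rw [htop]; trivial
  have hgXY' : g ∈ (X : Set (GL D.Idx F)) * (Y : Set (GL D.Idx F)) := by
    rw [← Subgroup.coe_mul_of_right_le_normalizer_left X Y (hYU.trans hUN)]
    exact hgXY
  obtain ⟨x, hx, y, hy, rfl⟩ := Set.mem_mul.1 hgXY'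
  have hyU : y ∈ D.unipotentRadical F J := by
    simpa using mul_mem (inv_mem (hXJ hx)) hg
  have hy1 : y ∈ (⊥ : Subgroup (GL D.Idx F)) := by
    rw [← Cfsg.Agent.Chevalley.Parabolic.radical_inf_levi hC hN J]; exact ⟨hyU, hYL hy⟩
  rw [Subgroup.mem_bot.1 hy1, mul_one]
  exact hx

end Cfsg.Agent.SimpleFacts.ChevalleyWeaklyClosed
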