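import Cfsg.Agent.SimpleFacts.ChevalleyRadical
import Mathlib.Analysis.Fourier.FiniteAbelian.PontryaginDuality

/-!
Non-degenerate linear characters of `U`, and the elements negating every positive root.
-/

set_option autoImplicit false

open scoped Matrix

namespace Cfsg.Agent.SimpleFacts.ChevalleyWhittaker

open Cfsg.Lie Cfsg.Agent.Chevalley.Table Cfsg.Agent.Chevalley.Check Cfsg.Agent.Chevalley.Cert
  Cfsg.Agent.Chevalley.Eval Cfsg.Agent.Chevalley.Group Cfsg.Agent.Chevalley.Unip
  Cfsg.Agent.Chevalley.Borel Cfsg.Agent.Chevalley.Bruhat Cfsg.Agent.Chevalley.Coef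
  Cfsg.Agent.Chevalley.Weyl Cfsg.Agent.Chevalley.Graded
  Cfsg.Agent.SimpleFacts.ChevalleyRadical

variable {D : ChevalleyDatum} {T : Tab} {F : Type*} [Field F] (hC : Certified D T)
include hC

theorem eq_zero_of_mem_Uom {i : ℕ} (hi : i < D.rank) {t : F}
    (h : xg hC (D.simple i) t ∈ Uom hC F (D.simple i)) : t = 0 := by
  have hlt := hC.simple_lt hi
  have h1 := Uom_le_U hC _ ((Subgroup.mem_normalizer_iff.1 (ng_normalizes_Uom hC hi) _).1 h)
  rw [ng_conj_x hC hi hlt, hC.reflect_simple hi] at h1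
  have h2 := U_inf_V hC h1 (xg_mem_V hC (hC.neg_lt hlt)
    (by rw [hC.phi_neg hlt]; have := hC.phi_simple hi; omega) _)
  rw [← xg_zero hC (D.neg (D.simple i))] at h2
  obtain ⟨η, hη, he⟩ := eta_field (F := F) (i := i) (r := D.simple i) hC
  have h3 := xg_injective hC (hC.neg_lt hlt) h2
  rw [← he] at h3
  exact (mul_eq_zero.1 h3).resolve_left hη

theorem exists_coord {i : ℕ} (hi : i < D.rank) {g : GL D.Idx F} (hg : g ∈ D.posUnipotent F) :
    ∃ t : F, g * xg hC (D.simple i) (-t) ∈ Uom hC F (D.simple i) := by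
  obtain ⟨v, hv, t, rfl⟩ := U_split hC (hC.simple_lt hi) (hC.phi_simple hi) hg
  exact ⟨t, by rwa [mul_assoc, ← xg_add hC, add_neg_cancel, xg_zero hC, mul_one]⟩

theorem coord_unique {i : ℕ} (hi : i < D.rank) {g : GL D.Idx F} {a b : F}
    (ha : g * xg hC (D.simple i) (-a) ∈ Uom hC F (D.simple i))
    (hb : g * xg hC (D.simple i) (-b) ∈ Uom hC F (D.simple i)) : a = b := by
  have h := mul_mem (inv_mem ha) hb
  rw [mul_inv_rev, mul_assoc, inv_mul_cancel_left, xg_inv hC, neg_neg, ← xg_add hC] at h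
  exact sub_eq_zero.1 (by rw [sub_eq_add_neg]; exact eq_zero_of_mem_Uom hC hi h)

/-- The coordinates on the fundamental root groups, as a homomorphism on `U`. -/
theorem exists_coordHom : ∃ co : ℕ → GL D.Idx F → F,
    (∀ i < D.rank, ∀ g ∈ D.posUnipotent F, ∀ g' ∈ D.posUnipotent F,
      co i (g * g') = co i g + co i g') ∧
    (∀ i < D.rank, ∀ j < D.rank, ∀ t : F,
      co i (xg hC (D.simple j) t) = if i = j then t else 0) ∧
    (∀ i < D.rank, ∀ g ∈ Uom hC F (D.simple i), co i g = 0) := by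
  classical
  obtain ⟨co, hco⟩ : ∃ co : ℕ → GL D.Idx F → F, co = fun i g =>
      if h : ∃ t : F, g * xg hC (D.simple i) (-t) ∈ Uom hC F (D.simple i) then h.choose else 0 :=
    ⟨_, rfl⟩
  have spec : ∀ i < D.rank, ∀ g : GL D.Idx F, ∀ t : F,
      g * xg hC (D.simple i) (-t) ∈ Uom hC F (D.simple i) → co i g = t := by
    intro i hi g t ht
    rw [hco]
    simp only
    rw [dif_pos ⟨t, ht⟩]
    exact coord_unique hC hi (Exists.choose_spec (⟨t, ht⟩ : ∃ t : F,
      g * xg hC (D.simple i) (-t) ∈ Uom hC F (D.simple i))) ht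
  refine ⟨co, fun i hi g hg g' hg' => ?_, fun i hi j hj t => ?_, fun i hi g hg => ?_⟩
  · obtain ⟨a, ha⟩ := exists_coord hC hi hg
    obtain ⟨b, hb⟩ := exists_coord hC hi hg'
    rw [spec i hi g a ha, spec i hi g' b hb]
    refine spec i hi _ _ ?_
    have e : g * g' * xg hC (D.simple i) (-(a + b)) = g * xg hC (D.simple i) (-a) *
        (xg hC (D.simple i) a * (g' * xg hC (D.simple i) (-b)) * (xg hC (D.simple i) a)⁻¹) := by
      rw [show -(a + b) = -b + -a by ring, xg_add hC, ← xg_inv hC (D.simple i) a]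
      group
    rw [e]
    exact mul_mem ha ((Subgroup.mem_normalizer_iff.1 (xg_normalizes_Uom hC hi a) _).1 hb)
  · refine spec i hi _ _ ?_
    by_cases h : i = j
    · subst h
      rw [if_pos rfl, ← xg_add hC, add_neg_cancel, xg_zero hC]
      exact one_mem _
    · rw [if_neg h, neg_zero, xg_zero hC, mul_one]
      exact Subgroup.subset_closure ⟨_, t, hC.simple_lt hj,
        ⟨hC.phi_simple hj, fun e => h (hC.simple_inj hj hi e).symm⟩, rfl⟩
  · exact spec i hi g 0 (by rwa [neg_zero, xg_zero hC, mul_one])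

theorem wL_additive {L : List ℕ} (hL : ∀ i ∈ L, i < D.rank) :
    ∀ {f : ℕ → ℤ}, Additive' D f → Additive' D (fun r => f (wL D L r)) := by
  induction L with
  | nil => exact fun hf => hf
  | cons i L ih =>
    intro f hf
    exact ih (fun j hj => hL j (List.mem_cons_of_mem i hj))
      (additive_comp hC hf (hL i List.mem_cons_self))

/-- A positive root all of whose other coordinates vanish is the fundamental root. -/
theorem eq_simple_of_inRootSub {i r : ℕ} (h : D.InRootSub {i} r) (hp : 0 < T.phi r) :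
    r = D.simple i := by
  induction r using Nat.strong_induction_on with
  | _ r ih =>
    obtain ⟨j, hj, hji, e | ⟨hlt, hp', hJ⟩⟩ :=
      Cfsg.Agent.Chevalley.Parabolic.descend_inRootSub hC h hp
    all_goals obtain rfl : j = i := hji
    · exact e
    · exfalso
      have h' := ih _ hlt hJ hp'
      have h2 := hC.reflect_reflect hj h.1
      rw [h', hC.reflect_simple hj] at h2
      rw [← h2, hC.phi_neg (hC.simple_lt hj)] at hp
      have := hC.phi_simple hj
      omega

/-- An element negating the positive roots sends some fundamental root to each negative fundamental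
root. -/
theorem exists_simple_to_neg {N : List (List ℤ)} (hN : coefChk T N = true) {L : List ℕ}
    (hL : ∀ i ∈ L, i < D.rank)
    (hneg : ∀ r < D.nroots, 0 < T.phi r → T.phi (wL D L r) < 0) {i : ℕ} (hi : i < D.rank) :
    ∃ j < D.rank, wL D L (D.simple j) = D.neg (D.simple i) := by
  obtain ⟨a, ha⟩ := exists_coefJ hC hN ({i} : Set ℕ)
  have hLr : ∀ i ∈ L.reverse, i < D.rank := fun i hi => hL i (List.mem_reverse.1 hi)
  have hns := hC.neg_lt (hC.simple_lt hi)
  obtain ⟨β, hβ⟩ : ∃ β, β = wL D L.reverse (D.neg (D.simple i)) := ⟨_, rfl⟩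
  have hwβ : wL D L β = D.neg (D.simple i) := by rw [hβ]; exact wL_neg_simple hC hL hns
  have hβlt : β < D.nroots := hβ ▸ wL_lt hC hLr hns
  have hβpos : 0 < T.phi β := by
    have h0 := hC.phi_ne_zero hβlt
    by_contra hcon
    have h1 := hneg _ (hC.neg_lt hβlt) (by rw [hC.phi_neg hβlt]; omega)
    rw [wL_neg hC hL hβlt, hwβ, hC.neg_neg (hC.simple_lt hi)] at h1
    have := hC.phi_simple hi
    omega
  obtain ⟨j, hj, e | ⟨hA, -, hp', -⟩⟩ := descend hC hβlt hβpos
  · exact ⟨j, hj, e ▸ hwβ⟩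
  refine ⟨j, hj, ?_⟩
  have hadd : Additive' D (fun r => lin D a (wL D L r)) :=
    wL_additive hC hL (f := fun r => lin D a r) fun i hi r hr => lin_reflect hC a hi hr
  have hle : ∀ r < D.nroots, 0 < T.phi r → lin D a (wL D L r) ≤ 0 := by
    intro r hr hp
    have hw := wL_lt hC hL hr
    have h1 := (ha _ (hC.neg_lt hw)).2 (by rw [hC.phi_neg hw]; have := hneg r hr hp; omega)
    rw [lin_neg hC a hw] at h1
    omega
  have hz : lin D a (D.neg (D.simple i)) = 0 := by
    rw [lin_neg hC a (hC.simple_lt hi),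
      (ha _ (hC.simple_lt hi)).1.2 (Cfsg.Agent.Chevalley.Parabolic.simple_inRootSub (J := ({i} : Set ℕ)) hC hi (Set.mem_singleton i)).1,
      neg_zero]
  have h1 := hadd j hj β hβlt
  simp only [hwβ, hz] at h1
  have h2 := hle _ (hC.reflect_lt hj hβlt) hp'
  have h3 := hle _ (hC.simple_lt hj) (hC.phi_simple hj)
  have h4 : lin D a (wL D L (D.simple j)) = 0 := by nlinarith
  have hw := wL_lt hC hL (hC.simple_lt hj)
  have h5 : D.InRootSub {i} (D.neg (wL D L (D.simple j))) :=
    (ha _ (hC.neg_lt hw)).1.1 (by rw [lin_neg hC a hw, h4, neg_zero])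
  have h6 := eq_simple_of_inRootSub hC h5 (by
    rw [hC.phi_neg hw]; have := hneg _ (hC.simple_lt hj) (hC.phi_simple hj); omega)
  rw [← h6, hC.neg_neg hw]

theorem exists_top : ∃ L : List ℕ, (∀ i ∈ L, i < D.rank) ∧
    ∀ r < D.nroots, 0 < T.phi r → T.phi (wL D L r) < 0 := by
  obtain ⟨L, hL, hneg⟩ := exists_longest_sub hC (Set.univ : Set ℕ)
  exact ⟨L, fun i hi => (hL i hi).1,
    fun r hr hp => hneg r ⟨hr, fun i _ h => absurd (Set.mem_univ i) h⟩ hp⟩

/-- Two words negating all positive roots differ by an element of the torus. -/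
theorem top_tor {L L' : List ℕ} (hL : ∀ i ∈ L, i < D.rank) (hL' : ∀ i ∈ L', i < D.rank)
    (hn : ∀ i < D.rank, T.phi (wL D L (D.simple i)) < 0)
    (hn' : ∀ r < D.nroots, 0 < T.phi r → T.phi (wL D L' r) < 0) :
    ∃ c : ℕ → Fˣ, (nL hC F L)⁻¹ = (nL hC F L')⁻¹ * tor D c := by
  have hL'r : ∀ i ∈ L'.reverse, i < D.rank := fun i hi => hL' i (List.mem_reverse.1 hi)
  have hLr : ∀ i ∈ L.reverse, i < D.rank := fun i hi => hL i (List.mem_reverse.1 hi)
  have hM : ∀ i ∈ L' ++ L.reverse, i < D.rank := fun i hi =>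
    (List.mem_append.1 hi).elim (hL' i) (hLr i)
  have hM2 : ∀ i ∈ L ++ L.reverse, i < D.rank := fun i hi =>
    (List.mem_append.1 hi).elim (hL i) (hLr i)
  have hnL : ∀ r < D.nroots, 0 < T.phi r → T.phi (wL D L r) < 0 := by
    intro r hr hp
    have := sign_of_simple hC (f := fun r => -T.phi (wL D L r))
      (fun i hi s hs => by
        have := phi_wL_additive hC hL i hi s hs
        dsimp only at this ⊢
        rw [this]; ring)
      (fun i hi => by have := hn i hi; omega) r hr hp
    omega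
  have hpos : ∀ i < D.rank, 0 < T.phi (wL D (L' ++ L.reverse) (D.simple i)) := by
    intro i hi
    rw [wL_append]
    have hs := hC.simple_lt hi
    have hlt := wL_lt hC hLr hs
    have hne := hC.phi_ne_zero hlt
    have hback := wL_neg_simple hC hL hs
    have hsp := hC.phi_simple hi
    rcases lt_or_gt_of_ne hne with h | h
    · have h1 := hn' _ (hC.neg_lt hlt) (by rw [hC.phi_neg hlt]; omega)
      rw [wL_neg hC hL' hlt, hC.phi_neg (wL_lt hC hL' hlt)] at h1
      omega
    · have h1 := hnL _ hlt h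
      rw [hback] at h1
      omega
  have hpos2 : ∀ i < D.rank, 0 < T.phi (wL D (L ++ L.reverse) (D.simple i)) := fun i hi => by
    rw [wL_append, wL_neg_simple hC hL (hC.simple_lt hi)]
    exact hC.phi_simple hi
  obtain ⟨c, hc⟩ := exists_tor_of_pos (F := F) hC hM hpos
  obtain ⟨d, hd⟩ := exists_tor_of_pos (F := F) hC hM2 hpos2
  rw [nL_append] at hc hd
  refine ⟨c * d⁻¹, ?_⟩
  rw [← tor_mul, ← tor_inv, ← hc, ← hd]
  group

/-- A linear character of `U` with prescribed additive characters on the fundamental root groups. -/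
theorem exists_hom (ψ : ℕ → AddChar F ℂ) :
    ∃ f : GL D.Idx F → ℂ, f 1 = 1 ∧
      (∀ g ∈ D.posUnipotent F, ∀ g' ∈ D.posUnipotent F, f (g * g') = f g * f g') ∧
      ∀ i < D.rank, ∀ t : F, f (xg hC (D.simple i) t) = ψ i t := by
  obtain ⟨co, h1, h2, h3⟩ := exists_coordHom (F := F) hC
  refine ⟨fun g => ∏ i ∈ Finset.range D.rank, ψ i (co i g), ?_, fun g hg g' hg' => ?_,
    fun i hi t => ?_⟩
  · refine Finset.prod_eq_one fun i hi => ?_
    rw [h3 i (Finset.mem_range.1 hi) 1 (one_mem _), AddChar.map_zero_eq_one]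
  · simp only [← Finset.prod_mul_distrib]
    refine Finset.prod_congr rfl fun i hi => ?_
    rw [h1 i (Finset.mem_range.1 hi) g hg g' hg', AddChar.map_add_eq_mul]
  · dsimp only
    rw [Finset.prod_eq_single i]
    · rw [h2 i hi i hi, if_pos rfl]
    · intro j hj hne
      rw [h2 j (Finset.mem_range.1 hj) i hi, if_neg hne, AddChar.map_zero_eq_one]
    · intro hh; exact absurd (Finset.mem_range.2 hi) hh

end Cfsg.Agent.SimpleFacts.ChevalleyWhittaker
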