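import Cfsg.Agent.SimpleFacts.HeckeFamily

/-!
The dimension of the centre of the Hecke algebra does not depend on the positive parameter; at the
parameter `1` it is the number of conjugacy classes of the Weyl group.
-/

set_option autoImplicit false

namespace Cfsg.Agent.SimpleFacts.HeckeCentre

open Cfsg.Agent.BN.Basic Cfsg.Agent.SimpleFacts.BNReps Cfsg.Agent.SimpleFacts.HeckeFamily Polynomial
open scoped ComplexConjugate

/-! ### Ranks of polynomial families of matrices -/

/-- At all but finitely many parameters the rank is at least the rank at a given one. -/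
theorem rank_lower {m n : Type*} [Fintype m] [Fintype n] (M : Matrix m n ℂ[X]) (t₀ : ℂ) :
    ∃ p : ℂ[X], p ≠ 0 ∧ ∀ t : ℂ, p.eval t ≠ 0 →
      (M.map (Polynomial.eval t₀)).rank ≤ (M.map (Polynomial.eval t)).rank := by
  classical
  obtain ⟨A, hA⟩ : ∃ A, A = M.map (Polynomial.eval t₀) := ⟨_, rfl⟩
  let R := LinearMap.range A.mulVecLin
  let b := Module.finBasis ℂ R
  have hpre : ∀ i : Fin (Module.finrank ℂ R), ∃ x, A.mulVecLin x = (b i : m → ℂ) := fun i => (b i).2
  choose x hx using hpre
  obtain ⟨g, hg⟩ := LinearMap.exists_leftInverse_of_injective (R.subtype.comp b.equivFun.symm.toLinearMap)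
    (by rw [LinearMap.ker_eq_bot]; exact R.injective_subtype.comp b.equivFun.symm.injective)
  let Q : Matrix n (Fin (Module.finrank ℂ R)) ℂ := Matrix.of fun j i => x i j
  let L : Matrix (Fin (Module.finrank ℂ R)) m ℂ := LinearMap.toMatrix' g
  have hLAQ : L * A * Q = 1 := by
    ext i j
    have h1 : ((L * A * Q) i j) = (L.mulVec (A.mulVec (x j))) i := by
      rw [Matrix.mul_assoc, Matrix.mul_apply, Matrix.mulVec, dotProduct]
      refine Finset.sum_congr rfl fun k _ => ?_
      congr 1
    rw [h1]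
    have h2 : A.mulVec (x j) = (b j : m → ℂ) := hx j
    rw [h2, LinearMap.toMatrix'_mulVec]
    have h3 : g (b j : m → ℂ) = Pi.single j 1 := by
      have h4 := LinearMap.congr_fun hg (Pi.single j 1)
      simp only [LinearMap.coe_comp, Function.comp_apply, LinearMap.id_apply, Submodule.coe_subtype,
        LinearEquiv.coe_toLinearMap] at h4
      convert h4 using 3
      exact b.equivFun.injective (by rw [LinearEquiv.apply_symm_apply]; ext k; simp [Pi.single_apply, Finsupp.single_apply, eq_comm])
    rw [h3, Pi.single_apply, Matrix.one_apply]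
  refine ⟨(L.map Polynomial.C * M * Q.map Polynomial.C).det, ?_, ?_⟩
  · intro h
    have h1 := congrArg (Polynomial.eval t₀) h
    rw [Polynomial.eval_zero, ← Polynomial.coe_evalRingHom, RingHom.map_det,
      RingHom.mapMatrix_apply, Matrix.map_mul, Matrix.map_mul, Matrix.map_map, Matrix.map_map] at h1
    simp only [Function.comp_def, Polynomial.coe_evalRingHom, Polynomial.eval_C, Matrix.map_id'] at h1
    rw [← hA, hLAQ, Matrix.det_one] at h1
    exact one_ne_zero h1
  · intro t ht
    rw [← Polynomial.coe_evalRingHom, RingHom.map_det, RingHom.mapMatrix_apply, Matrix.map_mul,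
      Matrix.map_mul, Matrix.map_map, Matrix.map_map] at ht
    simp only [Function.comp_def, Polynomial.coe_evalRingHom, Polynomial.eval_C, Matrix.map_id'] at ht
    rw [← hA]
    have h1 := Matrix.rank_of_isUnit (L * M.map (Polynomial.eval t) * Q)
      ((Matrix.isUnit_iff_isUnit_det _).2 (isUnit_iff_ne_zero.2 ht))
    rw [Fintype.card_fin] at h1
    calc A.rank = Module.finrank ℂ R := rfl
      _ = _ := h1.symm
      _ ≤ (L * M.map (Polynomial.eval t)).rank := Matrix.rank_mul_le_left _ _
      _ ≤ _ := Matrix.rank_mul_le_right _ _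

variable {G : Type*} [Group G] (P : Cfsg.BNPair G) [Fintype (W P)] [Fintype P.S]

/-- The centre at the parameter `t`. -/
noncomputable def centre (t : ℂ) : Submodule ℂ (W P → ℂ) := LinearMap.ker (defect (P := P) t)

omit [Fintype (W P)] [Fintype P.S] in
theorem mem_centre {t : ℂ} {x : W P → ℂ} : x ∈ centre P t ↔ ∀ s, opL t s x = opR t s x := by
  rw [centre, LinearMap.mem_ker, defect_eq_zero_iff]

/-- The positive definite form. -/
noncomputable def form (n : ℕ) (x y : W P → ℂ) : ℂ := ∑ w, (n : ℂ) ^ len w * (conj (x w) * y w)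

omit [Fintype P.S] in
theorem form_opL (n : ℕ) (s : P.S) (x y : W P → ℂ) :
    form P n (opL (n : ℂ) s x) y = form P n x (opL (n : ℂ) s y) := by
  classical
  have key : ∀ f : W P → ℂ, ∀ w, (n : ℂ) ^ len w * opL (n : ℂ) s f w =
      (n : ℂ) ^ max (len w) (len (gen s * w)) * f (gen s * w) +
        (if len (gen s * w) < len w then (n : ℂ) ^ len w * (((n : ℂ) - 1) * f w) else 0) := by
    intro f w
    rw [opL_apply]
    rcases len_gen_mul_cases w s with h | h
    · rw [if_neg (by omega), if_neg (by omega), h, max_eq_right (by omega), pow_succ]; ring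
    · rw [if_pos (by omega), if_pos (by omega), max_eq_left (by omega)]; ring
  have key' : ∀ w, (n : ℂ) ^ len w * conj (opL (n : ℂ) s x w) =
      (n : ℂ) ^ max (len w) (len (gen s * w)) * conj (x (gen s * w)) +
        (if len (gen s * w) < len w then (n : ℂ) ^ len w * (((n : ℂ) - 1) * conj (x w)) else 0) := by
    intro w
    have h := congrArg conj (key x w)
    simp only [map_mul, map_add, map_pow, Complex.conj_natCast, apply_ite conj, map_sub, map_one,
      map_zero] at h
    exact h
  simp only [form]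
  have e1 : ∀ w, (n : ℂ) ^ len w * (conj (opL (n : ℂ) s x w) * y w) =
      (n : ℂ) ^ max (len w) (len (gen s * w)) * (conj (x (gen s * w)) * y w) +
        (if len (gen s * w) < len w then (n : ℂ) ^ len w * (((n : ℂ) - 1) * (conj (x w) * y w)) else 0) := by
    intro w
    rw [← mul_assoc, key' w]
    split_ifs <;> ring
  have e2 : ∀ w, (n : ℂ) ^ len w * (conj (x w) * opL (n : ℂ) s y w) =
      (n : ℂ) ^ max (len w) (len (gen s * w)) * (conj (x w) * y (gen s * w)) +
        (if len (gen s * w) < len w then (n : ℂ) ^ len w * (((n : ℂ) - 1) * (conj (x w) * y w)) else 0) := by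
    intro w
    rw [mul_left_comm, key y w]
    split_ifs <;> ring
  simp only [e1, e2, Finset.sum_add_distrib]
  congr 1
  refine Fintype.sum_equiv (Equiv.mulLeft (gen s)) _ _ fun w => ?_
  simp only [Equiv.coe_mulLeft, gen_mul_cancel, max_comm]

omit [Fintype P.S] in
theorem form_opT (n : ℕ) (w : W P) (x y : W P → ℂ) :
    form P n (opT (n : ℂ) w x) y = form P n x (opT (n : ℂ) w⁻¹ y) := by
  obtain ⟨L, hL, rfl⟩ := exists_reduced w
  rw [opT_eq_opWord _ hL.symm, ← wordW_reverse, opT_eq_opWord _ (by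
    rw [wordW_reverse, len_inv, List.length_reverse]; exact hL.symm)]
  clear hL
  induction L generalizing x y with
  | nil => rfl
  | cons s L ih =>
    have e : (opWord (n : ℂ) (s :: L).reverse : Module.End ℂ (W P → ℂ)) =
        opWord (n : ℂ) L.reverse * opL (n : ℂ) s := by
      simp [opWord]
    rw [e]
    show form P n (opL (n : ℂ) s (opWord (n : ℂ) L x)) y = _
    rw [form_opL, ih]
    rfl

omit [Fintype P.S] in
theorem form_self (n : ℕ) (x : W P → ℂ) :
    form P n x x = ((∑ w, (n : ℝ) ^ len w * Complex.normSq (x w) : ℝ) : ℂ) := by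
  simp only [form, Complex.ofReal_sum, Complex.ofReal_mul, Complex.ofReal_pow, Complex.ofReal_natCast,
    Complex.normSq_eq_conj_mul_self]

omit [Fintype P.S] in
theorem casOp_one_injective {n : ℕ} (hn : 1 ≤ n) {x : W P → ℂ}
    (h : casOp (n : ℂ) (bvec 1) x = 0) : x = 0 := by
  classical
  have hpos : (0 : ℝ) < n := by exact_mod_cast hn
  have h1 : form P n x (casOp (n : ℂ) (bvec 1) x) =
      ((∑ w : W P, (n : ℝ) ^ (maxLen P - len w) *
        ∑ v, (n : ℝ) ^ len v * Complex.normSq (opT (n : ℂ) w⁻¹ x v) : ℝ) : ℂ) := by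
    rw [Complex.ofReal_sum]
    simp only [casOp, lmul_bvec_one, mul_one, LinearMap.sum_apply, LinearMap.smul_apply]
    simp only [form, Finset.sum_apply, Pi.smul_apply, smul_eq_mul, Finset.mul_sum]
    rw [Finset.sum_comm]
    refine Finset.sum_congr rfl fun w _ => ?_
    rw [← Finset.mul_sum (a := (n : ℝ) ^ (maxLen P - len w)), Complex.ofReal_mul, Complex.ofReal_pow,
      Complex.ofReal_natCast, ← form_self, form_opT, inv_inv, form, Finset.mul_sum]
    refine Finset.sum_congr rfl fun v _ => ?_
    rw [Module.End.mul_apply]; ring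
  have h0 : form P n x (casOp (n : ℂ) (bvec 1) x) = 0 := by simp [h, form]
  rw [h0, eq_comm, Complex.ofReal_eq_zero, Finset.sum_eq_zero_iff_of_nonneg fun w _ =>
    mul_nonneg (pow_nonneg hpos.le _) (Finset.sum_nonneg fun v _ =>
      mul_nonneg (pow_nonneg hpos.le _) (Complex.normSq_nonneg _))] at h1
  have h2 := h1 1 (Finset.mem_univ _)
  rw [inv_one, opT_one, mul_eq_zero] at h2
  have h3 := h2.resolve_left (pow_ne_zero _ hpos.ne')
  rw [Finset.sum_eq_zero_iff_of_nonneg fun v _ =>
    mul_nonneg (pow_nonneg hpos.le _) (Complex.normSq_nonneg _)] at h3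
  funext v
  exact Complex.normSq_eq_zero.1 ((mul_eq_zero.1 (h3 v (Finset.mem_univ _))).resolve_left
    (pow_ne_zero _ hpos.ne'))

omit [Fintype P.S] in
/-- Every central element is an average, and is the image of a central element under the Casimir
element. -/
theorem exists_casOp_one_eq {n : ℕ} (hn : 1 ≤ n) {z : W P → ℂ} (hz : z ∈ centre P (n : ℂ)) :
    ∃ y ∈ centre P (n : ℂ), casOp (n : ℂ) (bvec 1) y = z := by
  have hst : ∀ y ∈ centre P (n : ℂ), casOp (n : ℂ) (bvec 1) y ∈ centre P (n : ℂ) := fun y hy =>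
    (mem_centre P).2 fun s => casOp_one_central _ ((mem_centre P).1 hy) s
  have hinj : Function.Injective ((casOp (n : ℂ) (bvec 1)).restrict hst) := by
    rw [← LinearMap.ker_eq_bot, Submodule.eq_bot_iff]
    rintro ⟨y, hy⟩ hy0
    exact Subtype.ext (casOp_one_injective P hn (congrArg Subtype.val (LinearMap.mem_ker.1 hy0)))
  obtain ⟨⟨y, hy⟩, e⟩ := LinearMap.injective_iff_surjective.1 hinj ⟨z, hz⟩
  exact ⟨y, hy, congrArg Subtype.val e⟩

omit [Fintype P.S] in
theorem range_cas {n : ℕ} (hn : 1 ≤ n) :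
    LinearMap.range (cas (P := P) (n : ℂ)) = centre P (n : ℂ) := by
  refine le_antisymm ?_ fun z hz => ?_
  · rintro _ ⟨h, rfl⟩; exact (mem_centre P).2 fun s => cas_central _ h s
  · obtain ⟨y, hy, rfl⟩ := exists_casOp_one_eq P hn hz
    exact ⟨y, cas_of_central _ ((mem_centre P).1 hy)⟩

theorem finrank_centre_eq {n₀ n₁ : ℕ} (h₀ : 1 ≤ n₀) (h₁ : 1 ≤ n₁) :
    Module.finrank ℂ (centre P (n₀ : ℂ)) = Module.finrank ℂ (centre P (n₁ : ℂ)) := by
  classical
  let A : Matrix (P.S × W P) (W P) ℂ[X] := LinearMap.toMatrix' (defect (P := P) (X : ℂ[X]))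
  let B : Matrix (W P) (W P) ℂ[X] := LinearMap.toMatrix' (cas (P := P) (X : ℂ[X]))
  have hsingle : ∀ (t : ℂ) (j : W P), (Polynomial.evalRingHom t) ∘ (Pi.single j (1 : ℂ[X]) : W P → ℂ[X]) =
      (Pi.single j (1 : ℂ) : W P → ℂ) := fun t j => by
    funext v; simp only [Function.comp_apply, Pi.single_apply]; split_ifs <;> simp
  have hA : ∀ t : ℂ, (A.map (Polynomial.eval t)).rank =
      Module.finrank ℂ (LinearMap.range (defect (P := P) t)) := by
    intro t
    have : A.map (Polynomial.eval t) = LinearMap.toMatrix' (defect (P := P) t) := by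
      ext i j
      simp only [A, Matrix.map_apply, LinearMap.toMatrix'_apply]
      have h := congrFun (map_defect (P := P) (X : ℂ[X]) (Polynomial.evalRingHom t)
        (Pi.single j (1 : ℂ[X]))) i
      rw [hsingle, Function.comp_apply, Polynomial.coe_evalRingHom, Polynomial.eval_X] at h
      exact h
    rw [this, Matrix.rank, ← Matrix.toLin'_apply', Matrix.toLin'_toMatrix']
  have hB : ∀ t : ℂ, (B.map (Polynomial.eval t)).rank =
      Module.finrank ℂ (LinearMap.range (cas (P := P) t)) := by
    intro t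
    have : B.map (Polynomial.eval t) = LinearMap.toMatrix' (cas (P := P) t) := by
      ext i j
      simp only [B, Matrix.map_apply, LinearMap.toMatrix'_apply]
      have h := congrFun (map_cas (P := P) (X : ℂ[X]) (Polynomial.evalRingHom t)
        (Pi.single j (1 : ℂ[X]))) i
      rw [hsingle, Function.comp_apply, Polynomial.coe_evalRingHom, Polynomial.eval_X] at h
      exact h
    rw [this, Matrix.rank, ← Matrix.toLin'_apply', Matrix.toLin'_toMatrix']
  have hN : ∀ n : ℕ, 1 ≤ n → (A.map (Polynomial.eval (n : ℂ))).rank +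
      (B.map (Polynomial.eval (n : ℂ))).rank = Fintype.card (W P) ∧
      (B.map (Polynomial.eval (n : ℂ))).rank = Module.finrank ℂ (centre P (n : ℂ)) := by
    intro n hn
    rw [hA, hB, range_cas P hn]
    refine ⟨?_, rfl⟩
    rw [centre, LinearMap.finrank_range_add_finrank_ker, Module.finrank_fintype_fun_eq_card]
  obtain ⟨p₁, hp₁, e₁⟩ := rank_lower A (n₀ : ℂ)
  obtain ⟨p₂, hp₂, e₂⟩ := rank_lower B (n₀ : ℂ)
  obtain ⟨p₃, hp₃, e₃⟩ := rank_lower A (n₁ : ℂ)
  obtain ⟨p₄, hp₄, e₄⟩ := rank_lower B (n₁ : ℂ)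
  have hfin : {m : ℕ | (p₁ * p₂ * p₃ * p₄).eval ((m + 1 : ℕ) : ℂ) = 0}.Finite := by
    refine ((Polynomial.finite_setOfPred_isRoot (mul_ne_zero (mul_ne_zero (mul_ne_zero hp₁ hp₂) hp₃) hp₄)).preimage
      (f := fun m : ℕ => ((m + 1 : ℕ) : ℂ)) ?_).subset fun m hm => hm
    intro a _ b _ e
    have := Nat.cast_injective e
    omega
  obtain ⟨m, hm⟩ := hfin.exists_notMem
  simp only [Set.mem_ofPred_eq, Polynomial.eval_mul, mul_eq_zero, not_or] at hm
  obtain ⟨⟨⟨a₁, a₂⟩, a₃⟩, a₄⟩ := hm
  have k₁ := e₁ _ a₁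
  have k₂ := e₂ _ a₂
  have k₃ := e₃ _ a₃
  have k₄ := e₄ _ a₄
  have q₀ := hN n₀ h₀
  have q₁ := hN n₁ h₁
  have q := hN (m + 1) (by omega)
  omega

omit [Fintype P.S] in
/-- At the parameter `1` the centre consists of the class functions. -/
theorem finrank_centre_one :
    Module.finrank ℂ (centre P (1 : ℂ)) = Nat.card (ConjClasses (W P)) := by
  classical
  haveI : Fintype (ConjClasses (W P)) := Fintype.ofFinite _
  have hmem : ∀ f : W P → ℂ, f ∈ centre P (1 : ℂ) ↔ ∀ (a w : W P), f (a * w * a⁻¹) = f w := by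
    intro f
    rw [mem_centre]
    have hL : ∀ s (w : W P), opL (1 : ℂ) s f w = f (gen s * w) ∧ opR (1 : ℂ) s f w = f (w * gen s) :=
      fun s w => ⟨by rw [opL_apply]; split_ifs <;> ring, by rw [opR_apply]; split_ifs <;> ring⟩
    constructor
    · intro h a
      obtain ⟨L, rfl⟩ := exists_word a
      induction L with
      | nil => simp
      | cons s L ih =>
        intro w
        rw [wordW_cons, mul_inv_rev, gen_inv]
        have h1 := congrFun (h s) (wordW L * w * (wordW L)⁻¹ * gen s)
        rw [(hL s _).1, (hL s _).2, mul_gen_cancel, ih] at h1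
        rw [← h1]
        simp only [mul_assoc]
    · intro h s
      funext w
      rw [(hL s w).1, (hL s w).2, ← h (gen s) (w * gen s), gen_inv, mul_assoc, mul_gen_cancel]
  let e : (ConjClasses (W P) → ℂ) →ₗ[ℂ] (W P → ℂ) := LinearMap.funLeft ℂ ℂ ConjClasses.mk
  have hrange : LinearMap.range e = centre P (1 : ℂ) := by
    refine le_antisymm ?_ fun f hf => ?_
    · rintro _ ⟨g, rfl⟩
      rw [hmem]
      intro a w
      exact congrArg g (ConjClasses.mk_eq_mk_iff_isConj.2 (isConj_iff.2 ⟨a⁻¹, by group⟩))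
    · refine ⟨fun c => f c.exists_rep.choose, funext fun w => ?_⟩
      obtain ⟨a, ha⟩ := isConj_iff.1
        (ConjClasses.mk_eq_mk_iff_isConj.1 (ConjClasses.mk w).exists_rep.choose_spec)
      show f (ConjClasses.mk w).exists_rep.choose = f w
      conv_rhs => rw [← ha]
      rw [(hmem f).1 hf]
  rw [← hrange, LinearMap.finrank_range_of_inj
    (LinearMap.funLeft_injective_of_surjective ℂ ℂ _ ConjClasses.mk_surjective),
    Module.finrank_fintype_fun_eq_card, Nat.card_eq_fintype_card]

end Cfsg.Agent.SimpleFacts.HeckeCentre
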