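import Cfsg.Agent.SimpleFacts.BNReps

/-!
The Hecke algebras of the Weyl group of a (B, N)-pair with a variable parameter, as operators on the
functions on the Weyl group, and their centres.
-/

set_option autoImplicit false

namespace Cfsg.Agent.SimpleFacts.HeckeFamily

open Cfsg.Agent.BN.Basic Cfsg.Agent.SimpleFacts.BNReps

variable {G : Type*} [Group G] {P : Cfsg.BNPair G}

/-- If `s` lengthens `w` and shortens `w u`, then `s w = w u`. -/
theorem gen_mul_eq_mul_gen {w : W P} {s u : P.S} (h1 : len w < len (gen s * w))
    (h2 : len w < len (w * gen u)) (h3 : len (gen s * (w * gen u)) < len (w * gen u)) :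
    gen s * w = w * gen u := by
  obtain ⟨L, hL, rfl⟩ := exists_reduced w
  have hLu : len (wordW (L ++ [u])) = (L ++ [u]).length := by
    rw [wordW_append, wordW_singleton, List.length_append, List.length_singleton, hL]
    rcases len_mul_gen_cases (wordW L) u with h | h <;> omega
  obtain ⟨j, hj, he⟩ := exchange hLu (by rwa [wordW_append, wordW_singleton])
  rw [wordW_append, wordW_singleton] at he
  rw [List.length_append, List.length_singleton] at hj
  rcases Nat.lt_or_ge j L.length with hlt | hge
  · exfalso
    rw [List.eraseIdx_append_of_lt_length hlt, wordW_append, wordW_singleton, ← mul_assoc] at he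
    have h4 := len_wordW_le (L.eraseIdx j)
    rw [← mul_right_cancel he, List.length_eraseIdx, if_pos hlt] at h4
    omega
  · rw [List.eraseIdx_append_of_length_le hge, show j - L.length = 0 by omega,
      List.eraseIdx_cons_zero, List.append_nil] at he
    calc gen s * wordW L = gen s * (gen s * (wordW L * gen u)) := by rw [he]
      _ = _ := gen_mul_cancel _ _

/-- Either the two lengthening patterns are independent, or `s w = w u`. -/
theorem pattern (w : W P) (s u : P.S) :
    gen s * w = w * gen u ∨
      ((len (gen s * (w * gen u)) < len (w * gen u) ↔ len (gen s * w) < len w) ∧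
        (len (gen s * w * gen u) < len (gen s * w) ↔ len (w * gen u) < len w)) := by
  have a1 := len_gen_mul_cases w s
  have a2 := len_mul_gen_cases w u
  have a3 := len_gen_mul_cases (w * gen u) s
  have a4 := len_mul_gen_cases (gen s * w) u
  have hw : gen s * (w * gen u) = gen s * w * gen u := (mul_assoc _ _ _).symm
  by_cases h : gen s * w = w * gen u
  · exact Or.inl h
  refine Or.inr ?_
  by_cases hs : len w < len (gen s * w)
  · by_cases hu : len w < len (w * gen u)
    · have : ¬ len (gen s * (w * gen u)) < len (w * gen u) := fun h3 =>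
        h (gen_mul_eq_mul_gen hs hu h3)
      rw [hw] at a3 this ⊢
      omega
    · rw [hw] at a3 ⊢
      omega
  · by_cases hu : len w < len (w * gen u)
    · rw [hw] at a3 ⊢
      omega
    · have : ¬ len (w * gen u) < len (gen s * (w * gen u)) := by
        intro h3
        refine h ?_
        have h4 : len (gen s * (w * gen u * gen u)) < len (w * gen u * gen u) := by
          rw [mul_gen_cancel]; omega
        have h5 := gen_mul_eq_mul_gen (w := w * gen u) h3 (by rw [mul_gen_cancel]; omega) h4
        rw [mul_gen_cancel] at h5
        calc gen s * w = gen s * (gen s * (w * gen u)) := by rw [h5]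
          _ = w * gen u := gen_mul_cancel _ _
      rw [hw] at a3 this ⊢
      omega

variable {K : Type*} [CommRing K] (t : K)

/-- Left multiplication by the generator `T_s`. -/
noncomputable def opL (s : P.S) : Module.End K (W P → K) where
  toFun f := fun w => if len (gen s * w) < len w then f (gen s * w) + (t - 1) * f w
    else t * f (gen s * w)
  map_add' f g := by
    funext w; simp only [Pi.add_apply]; split_ifs <;> ring
  map_smul' c f := by
    funext w; simp only [Pi.smul_apply, smul_eq_mul, RingHom.id_apply]; split_ifs <;> ring

/-- Right multiplication by the generator `T_s`. -/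
noncomputable def opR (s : P.S) : Module.End K (W P → K) where
  toFun f := fun w => if len (w * gen s) < len w then f (w * gen s) + (t - 1) * f w
    else t * f (w * gen s)
  map_add' f g := by
    funext w; simp only [Pi.add_apply]; split_ifs <;> ring
  map_smul' c f := by
    funext w; simp only [Pi.smul_apply, smul_eq_mul, RingHom.id_apply]; split_ifs <;> ring

theorem opL_apply (s : P.S) (f : W P → K) (w : W P) :
    opL t s f w = if len (gen s * w) < len w then f (gen s * w) + (t - 1) * f w
      else t * f (gen s * w) := rfl

theorem opR_apply (s : P.S) (f : W P → K) (w : W P) :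
    opR t s f w = if len (w * gen s) < len w then f (w * gen s) + (t - 1) * f w
      else t * f (w * gen s) := rfl

theorem opL_opR (s u : P.S) :
    opL t s * opR t u = (opR t u * opL t s : Module.End K (W P → K)) := by
  refine LinearMap.ext fun f => funext fun w => ?_
  simp only [Module.End.mul_apply, opL_apply, opR_apply]
  rcases pattern w s u with e | ⟨e1, e2⟩
  · have h1 : w * gen u * gen u = w := mul_gen_cancel _ _
    have h2 : gen s * (gen s * w) = w := gen_mul_cancel _ _
    rw [← e]
    have h3 : gen s * w * gen u = w := by rw [e, h1]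
    rw [h3, h2]
  · simp only [← mul_assoc] at e1 ⊢
    simp only [e1, e2]
    split_ifs <;> ring

open Classical in
/-- The basis vector of `w`. -/
noncomputable def bvec (w : W P) : W P → K := Pi.single w 1

theorem bvec_apply (w v : W P) [Decidable (v = w)] :
    (bvec w : W P → K) v = if v = w then 1 else 0 := by
  classical
  rw [bvec, Pi.single_apply]
  congr

theorem opL_bvec {s : P.S} {v : W P} (h : len v < len (gen s * v)) :
    opL t s (bvec v) = (bvec (gen s * v) : W P → K) := by
  classical
  funext w
  rw [opL_apply, bvec_apply, bvec_apply, bvec_apply]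
  by_cases hw : w = gen s * v
  · subst hw
    rw [gen_mul_cancel, if_pos h, if_pos rfl, if_neg (fun e => by rw [e] at h; omega), if_pos rfl]
    ring
  · have h2 : gen s * w ≠ v := fun e => hw (by rw [← e, gen_mul_cancel])
    rw [if_neg h2, if_neg hw]
    by_cases hv : w = v
    · subst hv
      rw [if_neg (by omega), mul_zero]
    · rw [if_neg hv]; split_ifs <;> ring

theorem opR_bvec {s : P.S} {v : W P} (h : len v < len (v * gen s)) :
    opR t s (bvec v) = (bvec (v * gen s) : W P → K) := by
  classical
  funext w
  rw [opR_apply, bvec_apply, bvec_apply, bvec_apply]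
  by_cases hw : w = v * gen s
  · subst hw
    rw [mul_gen_cancel, if_pos h, if_pos rfl, if_neg (fun e => by rw [e] at h; omega), if_pos rfl]
    ring
  · have h2 : w * gen s ≠ v := fun e => hw (by rw [← e, mul_gen_cancel])
    rw [if_neg h2, if_neg hw]
    by_cases hv : w = v
    · subst hv
      rw [if_neg (by omega), mul_zero]
    · rw [if_neg hv]; split_ifs <;> ring

/-- The operators commuting with all right multiplications. -/
def Comm' (t : K) (a : Module.End K (W P → K)) : Prop := ∀ u : P.S, a * opR t u = opR t u * a

theorem comm_one : Comm' t (1 : Module.End K (W P → K)) := fun u => by rw [one_mul, mul_one]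

theorem comm_mul {a b : Module.End K (W P → K)} (ha : Comm' t a) (hb : Comm' t b) :
    Comm' t (a * b) := fun u => by rw [mul_assoc, hb u, ← mul_assoc, ha u, mul_assoc]

theorem comm_smul (c : K) {a : Module.End K (W P → K)} (ha : Comm' t a) : Comm' t (c • a) :=
  fun u => by rw [smul_mul_assoc, ha u, mul_smul_comm]

theorem comm_add {a b : Module.End K (W P → K)} (ha : Comm' t a) (hb : Comm' t b) :
    Comm' t (a + b) := fun u => by rw [add_mul, mul_add, ha u, hb u]

theorem comm_sum {ι : Type*} (s : Finset ι) (a : ι → Module.End K (W P → K))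
    (h : ∀ i ∈ s, Comm' t (a i)) : Comm' t (∑ i ∈ s, a i) := fun u => by
  rw [Finset.sum_mul, Finset.mul_sum]; exact Finset.sum_congr rfl fun i hi => h i hi u

theorem comm_opL (s : P.S) : Comm' t (opL t s : Module.End K (W P → K)) := fun u => opL_opR t s u

theorem len_gen (s : P.S) : len (gen s) = 1 := by
  have h1 := len_gen_mul_le s (1 : W P)
  rw [mul_one, len_one] at h1
  have h2 : len (gen s) ≠ 0 := fun e => gen_ne_one s (eq_one_of_len_eq_zero e)
  omega

variable [Finite (W P)]

/-- An operator commuting with the right multiplications is known from its value at `1`. -/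
theorem ext_of_one {a b : Module.End K (W P → K)} (ha : Comm' t a) (hb : Comm' t b)
    (h : a (bvec 1) = b (bvec 1)) : a = b := by
  classical
  have key : ∀ n, ∀ w : W P, len w = n → a (bvec w) = b (bvec w) := by
    intro n
    induction n with
    | zero => intro w hw; rw [eq_one_of_len_eq_zero hw]; exact h
    | succ n ih =>
      intro w hw
      obtain ⟨u, v, rfl, hv⟩ := exists_mul_gen (w := w) (by rintro rfl; rw [len_one] at hw; omega)
      rw [← opR_bvec t (show len v < len (v * gen u) by omega), ← Module.End.mul_apply,
        ← Module.End.mul_apply, ha u, hb u, Module.End.mul_apply, Module.End.mul_apply,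
        ih v (by omega)]
  refine LinearMap.pi_ext fun w x => ?_
  have e : Pi.single w x = x • (bvec w : W P → K) := by
    funext v; rw [Pi.smul_apply, smul_eq_mul, bvec, Pi.single_apply, Pi.single_apply]
    split_ifs <;> simp
  rw [e, map_smul, map_smul, key _ w rfl]

/-- The product of the generators along a word. -/
noncomputable def opWord (L : List P.S) : Module.End K (W P → K) := (L.map (opL t)).prod

omit [Finite (W P)] in
theorem comm_opWord : ∀ L : List P.S, Comm' t (opWord t L : Module.End K (W P → K))
  | [] => comm_one t
  | s :: L => comm_mul t (comm_opL t s) (comm_opWord L)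

omit [Finite (W P)] in
theorem opWord_bvec : ∀ {L : List P.S}, len (wordW L) = L.length →
    opWord t L (bvec 1) = (bvec (wordW L) : W P → K)
  | [], _ => by simp [opWord]
  | s :: L, h => by
    rw [wordW_cons, List.length_cons] at h
    have h1 := len_wordW_le L
    have h2 := len_gen_mul_le s (wordW L)
    show opL t s (opWord t L (bvec 1)) = _
    rw [opWord_bvec (L := L) (by omega), opL_bvec t (by omega), wordW_cons]

/-- The operator of the basis element `T_w`. -/
noncomputable def opT (w : W P) : Module.End K (W P → K) := opWord t (exists_reduced w).choose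

theorem comm_opT (w : W P) : Comm' t (opT t w : Module.End K (W P → K)) := comm_opWord t _

omit [Finite (W P)] in
theorem opT_bvec (w : W P) : opT t w (bvec 1) = (bvec w : W P → K) := by
  obtain ⟨h1, h2⟩ := (exists_reduced w).choose_spec
  rw [opT, opWord_bvec t (by rw [h2, h1]), h2]

theorem opT_eq_opWord {L : List P.S} (h : len (wordW L) = L.length) :
    (opT t (wordW L) : Module.End K (W P → K)) = opWord t L :=
  ext_of_one t (comm_opT t _) (comm_opWord t L) (by rw [opT_bvec, opWord_bvec t h])

theorem opT_one : (opT t (1 : W P) : Module.End K (W P → K)) = 1 :=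
  ext_of_one t (comm_opT t _) (comm_one t) (by rw [opT_bvec]; rfl)

theorem opT_gen_mul {s : P.S} {w : W P} (h : len w < len (gen s * w)) :
    (opT t (gen s * w) : Module.End K (W P → K)) = opL t s * opT t w :=
  ext_of_one t (comm_opT t _) (comm_mul t (comm_opL t s) (comm_opT t w))
    (by rw [opT_bvec, Module.End.mul_apply, opT_bvec, opL_bvec t h])

theorem opT_gen (s : P.S) : (opT t (gen s) : Module.End K (W P → K)) = opL t s := by
  have h := opT_gen_mul t (s := s) (w := 1) (by rw [mul_one, len_one, len_gen]; omega)
  rwa [mul_one, opT_one, mul_one] at h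

theorem opT_mul_gen {s : P.S} {w : W P} (h : len w < len (w * gen s)) :
    (opT t (w * gen s) : Module.End K (W P → K)) = opT t w * opL t s := by
  refine ext_of_one t (comm_opT t _) (comm_mul t (comm_opT t w) (comm_opL t s)) ?_
  rw [opT_bvec, Module.End.mul_apply, opL_bvec t (by rw [mul_one, len_one, len_gen]; omega), mul_one,
    show (bvec (gen s) : W P → K) = opR t s (bvec 1) by
      rw [opR_bvec t (by rw [one_mul, len_one, len_gen]; omega), one_mul],
    ← Module.End.mul_apply, comm_opT t w s, Module.End.mul_apply, opT_bvec, opR_bvec t h]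

theorem opL_sq (s : P.S) :
    (opL t s * opL t s : Module.End K (W P → K)) = (t - 1) • opL t s + t • 1 := by
  classical
  refine ext_of_one t (comm_mul t (comm_opL t s) (comm_opL t s))
    (comm_add t (comm_smul t _ (comm_opL t s)) (comm_smul t _ (comm_one t))) ?_
  have h0 : len (1 : W P) < len (gen s * 1) := by rw [mul_one, len_one, len_gen]; omega
  rw [Module.End.mul_apply, LinearMap.add_apply, LinearMap.smul_apply, LinearMap.smul_apply,
    Module.End.one_apply, opL_bvec t h0, mul_one]
  funext w
  rw [opL_apply, Pi.add_apply, Pi.smul_apply, Pi.smul_apply, smul_eq_mul, smul_eq_mul, bvec_apply,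
    bvec_apply, bvec_apply]
  by_cases h1 : w = gen s
  · subst h1
    rw [gen_mul_self, len_one, len_gen, if_pos (by omega), if_neg (Ne.symm (gen_ne_one s)), if_pos rfl,
      if_neg (gen_ne_one s)]
    ring
  · by_cases h2 : w = 1
    · subst h2
      rw [mul_one, len_one, len_gen, if_neg (by omega), if_pos rfl, if_neg h1, if_pos rfl]
      ring
    · have h3 : gen s * w ≠ gen s := fun e => h2 (mul_eq_left.1 e)
      rw [if_neg h3, if_neg h1, if_neg h2]
      split_ifs <;> ring

variable [Fintype (W P)]

/-- The operator of left multiplication by an element of the algebra. -/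
noncomputable def lmul : (W P → K) →ₗ[K] Module.End K (W P → K) where
  toFun x := ∑ w : W P, x w • opT t w
  map_add' x y := by simp [add_smul, Finset.sum_add_distrib]
  map_smul' c x := by simp [Finset.smul_sum, smul_smul]

omit [Finite (W P)] in
theorem lmul_apply (x : W P → K) : lmul t x = ∑ w : W P, x w • opT t w := rfl

theorem comm_lmul (x : W P → K) : Comm' t (lmul t x) :=
  comm_sum t _ _ fun w _ => comm_smul t _ (comm_opT t w)

omit [Finite (W P)] in
theorem lmul_bvec (x : W P → K) : lmul t x (bvec 1) = x := by
  classical
  rw [lmul_apply, LinearMap.sum_apply]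
  funext v
  simp [LinearMap.smul_apply, opT_bvec, bvec_apply]

theorem lmul_bvec_one : lmul t (bvec (1 : W P)) = (1 : Module.End K (W P → K)) :=
  ext_of_one t (comm_lmul t _) (comm_one t) (by rw [lmul_bvec]; rfl)

/-- The defect from being central. -/
noncomputable def defect : (W P → K) →ₗ[K] (P.S × W P → K) where
  toFun x := fun p => opL t p.1 x p.2 - opR t p.1 x p.2
  map_add' x y := by funext p; simp only [map_add, Pi.add_apply]; ring
  map_smul' c x := by funext p; simp only [map_smul, Pi.smul_apply, smul_eq_mul, RingHom.id_apply]; ring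

omit [Finite (W P)] [Fintype (W P)] in
theorem defect_eq_zero_iff (x : W P → K) : defect t x = 0 ↔ ∀ s, opL t s x = opR t s x := by
  constructor
  · intro h s; funext w; exact sub_eq_zero.1 (congrFun h (s, w))
  · intro h; funext p; exact sub_eq_zero.2 (congrFun (h p.1) p.2)

theorem opT_commute_of_central {x : W P → K} (h : ∀ s, opL t s x = opR t s x) (w : W P) :
    opT t w * lmul t x = lmul t x * opT t w := by
  have hs : ∀ s, opL t s * lmul t x = lmul t x * opL t s := fun s => by
    refine ext_of_one t (comm_mul t (comm_opL t s) (comm_lmul t x))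
      (comm_mul t (comm_lmul t x) (comm_opL t s)) ?_
    have h0 : len (1 : W P) < len (gen s * 1) := by rw [mul_one, len_one, len_gen]; omega
    rw [Module.End.mul_apply, Module.End.mul_apply, lmul_bvec, h s, opL_bvec t h0, mul_one,
      show (bvec (gen s) : W P → K) = opR t s (bvec 1) by
        rw [opR_bvec t (by rw [one_mul, len_one, len_gen]; omega), one_mul],
      ← Module.End.mul_apply (lmul t x), comm_lmul t x s, Module.End.mul_apply, lmul_bvec]
  have key : ∀ L : List P.S, opWord t L * lmul t x = lmul t x * opWord t L := by
    intro L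
    induction L with
    | nil => simp [opWord]
    | cons s L ih =>
      show opL t s * opWord t L * lmul t x = lmul t x * (opL t s * opWord t L)
      rw [mul_assoc, ih, ← mul_assoc, hs, mul_assoc]
  exact key _

/-- The largest length. -/
noncomputable def maxLen (P : Cfsg.BNPair G) [Fintype (W P)] : ℕ := Finset.univ.sup fun w : W P => len w

omit [Finite (W P)] in
theorem len_le_maxLen (w : W P) : len w ≤ maxLen P :=
  Finset.le_sup (f := fun w : W P => len w) (Finset.mem_univ w)

/-- The averaging map as an operator. -/
noncomputable def casOp (h : W P → K) : Module.End K (W P → K) :=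
  ∑ w : W P, t ^ (maxLen P - len w) • (opT t w * lmul t h * opT t w⁻¹)

/-- The averaging map onto the centre. -/
noncomputable def cas : (W P → K) →ₗ[K] (W P → K) where
  toFun h := casOp t h (bvec 1)
  map_add' x y := by
    simp [casOp, mul_add, add_mul, smul_add, Finset.sum_add_distrib]
  map_smul' c x := by
    simp only [casOp, map_smul, RingHom.id_apply, mul_smul_comm, smul_mul_assoc, LinearMap.sum_apply,
      LinearMap.smul_apply, Finset.smul_sum, smul_smul, mul_comm]

theorem opL_casOp (s : P.S) (h : W P → K) : opL t s * casOp t h = casOp t h * opL t s := by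
  classical
  have hsplit : ∀ f : W P → Module.End K (W P → K),
      ∑ w, f w = ∑ w ∈ Finset.univ.filter (fun w => len w < len (gen s * w)), (f w + f (gen s * w)) := by
    intro f
    rw [Finset.sum_add_distrib, ← Finset.sum_filter_add_sum_filter_not Finset.univ
      (fun w => len w < len (gen s * w))]
    congr 1
    refine Finset.sum_nbij' (fun w => gen s * w) (fun w => gen s * w) (fun w hw => ?_) (fun w hw => ?_)
      (fun w _ => gen_mul_cancel _ _) (fun w _ => gen_mul_cancel _ _)
      (fun w _ => by rw [gen_mul_cancel])
    · simp only [Finset.mem_filter, Finset.mem_univ, true_and] at hw ⊢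
      rw [gen_mul_cancel]
      have := len_gen_mul_cases w s
      omega
    · simp only [Finset.coe_filter, Finset.mem_univ, true_and, Set.mem_setOf_eq, Finset.mem_filter] at hw ⊢
      rw [gen_mul_cancel]
      omega
  rw [casOp, hsplit, Finset.mul_sum, Finset.sum_mul]
  refine Finset.sum_congr rfl fun w hw => ?_
  simp only [Finset.mem_filter, Finset.mem_univ, true_and] at hw
  have hlen : len (gen s * w) = len w + 1 := by
    rcases len_gen_mul_cases w s with h | h <;> omega
  obtain ⟨m, hm⟩ : ∃ m, maxLen P - len w = m + 1 :=
    ⟨maxLen P - len w - 1, by have := len_le_maxLen (gen s * w); omega⟩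
  have hm' : maxLen P - len (gen s * w) = m := by omega
  have hinv : len w⁻¹ < len (w⁻¹ * gen s) := by
    rw [len_inv, ← len_inv (w⁻¹ * gen s), mul_inv_rev, gen_inv, inv_inv]; omega
  rw [mul_inv_rev, gen_inv, opT_gen_mul t hw, opT_mul_gen t hinv, hm, hm']
  simp only [mul_add, add_mul, mul_smul_comm, smul_mul_assoc, mul_assoc, opL_sq, mul_one]
  simp only [← mul_assoc, opL_sq]
  simp only [add_mul, smul_mul_assoc, one_mul, smul_add, smul_smul, pow_succ]
  rw [add_comm]
  abel

omit [Finite (W P)] in
theorem cas_apply (h : W P → K) : cas t h = casOp t h (bvec 1) := rfl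

theorem comm_casOp (h : W P → K) : Comm' t (casOp t h) :=
  comm_sum t _ _ fun w _ => comm_smul t _ (comm_mul t (comm_mul t (comm_opT t w) (comm_lmul t h))
    (comm_opT t w⁻¹))

theorem cas_central (h : W P → K) (s : P.S) : opL t s (cas t h) = opR t s (cas t h) := by
  rw [cas_apply, ← Module.End.mul_apply, opL_casOp, Module.End.mul_apply,
    opL_bvec t (by rw [mul_one, len_one, len_gen]; omega), mul_one,
    show (bvec (gen s) : W P → K) = opR t s (bvec 1) by
      rw [opR_bvec t (by rw [one_mul, len_one, len_gen]; omega), one_mul],
    ← Module.End.mul_apply (casOp t h), comm_casOp t h s, Module.End.mul_apply]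

theorem cas_of_central {z : W P → K} (hz : ∀ s, opL t s z = opR t s z) :
    cas t z = casOp t (bvec 1) z := by
  have h : casOp t z = casOp t (bvec 1) * lmul t z := by
    rw [casOp, casOp, Finset.sum_mul]
    refine Finset.sum_congr rfl fun w _ => ?_
    rw [lmul_bvec_one, mul_one, smul_mul_assoc, mul_assoc (opT t w) (lmul t z),
      ← opT_commute_of_central t hz w⁻¹, ← mul_assoc]
  rw [cas_apply, h, Module.End.mul_apply, lmul_bvec]

theorem casOp_one_central {z : W P → K} (hz : ∀ s, opL t s z = opR t s z) (s : P.S) :
    opL t s (casOp t (bvec 1) z) = opR t s (casOp t (bvec 1) z) := by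
  rw [← cas_of_central t hz]; exact cas_central t z s

/-! ### Change of parameter -/

variable {K' : Type*} [CommRing K'] (φ : K →+* K')

omit [Finite (W P)] [Fintype (W P)] in
theorem map_opL (s : P.S) (f : W P → K) : φ ∘ opL t s f = opL (φ t) s (φ ∘ f) := by
  funext w; simp only [Function.comp_apply, opL_apply]; split_ifs <;> simp

omit [Finite (W P)] [Fintype (W P)] in
theorem map_opR (s : P.S) (f : W P → K) : φ ∘ opR t s f = opR (φ t) s (φ ∘ f) := by
  funext w; simp only [Function.comp_apply, opR_apply]; split_ifs <;> simp

omit [Finite (W P)] [Fintype (W P)] in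
theorem map_opWord (L : List P.S) (f : W P → K) :
    φ ∘ opWord t L f = opWord (φ t) L (φ ∘ f) := by
  induction L with
  | nil => rfl
  | cons s L ih =>
    show φ ∘ opL t s (opWord t L f) = opL (φ t) s (opWord (φ t) L (φ ∘ f))
    rw [map_opL, ih]

omit [Finite (W P)] in
theorem map_lmul (x f : W P → K) : φ ∘ lmul t x f = lmul (φ t) (φ ∘ x) (φ ∘ f) := by
  funext v
  simp only [Function.comp_apply, lmul_apply, LinearMap.sum_apply, LinearMap.smul_apply,
    Finset.sum_apply, Pi.smul_apply, smul_eq_mul, map_sum, map_mul]
  refine Finset.sum_congr rfl fun w _ => ?_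
  rw [opT, opT, ← map_opWord]; rfl

omit [Finite (W P)] in
theorem map_bvec (w : W P) : φ ∘ (bvec w : W P → K) = bvec w := by
  classical
  funext v; simp only [Function.comp_apply, bvec_apply]; split_ifs <;> simp

theorem map_cas (h : W P → K) : φ ∘ cas t h = cas (φ t) (φ ∘ h) := by
  funext v
  simp only [Function.comp_apply, cas_apply, casOp, LinearMap.sum_apply, LinearMap.smul_apply,
    Finset.sum_apply, Pi.smul_apply, smul_eq_mul, map_sum, map_mul, map_pow, Module.End.mul_apply]
  refine Finset.sum_congr rfl fun w _ => ?_
  congr 1
  rw [← map_bvec φ (1 : W P)]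
  simp only [opT, ← map_opWord, ← map_lmul]
  rfl

omit [Finite (W P)] [Fintype (W P)] in
theorem map_defect (x : W P → K) : φ ∘ defect t x = defect (φ t) (φ ∘ x) := by
  funext p
  show φ (opL t p.1 x p.2 - opR t p.1 x p.2) = _
  rw [map_sub]
  show (φ ∘ opL t p.1 x) p.2 - (φ ∘ opR t p.1 x) p.2 = _
  rw [map_opL, map_opR]; rfl

end Cfsg.Agent.SimpleFacts.HeckeFamily
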