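import Cfsg.Agent.SimpleFacts.HeckeCentre
import Cfsg.Agent.Lib.Blocks.GroupAlgebra
import Cfsg.Agent.Lib.Characters.Induction
import Cfsg.Agent.S0190
import Cfsg.Prelude.Def_ParabolicCharacters

/-!
The Hecke algebra of a finite group with a (B, N)-pair inside the group algebra; the constituents of the
permutation character on the cosets of `B` are counted by the dimension of its centre.
-/

set_option autoImplicit false

namespace Cfsg.Agent.SimpleFacts.HeckeGroup

open Cfsg.Agent.BN.Basic Cfsg.Agent.SimpleFacts.BNReps Cfsg.Agent.SimpleFacts.HeckeFamily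
  Cfsg.Agent.SimpleFacts.HeckeCentre Cfsg.Agent.Blocks Cfsg.Agent.Characters

universe u

variable {G : Type u} [Group G] [Finite G] {P : Cfsg.BNPair G}

open Classical in
/-- The normalised indicator of a cell. -/
noncomputable def cellEl (w : W P) : MonoidAlgebra ℂ G :=
  ofFun fun g => if g ∈ cell w then (Nat.card P.B : ℂ)⁻¹ else 0

theorem coeff_cellEl_of_mem {w v : W P} {g : G} (hg : g ∈ cell v) [Decidable (v = w)] :
    (cellEl w).coeff g = if v = w then (Nat.card P.B : ℂ)⁻¹ else 0 := by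
  classical
  rw [cellEl, coeff_ofFun]
  by_cases h : v = w
  · subst h; rw [if_pos hg, if_pos rfl]
  · rw [if_neg h, if_neg fun h' => h (cell_inj hg h')]

variable [Fintype (W P)]

/-- The element with the given coordinates. -/
noncomputable def toAlg (f : W P → ℂ) : MonoidAlgebra ℂ G := ∑ w : W P, f w • cellEl w

theorem coeff_toAlg (f : W P → ℂ) {v : W P} {g : G} (hg : g ∈ cell v) :
    (toAlg f).coeff g = f v * (Nat.card P.B : ℂ)⁻¹ := by
  classical
  rw [toAlg, MonoidAlgebra.coeff_sum, Finset.sum_apply']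
  simp only [MonoidAlgebra.coeff_smul_apply, coeff_cellEl_of_mem hg, smul_eq_mul, mul_ite, mul_zero,
    Finset.sum_ite_eq, Finset.mem_univ, if_true]

theorem toAlg_injective : Function.Injective (toAlg : (W P → ℂ) → MonoidAlgebra ℂ G) := by
  intro f f' h
  funext v
  obtain ⟨g, hg⟩ := cell_nonempty v
  have h' := congrArg (fun x : MonoidAlgebra ℂ G => x.coeff g) h
  simp only [coeff_toAlg _ hg] at h'
  exact mul_right_cancel₀ (inv_ne_zero (Nat.cast_ne_zero.2 Nat.card_pos.ne')) h'

theorem toAlg_bvec (w : W P) : toAlg (bvec w) = cellEl w := by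
  classical
  refine el_ext fun g => ?_
  obtain ⟨v, hv⟩ := bruhat (P := P) g
  rw [coeff_toAlg _ hv, coeff_cellEl_of_mem hv, bvec_apply]
  split_ifs <;> simp

theorem toAlg_add (f f' : W P → ℂ) : toAlg (f + f') = toAlg f + toAlg f' := by
  simp [toAlg, add_smul, Finset.sum_add_distrib]

theorem toAlg_smul (c : ℂ) (f : W P → ℂ) : toAlg (c • f) = c • toAlg f := by
  simp [toAlg, Finset.smul_sum, smul_smul]

theorem toAlg_sum {ι : Type*} (s : Finset ι) (f : ι → W P → ℂ) :
    toAlg (∑ i ∈ s, f i) = ∑ i ∈ s, toAlg (f i) := by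
  classical
  induction s using Finset.induction_on with
  | empty => simp [toAlg]
  | insert a s ha ih => rw [Finset.sum_insert ha, Finset.sum_insert ha, toAlg_add, ih]

/-- A function constant on the double cosets of `B` comes from the algebra. -/
theorem exists_toAlg {x : MonoidAlgebra ℂ G}
    (h : ∀ g : G, ∀ b ∈ P.B, ∀ b' ∈ P.B, x.coeff (b * g * b') = x.coeff g) :
    ∃ f : W P → ℂ, toAlg f = x := by
  refine ⟨fun w => (Nat.card P.B : ℂ) * x.coeff (cell_nonempty w).choose, el_ext fun g => ?_⟩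
  obtain ⟨v, hv⟩ := bruhat (P := P) g
  rw [coeff_toAlg _ hv, mul_comm _ (x.coeff _), mul_assoc,
    mul_inv_cancel₀ (Nat.cast_ne_zero.2 Nat.card_pos.ne'), mul_one]
  obtain ⟨n, hn, rfl⟩ := exists_mkW v
  obtain ⟨b, hb, b', hb', e⟩ := mem_dc.1 (cell_nonempty (mkW hn)).choose_spec
  obtain ⟨c, hc, c', hc', e'⟩ := mem_dc.1 hv
  rw [e, e', h n b hb b' hb', h n c hc c' hc']

omit [Fintype (W P)] in
theorem cellEl_one_mul_of_invariant {x : MonoidAlgebra ℂ G}
    (h : ∀ g : G, ∀ b ∈ P.B, x.coeff (b * g) = x.coeff g) : cellEl (1 : W P) * x = x := by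
  classical
  haveI := Fintype.ofFinite G
  refine el_ext fun g => ?_
  rw [coeff_mul']
  have e : ∀ k : G, (cellEl (1 : W P)).coeff k * x.coeff (k⁻¹ * g) =
      if k ∈ P.B then (Nat.card P.B : ℂ)⁻¹ * x.coeff g else 0 := by
    intro k
    rw [cellEl, coeff_ofFun, cell_one]
    by_cases hk : k ∈ P.B
    · rw [if_pos (SetLike.mem_coe.2 hk), if_pos hk, h g _ (inv_mem hk)]
    · rw [if_neg (fun h' => hk (SetLike.mem_coe.1 h')), if_neg hk, zero_mul]
  rw [Finset.sum_congr rfl fun k _ => e k, ← Finset.sum_filter, Finset.sum_const, nsmul_eq_mul,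
    ← mul_assoc, show ((Finset.univ.filter fun k : G => k ∈ P.B).card : ℂ) = Nat.card P.B by
      rw [Nat.card_eq_fintype_card, Fintype.card_subtype],
    mul_inv_cancel₀ (Nat.cast_ne_zero.2 Nat.card_pos.ne'), one_mul]

omit [Fintype (W P)] in
theorem mul_cellEl_one_of_invariant {x : MonoidAlgebra ℂ G}
    (h : ∀ g : G, ∀ b ∈ P.B, x.coeff (g * b) = x.coeff g) : x * cellEl (1 : W P) = x := by
  classical
  haveI := Fintype.ofFinite G
  refine el_ext fun g => ?_
  rw [coeff_mul']
  have e : ∀ k : G, x.coeff k * (cellEl (1 : W P)).coeff (k⁻¹ * g) =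
      if k⁻¹ * g ∈ P.B then (Nat.card P.B : ℂ)⁻¹ * x.coeff g else 0 := by
    intro k
    rw [cellEl, coeff_ofFun, cell_one]
    by_cases hk : k⁻¹ * g ∈ P.B
    · rw [if_pos (SetLike.mem_coe.2 hk), if_pos hk, mul_comm, ← h k _ hk, mul_inv_cancel_left]
    · rw [if_neg (fun h' => hk (SetLike.mem_coe.1 h')), if_neg hk, mul_zero]
  rw [Finset.sum_congr rfl fun k _ => e k, ← Finset.sum_filter, Finset.sum_const, nsmul_eq_mul,
    ← mul_assoc]
  have hc : (Finset.univ.filter fun k : G => k⁻¹ * g ∈ P.B).card = Nat.card P.B := by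
    rw [Nat.card_eq_fintype_card, Fintype.card_subtype]
    refine Finset.card_nbij' (fun k => k⁻¹ * g) (fun b => g * b⁻¹) (fun k hk => ?_) (fun b hb => ?_)
      (fun k _ => by simp) (fun b _ => by simp)
    · simp only [Finset.coe_filter, Finset.mem_univ, true_and, Set.mem_ofPred_eq] at hk ⊢
      exact hk
    · simp only [Finset.coe_filter, Finset.mem_univ, true_and, Set.mem_ofPred_eq] at hb ⊢
      simpa using hb
  rw [hc, mul_inv_cancel₀ (Nat.cast_ne_zero.2 Nat.card_pos.ne'), one_mul]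

theorem toAlg_invariant (f : W P → ℂ) (g : G) {b b' : G} (hb : b ∈ P.B) (hb' : b' ∈ P.B) :
    (toAlg f).coeff (b * g * b') = (toAlg f).coeff g := by
  obtain ⟨v, hv⟩ := bruhat (P := P) g
  rw [coeff_toAlg f hv, coeff_toAlg f (mul_right_cell (mul_left_cell hb hv) hb')]

theorem one_mul_toAlg (f : W P → ℂ) : cellEl (1 : W P) * toAlg f = toAlg f :=
  cellEl_one_mul_of_invariant fun g b hb => by
    simpa using toAlg_invariant f g hb (one_mem P.B)

theorem toAlg_mul_one (f : W P → ℂ) : toAlg f * cellEl (1 : W P) = toAlg f :=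
  mul_cellEl_one_of_invariant fun g b hb => by
    simpa using toAlg_invariant f g (one_mem P.B) hb

variable (q : ℕ) (hq : ∀ s : P.S, Nat.card {x : G // x ∈ cell (gen s)} = q * Nat.card P.B)
include hq

theorem cellEl_gen_mul (s : P.S) (f : W P → ℂ) :
    cellEl (gen s) * toAlg f = toAlg (opL (q : ℂ) s f) := by
  classical
  haveI := Fintype.ofFinite G
  refine el_ext fun g => ?_
  obtain ⟨w, hw⟩ := bruhat (P := P) g
  rw [coeff_mul', coeff_toAlg _ hw, opL_apply]
  have e0 : ∀ k : G, (cellEl (gen s)).coeff k * (toAlg f).coeff (k⁻¹ * g) =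
      if k ∈ cell (gen s) then (Nat.card P.B : ℂ)⁻¹ * (toAlg f).coeff (k⁻¹ * g) else 0 := by
    intro k
    rw [cellEl, coeff_ofFun]
    split_ifs <;> simp
  rw [Finset.sum_congr rfl fun k _ => e0 k, ← Finset.sum_filter]
  have hcard : (Finset.univ.filter fun k : G => k ∈ cell (gen s)).card = q * Nat.card P.B := by
    rw [← hq s, Nat.card_eq_fintype_card, Fintype.card_subtype]
  have hkinv : ∀ k ∈ cell (gen s), k⁻¹ ∈ cell (gen s) := fun k hk => by
    simpa [gen_inv] using inv_mem_cell hk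
  have hBne : (Nat.card P.B : ℂ) ≠ 0 := Nat.cast_ne_zero.2 Nat.card_pos.ne'
  rcases len_gen_mul_cases w s with h | h
  · rw [if_neg (by omega)]
    have e1 : ∀ k ∈ Finset.univ.filter (fun k : G => k ∈ cell (gen s)),
        (Nat.card P.B : ℂ)⁻¹ * (toAlg f).coeff (k⁻¹ * g) =
          (Nat.card P.B : ℂ)⁻¹ * (f (gen s * w) * (Nat.card P.B : ℂ)⁻¹) := by
      intro k hk
      rw [coeff_toAlg f (mul_cell_of_le (w := w) (by omega) (hkinv k (Finset.mem_filter.1 hk).2) hw)]
    rw [Finset.sum_congr rfl e1, Finset.sum_const, hcard, nsmul_eq_mul, Nat.cast_mul]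
    field_simp
  · rw [if_pos (by omega)]
    obtain ⟨n, hn, hnw⟩ := exists_mkW (gen s * w)
    have hw' : g ∈ cell (mkW (mul_mem (P.subset s.2) hn)) := by
      rw [mkW_mul (P.subset s.2) hn, ← gen, hnw, gen_mul_cancel]
      exact hw
    rw [cell_mkW] at hw'
    obtain ⟨b, hb, b', hb', rfl⟩ := mem_dc.1 hw'
    obtain ⟨x₀, hx₀⟩ : ∃ x₀, x₀ = b * (s : G) := ⟨_, rfl⟩
    have hx₀s : x₀ ∈ cell (gen s) := hx₀ ▸ mul_left_cell hb (mem_cell_gen s)
    have hy : x₀⁻¹ * (b * ((s : G) * n) * b') ∈ cell (gen s * w) := by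
      rw [show x₀⁻¹ * (b * ((s : G) * n) * b') = n * b' by rw [hx₀]; group, ← hnw]
      exact mul_right_cell (mem_cell_mkW hn) hb'
    have e1 : ∀ k ∈ Finset.univ.filter (fun k : G => k ∈ cell (gen s)),
        (Nat.card P.B : ℂ)⁻¹ * (toAlg f).coeff (k⁻¹ * (b * ((s : G) * n) * b')) =
          (Nat.card P.B : ℂ)⁻¹ * (f w * (Nat.card P.B : ℂ)⁻¹) +
            if k⁻¹ * x₀ ∈ P.B then
              (Nat.card P.B : ℂ)⁻¹ * ((f (gen s * w) - f w) * (Nat.card P.B : ℂ)⁻¹) else 0 := by
      intro k hk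
      have hk' := (Finset.mem_filter.1 hk).2
      by_cases hB : k⁻¹ * x₀ ∈ P.B
      · rw [if_pos hB, coeff_toAlg f (show k⁻¹ * (b * ((s : G) * n) * b') ∈ cell (gen s * w) by
          have := mul_left_cell hB hy; rwa [mul_assoc, mul_inv_cancel_left] at this)]
        ring
      · rw [if_neg hB, add_zero]
        have hks : k⁻¹ * x₀ ∈ cell (gen s) := by
          rcases mul_cell (hkinv k hk') hx₀s with h' | h'
          · rw [gen_mul_self, cell_one] at h'; exact absurd h' hB
          · exact h'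
        have := mul_cell_of_le (w := gen s * w) (by rw [gen_mul_cancel]; omega) hks hy
        rw [gen_mul_cancel, mul_assoc, mul_inv_cancel_left] at this
        rw [coeff_toAlg f this]
    rw [Finset.sum_congr rfl e1, Finset.sum_add_distrib, Finset.sum_const, hcard, nsmul_eq_mul,
      ← Finset.sum_filter, Finset.sum_const, nsmul_eq_mul, Nat.cast_mul]
    have hA : ((Finset.univ.filter fun k : G => k ∈ cell (gen s)).filter
        fun k => k⁻¹ * x₀ ∈ P.B).card = Nat.card P.B := by
      rw [Nat.card_eq_fintype_card, Fintype.card_subtype]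
      refine Finset.card_nbij' (fun k => k⁻¹ * x₀) (fun c => x₀ * c⁻¹) (fun k hk => ?_) (fun c hc => ?_)
        (fun k _ => by simp) (fun c _ => by simp)
      · simp only [Finset.coe_filter, Finset.mem_filter, Finset.mem_univ, true_and,
          Set.mem_ofPred_eq] at hk ⊢
        exact hk.2
      · simp only [Finset.coe_filter, Finset.mem_filter, Finset.mem_univ, true_and,
          Set.mem_ofPred_eq] at hc ⊢
        refine ⟨mul_right_cell hx₀s (inv_mem hc), by simpa using hc⟩
    rw [hA]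
    field_simp
    ring

theorem cellEl_gen_mul_cellEl {s : P.S} {w : W P} (h : len w < len (gen s * w)) :
    cellEl (gen s * w) = cellEl (gen s) * cellEl w := by
  rw [← toAlg_bvec w, cellEl_gen_mul q hq, opL_bvec _ h, toAlg_bvec]

theorem cellEl_mul (w : W P) (f : W P → ℂ) : cellEl w * toAlg f = toAlg (opT (q : ℂ) w f) := by
  suffices key : ∀ n, ∀ w : W P, len w = n → ∀ f : W P → ℂ,
      cellEl w * toAlg f = toAlg (opT (q : ℂ) w f) from key _ w rfl f
  intro n
  induction n with
  | zero =>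
    intro w hw f
    rw [eq_one_of_len_eq_zero hw, opT_one, one_mul_toAlg]; rfl
  | succ n ih =>
    intro w hw f
    obtain ⟨s, v, rfl, hv⟩ := exists_gen_mul (w := w) (by rintro rfl; rw [len_one] at hw; omega)
    rw [cellEl_gen_mul_cellEl q hq (by omega), mul_assoc, ih v (by omega), cellEl_gen_mul q hq,
      opT_gen_mul _ (by omega)]
    rfl

theorem toAlg_mul (x y : W P → ℂ) : toAlg x * toAlg y = toAlg (lmul (q : ℂ) x y) := by
  conv_lhs => rw [toAlg, Finset.sum_mul]
  simp only [smul_mul_assoc, cellEl_mul q hq, lmul_apply, LinearMap.sum_apply, LinearMap.smul_apply,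
    toAlg_sum, toAlg_smul]

omit hq [Fintype (W P)] in
/-- The sum of the coefficients. -/
theorem coeffSum_mul [Fintype G] (x y : MonoidAlgebra ℂ G) :
    ∑ g, (x * y).coeff g = (∑ g, x.coeff g) * ∑ g, y.coeff g := by
  simp only [coeff_mul', Finset.sum_mul_sum]
  rw [Finset.sum_comm]
  refine Finset.sum_congr rfl fun k _ => ?_
  exact Fintype.sum_equiv (Equiv.mulLeft k⁻¹) _ _ fun g => rfl

theorem coeffSum_cellEl [Fintype G] (w : W P) : ∑ g, (cellEl w).coeff g = (q : ℂ) ^ len w := by
  classical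
  suffices key : ∀ n, ∀ w : W P, len w = n → ∑ g, (cellEl w).coeff g = (q : ℂ) ^ n from key _ w rfl
  intro n
  induction n with
  | zero =>
    intro w hw
    simp only [eq_one_of_len_eq_zero hw, cellEl, coeff_ofFun, cell_one, ← Finset.sum_filter,
      Finset.sum_const, nsmul_eq_mul, pow_zero]
    rw [show (Finset.univ.filter fun g : G => g ∈ (P.B : Set G)).card = Nat.card P.B by
      rw [Nat.card_eq_fintype_card, Fintype.card_subtype]; rfl,
      mul_inv_cancel₀ (Nat.cast_ne_zero.2 Nat.card_pos.ne')]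
  | succ n ih =>
    intro w hw
    obtain ⟨s, v, rfl, hv⟩ := exists_gen_mul (w := w) (by rintro rfl; rw [len_one] at hw; omega)
    rw [cellEl_gen_mul_cellEl q hq (by omega), coeffSum_mul, ih v (by omega), pow_succ']
    congr 1
    simp only [cellEl, coeff_ofFun, ← Finset.sum_filter, Finset.sum_const, nsmul_eq_mul]
    rw [show (Finset.univ.filter fun g : G => g ∈ cell (gen s)).card = q * Nat.card P.B by
      rw [← hq s, Nat.card_eq_fintype_card, Fintype.card_subtype], Nat.cast_mul, mul_assoc,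
      mul_inv_cancel₀ (Nat.cast_ne_zero.2 Nat.card_pos.ne'), mul_one]

theorem q_pos (s : P.S) : 1 ≤ q := by
  haveI : Nonempty {x : G // x ∈ cell (gen s)} := ⟨⟨s, mem_cell_gen s⟩⟩
  have h := hq s
  have := Nat.card_pos (α := {x : G // x ∈ cell (gen s)})
  rcases Nat.eq_zero_or_pos q with e | e
  · rw [e, zero_mul] at h; omega
  · exact e

/-- The projection of a group element into the algebra. -/
theorem one_single_one [Fintype G] (hq1 : 1 ≤ q) {w : W P} {g : G} (hg : g ∈ cell w) :
    cellEl (1 : W P) * MonoidAlgebra.single g (1 : ℂ) * cellEl (1 : W P) =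
      ((q : ℂ) ^ len w)⁻¹ • cellEl w := by
  classical
  obtain ⟨z, hz⟩ : ∃ z, z = cellEl (1 : W P) * MonoidAlgebra.single g (1 : ℂ) * cellEl (1 : W P) :=
    ⟨_, rfl⟩
  rw [← hz]
  have hco : ∀ k, z.coeff k = ∑ a : G,
      (if a * g⁻¹ ∈ P.B ∧ a⁻¹ * k ∈ P.B then ((Nat.card P.B : ℂ)⁻¹ * (Nat.card P.B : ℂ)⁻¹) else 0) := by
    intro k
    rw [hz, coeff_mul']
    refine Finset.sum_congr rfl fun a _ => ?_
    rw [coeff_mul_single', mul_one, cellEl, coeff_ofFun, coeff_ofFun, cell_one]
    simp only [SetLike.mem_coe]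
    split_ifs <;> simp_all
  obtain ⟨f, hf⟩ := exists_toAlg (x := z) (by
    intro k c hc c' hc'
    rw [hco, hco]
    refine Fintype.sum_equiv (Equiv.mulLeft c⁻¹) _ _ fun a => ?_
    simp only [Equiv.coe_mulLeft]
    congr 1
    rw [eq_iff_iff]
    refine and_congr ?_ ?_
    · rw [show c⁻¹ * a * g⁻¹ = c⁻¹ * (a * g⁻¹) by group, Subgroup.mul_mem_cancel_left _ (inv_mem hc)]
    · rw [show a⁻¹ * (c * k * c') = a⁻¹ * c * k * c' by group,
        show (c⁻¹ * a)⁻¹ * k = a⁻¹ * c * k by group, Subgroup.mul_mem_cancel_right _ hc'])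
  have hsupp : ∀ v, v ≠ w → f v = 0 := by
    intro v hv
    obtain ⟨k, hk⟩ := cell_nonempty v
    have h1 := coeff_toAlg f hk
    rw [hf, hco, Finset.sum_eq_zero] at h1
    · exact (mul_eq_zero.1 h1.symm).resolve_right (inv_ne_zero (Nat.cast_ne_zero.2 Nat.card_pos.ne'))
    · intro a _
      refine if_neg fun ⟨h1, h2⟩ => hv (cell_inj hk ?_)
      have := mul_right_cell (mul_left_cell h1 hg) h2
      rwa [inv_mul_cancel_right, mul_inv_cancel_left] at this
  have hfw : f = f w • (bvec w : W P → ℂ) := by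
    funext v
    rw [Pi.smul_apply, smul_eq_mul, bvec_apply]
    by_cases hv : v = w
    · subst hv; rw [if_pos rfl, mul_one]
    · rw [if_neg hv, mul_zero, hsupp v hv]
  rw [← hf, hfw, toAlg_smul, toAlg_bvec]
  congr 1
  have h1 : ∑ k, z.coeff k = 1 := by
    rw [hz, coeffSum_mul, coeffSum_mul, coeffSum_cellEl q hq, len_one, pow_zero, one_mul, mul_one]
    simp [MonoidAlgebra.coeff_single, Finsupp.single_apply]
  rw [← hf, hfw, toAlg_smul, toAlg_bvec] at h1
  simp only [MonoidAlgebra.coeff_smul_apply, smul_eq_mul, ← Finset.mul_sum,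
    coeffSum_cellEl q hq] at h1
  exact eq_inv_of_mul_eq_one_left h1

/-- The centre of the algebra is the image of the centre of the group algebra. -/
theorem image_centre [Fintype P.S] (hq1 : 1 ≤ q) (x : MonoidAlgebra ℂ G) :
    (∃ z, IsCentralEl z ∧ z * cellEl (1 : W P) = x) ↔ ∃ f ∈ centre P (q : ℂ), toAlg f = x := by
  classical
  haveI := Fintype.ofFinite G
  have hbv : toAlg (bvec (1 : W P)) = cellEl (1 : W P) := toAlg_bvec _
  have hee : cellEl (1 : W P) * cellEl (1 : W P) = cellEl (1 : W P) := by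
    conv_lhs => arg 2; rw [← hbv]
    rw [one_mul_toAlg, hbv]
  constructor
  · rintro ⟨z, hz, rfl⟩
    have hinv : ∀ g : G, ∀ b ∈ P.B, ∀ b' ∈ P.B,
        (z * cellEl (1 : W P)).coeff (b * g * b') = (z * cellEl (1 : W P)).coeff g := by
      intro g b hb b' hb'
      have hco : ∀ k, (z * cellEl (1 : W P)).coeff k =
          ∑ a : G, if a⁻¹ * k ∈ P.B then z.coeff a * (Nat.card P.B : ℂ)⁻¹ else 0 := fun k => by
        rw [coeff_mul']
        refine Finset.sum_congr rfl fun a _ => ?_
        rw [cellEl, coeff_ofFun, cell_one]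
        simp only [SetLike.mem_coe]
        split_ifs <;> simp
      rw [hco, hco]
      refine Fintype.sum_equiv (MulAut.conj b⁻¹).toEquiv _ _ fun a => ?_
      rw [show (MulAut.conj b⁻¹).toEquiv a = b⁻¹ * a * b⁻¹⁻¹ from rfl, hz a b⁻¹]
      congr 1
      rw [eq_iff_iff, show a⁻¹ * (b * g * b') = b * ((b⁻¹ * a * b⁻¹⁻¹)⁻¹ * g) * b' by group,
        Subgroup.mul_mem_cancel_right _ hb', Subgroup.mul_mem_cancel_left _ hb]
    obtain ⟨f, hf⟩ := exists_toAlg hinv
    refine ⟨f, (mem_centre P).2 fun s => ?_, hf⟩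
    have h1 : cellEl (gen s) * toAlg f = toAlg f * cellEl (gen s) := by
      rw [hf, ← mul_assoc, ← (central_commute hz (cellEl (gen s))).eq, mul_assoc, mul_assoc]
      congr 1
      rw [← toAlg_bvec (gen s), one_mul_toAlg, toAlg_mul_one]
    rw [cellEl_gen_mul q hq, ← toAlg_bvec (gen s), toAlg_mul q hq] at h1
    rw [toAlg_injective h1]
    have h0 : len (1 : W P) < len (1 * gen s) := by rw [one_mul, len_one, len_gen]; omega
    rw [show (bvec (gen s) : W P → ℂ) = opR (q : ℂ) s (bvec 1) by rw [opR_bvec _ h0, one_mul],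
      ← Module.End.mul_apply, comm_lmul (q : ℂ) f s, Module.End.mul_apply, lmul_bvec]
  · rintro ⟨z, hz, rfl⟩
    obtain ⟨y, hy, hyz⟩ := exists_casOp_one_eq P hq1 hz
    obtain ⟨c, hc⟩ : ∃ c : ℂ, c = (q : ℂ) ^ maxLen P / (Nat.card P.B : ℂ) := ⟨_, rfl⟩
    obtain ⟨tr, htr⟩ : ∃ tr : MonoidAlgebra ℂ G, tr =
        ∑ g : G, MonoidAlgebra.single g (1 : ℂ) * toAlg y * MonoidAlgebra.single g⁻¹ (1 : ℂ) := ⟨_, rfl⟩
    refine ⟨c • tr, central_smul c ?_, ?_⟩
    · intro g h
      rw [htr]
      simp only [MonoidAlgebra.coeff_sum, Finset.sum_apply', coeff_mul_single', coeff_single_mul',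
        mul_one, one_mul]
      refine Fintype.sum_equiv (Equiv.mulLeft h⁻¹) _ _ fun a => ?_
      simp only [Equiv.coe_mulLeft]
      congr 1
      group
    have hcomm : ∀ f : W P → ℂ, toAlg y * toAlg f = toAlg f * toAlg y := by
      intro f
      rw [toAlg_mul q hq, toAlg_mul q hq]
      have h : lmul (q : ℂ) f * lmul (q : ℂ) y = lmul (q : ℂ) y * lmul (q : ℂ) f := by
        rw [lmul_apply (q : ℂ) f, Finset.sum_mul, Finset.mul_sum]
        refine Finset.sum_congr rfl fun w _ => ?_
        rw [smul_mul_assoc, opT_commute_of_central _ ((mem_centre P).1 hy) w, mul_smul_comm]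
      have h' := LinearMap.congr_fun h (bvec 1)
      rw [Module.End.mul_apply, Module.End.mul_apply, lmul_bvec, lmul_bvec] at h'
      rw [h']
    have hege : ∀ g : G, ∃ f : W P → ℂ, toAlg f =
        cellEl (1 : W P) * MonoidAlgebra.single g (1 : ℂ) * cellEl (1 : W P) := by
      intro g
      obtain ⟨w, hw⟩ := bruhat (P := P) g
      exact ⟨((q : ℂ) ^ len w)⁻¹ • bvec w, by rw [toAlg_smul, toAlg_bvec, one_single_one q hq hq1 hw]⟩
    obtain ⟨C, hC⟩ : ∃ C : MonoidAlgebra ℂ G, C = ∑ g : G,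
        MonoidAlgebra.single g (1 : ℂ) * cellEl (1 : W P) * MonoidAlgebra.single g⁻¹ (1 : ℂ) *
          cellEl (1 : W P) := ⟨_, rfl⟩
    have h1 : tr * cellEl (1 : W P) = C * toAlg y := by
      rw [htr, hC, Finset.sum_mul, Finset.sum_mul]
      refine Finset.sum_congr rfl fun g _ => ?_
      obtain ⟨f, hf⟩ := hege g⁻¹
      calc MonoidAlgebra.single g (1 : ℂ) * toAlg y * MonoidAlgebra.single g⁻¹ (1 : ℂ) * cellEl (1 : W P)
          = MonoidAlgebra.single g (1 : ℂ) * (toAlg y * (cellEl (1 : W P) *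
              MonoidAlgebra.single g⁻¹ (1 : ℂ) * cellEl (1 : W P))) := by
            conv_lhs => rw [← toAlg_mul_one y]
            simp only [mul_assoc]
        _ = MonoidAlgebra.single g (1 : ℂ) * ((cellEl (1 : W P) *
              MonoidAlgebra.single g⁻¹ (1 : ℂ) * cellEl (1 : W P)) * toAlg y) := by
            rw [← hf, hcomm]
        _ = _ := by simp only [mul_assoc]
    have h2 : C = ∑ g : G, (cellEl (1 : W P) * MonoidAlgebra.single g (1 : ℂ) * cellEl (1 : W P)) *
        (cellEl (1 : W P) * MonoidAlgebra.single g⁻¹ (1 : ℂ) * cellEl (1 : W P)) := by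
      have hcen : IsCentralEl (∑ g : G, MonoidAlgebra.single g (1 : ℂ) * cellEl (1 : W P) *
          MonoidAlgebra.single g⁻¹ (1 : ℂ)) := by
        intro g h
        simp only [MonoidAlgebra.coeff_sum, Finset.sum_apply', coeff_mul_single', coeff_single_mul',
          mul_one, one_mul]
        refine Fintype.sum_equiv (Equiv.mulLeft h⁻¹) _ _ fun a => ?_
        simp only [Equiv.coe_mulLeft]
        congr 1
        group
      have h3 : C = cellEl (1 : W P) * C := by
        rw [hC, ← Finset.sum_mul, ← mul_assoc, ← (central_commute hcen _).eq, mul_assoc, hee]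
      rw [h3, hC, Finset.mul_sum]
      refine Finset.sum_congr rfl fun g _ => ?_
      calc _ = cellEl (1 : W P) * MonoidAlgebra.single g (1 : ℂ) * (cellEl (1 : W P) * cellEl (1 : W P)) *
            MonoidAlgebra.single g⁻¹ (1 : ℂ) * cellEl (1 : W P) := by rw [hee]; simp only [mul_assoc]
        _ = _ := by simp only [mul_assoc]
    have h4 : c • C = toAlg (casOp (q : ℂ) (bvec (1 : W P)) (bvec (1 : W P))) := by
      rw [h2, casOp]
      simp only [lmul_bvec_one, mul_one, LinearMap.sum_apply, LinearMap.smul_apply, Module.End.mul_apply,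
        toAlg_sum, toAlg_smul]
      simp only [← cellEl_mul q hq, opT_bvec, toAlg_bvec]
      rw [Finset.smul_sum, ← Finset.sum_fiberwise Finset.univ
        (fun g : G => (bruhat (P := P) g).choose)]
      refine Finset.sum_congr rfl fun w _ => ?_
      have hmem : ∀ g ∈ Finset.univ.filter (fun g : G => (bruhat (P := P) g).choose = w),
          g ∈ cell w := fun g hg => (Finset.mem_filter.1 hg).2 ▸ (bruhat (P := P) g).choose_spec
      have e5 : ∀ g ∈ Finset.univ.filter (fun g : G => (bruhat (P := P) g).choose = w),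
          c • ((cellEl (1 : W P) * MonoidAlgebra.single g (1 : ℂ) * cellEl (1 : W P)) *
            (cellEl (1 : W P) * MonoidAlgebra.single g⁻¹ (1 : ℂ) * cellEl (1 : W P))) =
          (c * (((q : ℂ) ^ len w)⁻¹ * ((q : ℂ) ^ len w)⁻¹)) • (cellEl w * cellEl w⁻¹) := by
        intro g hg
        rw [one_single_one q hq hq1 (hmem g hg), one_single_one q hq hq1 (inv_mem_cell (hmem g hg)),
          len_inv, smul_mul_smul_comm, smul_smul]
      have hfib : ((Finset.univ.filter fun g : G => (bruhat (P := P) g).choose = w).card : ℂ) =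
          (q : ℂ) ^ len w * Nat.card P.B := by
        have h5 := coeffSum_cellEl q hq w
        simp only [cellEl, coeff_ofFun, ← Finset.sum_filter, Finset.sum_const, nsmul_eq_mul] at h5
        rw [← h5, mul_assoc, inv_mul_cancel₀ (Nat.cast_ne_zero.2 Nat.card_pos.ne'), mul_one]
        congr 2
        ext g
        simp only [Finset.mem_filter, Finset.mem_univ, true_and]
        exact ⟨fun e => e ▸ (bruhat (P := P) g).choose_spec,
          fun hg => cell_inj (bruhat (P := P) g).choose_spec hg⟩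
      rw [Finset.sum_congr rfl e5, Finset.sum_const, ← Nat.cast_smul_eq_nsmul ℂ, smul_smul, hfib]
      congr 1
      have hq0 : (q : ℂ) ≠ 0 := Nat.cast_ne_zero.2 (by omega)
      rw [hc, pow_sub₀ _ hq0 (len_le_maxLen w)]
      field_simp
    rw [smul_mul_assoc, h1, ← smul_mul_assoc, h4, toAlg_mul q hq]
    congr 1
    have e6 : lmul (q : ℂ) (casOp (q : ℂ) (bvec 1) (bvec 1)) = casOp (q : ℂ) (bvec (1 : W P)) :=
      ext_of_one _ (comm_lmul _ _) (comm_casOp _ _) (lmul_bvec _ _)
    rw [e6, hyz]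

omit hq in
theorem fixedPointCharacter_eq [Fintype G] (H : Subgroup G) :
    Cfsg.fixedPointCharacter H = Cfsg.indFun H (fun _ => 1) := by
  have h := Cfsg.Agent.S0190.result (G := G) (G ⧸ H) ((1 : G) : G ⧸ H)
  rw [MulAction.stabilizer_quotient] at h
  exact h

/-- **Constituents of the permutation character on the cosets of `B`.** -/
theorem card_constituents [Fintype P.S] (hq1 : 1 ≤ q) :
    Nat.card {χ : Cfsg.IrrCharacter G // ∃ φ : G → ℂ, Cfsg.IsCharacter G φ ∧
      Cfsg.fixedPointCharacter P.B = (χ : G → ℂ) + φ} = Module.finrank ℂ (centre P (q : ℂ)) := by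
  classical
  haveI := Fintype.ofFinite G
  haveI := Fintype.ofFinite (Cfsg.IrrCharacter G)
  haveI : Fintype P.B := Fintype.ofFinite _
  obtain ⟨e, he⟩ : ∃ e, e = cellEl (1 : W P) := ⟨_, rfl⟩
  obtain ⟨π, hπd⟩ : ∃ π, π = Cfsg.fixedPointCharacter P.B := ⟨_, rfl⟩
  have hπ : Cfsg.IsCharacter G π := by
    rw [hπd, fixedPointCharacter_eq]
    refine isCharacter_indFun _ ⟨1, 1, ?_⟩
    funext x
    simp [Representation.character]
  have hev : ∀ χ : Cfsg.IrrCharacter G, evalChar (χ : G → ℂ) e =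
      Cfsg.classInner (χ : G → ℂ) π := by
    intro χ
    rw [hπd, fixedPointCharacter_eq, frobenius_reciprocity' _ _ (irr_isClassFunction χ),
      classInner_def, evalChar_eq_sum, he]
    simp only [cellEl, coeff_ofFun, cell_one, SetLike.mem_coe, ite_mul, zero_mul, map_one, mul_one,
      ← Finset.sum_filter, ← Finset.mul_sum]
    congr 1
    exact Finset.sum_subtype _ (fun x => by simp) _
  have hcons : ∀ χ : Cfsg.IrrCharacter G,
      (∃ φ : G → ℂ, Cfsg.IsCharacter G φ ∧ Cfsg.fixedPointCharacter P.B = (χ : G → ℂ) + φ) ↔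
        evalChar (χ : G → ℂ) e ≠ 0 := by
    intro χ
    rw [hev, ← hπd]
    constructor
    · rintro ⟨φ, hφ, e'⟩ h0
      obtain ⟨m, hm⟩ := classInner_char_nat (irr_isCharacter χ) hφ
      rw [e', classInner_add_right, classInner_isIrr_self χ.2, hm] at h0
      exact (Nat.cast_ne_zero (R := ℂ)).2 (Nat.succ_ne_zero m)
        (by push_cast; rw [add_comm]; exact h0)
    · intro h0
      refine ⟨π - χ, isCharacter_of_classInner_nat
        (fun g h => by simp [char_isClassFunction hπ g h, irr_isClassFunction χ g h]) fun ψ₀ hψ₀ => ?_,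
        (add_sub_cancel _ _).symm⟩
      obtain ⟨ψ, rfl⟩ : ∃ ψ : Cfsg.IrrCharacter G, (ψ : G → ℂ) = ψ₀ := ⟨⟨ψ₀, hψ₀⟩, rfl⟩
      obtain ⟨m, hm⟩ := classInner_char_nat hπ (irr_isCharacter ψ)
      rw [classInner_sub_left, hm, classInner_irr]
      by_cases hψ : χ = ψ
      · subst hψ
        have hm0 : m ≠ 0 := by
          rintro rfl
          rw [classInner_conj_symm, hm] at h0
          simp at h0
        exact ⟨m - 1, by rw [if_pos rfl, Nat.cast_sub (Nat.one_le_iff_ne_zero.2 hm0), Nat.cast_one]⟩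
      · exact ⟨m, by rw [if_neg hψ, sub_zero]⟩
  -- the central characters on the constituents
  have hidem : e * e = e := by
    rw [he]
    conv_lhs => arg 2; rw [← toAlg_bvec (1 : W P)]
    rw [one_mul_toAlg, toAlg_bvec]
  have hvanish : ∀ χ : Cfsg.IrrCharacter G, evalChar (χ : G → ℂ) e = 0 →
      ∀ w, evalChar (χ : G → ℂ) (e * w) = 0 := by
    rintro ⟨χ, n, ρ, hρ, rfl⟩ h0 w
    have hproj : LinearMap.IsProj (LinearMap.range (ρ.asAlgebraHom e)) (ρ.asAlgebraHom e) :=
      ⟨fun x => LinearMap.mem_range_self _ x, by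
        rintro _ ⟨y, rfl⟩
        rw [← Module.End.mul_apply, ← map_mul, hidem]⟩
    have h1 := hproj.trace
    rw [← evalChar_eq_trace] at h1
    simp only at h0
    rw [h0, eq_comm, Nat.cast_eq_zero, Submodule.finrank_eq_zero, LinearMap.range_eq_bot] at h1
    simp only
    rw [evalChar_eq_trace, map_mul, h1, zero_mul, map_zero]
  let Cn := {χ : Cfsg.IrrCharacter G // evalChar (χ : G → ℂ) e ≠ 0}
  rw [Nat.card_congr (Equiv.subtypeEquivRight hcons)]
  let ext : (Cn → ℂ) → Cfsg.IrrCharacter G → ℂ := fun c χ =>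
    if h : evalChar (χ : G → ℂ) e ≠ 0 then c ⟨χ, h⟩ else 0
  have homega : ∀ (c : Cn → ℂ) (χ : Cn), omega (χ.1 : G → ℂ) (fourier (ext c)) = c χ := fun c χ => by
    rw [omega_fourier]; exact dif_pos χ.2
  let Λ : centre P (q : ℂ) →ₗ[ℂ] (Cn → ℂ) :=
    { toFun := fun f χ => evalChar (χ.1 : G → ℂ) (toAlg f.1)
      map_add' := fun f f' => by
        funext χ; simp only [Submodule.coe_add, toAlg_add, evalChar_add, Pi.add_apply]
      map_smul' := fun a f => by
        funext χ
        simp only [Submodule.coe_smul, toAlg_smul, evalChar_smul, Pi.smul_apply, RingHom.id_apply,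
          smul_eq_mul] }
  have hbij : Function.Bijective Λ := by
    constructor
    · rw [← LinearMap.ker_eq_bot, Submodule.eq_bot_iff]
      rintro ⟨f, hf⟩ h0
      obtain ⟨z, hz, hze⟩ := (image_centre q hq hq1 (toAlg f)).2 ⟨f, hf, rfl⟩
      refine Subtype.ext (toAlg_injective (el_ext fun g => ?_))
      show (toAlg f).coeff g = (toAlg (0 : W P → ℂ)).coeff g
      rw [show toAlg (0 : W P → ℂ) = 0 by simp [toAlg], MonoidAlgebra.coeff_zero, Finsupp.zero_apply]
      have hall : ∀ χ : Cfsg.IrrCharacter G,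
          evalChar (χ : G → ℂ) (toAlg f * MonoidAlgebra.single g⁻¹ 1) = 0 := by
        intro χ
        rw [← hze, mul_assoc, evalChar_central_mul χ hz, ← he]
        by_cases hχ : evalChar (χ : G → ℂ) e = 0
        · rw [hvanish χ hχ, mul_zero]
        · have h1 := congrFun (LinearMap.mem_ker.1 h0) ⟨χ, hχ⟩
          simp only [Λ, LinearMap.coe_mk, AddHom.coe_mk, Pi.zero_apply] at h1
          rw [← hze, evalChar_central_mul χ hz, ← he, mul_eq_zero] at h1
          rw [h1.resolve_right hχ, zero_mul]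
      have hreg := fun k : G => congrFun (regular_eq_sum (G := G)) k
      simp only [Finset.sum_apply, Pi.smul_apply, smul_eq_mul] at hreg
      have h2 : ∑ χ : Cfsg.IrrCharacter G,
          (χ : G → ℂ) 1 * evalChar (χ : G → ℂ) (toAlg f * MonoidAlgebra.single g⁻¹ 1) =
          (Nat.card G : ℂ) * (toAlg f).coeff g := by
        simp only [evalChar_eq_sum, coeff_mul_single', mul_one, Finset.mul_sum]
        rw [Finset.sum_comm, Finset.sum_eq_single (1 : G)]
        · rw [inv_inv, one_mul]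
          calc ∑ χ : Cfsg.IrrCharacter G, (χ : G → ℂ) 1 * ((toAlg f).coeff g * (χ : G → ℂ) 1)
              = (toAlg f).coeff g * ∑ χ : Cfsg.IrrCharacter G, (χ : G → ℂ) 1 * (χ : G → ℂ) 1 := by
                rw [Finset.mul_sum]; exact Finset.sum_congr rfl fun χ _ => by ring
            _ = _ := by rw [← hreg 1, if_pos rfl, mul_comm]
        · intro k _ hk
          calc ∑ χ : Cfsg.IrrCharacter G, (χ : G → ℂ) 1 * ((toAlg f).coeff (k * g⁻¹⁻¹) * (χ : G → ℂ) k)
              = (toAlg f).coeff (k * g⁻¹⁻¹) *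
                  ∑ χ : Cfsg.IrrCharacter G, (χ : G → ℂ) 1 * (χ : G → ℂ) k := by
                rw [Finset.mul_sum]; exact Finset.sum_congr rfl fun χ _ => by ring
            _ = 0 := by rw [← hreg k, if_neg hk, mul_zero]
        · intro hh; exact absurd (Finset.mem_univ _) hh
      simp only [hall, mul_zero, Finset.sum_const_zero] at h2
      exact (mul_eq_zero.1 h2.symm).resolve_left (Nat.cast_ne_zero.2 Nat.card_pos.ne')
    · intro d
      obtain ⟨f, hf, hfe⟩ := (image_centre q hq hq1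
        (fourier (ext fun χ => d χ / evalChar (χ.1 : G → ℂ) e) * cellEl (1 : W P))).1
          ⟨_, central_fourier _, rfl⟩
      refine ⟨⟨f, hf⟩, funext fun χ => ?_⟩
      show evalChar (χ.1 : G → ℂ) (toAlg f) = d χ
      rw [hfe, evalChar_central_mul χ.1 (central_fourier _), omega_fourier, ← he]
      simp only [ext]
      rw [dif_pos χ.2]
      exact div_mul_cancel₀ _ χ.2
  rw [(LinearEquiv.ofBijective Λ hbij).finrank_eq, Module.finrank_fintype_fun_eq_card,
    Nat.card_eq_fintype_card]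

end Cfsg.Agent.SimpleFacts.HeckeGroup
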