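import Mathlib.FieldTheory.IsAlgClosed.AlgebraicClosure
import Mathlib.FieldTheory.Finite.Basic
import Mathlib.LinearAlgebra.Eigenspace.Basic
import Mathlib.LinearAlgebra.Matrix.Charpoly.Eigs
import Mathlib.LinearAlgebra.Matrix.Charpoly.Coeff
import Mathlib.LinearAlgebra.Matrix.ToLinearEquiv
import Mathlib.LinearAlgebra.Dimension.Finrank
import Mathlib.LinearAlgebra.FiniteDimensional.Lemmas
import Mathlib.Algebra.CharP.Frobenius
import Mathlib.Algebra.CharP.Algebra

/-!
# An element of prime order with a long orbit of eigenvalues commutes with no unipotent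
-/

set_option autoImplicit false

namespace Cfsg.Agent.SimpleFacts.LargeOrderSemisimple

open Matrix Polynomial

variable {K : Type*} [Field K] [IsAlgClosed K] {m : ℕ}

theorem exists_eigvec (S : Matrix (Fin m) (Fin m) K) {μ : K} (h : μ ∈ S.charpoly.roots) :
    ∃ v : Fin m → K, v ≠ 0 ∧ S *ᵥ v = μ • v := by
  have h1 := (Polynomial.mem_roots (Matrix.charpoly_monic S).ne_zero).1 h
  rw [Polynomial.IsRoot.def, Matrix.eval_charpoly] at h1
  obtain ⟨v, hv, hv0⟩ := Matrix.exists_mulVec_eq_zero_iff.2 h1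
  refine ⟨v, hv, ?_⟩
  rw [Matrix.sub_mulVec, sub_eq_zero] at hv0
  rw [← hv0]
  funext i
  simp [Matrix.mulVec_diagonal]

theorem mem_roots_of_eigvec (S : Matrix (Fin m) (Fin m) K) {μ : K} {v : Fin m → K} (hv : v ≠ 0)
    (h : S *ᵥ v = μ • v) : μ ∈ S.charpoly.roots := by
  rw [Polynomial.mem_roots (Matrix.charpoly_monic S).ne_zero, Polynomial.IsRoot.def,
    Matrix.eval_charpoly]
  refine Matrix.exists_mulVec_eq_zero_iff.1 ⟨v, hv, ?_⟩
  rw [Matrix.sub_mulVec, h, sub_eq_zero]
  funext i
  simp [Matrix.mulVec_diagonal]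

theorem card_roots (S : Matrix (Fin m) (Fin m) K) : Multiset.card S.charpoly.roots = m := by
  rw [IsAlgClosed.card_roots_eq_natDegree, Matrix.charpoly_natDegree_eq_dim, Fintype.card_fin]

/-- A nilpotent matrix commuting with a matrix with `m` distinct eigenvalues is zero. -/
theorem eq_zero_of_nodup (S N : Matrix (Fin m) (Fin m) K) (hS : S.charpoly.roots.Nodup)
    (hc : Commute S N) (hN : IsNilpotent N) : N = 0 := by
  classical
  set R := S.charpoly.roots.toFinset with hR
  have hcard : Fintype.card R = m := by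
    rw [Fintype.card_coe, hR, Multiset.toFinset_card_of_nodup hS, card_roots]
  choose v hv0 hv using fun μ : R => exists_eigvec S (Multiset.mem_toFinset.1 μ.2)
  have hli : LinearIndependent K v :=
    Module.End.eigenvectors_linearIndependent' (Matrix.toLin' S) (fun μ : R => (μ : K))
      Subtype.val_injective v
      (fun μ => ⟨Module.End.mem_eigenspace_iff.2 (by rw [Matrix.toLin'_apply]; exact hv μ), hv0 μ⟩)
  have hsp : Submodule.span K (Set.range v) = ⊤ :=
    hli.span_eq_top_of_card_eq_finrank' (by rw [hcard, Module.finrank_pi, Fintype.card_fin])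
  obtain ⟨k, hk⟩ := hN
  have key : ∀ μ : R, N *ᵥ v μ = 0 := by
    intro μ
    obtain ⟨c, hcv⟩ := (Submodule.mem_span_range_iff_exists_fun K).1
      (hsp ▸ Submodule.mem_top : N *ᵥ v μ ∈ Submodule.span K (Set.range v))
    have h1 : S *ᵥ (N *ᵥ v μ) = (μ : K) • (N *ᵥ v μ) := by
      rw [Matrix.mulVec_mulVec, hc.eq, ← Matrix.mulVec_mulVec, hv, Matrix.mulVec_smul]
    rw [← hcv, Matrix.mulVec_sum, Finset.smul_sum] at h1
    have h2 : ∑ ν : R, (c ν * ((ν : K) - (μ : K))) • v ν = 0 := by
      simp only [mul_sub, sub_smul, Finset.sum_sub_distrib, mul_smul]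
      rw [sub_eq_zero]
      simp only [Matrix.mulVec_smul, hv] at h1
      rw [h1]
      exact Finset.sum_congr rfl fun ν _ => smul_comm _ _ _
    have h3 := Fintype.linearIndependent_iff.1 hli _ h2
    have h4 : N *ᵥ v μ = c μ • v μ := by
      rw [← hcv, Finset.sum_eq_single μ]
      · intro ν _ hne
        have := h3 ν
        rw [mul_eq_zero, sub_eq_zero] at this
        rcases this with h | h
        · rw [h, zero_smul]
        · exact absurd (Subtype.ext h) hne
      · exact fun h => absurd (Finset.mem_univ μ) h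
    have h5 : ∀ j, (N ^ j) *ᵥ v μ = c μ ^ j • v μ := by
      intro j
      induction j with
      | zero => simp
      | succ j ih =>
        rw [pow_succ, ← Matrix.mulVec_mulVec, h4, Matrix.mulVec_smul, ih, smul_smul, pow_succ']
    have h6 := h5 k
    rw [hk, Matrix.zero_mulVec] at h6
    rcases smul_eq_zero.1 h6.symm with h | h
    · rw [h4, eq_zero_of_pow_eq_zero h, zero_smul]
    · exact absurd h (hv0 μ)
  have : Matrix.toLin' N = 0 := LinearMap.ext_on_range hsp fun μ => by
    rw [Matrix.toLin'_apply, key, LinearMap.zero_apply]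
  exact (LinearEquiv.map_eq_zero_iff _).1 this

theorem dvd_of_zpow_eq_one {x : K} {r : ℕ} (hx : x ≠ 0) (hr : orderOf x = r) {c : ℤ}
    (h : x ^ c = 1) : (r : ℤ) ∣ c := by
  have h1 : (Units.mk0 x hx) ^ c = 1 := Units.ext (by rw [Units.val_zpow_eq_zpow_val]; exact h)
  rw [← orderOf_dvd_iff_zpow_eq_one, ← orderOf_units, Units.val_mk0, hr] at h1
  exact h1

/-- The eigenvalues: `m` distinct ones. -/
theorem nodup_roots (S : Matrix (Fin m) (Fin m) K) (r : ℕ) [Fact r.Prime]
    (hSr : S ^ r = 1) (hdet : S.det = 1) (hne : ∃ μ ∈ S.charpoly.roots, μ ≠ 1) (hm : 3 ≤ m) (c : ℤ)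
    (hcl : ∀ μ ∈ S.charpoly.roots, μ ^ c ∈ S.charpoly.roots) (hrc0 : ¬ (r : ℤ) ∣ c)
    (hrc : ∀ i : ℕ, 1 ≤ i → i ≤ m - 2 → ¬ (r : ℤ) ∣ c ^ i - 1) : S.charpoly.roots.Nodup := by
  classical
  have hrt : ∀ μ ∈ S.charpoly.roots, μ ^ r = 1 := by
    intro μ hμ
    obtain ⟨v, hv, hSv⟩ := exists_eigvec S hμ
    have h : ∀ j, (S ^ j) *ᵥ v = μ ^ j • v := by
      intro j
      induction j with
      | zero => simp
      | succ j ih =>
        rw [pow_succ, ← Matrix.mulVec_mulVec, hSv, Matrix.mulVec_smul, ih, smul_smul, pow_succ']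
    have h1 := h r
    rw [hSr, Matrix.one_mulVec] at h1
    exact (smul_left_injective K hv (by simpa using h1.symm : μ ^ r • v = (1 : K) • v))
  obtain ⟨μ, hμ, hμ1⟩ := hne
  have hord : ∀ {ν : K}, ν ∈ S.charpoly.roots → ν ≠ 1 → orderOf ν = r := fun hν h1 =>
    orderOf_eq_prime (hrt _ hν) h1
  have hne0 : ∀ {ν : K}, ν ∈ S.charpoly.roots → ν ≠ 0 := fun {ν} hν h0 => by
    have := hrt ν hν
    rw [h0, zero_pow (Fact.out : r.Prime).ne_zero] at this
    exact zero_ne_one this
  set R' := S.charpoly.roots.toFinset.erase 1 with hR'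
  have hmem : ∀ {ν : K}, ν ∈ R' ↔ ν ≠ 1 ∧ ν ∈ S.charpoly.roots := by simp [hR']
  have hmaps : ∀ ν ∈ R', ν ^ c ∈ R' := by
    intro ν hν
    rw [hmem] at hν ⊢
    refine ⟨fun h => hrc0 ?_, hcl ν hν.2⟩
    exact dvd_of_zpow_eq_one (hne0 hν.2) (hord hν.2 hν.1) h
  have hinj : Set.InjOn (fun ν : K => ν ^ c) (R' : Set K) := by
    intro a ha b hb h
    rw [Finset.mem_coe, hmem] at ha hb
    have hab : (a / b) ^ c = 1 := by
      rw [div_zpow, show a ^ c = b ^ c from h, div_self]
      refine zpow_ne_zero _ fun h0 => ?_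
      have := hrt b hb.2
      rw [h0, zero_pow (Fact.out : r.Prime).ne_zero] at this
      exact zero_ne_one this
    by_contra hne
    have hab1 : a / b ≠ 1 := fun h1 => hne (eq_of_div_eq_one h1)
    have : orderOf (a / b) = r :=
      orderOf_eq_prime (by rw [div_pow, hrt a ha.2, hrt b hb.2, div_one]) hab1
    exact hrc0 (dvd_of_zpow_eq_one (div_ne_zero (hne0 ha.2) (hne0 hb.2)) this hab)
  -- the orbit of `μ` has at least `m - 1` elements
  have horb : ∀ i : ℕ, μ ^ (c ^ i) ∈ R' := by
    intro i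
    induction i with
    | zero => rw [pow_zero, zpow_one, hmem]; exact ⟨hμ1, hμ⟩
    | succ i ih => rw [pow_succ, zpow_mul]; exact hmaps _ ih
  have hge : m - 1 ≤ R'.card := by
    have hi : Set.InjOn (fun i : ℕ => μ ^ (c ^ i)) (Finset.range (m - 1) : Set ℕ) := by
      have hlt : ∀ i j : ℕ, i < j → j < m - 1 → μ ^ (c ^ i) ≠ μ ^ (c ^ j) := by
        intro i j hij hj h
        have h0 : μ ≠ 0 := fun h0 => by
          have := hrt μ hμ
          rw [h0, zero_pow (Fact.out : r.Prime).ne_zero] at this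
          exact zero_ne_one this
        have h1 : μ ^ (c ^ j - c ^ i) = 1 := by
          rw [zpow_sub₀ h0, h, div_self (zpow_ne_zero _ h0)]
        replace h1 := dvd_of_zpow_eq_one h0 (hord hμ hμ1) h1
        rw [show c ^ j - c ^ i = c ^ i * (c ^ (j - i) - 1) by
            rw [mul_sub, ← pow_add, Nat.add_sub_cancel' hij.le, mul_one]] at h1
        rcases (Nat.prime_iff_prime_int.1 (Fact.out : r.Prime)).dvd_or_dvd h1 with h2 | h2
        · exact hrc0 ((Nat.prime_iff_prime_int.1 (Fact.out : r.Prime)).dvd_of_dvd_pow h2)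
        · exact hrc (j - i) (by omega) (by omega) h2
      intro i hi j hj h
      rw [Finset.coe_range, Set.mem_Iio] at hi hj
      rcases lt_trichotomy i j with hlt' | rfl | hlt'
      · exact absurd h (hlt i j hlt' hj)
      · rfl
      · exact absurd h.symm (hlt j i hlt' hi)
    calc m - 1 = (Finset.range (m - 1)).card := (Finset.card_range _).symm
      _ ≤ R'.card := Finset.card_le_card_of_injOn _ (fun i _ => horb i) hi
  have hle : R'.val ≤ S.charpoly.roots :=
    (Multiset.le_iff_subset R'.nodup).2 fun ν hν => (hmem.1 hν).2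
  obtain ⟨T, hT⟩ := Multiset.le_iff_exists_add.1 hle
  have hTc := card_roots S
  rw [hT, Multiset.card_add] at hTc
  have hsz : Multiset.card R'.val = R'.card := rfl
  rcases (show Multiset.card T = 0 ∨ Multiset.card T = 1 by omega) with h0 | h1
  · rw [Multiset.card_eq_zero] at h0
    rw [hT, h0, add_zero]
    exact R'.nodup
  · obtain ⟨ν, rfl⟩ := Multiset.card_eq_one.1 h1
    have hd := hdet
    rw [Matrix.det_eq_prod_roots_charpoly, hT, Multiset.prod_add, Multiset.prod_singleton] at hd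
    set P := ∏ x ∈ R', x with hP
    have hPc : P ^ c = P := by
      rw [hP, ← Finset.prod_zpow]
      refine Finset.prod_nbij (fun x => x ^ c) hmaps hinj ?_ (fun _ _ => rfl)
      exact Finset.surjOn_of_injOn_of_card_le _ hmaps hinj le_rfl
    have hP0 : P ≠ 0 := by
      refine Finset.prod_ne_zero_iff.2 fun x hx h0 => ?_
      have := hrt x (hmem.1 hx).2
      rw [h0, zero_pow (Fact.out : r.Prime).ne_zero] at this
      exact zero_ne_one this
    have hPr : P ^ r = 1 := by
      rw [hP, ← Finset.prod_pow]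
      exact Finset.prod_eq_one fun x hx => hrt x (hmem.1 hx).2
    have hP1 : P = 1 := by
      by_contra hne
      have h2 : P ^ (c - 1) = 1 := by rw [zpow_sub₀ hP0, hPc, zpow_one, div_self hP0]
      exact hrc 1 le_rfl (by omega)
        (by rw [pow_one]; exact dvd_of_zpow_eq_one hP0 (orderOf_eq_prime hPr hne) h2)
    rw [show R'.val.prod = P from Finset.prod_val R', hP1, one_mul] at hd
    rw [hT, hd, Multiset.nodup_add]
    refine ⟨R'.nodup, Multiset.nodup_singleton _, ?_⟩
    rw [Multiset.disjoint_singleton]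
    exact fun h => (hmem.1 h).1 rfl

/-- An `r`-element with only the eigenvalue one is trivial. -/
theorem exists_root_ne_one (S : Matrix (Fin m) (Fin m) K) (p r : ℕ) [Fact p.Prime] [CharP K p]
    [Fact r.Prime] (hrp : r ≠ p) (hSr : S ^ r = 1) (hS : S ≠ 1) :
    ∃ μ ∈ S.charpoly.roots, μ ≠ 1 := by
  by_contra h
  push Not at h
  have hroots : S.charpoly.roots = Multiset.replicate m 1 :=
    Multiset.eq_replicate.2 ⟨card_roots S, h⟩
  have hcp : S.charpoly = (X - C (1 : K)) ^ m := by
    rw [(IsAlgClosed.splits S.charpoly).eq_prod_roots_of_monic (Matrix.charpoly_monic S), hroots,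
      Multiset.map_replicate, Multiset.prod_replicate]
  have h0 := Matrix.aeval_self_charpoly S
  rw [hcp, map_pow, map_sub, aeval_X, aeval_C, map_one] at h0
  obtain ⟨k, hk⟩ : ∃ k, m ≤ p ^ k := ⟨m, (Nat.lt_pow_self (Fact.out : p.Prime).one_lt).le⟩
  rcases Nat.eq_zero_or_pos m with rfl | hm
  · exact hS (Subsingleton.elim _ _)
  haveI : Nonempty (Fin m) := ⟨⟨0, hm⟩⟩
  haveI : CharP (Matrix (Fin m) (Fin m) K) p :=
    charP_of_injective_algebraMap (algebraMap K (Matrix (Fin m) (Fin m) K)).injective p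
  have h1 : (S - 1) ^ (p ^ k) = 0 := pow_eq_zero_of_le hk h0
  rw [sub_pow_char_pow_of_commute (p := p) _ (Commute.one_right S), one_pow, sub_eq_zero] at h1
  have hcop : Nat.Coprime r (p ^ k) :=
    Nat.Coprime.pow_right _ ((Nat.coprime_primes Fact.out Fact.out).2 hrp)
  have := pow_gcd_eq_one.2 ⟨hSr, h1⟩
  rw [hcop.gcd_eq_one, pow_one] at this
  exact hS this

end Cfsg.Agent.SimpleFacts.LargeOrderSemisimple
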