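import Mathlib
import Cfsg.Agent.Lib.Blocks.PGroupSum

/-!
Brauer's theorem: over an algebraically closed field of characteristic `p` the number of simple
representations of a finite group is the number of its classes of elements of order prime to `p`.
-/

set_option autoImplicit false
set_option linter.style.haveILetI false
set_option linter.unusedSectionVars false

namespace Cfsg.Agent.SimpleFacts.ModularClassCount

universe u

/-- A non-zero representation without proper invariant subspaces. -/
def Simple {k : Type*} [Field k] {G : Type*} [Group G] {V : Type*} [AddCommGroup V] [Module k V]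
    (ρ : Representation k G V) : Prop :=
  Nontrivial V ∧ ∀ S : Submodule k V, (∀ g, ∀ v ∈ S, ρ g v ∈ S) → S = ⊥ ∨ S = ⊤

/-- Isomorphism of representations. -/
def Iso {k : Type*} [Field k] {G : Type*} [Group G] {V V' : Type*} [AddCommGroup V] [Module k V]
    [AddCommGroup V'] [Module k V'] (ρ : Representation k G V) (ρ' : Representation k G V') : Prop :=
  ∃ e : V ≃ₗ[k] V', ∀ g v, e (ρ g v) = ρ' g (e v)

/-! ### The exponent -/

theorem exists_exponent (G : Type*) [Group G] [Finite G] (p : ℕ) [hp : Fact p.Prime] :
    ∃ N : ℕ, 0 < N ∧ (∀ g : G, (orderOf (g ^ p ^ N)).Coprime p) ∧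
      ∀ g : G, (orderOf g).Coprime p → g ^ p ^ N = g := by
  have hn : Nat.card G ≠ 0 := Nat.card_pos.ne'
  obtain ⟨a, m, hm, hcard⟩ := Nat.exists_eq_pow_mul_and_not_dvd hn p hp.out.ne_one
  have hpm : p.Coprime m := (Nat.Prime.coprime_iff_not_dvd hp.out).2 hm
  have hm0 : 0 < m := Nat.pos_of_ne_zero fun e => hm (e ▸ dvd_zero p)
  refine ⟨(a + 1) * m.totient, Nat.mul_pos a.succ_pos (Nat.totient_pos.2 hm0), fun g => ?_, fun g hg => ?_⟩
  · have hd : orderOf (g ^ p ^ ((a + 1) * m.totient)) ∣ m := by
      refine orderOf_dvd_of_pow_eq_one ?_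
      rw [← pow_mul, ← orderOf_dvd_iff_pow_eq_one]
      refine (orderOf_dvd_natCard g).trans (hcard ▸ mul_dvd_mul_right (pow_dvd_pow p ?_) m)
      nlinarith [Nat.totient_pos.2 hm0]
    exact Nat.Coprime.of_dvd_left hd hpm.symm
  · have hd : orderOf g ∣ m :=
      (Nat.Coprime.dvd_of_dvd_mul_left (hg.pow_right a) (hcard ▸ orderOf_dvd_natCard g))
    have h1 : p ^ ((a + 1) * m.totient) ≡ 1 [MOD m] := by
      rw [mul_comm, pow_mul]
      simpa using (Nat.ModEq.pow_totient hpm).pow (a + 1)
    have h2 : g ^ p ^ ((a + 1) * m.totient) = g ^ 1 := pow_eq_pow_iff_modEq.2 (h1.of_dvd hd)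
    rwa [pow_one] at h2

/-! ### Evaluation of functions on the group algebra -/

section Eval

variable {k : Type u} [Field k] {G : Type*} [Group G] [Fintype G]

/-- A function on the group as a functional on the group algebra. -/
noncomputable def ev (f : G → k) (x : MonoidAlgebra k G) : k := ∑ g : G, x.coeff g * f g

theorem ev_add (f : G → k) (x y : MonoidAlgebra k G) : ev f (x + y) = ev f x + ev f y := by
  simp [ev, add_mul, Finset.sum_add_distrib]

theorem ev_smul (f : G → k) (c : k) (x : MonoidAlgebra k G) : ev f (c • x) = c * ev f x := by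
  simp [ev, Finset.mul_sum, mul_assoc]

theorem ev_single (f : G → k) (g : G) (c : k) : ev f (MonoidAlgebra.single g c) = c * f g := by
  classical
  simp [ev, Finsupp.single_apply]

theorem eq_sum (x : MonoidAlgebra k G) : x = ∑ g : G, MonoidAlgebra.single g (x.coeff g) := by
  classical
  refine MonoidAlgebra.ext (Finsupp.ext fun h => ?_)
  simp [MonoidAlgebra.coeff_sum]

theorem ev_sum {ι : Type*} (f : G → k) (s : Finset ι) (x : ι → MonoidAlgebra k G) :
    ev f (∑ i ∈ s, x i) = ∑ i ∈ s, ev f (x i) := by
  classical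
  induction s using Finset.induction_on with
  | empty => simp [ev]
  | insert a s ha ih => rw [Finset.sum_insert ha, Finset.sum_insert ha, ev_add, ih]

theorem ev_single_mul (f : G → k) (g : G) (c : k) (y : MonoidAlgebra k G) :
    ev f (MonoidAlgebra.single g c * y) = c * ev (fun h => f (g * h)) y := by
  conv_lhs => rw [eq_sum y, Finset.mul_sum, ev_sum]
  rw [ev, Finset.mul_sum]
  refine Finset.sum_congr rfl fun h _ => ?_
  rw [MonoidAlgebra.single_mul_single, ev_single]
  ring

theorem ev_mul (f : G → k) (x y : MonoidAlgebra k G) :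
    ev f (x * y) = ∑ g : G, x.coeff g * ev (fun h => f (g * h)) y := by
  conv_lhs => rw [eq_sum x, Finset.sum_mul, ev_sum]
  exact Finset.sum_congr rfl fun g _ => ev_single_mul f g _ y

theorem ev_pow (x : MonoidAlgebra k G) : ∀ (n : ℕ) (f : G → k),
    ev f (x ^ n) = ∑ t : Fin n → G, (∏ i, x.coeff (t i)) * f (List.ofFn t).prod := by
  intro n
  induction n with
  | zero => intro f; rw [pow_zero, MonoidAlgebra.one_def, ev_single]; simp
  | succ n ih =>
    intro f
    rw [pow_succ', ev_mul, ← (Fin.consEquiv fun _ => G).sum_comp, Fintype.sum_prod_type]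
    refine Finset.sum_congr rfl fun g _ => ?_
    rw [ih, Finset.mul_sum]
    refine Finset.sum_congr rfl fun t _ => ?_
    simp [Fin.prod_univ_succ, List.ofFn_succ, mul_assoc]

/-- In characteristic `p` a class function sees only the diagonal terms of a `p`-power. -/
theorem ev_pow_prime (p : ℕ) [Fact p.Prime] [CharP k p] {f : G → k}
    (hf : ∀ a g : G, f (a * g * a⁻¹) = f g) (N : ℕ) (x : MonoidAlgebra k G) :
    ev f (x ^ p ^ N) = ∑ g : G, x.coeff g ^ p ^ N * f (g ^ p ^ N) := by
  classical
  obtain ⟨n, hn⟩ : ∃ n, p ^ N = n + 1 := ⟨p ^ N - 1, by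
    have := pow_pos (Fact.out : p.Prime).pos N
    omega⟩
  rw [hn, ev_pow]
  set w : (Fin (n + 1) → G) → k := fun t => (∏ i, x.coeff (t i)) * f (List.ofFn t).prod with hw
  let σ : Equiv.Perm (Fin (n + 1) → G) := (finRotate (n + 1)).symm.arrowCongr (Equiv.refl G)
  have hσ : ∀ t : Fin (n + 1) → G, σ t = fun i => t (finRotate (n + 1) i) := fun t => by
    funext i; simp [σ, Equiv.arrowCongr]
  have hwσ : ∀ t, w (σ t) = w t := by
    intro t
    simp only [hw]
    rw [hσ]
    have h2 : List.ofFn (fun i => t (finRotate (n + 1) i)) =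
        (List.ofFn fun i : Fin n => t i.succ) ++ [t 0] := by
      rw [List.ofFn_succ', List.concat_eq_append]
      congr 1
      · congr 1
        funext i
        simp
      · simp
    rw [h2, List.prod_append, List.prod_singleton, List.ofFn_succ, List.prod_cons,
      Equiv.prod_comp (finRotate (n + 1)) fun i => x.coeff (t i)]
    congr 1
    rw [← hf (t 0) ((List.ofFn fun i : Fin n => t i.succ).prod * t 0)]
    congr 1
    group
  have hpow : ∀ (m : ℕ) (t : Fin (n + 1) → G), (σ ^ m) t = fun i => t (((finRotate (n + 1)) ^ m) i) := by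
    intro m
    induction m with
    | zero => intro t; rfl
    | succ m ih =>
      intro t
      rw [pow_succ, Equiv.Perm.mul_apply, ih, hσ, pow_succ']
      rfl
  have hrot : (finRotate (n + 1)) ^ (n + 1) = 1 := by
    rcases Nat.eq_zero_or_pos n with rfl | hn0
    · exact Equiv.ext fun i => Subsingleton.elim (α := Fin 1) _ _
    · have h := pow_orderOf_eq_one (finRotate (n + 1))
      rwa [(Equiv.Perm.IsCycle.orderOf (isCycle_finRotate_of_le (by omega))),
        support_finRotate_of_le (by omega), Finset.card_univ, Fintype.card_fin] at h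
  have hP : IsPGroup p ↥(Subgroup.zpowers σ) := by
    have hd : orderOf σ ∣ p ^ N := by
      rw [hn]
      refine orderOf_dvd_of_pow_eq_one (Equiv.ext fun t => ?_)
      rw [hpow, hrot]
      rfl
    obtain ⟨j, -, hj⟩ := (Nat.dvd_prime_pow (Fact.out : p.Prime)).1 hd
    exact IsPGroup.of_card (n := j) (by rw [Nat.card_zpowers, hj])
  have hinv : ∀ (u : ↥(Subgroup.zpowers σ)) (t : Fin (n + 1) → G), w (u • t) = w t := by
    rintro ⟨u, hu⟩ t
    show w (u t) = w t
    have : u ∈ ({ carrier := {τ | ∀ t, w (τ t) = w t}
                  one_mem' := fun t => rfl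
                  mul_mem' := fun {a b} ha hb t => (ha (b t)).trans (hb t)
                  inv_mem' := fun {a} ha t => by
                    have := ha (a⁻¹ t); rw [Equiv.Perm.inv_def, Equiv.apply_symm_apply] at this; exact this.symm } :
        Subgroup (Equiv.Perm (Fin (n + 1) → G))) :=
      Subgroup.zpowers_le.2 (by exact hwσ) hu
    exact this t
  obtain ⟨a, ha⟩ := Cfsg.Agent.Blocks.exists_sum_eq_fixed_add hP w hinv
    (Finset.univ.image fun (g : G) (_ : Fin (n + 1)) => g) (fun t => by
      simp only [Finset.mem_image, Finset.mem_univ, true_and]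
      constructor
      · rintro ⟨g, rfl⟩ ⟨u, hu⟩
        show u (fun _ => g) = fun _ => g
        obtain ⟨z, rfl⟩ := Subgroup.mem_zpowers_iff.1 hu
        exact Function.IsFixedPt.perm_zpow (by
          show σ (fun _ => g) = fun _ => g
          rw [hσ]) z
      · intro h
        have h1 : σ t = t := h ⟨σ, Subgroup.mem_zpowers σ⟩
        rw [hσ] at h1
        refine ⟨t 0, funext fun i => ?_⟩
        induction i using Fin.induction with
        | zero => rfl
        | succ i ih =>
          have h2 := congrFun h1 i.castSucc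
          simp only [finRotate_apply, Fin.coeSucc_eq_succ] at h2
          rw [h2, ← ih])
  rw [ha, nsmul_eq_mul, CharP.cast_eq_zero, zero_mul, add_zero,
    Finset.sum_image fun g _ g' _ e => congrFun e 0]
  exact Finset.sum_congr rfl fun g _ => by simp [hw, pow_succ']

/-- The functional of a regular class function kills nilpotent elements. -/
theorem ev_eq_zero_of_nilpotent (p : ℕ) [Fact p.Prime] [CharP k p] {N : ℕ} (hN : 0 < N)
    (hN' : ∀ g : G, (g ^ p ^ N) ^ p ^ N = g ^ p ^ N) {f : G → k}
    (hf : ∀ a g : G, f (a * g * a⁻¹) = f g) (hreg : ∀ g, f (g ^ p ^ N) = f g)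
    {x : MonoidAlgebra k G} (hx : IsNilpotent x) : ev f x = 0 := by
  classical
  obtain ⟨r, hr⟩ := hx
  have hrN : ∀ (j : ℕ) (g : G), g ^ p ^ (N * (j + 1)) = g ^ p ^ N := by
    intro j
    induction j with
    | zero => simp
    | succ j ih =>
      intro g
      rw [Nat.mul_succ, pow_add, pow_mul, ih, hN']
  have hM : x ^ p ^ (N * (r + 1)) = 0 := by
    refine pow_eq_zero_of_le ?_ hr
    exact le_trans (le_trans (Nat.le_mul_of_pos_left r hN) (Nat.mul_le_mul_left N (Nat.le_succ r)))
      (Nat.lt_pow_self (Fact.out : p.Prime).one_lt).le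
  haveI : ExpChar k p := ExpChar.prime Fact.out
  have key := ev_pow_prime p (f := fun g => f g ^ p ^ (N * (r + 1)))
    (fun a g => by simp only [hf]) (N * (r + 1)) x
  rw [hM] at key
  have e0 : ev (fun g => f g ^ p ^ (N * (r + 1))) (0 : MonoidAlgebra k G) = 0 := by simp [ev]
  rw [e0] at key
  have : ev f x ^ p ^ (N * (r + 1)) = 0 := by
    rw [ev, sum_pow_char_pow, key]
    refine Finset.sum_congr rfl fun g _ => ?_
    rw [mul_pow, hrN, hreg]
  exact eq_zero_of_pow_eq_zero this

end Eval

/-! ### Traces on matrix algebras -/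

theorem trace_functional {k : Type u} [Field k] {d : ℕ} [NeZero d]
    (τ : Matrix (Fin d) (Fin d) k →ₗ[k] k) (h : ∀ a b, τ (a * b) = τ (b * a))
    (a : Matrix (Fin d) (Fin d) k) : τ a = τ (Matrix.single 0 0 1) * a.trace := by
  have hij : ∀ i j : Fin d, τ (Matrix.single i j 1) =
      if i = j then τ (Matrix.single 0 0 1) else 0 := by
    intro i j
    have e1 : Matrix.single i j (1 : k) = Matrix.single i 0 1 * Matrix.single 0 j 1 := by
      rw [Matrix.single_mul_single_same, one_mul]
    rw [e1, h]
    split_ifs with hij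
    · subst hij; rw [Matrix.single_mul_single_same, one_mul]
    · rw [Matrix.single_mul_single_of_ne _ _ _ _ (Ne.symm hij), map_zero]
  conv_lhs => rw [Matrix.matrix_eq_sum_single a]
  rw [map_sum, Matrix.trace, Finset.mul_sum]
  refine Finset.sum_congr rfl fun i _ => ?_
  rw [map_sum, Finset.sum_eq_single i]
  · rw [show Matrix.single i i (a i i) = a i i • Matrix.single i i (1 : k) by simp, map_smul, hij,
      if_pos rfl, Matrix.diag_apply, smul_eq_mul, mul_comm]
  · intro j _ hj
    rw [show Matrix.single i j (a i j) = a i j • Matrix.single i j (1 : k) by simp, map_smul, hij,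
      if_neg (Ne.symm hj), smul_zero]
  · simp

/-! ### The theorem -/

/-- A family of pairwise non-isomorphic simple representations containing all up to isomorphism and as
large as the set of classes of `p`-regular elements. -/
theorem exists_simples {k : Type u} [Field k] [IsAlgClosed k] (p : ℕ) [Fact p.Prime] [CharP k p]
    (G : Type*) [Group G] [Finite G] :
    ∃ (m : ℕ) (d : Fin m → ℕ) (ρ : ∀ i, Representation k G (Fin (d i) → k)),
      m = Nat.card {c : ConjClasses G // ∃ g : G, ConjClasses.mk g = c ∧ (orderOf g).Coprime p} ∧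
      (∀ i, Simple (ρ i)) ∧ (∀ i j, Iso (ρ i) (ρ j) → i = j) ∧
      ∀ (n : ℕ) (σ : Representation k G (Fin n → k)), Simple σ → ∃ i, Iso (ρ i) σ := by
  classical
  haveI : Fintype G := Fintype.ofFinite G
  haveI : IsArtinianRing (MonoidAlgebra k G) := IsArtinianRing.of_finite k _
  obtain ⟨J, hJ⟩ : ∃ J, J = Ring.jacobson (MonoidAlgebra k G) := ⟨_, rfl⟩
  haveI : J.IsTwoSided := hJ ▸ inferInstance
  haveI : IsSemisimpleRing (MonoidAlgebra k G ⧸ J) := hJ ▸ IsSemiprimaryRing.isSemisimpleRing
  obtain ⟨r, hr⟩ : IsNilpotent J := hJ ▸ IsSemiprimaryRing.isNilpotent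
  obtain ⟨m, d, hd, ⟨e⟩⟩ :=
    IsSemisimpleRing.exists_algEquiv_pi_matrix_of_isAlgClosed k (MonoidAlgebra k G ⧸ J)
  let Φ : MonoidAlgebra k G →ₐ[k] (∀ i, Matrix (Fin (d i)) (Fin (d i)) k) :=
    e.toAlgHom.comp (Ideal.Quotient.mkₐ k J)
  have hΦs : Function.Surjective Φ := e.surjective.comp (Ideal.Quotient.mkₐ_surjective k J)
  have hΦk : ∀ x, Φ x = 0 → x ∈ J := fun x hx => by
    have : e (Ideal.Quotient.mkₐ k J x) = e 0 := by rw [map_zero]; exact hx
    exact Ideal.Quotient.eq_zero_iff_mem.1 (e.injective this)
  have hJnil : ∀ x ∈ J, IsNilpotent x := fun x hx =>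
    ⟨r, by simpa [hr] using Ideal.pow_mem_pow hx r⟩
  let π : ∀ i, MonoidAlgebra k G →ₐ[k] Matrix (Fin (d i)) (Fin (d i)) k := fun i =>
    (Pi.evalAlgHom k (fun j => Matrix (Fin (d j)) (Fin (d j)) k) i).comp Φ
  have hπ : ∀ i x, π i x = Φ x i := fun i x => rfl
  let ρ : ∀ i, Representation k G (Fin (d i) → k) := fun i =>
    ((Matrix.toLinAlgEquiv' : Matrix (Fin (d i)) (Fin (d i)) k ≃ₐ[k] _).toAlgHom.comp
      (π i)).toMonoidHom.comp (MonoidAlgebra.of k G)
  have hρ : ∀ i g v, ρ i g v = (π i (MonoidAlgebra.single g 1)).mulVec v := fun i g v => rfl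
  have hρA : ∀ i (x : MonoidAlgebra k G) (S : Submodule k (Fin (d i) → k)),
      (∀ g, ∀ v ∈ S, ρ i g v ∈ S) → ∀ v ∈ S, (π i x).mulVec v ∈ S := by
    intro i x S hS v hv
    rw [eq_sum x, map_sum, Matrix.sum_mulVec]
    refine Submodule.sum_mem _ fun g _ => ?_
    rw [show MonoidAlgebra.single g (x.coeff g) = x.coeff g • MonoidAlgebra.single g (1 : k) by simp,
      map_smul, Matrix.smul_mulVec]
    exact S.smul_mem _ (hρ i g v ▸ hS g v hv)
  have hπs : ∀ i, Function.Surjective (π i) := fun i M => by
    obtain ⟨x, hx⟩ := hΦs (Pi.single i M)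
    exact ⟨x, by rw [hπ, hx, Pi.single_eq_same]⟩
  have hsimple : ∀ i (S : Submodule k (Fin (d i) → k)), (∀ g, ∀ w ∈ S, ρ i g w ∈ S) → S ≠ ⊥ →
      S = ⊤ := by
    intro i S hS hS0
    obtain ⟨w, hw, hw0⟩ := S.ne_bot_iff.1 hS0
    obtain ⟨l, hl⟩ := Function.ne_iff.1 hw0
    rw [Pi.zero_apply] at hl
    refine Submodule.eq_top_iff'.2 fun u => ?_
    obtain ⟨x, hx⟩ := hπs i (Matrix.vecMulVec ((w l)⁻¹ • u) (Pi.single l 1))
    have h := hρA i x S hS w hw
    rw [hx, Matrix.vecMulVec_mulVec] at h
    simpa [smul_smul, hl] using h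
  refine ⟨m, d, ρ, ?_, ?_, ?_, ?_⟩
  · -- the count
    obtain ⟨N, hN, hN1, hN2⟩ := exists_exponent G p
    have hN' : ∀ g : G, (g ^ p ^ N) ^ p ^ N = g ^ p ^ N := fun g => hN2 _ (hN1 g)
    let rep : {c : ConjClasses G // ∃ g : G, ConjClasses.mk g = c ∧ (orderOf g).Coprime p} → G :=
      fun x => Classical.choose x.2
    have hrep1 : ∀ x, ConjClasses.mk (rep x) = x.1 ∧ (orderOf (rep x)).Coprime p := fun x =>
      Classical.choose_spec x.2
    let Ψ : (Fin m → k) →ₗ[k]
        ({c : ConjClasses G // ∃ g : G, ConjClasses.mk g = c ∧ (orderOf g).Coprime p} → k) :=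
      { toFun := fun c x => ∑ i, c i * (π i (MonoidAlgebra.single (rep x) 1)).trace
        map_add' := fun a b => by ext x; simp [add_mul, Finset.sum_add_distrib]
        map_smul' := fun a b => by ext x; simp [Finset.mul_sum, mul_assoc] }
    have hΨ : ∀ c x, Ψ c x = ∑ i, c i * (π i (MonoidAlgebra.single (rep x) 1)).trace :=
      fun c x => rfl
    have htc : ∀ i (a g : G), (π i (MonoidAlgebra.single (a * g * a⁻¹) 1)).trace =
        (π i (MonoidAlgebra.single g 1)).trace := fun i a g => by
      have : MonoidAlgebra.single (a * g * a⁻¹) (1 : k) =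
          MonoidAlgebra.single a 1 * MonoidAlgebra.single g 1 * MonoidAlgebra.single a⁻¹ 1 := by
        simp [MonoidAlgebra.single_mul_single]
      rw [this, map_mul, map_mul, Matrix.trace_mul_comm, ← mul_assoc, ← map_mul,
        MonoidAlgebra.single_mul_single, inv_mul_cancel, one_mul, ← MonoidAlgebra.one_def, map_one,
        one_mul]
    have htp : ∀ i (g : G), (π i (MonoidAlgebra.single g 1)).trace =
        (π i (MonoidAlgebra.single (g ^ p ^ N) 1)).trace := by
      intro i g
      let M : G →* Matrix (Fin (d i)) (Fin (d i)) k :=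
        (π i).toMonoidHom.comp (MonoidAlgebra.of k G)
      have hM : ∀ a, M a = π i (MonoidAlgebra.single a 1) := fun a => rfl
      rw [← hM, ← hM]
      obtain ⟨s, hs⟩ : ∃ s, s = g ^ p ^ N := ⟨_, rfl⟩
      rw [← hs]
      have hc : Commute (g * s⁻¹) s := by
        have h0 : Commute g s := hs ▸ Commute.self_pow g _
        exact Commute.mul_left h0 (Commute.inv_left (Commute.refl s))
      have hu : (g * s⁻¹) ^ p ^ N = 1 := by
        rw [(hs ▸ Commute.self_pow g (p ^ N) : Commute g s).inv_right.mul_pow, inv_pow, hs, hN',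
          mul_inv_cancel]
      haveI : Nonempty (Fin (d i)) := ⟨⟨0, Nat.pos_of_ne_zero (hd i).out⟩⟩
      have hnil : IsNilpotent ((M (g * s⁻¹) - 1) * M s) := by
        refine Commute.isNilpotent_mul_right ?_ ⟨p ^ N, ?_⟩
        · exact (hc.map M).sub_left (Commute.one_left _)
        · rw [sub_pow_char_pow_of_commute _ _ (Commute.one_right _), one_pow, ← map_pow, hu,
            map_one, sub_self]
      have h0 := (Matrix.isNilpotent_trace_of_isNilpotent hnil).eq_zero
      rw [sub_mul, one_mul, ← map_mul, Matrix.trace_sub, inv_mul_cancel_right, sub_eq_zero] at h0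
      exact h0
    have hbij : Function.Bijective Ψ := by
      constructor
      · rw [injective_iff_map_eq_zero]
        intro c hc
        have hall : ∀ g : G, ∑ i, c i * (π i (MonoidAlgebra.single g 1)).trace = 0 := by
          intro g
          have hx : ∃ g' : G, ConjClasses.mk g' = ConjClasses.mk (g ^ p ^ N) ∧
              (orderOf g').Coprime p := ⟨_, rfl, hN1 g⟩
          have h := congrFun hc ⟨_, hx⟩
          rw [hΨ] at h
          obtain ⟨a, ha⟩ := isConj_iff.1 (ConjClasses.mk_eq_mk_iff_isConj.1 (hrep1 ⟨_, hx⟩).1)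
          rw [Pi.zero_apply] at h
          rw [← h]
          refine Finset.sum_congr rfl fun i _ => ?_
          exact congrArg (c i * ·) ((htp i g).trans ((congrArg (fun b => (π i (MonoidAlgebra.single b 1)).trace) ha.symm).trans (htc i a _)))
        funext i
        haveI := hd i
        obtain ⟨x, hx⟩ := hΦs (Pi.single i (Matrix.single 0 0 1))
        have h1 : ∑ g : G, x.coeff g * ∑ j, c j * (π j (MonoidAlgebra.single g 1)).trace = 0 := by
          simp [hall]
        have h2 : ∑ j, c j * (π j x).trace = 0 := by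
          rw [← h1]
          simp only [Finset.mul_sum]
          rw [Finset.sum_comm]
          refine Finset.sum_congr rfl fun j _ => ?_
          conv_lhs => rw [eq_sum x, map_sum, Matrix.trace_sum, Finset.mul_sum]
          refine Finset.sum_congr rfl fun g _ => ?_
          rw [show MonoidAlgebra.single g (x.coeff g) = x.coeff g • MonoidAlgebra.single g (1 : k) by simp,
            map_smul, Matrix.trace_smul, smul_eq_mul]
          ring
        rw [Finset.sum_eq_single i] at h2
        · simpa [hπ, hx] using h2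
        · intro j _ hj
          simp [hπ, hx, Pi.single_eq_of_ne hj]
        · simp
      · intro f
        let f' : G → k := fun g => f ⟨ConjClasses.mk (g ^ p ^ N), _, rfl, hN1 g⟩
        have hf1 : ∀ a g : G, f' (a * g * a⁻¹) = f' g := fun a g => by
          simp only [f']
          congr 1
          refine Subtype.ext (ConjClasses.mk_eq_mk_iff_isConj.2 (isConj_iff.2 ⟨a⁻¹, ?_⟩))
          rw [conj_pow]; group
        have hf2 : ∀ g, f' (g ^ p ^ N) = f' g := fun g => by simp only [f']; simp only [hN']
        have hJ0 : ∀ x ∈ J, ev f' x = 0 := fun x hx =>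
          ev_eq_zero_of_nilpotent p hN hN' hf1 hf2 (hJnil x hx)
        choose lift hlift using hΦs
        have hevΦ : ∀ x y, Φ x = Φ y → ev f' x = ev f' y := fun x y h => by
          have := hJ0 _ (hΦk (x - y) (by rw [map_sub, h, sub_self]))
          have e1 := ev_add f' (x - y) y
          rw [sub_add_cancel, this, zero_add] at e1
          exact e1
        have hcomm : ∀ x y : MonoidAlgebra k G, ev f' (x * y) = ev f' (y * x) := by
          intro x y
          rw [ev_mul, ev_mul]
          simp only [ev, Finset.mul_sum]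
          rw [Finset.sum_comm]
          refine Finset.sum_congr rfl fun g _ => Finset.sum_congr rfl fun h _ => ?_
          have : f' (h * g) = f' (g * h) := by rw [← hf1 g (h * g)]; congr 1; group
          rw [this]; ring
        let τ : ∀ i, Matrix (Fin (d i)) (Fin (d i)) k →ₗ[k] k := fun i =>
          { toFun := fun M => ev f' (lift (Pi.single i M))
            map_add' := fun a b => by
              rw [← ev_add]
              exact hevΦ _ _ (by rw [map_add, hlift, hlift, hlift, Pi.single_add])
            map_smul' := fun a b => by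
              rw [RingHom.id_apply, smul_eq_mul, ← ev_smul]
              exact hevΦ _ _ (by rw [map_smul, hlift, hlift, Pi.single_smul]) }
        have hτ : ∀ i a b, τ i (a * b) = τ i (b * a) := fun i a b => by
          show ev f' _ = ev f' _
          rw [hevΦ (lift (Pi.single i (a * b))) (lift (Pi.single i a) * lift (Pi.single i b))
              (by rw [map_mul, hlift, hlift, hlift, Pi.single_mul]),
            hevΦ (lift (Pi.single i (b * a))) (lift (Pi.single i b) * lift (Pi.single i a))
              (by rw [map_mul, hlift, hlift, hlift, Pi.single_mul]), hcomm]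
        refine ⟨fun i => (haveI := hd i; τ i (Matrix.single 0 0 1)), funext fun x => ?_⟩
        rw [hΨ]
        have h1 : f x = ev f' (MonoidAlgebra.single (rep x) 1) := by
          rw [ev_single, one_mul]
          simp only [f']
          congr 1
          exact Subtype.ext ((hrep1 x).1.symm.trans (congrArg ConjClasses.mk (hN2 _ (hrep1 x).2).symm))
        rw [h1, hevΦ (MonoidAlgebra.single (rep x) 1) (∑ i, lift (Pi.single i (Φ (MonoidAlgebra.single (rep x) 1) i)))
          (by rw [map_sum]; simp only [hlift]; exact (Finset.univ_sum_single _).symm), ev_sum]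
        refine Finset.sum_congr rfl fun i _ => ?_
        haveI := hd i
        exact (trace_functional (τ i) (hτ i) _).symm
    haveI : Fintype {c : ConjClasses G // ∃ g : G, ConjClasses.mk g = c ∧ (orderOf g).Coprime p} :=
      Fintype.ofFinite _
    have := (LinearEquiv.ofBijective Ψ hbij).finrank_eq
    rw [Module.finrank_fintype_fun_eq_card, Module.finrank_fintype_fun_eq_card, Fintype.card_fin] at this
    rw [this, Nat.card_eq_fintype_card]
  · intro i
    haveI := hd i
    refine ⟨inferInstance, fun S hS => ?_⟩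
    exact or_iff_not_imp_left.2 fun hne => hsimple i S hS hne
  · rintro i j ⟨φ, hφ⟩
    by_contra hne
    haveI := hd i
    obtain ⟨x, hx⟩ := hΦs (Pi.single i 1)
    have hA : ∀ v, φ ((π i x).mulVec v) = (π j x).mulVec (φ v) := by
      intro v
      conv_lhs => rw [eq_sum x, map_sum, Matrix.sum_mulVec, map_sum]
      conv_rhs => rw [eq_sum x, map_sum, Matrix.sum_mulVec]
      refine Finset.sum_congr rfl fun g _ => ?_
      rw [show MonoidAlgebra.single g (x.coeff g) = x.coeff g • MonoidAlgebra.single g (1 : k) by simp,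
        map_smul, map_smul, Matrix.smul_mulVec, Matrix.smul_mulVec, map_smul]
      congr 1
      exact hφ g v
    have h1 := hA 1
    rw [hπ, hπ, hx, Pi.single_eq_same, Pi.single_eq_of_ne (Ne.symm hne), Matrix.one_mulVec,
      Matrix.zero_mulVec, map_eq_zero_iff _ φ.injective] at h1
    exact one_ne_zero h1
  · intro n σ hσ
    let σA : MonoidAlgebra k G →ₐ[k] Module.End k (Fin n → k) := MonoidAlgebra.lift k _ G σ
    have hσA : ∀ g, σA (MonoidAlgebra.single g 1) = σ g := fun g => by
      rw [MonoidAlgebra.lift_single, one_smul]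
    have hkill : ∀ x ∈ J, σA x = 0 := by
      obtain ⟨K, hK⟩ : ∃ K : Submodule k (Fin n → k), K = ⨅ x : J, LinearMap.ker (σA (x : MonoidAlgebra k G)) :=
        ⟨_, rfl⟩
      have hmem : ∀ v, v ∈ K ↔ ∀ x ∈ J, σA x v = 0 := fun v => by
        simp [hK, Submodule.mem_iInf]
      have hinv : ∀ g, ∀ v ∈ K, σ g v ∈ K := fun g v hv => (hmem _).2 fun x hx => by
        rw [← hσA, ← Module.End.mul_apply, ← map_mul]
        exact (hmem v).1 hv _ (J.mul_mem_right _ hx)
      rcases hσ.2 K hinv with h | h
      · exfalso
        haveI := hσ.1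
        obtain ⟨v, hv⟩ := exists_ne (0 : Fin n → k)
        have hex : ∃ j, ∀ x ∈ J ^ j, σA x v = 0 := ⟨r, fun x hx => by
          rw [hr] at hx
          rw [show x = 0 from hx, map_zero, LinearMap.zero_apply]⟩
        have hj := Nat.find_spec hex
        rcases Nat.eq_zero_or_pos (Nat.find hex) with h0 | h0
        · rw [h0] at hj
          have := hj 1 (by rw [Submodule.pow_zero, Ideal.one_eq_top]; trivial)
          rw [map_one] at this
          exact hv this
        · have hmin := Nat.find_min hex (Nat.sub_lt h0 one_pos)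
          push Not at hmin
          obtain ⟨y, hy, hy0⟩ := hmin
          refine hy0 ((Submodule.eq_bot_iff _).1 h _ ((hmem _).2 fun x hx => ?_))
          rw [← Module.End.mul_apply, ← map_mul]
          refine hj _ ?_
          rw [show Nat.find hex = (Nat.find hex - 1) + 1 by omega]
          rw [Ideal.IsTwoSided.pow_succ]
          exact Ideal.mul_mem_mul hx hy
      · intro x hx
        exact LinearMap.ext fun v => (hmem v).1 (h ▸ Submodule.mem_top) x hx
    choose lift hlift using hΦs
    have hwd : ∀ x y, Φ x = Φ y → σA x = σA y := fun x y h => by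
      have := hkill _ (hΦk (x - y) (by rw [map_sub, h, sub_self]))
      rwa [map_sub, sub_eq_zero] at this
    obtain ⟨i, j, v, hv⟩ : ∃ i j v, σA (lift (Pi.single i (Matrix.single j j 1))) v ≠ 0 := by
      by_contra hno
      push Not at hno
      haveI := hσ.1
      obtain ⟨v, hv⟩ := exists_ne (0 : Fin n → k)
      apply hv
      have e1 : σA 1 = σA (∑ i, ∑ j, lift (Pi.single i (Matrix.single j j 1))) := hwd _ _ (by
        simp only [map_sum, hlift, map_one]
        funext i
        rw [Finset.sum_apply, Finset.sum_eq_single i, Finset.sum_apply]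
        · simp only [Pi.single_eq_same, Matrix.sum_single_one]
          rfl
        · intro l _ hl
          rw [Finset.sum_apply]
          exact Finset.sum_eq_zero fun j _ => Pi.single_eq_of_ne (Ne.symm hl) _
        · simp)
      calc v = σA 1 v := by rw [map_one]; rfl
        _ = 0 := by rw [e1]; simp [map_sum, LinearMap.sum_apply, hno]
    haveI := hd i
    let E : (Fin (d i) → k) →ₗ[k] (Fin n → k) :=
      { toFun := fun w => σA (lift (Pi.single i (Matrix.vecMulVec w (Pi.single j 1)))) v
        map_add' := fun a b => by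
          rw [← LinearMap.add_apply, ← map_add]
          congr 1
          exact hwd _ _ (by rw [map_add, hlift, hlift, hlift, ← Pi.single_add, Matrix.add_vecMulVec])
        map_smul' := fun c a => by
          rw [RingHom.id_apply, ← LinearMap.smul_apply, ← map_smul]
          congr 1
          exact hwd _ _ (by rw [map_smul, hlift, hlift, ← Pi.single_smul, Matrix.smul_vecMulVec]) }
    have hE : ∀ g w, E (ρ i g w) = σ g (E w) := fun g w => by
      show σA (lift _) v = σ g (σA (lift _) v)
      rw [← hσA, ← Module.End.mul_apply, ← map_mul]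
      congr 1
      refine hwd _ _ ?_
      rw [map_mul, hlift, hlift, hρ, hπ, ← Matrix.mul_vecMulVec]
      funext l
      rcases eq_or_ne l i with rfl | hl
      · simp [Pi.mul_apply]
      · simp [Pi.mul_apply, Pi.single_eq_of_ne hl]
    have hne : E ≠ 0 := fun h => hv (by
      have := LinearMap.congr_fun h (Pi.single j 1)
      rw [LinearMap.zero_apply] at this
      rw [← this]
      show _ = σA (lift (Pi.single i (Matrix.vecMulVec _ _))) v
      rw [Matrix.single_eq_single_vecMulVec_single])
    have hinj : Function.Injective E := by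
      rw [← LinearMap.ker_eq_bot]
      by_contra hk
      apply hne
      have := hsimple i (LinearMap.ker E) (fun g w hw => by
        rw [LinearMap.mem_ker] at hw ⊢
        rw [hE, hw, map_zero]) hk
      exact LinearMap.ker_eq_top.1 this
    have hsurj : Function.Surjective E := by
      rw [← LinearMap.range_eq_top]
      refine (hσ.2 _ fun g w hw => ?_).resolve_left fun h => hne (LinearMap.range_eq_bot.1 h)
      obtain ⟨u, rfl⟩ := hw
      exact ⟨ρ i g u, hE g u⟩
    exact ⟨i, LinearEquiv.ofBijective E ⟨hinj, hsurj⟩, hE⟩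

end Cfsg.Agent.SimpleFacts.ModularClassCount
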