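import Cfsg.Agent.SimpleFacts.ModularWeights

/-!
The simple modules in the defining characteristic of a finite group with a split (B, N)-pair correspond to
the weights; by Brauer's theorem their number is the number of classes of `p`-regular elements.
-/

set_option autoImplicit false
set_option linter.style.haveILetI false
set_option linter.unusedSectionVars false
set_option maxHeartbeats 1000000

namespace Cfsg.Agent.SimpleFacts.ModularWeightCount

open Cfsg.Agent.BN.Basic Cfsg.Agent.SimpleFacts.BNReps Cfsg.Agent.SimpleFacts.BNUnipotentCount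
  Cfsg.Agent.SimpleFacts.HeckeFamily Cfsg.Agent.SimpleFacts.ModularClassCount
  Cfsg.Agent.SimpleFacts.ModularWeights

universe u

variable {G : Type u} [Group G] [Finite G] {k : Type} [Field k] {p : ℕ} [hp : Fact p.Prime] [CharP k p]
  [IsAlgClosed k] (D : Datum G k p)

/-! ### Existence of a weight -/

theorem exists_weight {V : Type*} [AddCommGroup V] [Module k V] [FiniteDimensional k V]
    (ρ : Representation k G V) (hs : Simple ρ) :
    ∃ χ J v, J ⊆ triv D χ ∧ HasW D ρ χ J v := by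
  classical
  haveI := hs.1
  obtain ⟨φ, hφ0, hφU, hφH⟩ := exists_eigen D ρ.dual
  choose c hc using hφH
  let F : V →ₗ[k] (G → k) := LinearMap.pi fun g => φ ∘ₗ ρ g⁻¹
  have hF : ∀ x g, F x g = φ (ρ g⁻¹ x) := fun _ _ => rfl
  have hFeq : ∀ a x, F (ρ a x) = reg k G a (F x) := fun a x => by
    funext g
    rw [reg_apply, hF, hF, mul_inv_rev, inv_inv, act_mul]
  have hFinj : Function.Injective F := by
    rw [← LinearMap.ker_eq_bot]
    refine (hs.2 _ fun g x hx => ?_).resolve_right fun h => hφ0 (LinearMap.ext fun x => ?_)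
    · rw [LinearMap.mem_ker] at hx ⊢
      rw [hFeq, hx, map_zero]
    · have hx : x ∈ LinearMap.ker F := h ▸ Submodule.mem_top
      have h1 := congrFun (LinearMap.mem_ker.1 hx) 1
      rw [hF, inv_one, map_one] at h1
      exact h1
  have hFr : ∀ x, RInv D (F x) := fun x g u hu => by
    rw [hF, hF, mul_inv_rev, act_mul]
    exact LinearMap.congr_fun (hφU u hu) _
  have hFH : ∀ x g h (hh : h ∈ D.H), F x (g * h) = c h hh * F x g := fun x g h hh => by
    rw [hF, hF, mul_inv_rev, act_mul]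
    exact LinearMap.congr_fun (hc h hh) _
  have hcne : ∀ h hh, c h hh ≠ 0 := fun h hh e => hφ0 (LinearMap.ext fun x => by
    have h1 := LinearMap.congr_fun (hc h hh) (ρ h x)
    have h2 : φ (ρ h⁻¹ (ρ h x)) = c h hh * φ (ρ h x) := h1
    rw [← act_mul, inv_mul_cancel, map_one, e, zero_mul] at h2
    exact h2)
  have hFl : ∀ x, Fixed D ρ x → Fixed D (reg k G) (F x) := fun x hx u hu => by rw [← hFeq, hx u hu]
  let good : ℕ → V → Prop := fun j x => x ≠ 0 ∧ Fixed D ρ x ∧
    ∀ (m : G) (hm : m ∈ D.P.N), len (mkW hm) < j → F x m = 0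
  haveI : Fintype (W D.P) := Fintype.ofFinite _
  have hend : ∃ j, ¬ ∃ x, good j x := by
    refine ⟨Finset.univ.sup (fun w : W D.P => len w) + 1, ?_⟩
    rintro ⟨x, hx0, hxU, hx⟩
    refine hx0 (hFinj ?_)
    rw [map_zero]
    exact fun_ext D (hFl x hxU) (hFr x) fun m hm => hx m hm
      (Nat.lt_succ_of_le (Finset.le_sup (f := fun w : W D.P => len w) (Finset.mem_univ _)))
  have hj0 : Nat.find hend ≠ 0 := by
    intro h
    have h1 := Nat.find_spec hend
    rw [h] at h1
    obtain ⟨x, hx0, hxU, -⟩ := exists_eigen D ρ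
    exact h1 ⟨x, hx0, hxU, fun m hm h => absurd h (Nat.not_lt_zero _)⟩
  obtain ⟨j, hje⟩ : ∃ j, Nat.find hend = j + 1 := ⟨Nat.find hend - 1, by omega⟩
  have hgood : ∃ x, good j x := not_not.1 (Nat.find_min hend (by omega))
  have hlev : ∀ x, good j x → ∃ (m : G) (hm : m ∈ D.P.N), len (mkW hm) = j ∧ F x m ≠ 0 := by
    intro x hx
    by_contra hno
    push Not at hno
    refine (hje ▸ Nat.find_spec hend) ⟨x, hx.1, hx.2.1, fun m hm hlt => ?_⟩
    rcases Nat.lt_or_ge (len (mkW hm)) j with h | h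
    · exact hx.2.2 m hm h
    · exact hno m hm (by omega)
  let supp : V → Finset (W D.P) := fun x =>
    Finset.univ.filter fun w => ∃ (m : G) (hm : m ∈ D.P.N), mkW hm = w ∧ len w = j ∧ F x m ≠ 0
  have hmin : ∃ n x, good j x ∧ (supp x).card = n := by
    obtain ⟨x, hx⟩ := hgood; exact ⟨_, x, hx, rfl⟩
  obtain ⟨x, hx, hxcard⟩ := Nat.find_spec hmin
  obtain ⟨m0, hm0, hm0j, hm0ne⟩ := hlev x hx
  have shrink : ∀ y, Fixed D ρ y → (∀ (m : G) (hm : m ∈ D.P.N), len (mkW hm) < j → F y m = 0) →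
      (∀ (m : G) (hm : m ∈ D.P.N), len (mkW hm) = j → F x m = 0 → F y m = 0) → F y m0 = 0 →
      y = 0 := by
    intro y hyU hylow hyle hy0
    by_contra hne
    refine Nat.find_min hmin (m := (supp y).card) ?_ ⟨y, ⟨hne, hyU, hylow⟩, rfl⟩
    rw [← hxcard]
    refine Finset.card_lt_card (Finset.ssubset_iff_of_subset ?_ |>.2 ⟨mkW hm0, ?_, ?_⟩)
    · intro w hw
      obtain ⟨-, m, hm, e, hl, h⟩ := Finset.mem_filter.1 hw
      exact Finset.mem_filter.2 ⟨Finset.mem_univ _, m, hm, e, hl,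
        fun h' => h (hyle m hm (e ▸ hl) h')⟩
    · exact Finset.mem_filter.2 ⟨Finset.mem_univ _, m0, hm0, rfl, hm0j, hm0ne⟩
    · intro hw
      obtain ⟨-, m, hm, e, -, h⟩ := Finset.mem_filter.1 hw
      have hh : m0⁻¹ * m ∈ D.H :=
        mem_H D ((mkW_eq_iff hm0 hm).1 e.symm) (mul_mem (inv_mem hm0) hm)
      refine h ?_
      rw [show m = m0 * (m0⁻¹ * m) by group, hFH _ _ _ hh, hy0, mul_zero]
  -- the character
  have hH : ∀ h ∈ D.H, ∃ a : k, ρ h x = a • x := by
    intro h hh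
    refine ⟨F (ρ h x) m0 / F x m0, sub_eq_zero.1 ?_⟩
    have hconj : ∀ (m : G) (hm : m ∈ D.P.N), F (ρ h x) m =
        c (m⁻¹ * h⁻¹ * m) (H_conj_N' D hm (inv_mem hh)) * F x m := fun m hm => by
      rw [← hFH _ _ _ (H_conj_N' D hm (inv_mem hh)), hFeq, reg_apply]
      group
    refine shrink _ (fun u hu => ?_) (fun m hm hlt => ?_) (fun m hm _ h => ?_) ?_
    · rw [map_sub, map_smul, hx.2.1 u hu, ← act_mul,
        show u * h = h * (h⁻¹ * u * h) by group, act_mul,
        hx.2.1 _ (by simpa using D.H_conj _ (inv_mem hh) u hu)]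
    · rw [map_sub, map_smul, Pi.sub_apply, Pi.smul_apply, hconj m hm, hx.2.2 m hm hlt]; simp
    · rw [map_sub, map_smul, Pi.sub_apply, Pi.smul_apply, hconj m hm, h]; simp
    · rw [map_sub, map_smul, Pi.sub_apply, Pi.smul_apply, smul_eq_mul, div_mul_cancel₀ _ hm0ne,
        sub_self]
  choose a ha using hH
  have ha0 : ∀ h hh, a h hh ≠ 0 := fun h hh e => hx.1 (by
    have h1 := ha h hh
    rw [e, zero_smul] at h1
    calc x = ρ h⁻¹ (ρ h x) := by rw [← act_mul, inv_mul_cancel, map_one]; rfl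
      _ = 0 := by rw [h1, map_zero])
  let χ : D.H →* kˣ :=
    MonoidHom.mk' (fun h => Units.mk0 (a h.1 h.2) (ha0 h.1 h.2)) fun g h => Units.ext (by
      refine smul_left_injective k hx.1 ?_
      show a (g * h).1 (g * h).2 • x = (a g.1 g.2 * a h.1 h.2) • x
      rw [← ha, Subgroup.coe_mul, act_mul, ha h.1 h.2, map_smul, ha g.1 g.2, smul_smul, mul_comm])
  have hχ : ∀ h ∈ D.H, ρ h x = cv χ h • x := fun h hh => by rw [cv_eq D χ hh]; exact ha h hh
  have hw : ∀ h ∈ D.H, reg k G h (F x) = cv χ h • F x := fun h hh => by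
    rw [← hFeq, hχ h hh, map_smul]
  have hT : ∀ s, ∃ d : k, (d = 0 ∨ d = -1 ∧ s ∈ triv D χ) ∧ top D ρ s x = d • x := by
    intro s
    have hval := fun (m : G) (hm : m ∈ D.P.N) => top_value D (hFl x hx.2.1) (hFr x) hw s hm
    have hFT : ∀ m, F (top D ρ s x) m = top D (reg k G) s (F x) m := fun m => by
      rw [map_top D ρ (reg k G) F hFeq]
    have key : ∀ (m : G) (hm : m ∈ D.P.N), len (mkW hm) ≤ j → F (top D ρ s x) m =
        if len (gen s * mkW hm) < len (mkW hm) then eps D χ s * F x m else 0 := by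
      intro m hm hle
      rw [hFT]
      split_ifs with h
      · rw [(hval m hm).2 h, hx.2.2 _ (mul_mem (inv_mem (D.P.subset s.2)) hm) ?_, zero_add]
        rw [mkW_mul (inv_mem (D.P.subset s.2)) hm, mkW_inv (D.P.subset s.2)]
        show len ((gen s)⁻¹ * mkW hm) < j
        rw [gen_inv]; omega
      · exact (hval m hm).1 (by rcases len_gen_mul_cases (mkW hm) s with h' | h' <;> omega)
    refine ⟨if len (gen s * mkW hm0) < len (mkW hm0) then eps D χ s else 0, ?_, sub_eq_zero.1 ?_⟩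
    · split_ifs with h
      · rw [eps]
        split_ifs with h'
        · exact Or.inr ⟨rfl, h'⟩
        · exact Or.inl rfl
      · exact Or.inl rfl
    refine shrink _ (fun u hu => ?_) (fun m hm hlt => ?_) (fun m hm hl h => ?_) ?_
    · rw [map_sub, map_smul, hx.2.1 u hu, top_fixed D ρ hx.2.1 s u hu]
    · rw [map_sub, map_smul, Pi.sub_apply, Pi.smul_apply, key m hm hlt.le, hx.2.2 m hm hlt]; simp
    · rw [map_sub, map_smul, Pi.sub_apply, Pi.smul_apply, key m hm hl.le, h]; simp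
    · rw [map_sub, map_smul, Pi.sub_apply, Pi.smul_apply, key m0 hm0 hm0j.le, smul_eq_mul]
      split_ifs <;> simp
  choose d hd hdT using hT
  refine ⟨χ, {s | d s = -1}, x, fun s hs => ?_, hx.1, hx.2.1, hχ, fun s => ?_⟩
  · rcases hd s with h | h
    · exact absurd ((show d s = -1 from hs).symm.trans h) (by simp)
    · exact h.2
  · rw [hdT s]
    congr 1
    rcases hd s with h | h
    · rw [lam, if_neg, h]
      intro hs
      exact absurd ((show d s = -1 from hs).symm.trans h) (by simp)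
    · rw [lam, if_pos]
      · exact h.1
      · exact h.1

/-! ### One line -/

theorem simple_dual {V : Type*} [AddCommGroup V] [Module k V] [FiniteDimensional k V]
    (ρ : Representation k G V) (hs : Simple ρ) : Simple ρ.dual := by
  haveI := hs.1
  refine ⟨inferInstance, fun S hS => ?_⟩
  have hinv : ∀ g, ∀ x ∈ S.dualCoannihilator, ρ g x ∈ S.dualCoannihilator := by
    intro g x hx
    rw [Submodule.mem_dualCoannihilator] at hx ⊢
    intro φ hφ
    have := hx _ (hS g⁻¹ φ hφ)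
    rwa [Representation.dual_apply, inv_inv] at this
  rcases hs.2 _ hinv with h | h
  · exact Or.inr (by rw [← Subspace.dualCoannihilator_dualAnnihilator_eq (W := S), h, Submodule.dualAnnihilator_bot])
  · refine Or.inl ((Submodule.eq_bot_iff _).2 fun φ hφ => LinearMap.ext fun x => ?_)
    exact (Submodule.mem_dualCoannihilator x).1 (h ▸ Submodule.mem_top) φ hφ

theorem functional_line {V : Type*} [AddCommGroup V] [Module k V] [FiniteDimensional k V]
    (ρ : Representation k G V) (hs : Simple ρ) (φ ψ : Module.Dual k V) (hφ0 : φ ≠ 0)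
    (hφ : ∀ u ∈ D.U, ∀ x, φ (ρ u x) = φ x) (hψ : ∀ u ∈ D.U, ∀ x, ψ (ρ u x) = ψ x) :
    ∃ c : k, ψ = c • φ := by
  obtain ⟨n0, hn0, htop⟩ := exists_n0 D
  obtain ⟨χ, J, v, -, hv⟩ := exists_weight D ρ hs
  have hmk : ∀ θ : Module.Dual k V, (∀ u ∈ D.U, ∀ x, θ (ρ u x) = θ x) →
      (θ ∘ₗ ρ n0⁻¹) v = 0 → θ = 0 := by
    intro θ hθ h0
    have h1 := opp_eq_zero D ρ htop hs hv (θ ∘ₗ ρ n0⁻¹) (fun u hu x => by
      rw [LinearMap.comp_apply, LinearMap.comp_apply, ← act_mul,
        show n0⁻¹ * (n0 * u * n0⁻¹) = u * n0⁻¹ by group, act_mul, hθ u hu]) h0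
    refine LinearMap.ext fun x => ?_
    have := LinearMap.congr_fun h1 (ρ n0 x)
    rwa [LinearMap.comp_apply, ← act_mul, inv_mul_cancel, map_one, LinearMap.zero_apply] at this
  have hne : φ (ρ n0⁻¹ v) ≠ 0 := fun h => hφ0 (hmk φ hφ h)
  refine ⟨ψ (ρ n0⁻¹ v) / φ (ρ n0⁻¹ v), sub_eq_zero.1 (hmk _ (fun u hu x => ?_) ?_)⟩
  · simp only [LinearMap.sub_apply, LinearMap.smul_apply, hφ u hu, hψ u hu]
  · simp only [LinearMap.comp_apply, LinearMap.sub_apply, LinearMap.smul_apply, smul_eq_mul]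
    rw [div_mul_cancel₀ _ hne, sub_self]

theorem fixed_line {V : Type*} [AddCommGroup V] [Module k V] [FiniteDimensional k V]
    (ρ : Representation k G V) (hs : Simple ρ) {v w : V} (hv0 : v ≠ 0) (hv : Fixed D ρ v)
    (hw : Fixed D ρ w) : ∃ c : k, w = c • v := by
  have hev : ∀ x, Fixed D ρ x → ∀ u ∈ D.U, ∀ φ : Module.Dual k V,
      Module.Dual.eval k V x (ρ.dual u φ) = Module.Dual.eval k V x φ := by
    intro x hx u hu φ
    show φ (ρ u⁻¹ x) = φ x
    rw [hx _ (inv_mem hu)]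
  obtain ⟨c, hc⟩ := functional_line D ρ.dual (simple_dual ρ hs) (Module.Dual.eval k V v)
    (Module.Dual.eval k V w) (fun h => hv0 (Module.eval_apply_injective k (by rw [h, map_zero])))
    (hev v hv) (hev w hw)
  exact ⟨c, Module.eval_apply_injective k (by rw [hc, map_smul])⟩

theorem weight_unique {V : Type*} [AddCommGroup V] [Module k V] [FiniteDimensional k V]
    (ρ : Representation k G V) (hs : Simple ρ) {χ χ' : D.H →* kˣ} {J J' : Set D.P.S} {v v' : V}
    (h : HasW D ρ χ J v) (h' : HasW D ρ χ' J' v') : χ = χ' ∧ J = J' := by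
  obtain ⟨c, hc⟩ := fixed_line D ρ hs h.1 h.2.1 h'.2.1
  have hc0 : c ≠ 0 := fun e => h'.1 (by rw [hc, e, zero_smul])
  constructor
  · ext ⟨g, hg⟩
    have h1 := h'.2.2.1 g hg
    rw [hc, map_smul, h.2.2.1 g hg, smul_comm] at h1
    have h2 := smul_left_injective k (smul_ne_zero hc0 h.1) h1
    rwa [cv_eq D χ hg, cv_eq D χ' hg] at h2
  · ext s
    have h1 := h'.2.2.2 s
    have h2 : top D ρ s (c • v) = c • top D ρ s v := by
      simp only [top, map_smul, Finset.smul_sum]
    rw [hc, h2, h.2.2.2 s, smul_comm] at h1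
    have h3 := smul_left_injective k (smul_ne_zero hc0 h.1) h1
    simp only [lam] at h3
    split_ifs at h3 with a b <;> simp_all

theorem hfix {W' : Type*} [AddCommGroup W'] [Module k W'] (τ : Representation k G W')
    (θ : Module.Dual k W') (hθ : Fixed D τ.dual θ) {n0 : G} (u : G) (hu : u ∈ D.U) (x : W') :
    θ (τ n0⁻¹ (τ (n0 * u * n0⁻¹) x)) = θ (τ n0⁻¹ x) := by
  rw [← act_mul, show n0⁻¹ * (n0 * u * n0⁻¹) = u * n0⁻¹ by group, act_mul]
  have := LinearMap.congr_fun (hθ u⁻¹ (inv_mem hu)) (τ n0⁻¹ x)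
  rwa [Representation.dual_apply, inv_inv] at this

theorem iso_of_weight {V V' : Type*} [AddCommGroup V] [Module k V] [FiniteDimensional k V]
    [AddCommGroup V'] [Module k V'] [FiniteDimensional k V'] (ρ : Representation k G V)
    (ρ' : Representation k G V') (hs : Simple ρ) (hs' : Simple ρ') {χ : D.H →* kˣ} {J : Set D.P.S}
    {v : V} {v' : V'} (h : HasW D ρ χ J v) (h' : HasW D ρ' χ J v') : Iso ρ ρ' := by
  classical
  haveI := hs.1
  haveI := hs'.1
  obtain ⟨n0, hn0, htop⟩ := exists_n0 D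
  let σ : Representation k G (V × V') :=
    { toFun := fun g => (ρ g).prodMap (ρ' g)
      map_one' := LinearMap.ext fun x => by simp
      map_mul' := fun a b => LinearMap.ext fun x => by simp }
  have hσ : ∀ g x, σ g x = (ρ g x.1, ρ' g x.2) := fun g x => rfl
  have hvv : HasW D σ χ J (v, v') := by
    refine ⟨fun e => h.1 (congrArg Prod.fst e), fun u hu => ?_, fun g hg => ?_, fun s => ?_⟩
    · rw [hσ, h.2.1 u hu, h'.2.1 u hu]
    · rw [hσ, h.2.2.1 g hg, h'.2.2.1 g hg, Prod.smul_mk]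
    · refine Prod.ext ?_ ?_
      · rw [show (top D σ s (v, v')).1 = top D ρ s v from
          map_top D σ ρ (LinearMap.fst k V V') (fun g x => rfl) s (v, v'), h.2.2.2 s]
        rfl
      · rw [show (top D σ s (v, v')).2 = top D ρ' s v' from
          map_top D σ ρ' (LinearMap.snd k V V') (fun g x => rfl) s (v, v'), h'.2.2.2 s]
        rfl
  obtain ⟨M, hM⟩ : ∃ M, M = Submodule.span k ((fun u => σ (n0 * u * n0⁻¹) (v, v')) '' (D.U : Set G)) :=
    ⟨_, rfl⟩
  have hMinv : ∀ g, ∀ x ∈ M, σ g x ∈ M := fun g x hx => hM ▸ span_opp D σ htop hvv g x (hM ▸ hx)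
  have hmem : (v, v') ∈ M :=
    hM ▸ Submodule.subset_span ⟨1, one_mem _, by simp only [mul_one, mul_inv_cancel, map_one]; rfl⟩
  obtain ⟨φ, hφ0, hφU, -⟩ := exists_eigen D ρ.dual
  obtain ⟨φ', hφ'0, hφ'U, -⟩ := exists_eigen D ρ'.dual
  have hv0 : φ (ρ n0⁻¹ v) ≠ 0 := by
    intro e
    have h1 := opp_eq_zero D ρ htop hs h (φ ∘ₗ ρ n0⁻¹) (fun u hu x => hfix D ρ φ hφU u hu x) e
    refine hφ0 (LinearMap.ext fun x => ?_)
    have := LinearMap.congr_fun h1 (ρ n0 x)
    rwa [LinearMap.comp_apply, ← act_mul, inv_mul_cancel, map_one, LinearMap.zero_apply] at this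
  have hv0' : φ' (ρ' n0⁻¹ v') ≠ 0 := by
    intro e
    have h1 := opp_eq_zero D ρ' htop hs' h' (φ' ∘ₗ ρ' n0⁻¹) (fun u hu x => hfix D ρ' φ' hφ'U u hu x) e
    refine hφ'0 (LinearMap.ext fun x => ?_)
    have := LinearMap.congr_fun h1 (ρ' n0 x)
    rwa [LinearMap.comp_apply, ← act_mul, inv_mul_cancel, map_one, LinearMap.zero_apply] at this
  have hMne : M ≠ ⊤ := by
    intro e
    let θ : V × V' →ₗ[k] k := φ' (ρ' n0⁻¹ v') • (φ ∘ₗ ρ n0⁻¹ ∘ₗ LinearMap.fst k V V') -
      φ (ρ n0⁻¹ v) • (φ' ∘ₗ ρ' n0⁻¹ ∘ₗ LinearMap.snd k V V')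
    have hker : M ≤ LinearMap.ker θ := by
      rw [hM, Submodule.span_le]
      rintro _ ⟨u, hu, rfl⟩
      show φ' (ρ' n0⁻¹ v') * φ (ρ n0⁻¹ (ρ (n0 * u * n0⁻¹) v)) -
        φ (ρ n0⁻¹ v) * φ' (ρ' n0⁻¹ (ρ' (n0 * u * n0⁻¹) v')) = 0
      rw [hfix D ρ φ hφU u hu, hfix D ρ' φ' hφ'U u hu]
      ring
    have h1 : φ' (ρ' n0⁻¹ v') * φ (ρ n0⁻¹ v) - φ (ρ n0⁻¹ v) * φ' (ρ' n0⁻¹ (0 : V')) = 0 :=
      hker (e.symm ▸ Submodule.mem_top : (v, (0 : V')) ∈ M)
    simp only [map_zero, mul_zero, sub_zero, mul_eq_zero] at h1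
    exact h1.elim hv0' hv0
  have hsurj1 : ∀ a : V, ∃ b : V', (a, b) ∈ M := by
    intro a
    have : M.map (LinearMap.fst k V V') = ⊤ := by
      refine (hs.2 _ fun g x hx => ?_).resolve_left (Submodule.ne_bot_iff _ |>.2
        ⟨v, ⟨(v, v'), hmem, rfl⟩, h.1⟩)
      obtain ⟨y, hy, rfl⟩ := hx
      exact ⟨σ g y, hMinv g y hy, rfl⟩
    obtain ⟨y, hy, rfl⟩ := (this.symm ▸ Submodule.mem_top : a ∈ M.map (LinearMap.fst k V V'))
    exact ⟨y.2, hy⟩
  have hsurj2 : ∀ b : V', ∃ a : V, (a, b) ∈ M := by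
    intro b
    have : M.map (LinearMap.snd k V V') = ⊤ := by
      refine (hs'.2 _ fun g x hx => ?_).resolve_left (Submodule.ne_bot_iff _ |>.2
        ⟨v', ⟨(v, v'), hmem, rfl⟩, h'.1⟩)
      obtain ⟨y, hy, rfl⟩ := hx
      exact ⟨σ g y, hMinv g y hy, rfl⟩
    obtain ⟨y, hy, rfl⟩ := (this.symm ▸ Submodule.mem_top : b ∈ M.map (LinearMap.snd k V V'))
    exact ⟨y.1, hy⟩
  have hinj2 : ∀ b : V', (0, b) ∈ M → b = 0 := by
    have hcl : M.comap (LinearMap.inr k V V') = ⊥ := by
      refine (hs'.2 _ fun g x hx => ?_).resolve_right fun e => hMne (Submodule.eq_top_iff'.2 ?_)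
      · have := hMinv g _ hx
        rwa [hσ, LinearMap.inr_apply, map_zero] at this
      · rintro ⟨a, b⟩
        obtain ⟨b', hb'⟩ := hsurj1 a
        have h2 : (0, b - b') ∈ M := (e.symm ▸ Submodule.mem_top :
          b - b' ∈ M.comap (LinearMap.inr k V V'))
        simpa using add_mem hb' h2
    intro b hb
    exact (Submodule.eq_bot_iff _).1 hcl b hb
  have hinj1 : ∀ a : V, (a, 0) ∈ M → a = 0 := by
    have hcl : M.comap (LinearMap.inl k V V') = ⊥ := by
      refine (hs.2 _ fun g x hx => ?_).resolve_right fun e => hMne (Submodule.eq_top_iff'.2 ?_)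
      · have := hMinv g _ hx
        rwa [hσ, LinearMap.inl_apply, map_zero] at this
      · rintro ⟨a, b⟩
        obtain ⟨a', ha'⟩ := hsurj2 b
        have h2 : (a - a', 0) ∈ M := (e.symm ▸ Submodule.mem_top :
          a - a' ∈ M.comap (LinearMap.inl k V V'))
        simpa using add_mem ha' h2
    intro a ha
    exact (Submodule.eq_bot_iff _).1 hcl a ha
  choose f hf using hsurj1
  have huniq : ∀ a b, (a, b) ∈ M → b = f a := fun a b hab => by
    have := sub_mem hab (hf a)
    rw [Prod.mk_sub_mk, sub_self] at this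
    exact sub_eq_zero.1 (hinj2 _ this)
  let L : V →ₗ[k] V' :=
    { toFun := f
      map_add' := fun a b => (huniq _ _ (add_mem (hf a) (hf b))).symm
      map_smul' := fun r a => (huniq _ _ (M.smul_mem r (hf a))).symm }
  refine ⟨LinearEquiv.ofBijective L ⟨?_, ?_⟩, fun g a => ?_⟩
  · rw [← LinearMap.ker_eq_bot, Submodule.eq_bot_iff]
    intro a ha
    refine hinj1 a ?_
    have := hf a
    rwa [show f a = 0 from ha] at this
  · intro b
    obtain ⟨a, ha⟩ := hsurj2 b
    exact ⟨a, (huniq a b ha).symm⟩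
  · exact (huniq _ _ (hσ g (a, f a) ▸ hMinv g _ (hf a))).symm

/-! ### A module for every weight -/

/-- The product of a word. -/
def pw (L : List D.P.S) : G := (L.map Subtype.val).prod

theorem pw_cons (s : D.P.S) (L : List D.P.S) : pw D (s :: L) = (s : G) * pw D L := by
  rw [pw, List.map_cons, List.prod_cons, pw]

theorem pw_append (L L' : List D.P.S) : pw D (L ++ L') = pw D L * pw D L' := by
  rw [pw, List.map_append, List.prod_append, pw, pw]

theorem pw_mem (L : List D.P.S) : pw D L ∈ D.P.N :=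
  list_prod_mem fun x hx => by
    obtain ⟨s, -, rfl⟩ := List.mem_map.1 hx
    exact D.P.subset s.2

theorem mkW_pw (L : List D.P.S) : mkW (pw_mem D L) = wordW L := by
  induction L with
  | nil => rfl
  | cons s L ih =>
    rw [wordW_cons, ← ih]
    show mkW _ = mkW (D.P.subset s.2) * mkW (pw_mem D L)
    rw [← mkW_mul]
    congr 1

section Word

variable {χ : D.H →* kˣ} {K : Set D.P.S} (hK : K ⊆ triv D χ)
include hK

theorem cv_pw {L : List D.P.S} (hL : ∀ s ∈ L, s ∈ K) {h : G} (hh : h ∈ D.H) :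
    cv χ (pw D L * h * (pw D L)⁻¹) = cv χ h := by
  induction L with
  | nil => simp [pw]
  | cons s L ih =>
    rw [pw_cons, show (s : G) * pw D L * h * ((s : G) * pw D L)⁻¹ =
      (s : G) * (pw D L * h * (pw D L)⁻¹) * (s : G)⁻¹ by group,
      cv_conj D χ (hK (hL s List.mem_cons_self)) (H_conj_N D (pw_mem D L) hh),
      ih fun x hx => hL x (List.mem_cons_of_mem s hx)]

theorem drop_letter : ∀ A : List D.P.S, (∀ s ∈ A, s ∈ K) → len (wordW A) = A.length → ∀ v ∈ K,
    len (wordW A * gen v) < A.length →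
      ∃ (A' : List D.P.S) (h : G), (∀ s ∈ A', s ∈ K) ∧ A'.length < A.length ∧ h ∈ D.H ∧
        cv χ h = 1 ∧ pw D A * v = h * pw D A' := by
  intro A
  induction A with
  | nil => intro _ _ v _ h; exact absurd h (Nat.not_lt_zero _)
  | cons a A ih =>
    intro hA hred v hv hlt
    have hA' : ∀ s ∈ A, s ∈ K := fun x hx => hA x (List.mem_cons_of_mem a hx)
    have ha := hA a List.mem_cons_self
    rw [wordW_cons] at hred hlt
    rw [List.length_cons] at hred hlt
    have h1 := len_gen_mul_le a (wordW A)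
    have h2 := len_wordW_le A
    have hredA : len (wordW A) = A.length := by omega
    rcases len_mul_gen_cases (wordW A) v with hc | hc
    · have heq : gen a * wordW A = wordW A * gen v := by
        refine gen_mul_eq_mul_gen (by omega) (by omega) ?_
        rw [← mul_assoc]; omega
      obtain ⟨-, h, hh, e⟩ := D.move a v (pw D A) (pw_mem D A)
        (by rw [mkW_pw D A]; omega) (by rw [mkW_pw D A]; exact heq)
      have hm : (a : G) * a * h ∈ D.Hs a := mul_mem (D.sq a) hh
      refine ⟨A, (a : G) * a * h, hA', Nat.lt_succ_self _, D.Hs_le a hm, hK ha _ hm, ?_⟩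
      rw [pw_cons, show (a : G) * pw D A * v = (a : G) * (pw D A * v * (pw D A)⁻¹) * pw D A by group, e]
      group
    · obtain ⟨A', h, hA'K, hlen, hh, hh1, e⟩ := ih hA' hredA v hv (by omega)
      refine ⟨a :: A', (a : G) * h * (a : G)⁻¹, fun s hs => ?_, Nat.succ_lt_succ hlen,
        H_conj_N D (D.P.subset a.2) hh, by rw [cv_conj D χ (hK ha) hh, hh1], ?_⟩
      · rcases List.mem_cons.1 hs with rfl | h'
        · exact ha
        · exact hA'K s h'
      · rw [pw_cons, pw_cons, mul_assoc, e]; group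

theorem reduce_word (L : List D.P.S) (hL : ∀ s ∈ L, s ∈ K) :
    ∃ (A : List D.P.S) (h : G), (∀ s ∈ A, s ∈ K) ∧ len (wordW A) = A.length ∧
      wordW A = wordW L ∧ h ∈ D.H ∧ cv χ h = 1 ∧ pw D L = h * pw D A := by
  induction L using List.reverseRecOn with
  | nil => exact ⟨[], 1, by simp, len_one, rfl, one_mem _, cv_one D χ, (one_mul _).symm⟩
  | append_singleton L v ih =>
    obtain ⟨A, h, hA, hred, hw, hh, hh1, e⟩ := ih fun s hs => hL s (List.mem_append_left _ hs)
    have hv := hL v (List.mem_append_right _ List.mem_cons_self)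
    have hpw : pw D (L ++ [v]) = h * (pw D A * v) := by
      rw [pw_append, e, mul_assoc]; simp [pw]
    rcases len_mul_gen_cases (wordW A) v with hc | hc
    · refine ⟨A ++ [v], h, fun s hs => ?_, ?_, ?_, hh, hh1, ?_⟩
      · rcases List.mem_append.1 hs with h' | h'
        · exact hA s h'
        · exact List.mem_singleton.1 h' ▸ hv
      · rw [wordW_append, wordW_singleton, hc, hred, List.length_append, List.length_singleton]
      · rw [wordW_append, wordW_append, hw]
      · rw [hpw, pw_append D A]; simp [pw]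
    · obtain ⟨A', h', hA', hlen, hh', hh1', e'⟩ := drop_letter D hK A hA hred v hv (by omega)
      have hW : wordW A' = wordW A * gen v := by
        rw [← mkW_pw D A', ← mkW_pw D A]
        show _ = mkW (pw_mem D A) * mkW (D.P.subset v.2)
        rw [← mkW_mul, mkW_eq_iff, e', show (pw D A')⁻¹ * (h' * pw D A') =
          (pw D A')⁻¹ * h' * pw D A' by group]
        exact H_le_B D (H_conj_N' D (pw_mem D A') hh')
      refine ⟨A', h * h', hA', ?_, ?_, mul_mem hh hh', by rw [cv_mul D χ hh hh', hh1, hh1', one_mul], ?_⟩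
      · have h1 := len_wordW_le A'
        rw [hW] at h1 ⊢
        omega
      · rw [hW, wordW_append, wordW_singleton, hw]
      · rw [hpw, e', mul_assoc]

theorem cv_unique {L L' : List D.P.S} (hL : ∀ s ∈ L, s ∈ K) (hL' : ∀ s ∈ L', s ∈ K) {h h' : G}
    (hh : h ∈ D.H) (hh' : h' ∈ D.H) (e : h * pw D L = h' * pw D L') : cv χ h = cv χ h' := by
  have hrev : ∀ s ∈ L'.reverse, s ∈ K := fun s hs => hL' s (List.mem_reverse.1 hs)
  have trivialWord : ∀ M : List D.P.S, (∀ s ∈ M, s ∈ K) → wordW M = 1 →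
      pw D M ∈ D.H ∧ cv χ (pw D M) = 1 := by
    intro M hM h1
    obtain ⟨A, a, -, hred, hw, ha, ha1, e'⟩ := reduce_word D hK M hM
    rw [hw, h1, len_one] at hred
    rw [List.length_eq_zero_iff.1 hred.symm] at e'
    rw [show pw D M = a by rw [e']; simp [pw]]
    exact ⟨ha, ha1⟩
  obtain ⟨b, hbH, hb1, hbe⟩ : ∃ b, b ∈ D.H ∧ cv χ b = 1 ∧ b = pw D (L' ++ L'.reverse) :=
    ⟨_, (trivialWord _ (fun s hs => (List.mem_append.1 hs).elim (hL' s) (hrev s))
      (by rw [wordW_append, wordW_reverse, mul_inv_cancel])).1,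
      (trivialWord _ (fun s hs => (List.mem_append.1 hs).elim (hL' s) (hrev s))
      (by rw [wordW_append, wordW_reverse, mul_inv_cancel])).2, rfl⟩
  have hw : wordW L = wordW L' := by
    rw [← mkW_pw D L, ← mkW_pw D L', mkW_eq_iff]
    rw [show (pw D L)⁻¹ * pw D L' = (pw D L)⁻¹ * (h'⁻¹ * h) * pw D L by
      calc (pw D L)⁻¹ * pw D L' = (pw D L)⁻¹ * h'⁻¹ * (h' * pw D L') := by group
        _ = _ := by rw [← e]; group]
    exact H_le_B D (H_conj_N' D (pw_mem D L) (mul_mem (inv_mem hh') hh))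
  obtain ⟨cH, c1⟩ := trivialWord (L ++ L'.reverse)
    (fun s hs => (List.mem_append.1 hs).elim (hL s) (hrev s))
    (by rw [wordW_append, wordW_reverse, hw, mul_inv_cancel])
  have e2 : h * pw D (L ++ L'.reverse) = h' * b := by
    rw [hbe, pw_append, pw_append, ← mul_assoc, e, mul_assoc]
  have := congrArg (cv χ) e2
  rwa [cv_mul D χ hh cH, cv_mul D χ hh' hbH, c1, hb1, mul_one, mul_one] at this

end Word

/-- A simple module with the given weight. -/
theorem exists_module {χ : D.H →* kˣ} {J : Set D.P.S} (hJ : J ⊆ triv D χ) :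
    ∃ (n : ℕ) (σ : Representation k G (Fin n → k)) (v : Fin n → k), Simple σ ∧ HasW D σ χ J v := by
  classical
  obtain ⟨n0, hn0, htop⟩ := exists_n0 D
  obtain ⟨K, hKdef⟩ : ∃ K, K = triv D χ \ J := ⟨_, rfl⟩
  have hK : K ⊆ triv D χ := hKdef ▸ Set.sdiff_subset
  let Expr : G → G → List D.P.S → Prop := fun m h L =>
    h ∈ D.H ∧ (∀ s ∈ L, s ∈ K) ∧ m = h * pw D L * n0
  let vN : G → k := fun m => if hm : ∃ q : G × List D.P.S, Expr m q.1 q.2 then cv χ hm.choose.1⁻¹ else 0
  have hvN : ∀ {m h L}, Expr m h L → vN m = cv χ h⁻¹ := by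
    intro m h L hE
    have hex : ∃ q : G × List D.P.S, Expr m q.1 q.2 := ⟨(h, L), hE⟩
    show dite _ _ _ = _
    rw [dif_pos hex]
    obtain ⟨hh', hL', e'⟩ := hex.choose_spec
    rw [cv_inv D χ hh', cv_inv D χ hE.1, cv_unique D hK hL' hE.2.1 hh' hE.1
      (mul_right_cancel (e'.symm.trans hE.2.2))]
  have hvN0 : ∀ {m}, (¬ ∃ h L, Expr m h L) → vN m = 0 := fun {m} hno =>
    dif_neg fun ⟨q, hq⟩ => hno ⟨_, _, hq⟩
  have hdec : ∀ g, ∃ m ∈ D.P.N, ∃ u ∈ D.U, ∃ u' ∈ D.U, g = u * m * u' := fun g => by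
    obtain ⟨u, hu, m, hm, u', hu', e⟩ := exists_decomp D g
    exact ⟨m, hm, u, hu, u', hu', e⟩
  choose mid hmid a ha b hb he using hdec
  let v : G → k := fun g => vN (mid g)
  have hv : ∀ {g u m u'}, u ∈ D.U → m ∈ D.P.N → u' ∈ D.U → g = u * m * u' → v g = vN m := by
    intro g u m u' hu hm hu' e
    show vN (mid g) = vN m
    rw [coset_unique D (ha g) (hb g) hu hu' (hmid g) hm ((he g).symm.trans e)]
  have hvl : Fixed D (reg k G) v := fun u hu => funext fun g => by
    rw [reg_apply]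
    refine hv (mul_mem (inv_mem hu) (ha g)) (hmid g) (hb g) ?_
    calc u⁻¹ * g = u⁻¹ * (a g * mid g * b g) := by rw [← he g]
      _ = _ := by group
  have hvr : RInv D v := fun g u hu => by
    refine hv (ha g) (hmid g) (mul_mem (hb g) hu) ?_
    rw [← mul_assoc, ← he g]
  have hvNmul : ∀ h ∈ D.H, ∀ m, vN (h⁻¹ * m) = cv χ h * vN m := by
    intro h hh m
    by_cases hex : ∃ h' L, Expr m h' L
    · obtain ⟨h', L, h'H, hL, e⟩ := hex
      rw [hvN (m := h⁻¹ * m) (h := h⁻¹ * h') (L := L)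
        ⟨mul_mem (inv_mem hh) h'H, hL, by rw [e]; group⟩, hvN ⟨h'H, hL, e⟩, mul_inv_rev, inv_inv,
        cv_mul D χ (inv_mem h'H) hh, mul_comm]
    · rw [hvN0 hex, hvN0 (m := h⁻¹ * m) ?_, mul_zero]
      rintro ⟨h', L, h'H, hL, e⟩
      exact hex ⟨h * h', L, mul_mem hh h'H, hL, by
        calc m = h * (h⁻¹ * m) := by group
          _ = _ := by rw [e]; group⟩
  have hvw : ∀ h ∈ D.H, reg k G h v = cv χ h • v := fun h hh => funext fun g => by
    rw [reg_apply, Pi.smul_apply, smul_eq_mul]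
    show v (h⁻¹ * g) = cv χ h * vN (mid g)
    rw [hv (g := h⁻¹ * g) (u := h⁻¹ * a g * h) (m := h⁻¹ * mid g) (u' := b g)
      (by simpa using D.H_conj _ (inv_mem hh) _ (ha g)) (mul_mem (inv_mem (H_le_N D hh)) (hmid g)) (hb g)
      (by conv_lhs => rw [he g]
          group), hvNmul h hh]
  have hvne : v ≠ 0 := fun e => by
    have h1 : v n0 = cv χ (1 : G)⁻¹ := by
      rw [hv (one_mem _) hn0 (one_mem _) (by group), hvN (L := []) ⟨one_mem _, by simp, by simp [pw]⟩]
    rw [e, inv_one, cv_one] at h1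
    exact zero_ne_one h1
  have hΩ : ∀ {m} (hm : m ∈ D.P.N), (∃ h L, Expr m h L) ↔ InK K (mkW hm * (mkW hn0)⁻¹) := by
    intro m hm
    constructor
    · rintro ⟨h, L, hh, hL, rfl⟩
      refine ⟨L, hL, ?_⟩
      rw [← mkW_pw D L, ← mkW_inv hn0, ← mkW_mul hm (inv_mem hn0), mkW_eq_iff]
      rw [show (pw D L)⁻¹ * (h * pw D L * n0 * n0⁻¹) = (pw D L)⁻¹ * h * pw D L by group]
      exact H_le_B D (H_conj_N' D (pw_mem D L) hh)
    · rintro ⟨L, hL, e⟩
      have hN : m * n0⁻¹ ∈ D.P.N := mul_mem hm (inv_mem hn0)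
      rw [← mkW_pw D L, ← mkW_inv hn0, ← mkW_mul hm (inv_mem hn0), mkW_eq_iff] at e
      refine ⟨m * n0⁻¹ * (pw D L)⁻¹, L, ?_, hL, by group⟩
      have h1 := H_conj_N D (pw_mem D L) (mem_H D e (mul_mem (inv_mem (pw_mem D L)) hN))
      rwa [show pw D L * ((pw D L)⁻¹ * (m * n0⁻¹)) * (pw D L)⁻¹ = m * n0⁻¹ * (pw D L)⁻¹ by group] at h1
  have hT : ∀ s, top D (reg k G) s v = lam D J s • v := by
    intro s
    refine sub_eq_zero.1 (fun_ext D (fun u hu => ?_) (fun g u hu => ?_) fun m hm => ?_)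
    · rw [map_sub, map_smul, top_fixed D (reg k G) hvl s u hu, hvl u hu]
    · simp only [Pi.sub_apply, Pi.smul_apply]
      rw [top_rinv D hvr s g u hu, hvr g u hu]
    rw [Pi.sub_apply, Pi.smul_apply, smul_eq_mul, sub_eq_zero]
    obtain ⟨hup, hdown⟩ := top_value D hvl hvr hvw s hm
    have hvm : v m = vN m := hv (one_mem _) hm (one_mem _) (by group)
    have hsm : (s : G)⁻¹ * m ∈ D.P.N := mul_mem (inv_mem (D.P.subset s.2)) hm
    have hvsm : v ((s : G)⁻¹ * m) = vN ((s : G)⁻¹ * m) := hv (one_mem _) hsm (one_mem _) (by group)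
    have hsme : mkW hsm = gen s * mkW hm := by
      rw [mkW_mul (inv_mem (D.P.subset s.2)) hm, mkW_inv (D.P.subset s.2)]
      show (gen s)⁻¹ * mkW hm = _
      rw [gen_inv]
    have hall : ∀ w : W D.P, InK (Set.univ : Set D.P.S) w := fun w => by
      obtain ⟨L, hL⟩ := exists_word w
      exact ⟨L, fun _ _ => trivial, hL⟩
    have hlenΩ : ∀ w : W D.P, len w + len (w * (mkW hn0)⁻¹) = len (mkW hn0) := fun w => by
      have := top_add htop (hall w⁻¹)
      rw [len_inv] at this
      rw [← len_inv (w * (mkW hn0)⁻¹), mul_inv_rev, inv_inv]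
      omega
    by_cases hsK : s ∈ K
    · have hst : s ∈ triv D χ := hK hsK
      have hlam : lam D J s = 0 := by
        rw [lam, if_neg]; rw [hKdef] at hsK; exact hsK.2
      rw [hlam, zero_mul]
      rcases len_gen_mul_cases (mkW hm) s with h | h
      · exact hup (by omega)
      rw [hdown (by omega), eps, if_pos hst, hvsm, hvm]
      by_cases hex : ∃ h' L, Expr m h' L
      · obtain ⟨h', L, h'H, hL, e⟩ := hex
        have hs2 : (s : G) * s ∈ D.H := D.Hs_le s (D.sq s)
        have hsL : ∀ x ∈ s :: L, x ∈ K := fun x hx => by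
          rcases List.mem_cons.1 hx with rfl | hx'
          · exact hsK
          · exact hL x hx'
        rw [hvN (m := (s : G)⁻¹ * m) (h := (s : G)⁻¹ * h' * s * ((s : G) * s)⁻¹) (L := s :: L)
          ⟨mul_mem (H_conj_N' D (D.P.subset s.2) h'H) (inv_mem hs2), hsL,
            by rw [e, pw_cons]; group⟩, hvN ⟨h'H, hL, e⟩, mul_inv_rev, inv_inv,
          cv_mul D χ hs2 (inv_mem (H_conj_N' D (D.P.subset s.2) h'H)), hst _ (D.sq s), one_mul]
        have h3 := cv_conj D χ hst (inv_mem (H_conj_N' D (D.P.subset s.2) h'H))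
        rw [show (s : G) * ((s : G)⁻¹ * h' * s)⁻¹ * (s : G)⁻¹ = h'⁻¹ by group] at h3
        rw [← h3]; ring
      · rw [hvN0 hex, hvN0 ?_]
        · ring
        intro hex'
        refine hex ((hΩ hm).2 ?_)
        have := inK_mul (inK_gen hsK) ((hΩ hsm).1 hex')
        rwa [hsme, mul_assoc, gen_mul_cancel] at this
    · have hlam : lam D J s = eps D χ s := by
        rw [lam, eps]
        by_cases h : s ∈ J
        · rw [if_pos h, if_pos (hJ h)]
        · rw [if_neg h, if_neg fun h' => hsK (hKdef ▸ ⟨h', h⟩)]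
      rw [hlam]
      have hnot : ∀ w : W D.P, InK K w → InK K (gen s * w) → False := fun w h1 h2 => by
        have := inK_mul h2 (inK_inv h1)
        rw [mul_inv_cancel_right] at this
        exact hsK (gen_inK D this)
      have hup' : ∀ w : W D.P, InK K w → len w < len (gen s * w) := fun w h1 => by
        rcases len_gen_mul_cases w s with h | h
        · omega
        exfalso
        obtain ⟨L, hL, hLw, hlen⟩ := inK_reduced h1
        obtain ⟨i, -, he'⟩ := exchange (L := L) (s := s) (by rw [hLw, hlen]) (by rw [hLw]; omega)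
        rw [hLw] at he'
        exact hnot w h1 ⟨L.eraseIdx i, fun x hx => hL x (List.eraseIdx_subset hx), he'.symm⟩
      have h1 := hlenΩ (mkW hm)
      have h2 := hlenΩ (gen s * mkW hm)
      rw [mul_assoc] at h2
      by_cases hex : ∃ h' L, Expr m h' L
      · have hi := (hΩ hm).1 hex
        have h3 := hup' _ hi
        rw [hdown (by omega), hvsm, hvN0 ?_, zero_add]
        intro hex'
        have h4 := (hΩ hsm).1 hex'
        rw [hsme, mul_assoc] at h4
        exact hnot _ hi h4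
      · rw [hvm, hvN0 hex, mul_zero]
        by_cases hex' : ∃ h' L, Expr ((s : G)⁻¹ * m) h' L
        · have hi := (hΩ hsm).1 hex'
          rw [hsme, mul_assoc] at hi
          have h3 := hup' _ hi
          rw [gen_mul_cancel] at h3
          exact hup (by omega)
        · rcases len_gen_mul_cases (mkW hm) s with h | h
          · exact hup (by omega)
          · rw [hdown (by omega), hvsm, hvN0 hex', hvm, hvN0 hex]; ring
  have hvW : HasW D (reg k G) χ J v := ⟨hvne, hvl, hvw, hT⟩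
  -- a simple quotient
  haveI : Module.Finite k (G → k) := Module.Finite.pi
  obtain ⟨S, ⟨hSinv, hSv⟩, hSmax⟩ := wellFounded_gt.has_min
    {S : Submodule k (G → k) | (∀ g, ∀ x ∈ S, reg k G g x ∈ S) ∧ v ∉ S}
    ⟨⊥, fun g x hx => by rw [(Submodule.mem_bot k).1 hx, map_zero]; exact zero_mem _,
      fun h => hvne ((Submodule.mem_bot k).1 h)⟩
  let τ : Representation k G ((G → k) ⧸ S) :=
    { toFun := fun g => S.mapQ S (reg k G g) fun x hx => hSinv g x hx
      map_one' := Submodule.linearMap_qext _ (LinearMap.ext fun x => by simp)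
      map_mul' := fun g g' => Submodule.linearMap_qext _ (LinearMap.ext fun x => by simp [map_mul]) }
  have hτ : ∀ g x, τ g (S.mkQ x) = S.mkQ (reg k G g x) := fun g x => rfl
  have hqv : S.mkQ v ≠ 0 := by rwa [Submodule.mkQ_apply, Ne, Submodule.Quotient.mk_eq_zero]
  have hqW : HasW D τ χ J (S.mkQ v) :=
    map_hasW D (reg k G) τ S.mkQ (fun g x => (hτ g x).symm) hvW hqv
  obtain ⟨X', hX'⟩ : ∃ X', X' = Submodule.span k (Set.range fun g : G => τ g (S.mkQ v)) := ⟨_, rfl⟩
  have hX'inv : ∀ g, ∀ x ∈ X', τ g x ∈ X' := fun g x hx => by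
    rw [hX'] at hx ⊢
    induction hx using Submodule.span_induction with
    | mem y hy => obtain ⟨g', rfl⟩ := hy; exact Submodule.subset_span ⟨g * g', by simp⟩
    | zero => simp
    | add x y _ _ ih ih' => rw [map_add]; exact add_mem ih ih'
    | smul c x _ ih => rw [map_smul]; exact Submodule.smul_mem _ c ih
  have hvX' : S.mkQ v ∈ X' := hX' ▸ Submodule.subset_span ⟨1, by simp⟩
  haveI : Module.Finite k X' := inferInstance
  let e : X' ≃ₗ[k] (Fin (Module.finrank k X') → k) := (Module.finBasis k X').equivFun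
  let σf : G → Module.End k (Fin (Module.finrank k X') → k) := fun g =>
    e.toLinearMap ∘ₗ (τ g).restrict (hX'inv g) ∘ₗ e.symm.toLinearMap
  have σ1 : σf 1 = 1 := LinearMap.ext fun x => by
    show e ((τ 1).restrict (hX'inv 1) (e.symm x)) = x
    conv_rhs => rw [← e.apply_symm_apply x]
    congr 1
    exact Subtype.ext (by show τ 1 (e.symm x : (G → k) ⧸ S) = _; rw [map_one]; rfl)
  have σ2 : ∀ g g', σf (g * g') = σf g * σf g' := fun g g' => LinearMap.ext fun x => by
    show e _ = e ((τ g).restrict (hX'inv g) (e.symm (e ((τ g').restrict (hX'inv g') (e.symm x)))))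
    rw [LinearEquiv.symm_apply_apply]
    congr 1
    exact Subtype.ext (act_mul τ g g' _)
  let σ : Representation k G (Fin (Module.finrank k X') → k) := MonoidHom.mk ⟨σf, σ1⟩ σ2
  let emb : (Fin (Module.finrank k X') → k) →ₗ[k] (G → k) ⧸ S := X'.subtype ∘ₗ e.symm.toLinearMap
  have hemb : ∀ g x, emb (σ g x) = τ g (emb x) := fun g x => by
    show ((e.symm (e ((τ g).restrict (hX'inv g) (e.symm x))) : X') : (G → k) ⧸ S) = _
    rw [LinearEquiv.symm_apply_apply]
    rfl
  have hinj : Function.Injective emb := Subtype.val_injective.comp e.symm.injective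
  have hev : emb (e ⟨S.mkQ v, hvX'⟩) = S.mkQ v := by simp [emb]
  refine ⟨_, σ, e ⟨S.mkQ v, hvX'⟩, ⟨?_, ?_⟩, fun h => hqv ?_, fun u hu => ?_, fun h hh => ?_, fun s => ?_⟩
  · exact nontrivial_of_ne (e ⟨S.mkQ v, hvX'⟩) 0 fun h => hqv (by rw [← hev, h, map_zero])
  · intro T hT'
    refine or_iff_not_imp_left.2 fun hT0 => ?_
    obtain ⟨W', hW'⟩ : ∃ W' : Submodule k (G → k), W' = (T.map emb).comap S.mkQ := ⟨_, rfl⟩
    have hW'inv : ∀ g, ∀ x ∈ W', reg k G g x ∈ W' := fun g x hx => by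
      rw [hW', Submodule.mem_comap] at hx ⊢
      obtain ⟨y, hy, e'⟩ := hx
      exact ⟨σ g y, hT' g y hy, by rw [hemb, e', hτ]⟩
    have hgt : S < W' := by
      refine lt_of_le_of_ne (fun x hx => ?_) fun e' => ?_
      · rw [hW', Submodule.mem_comap, Submodule.mkQ_apply, (Submodule.Quotient.mk_eq_zero S).2 hx]
        exact zero_mem _
      · obtain ⟨t, ht, ht0⟩ := T.ne_bot_iff.1 hT0
        obtain ⟨x, hx⟩ := S.mkQ_surjective (emb t)
        have : x ∈ W' := by rw [hW', Submodule.mem_comap, hx]; exact Submodule.mem_map_of_mem ht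
        rw [← e'] at this
        refine ht0 (hinj ?_)
        rw [map_zero, ← hx, Submodule.mkQ_apply, (Submodule.Quotient.mk_eq_zero S).2 this]
    have hvW' : v ∈ W' := by
      by_contra h
      exact hSmax W' ⟨hW'inv, h⟩ hgt
    rw [hW', Submodule.mem_comap] at hvW'
    have hXT : X' ≤ T.map emb := by
      refine (le_of_eq hX').trans (Submodule.span_le.2 ?_)
      rintro _ ⟨g, rfl⟩
      obtain ⟨y, hy, e'⟩ := hvW'
      exact ⟨σ g y, hT' g y hy, by rw [hemb, e']⟩
    refine Submodule.eq_top_iff'.2 fun x => ?_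
    obtain ⟨y, hy, e'⟩ := hXT (show emb x ∈ X' from (e.symm x).2)
    exact hinj e' ▸ hy
  · rw [← hev, h, map_zero]
  · exact hinj (by rw [hemb, hev, hqW.2.1 u hu])
  · exact hinj (by rw [hemb, map_smul, hev, hqW.2.2.1 h hh])
  · exact hinj (by rw [map_top D σ τ emb hemb, map_smul, hev, hqW.2.2.2 s])

/-- The classes of `p`-regular elements are as numerous as the weights. -/
theorem card_regular_classes :
    Nat.card {c : ConjClasses G // ∃ g : G, ConjClasses.mk g = c ∧ (orderOf g).Coprime p} =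
      Nat.card {w : (D.H →* kˣ) × Set D.P.S // w.2 ⊆ triv D w.1} := by
  classical
  obtain ⟨m, d, ρ, hm, hs, hdist, hcompl⟩ := exists_simples (k := k) p G
  rw [← hm]
  choose χ J v hJ hv using fun i => exists_weight D (ρ i) (hs i)
  let Φ : Fin m → {w : (D.H →* kˣ) × Set D.P.S // w.2 ⊆ triv D w.1} := fun i => ⟨(χ i, J i), hJ i⟩
  have hbij : Function.Bijective Φ := by
    constructor
    · intro i j hij
      have h1 : χ i = χ j := congrArg (fun w => w.1.1) hij
      have h2 : J i = J j := congrArg (fun w => w.1.2) hij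
      exact hdist i j (iso_of_weight D (ρ i) (ρ j) (hs i) (hs j) (hv i) (h1 ▸ h2 ▸ hv j))
    · rintro ⟨⟨χ', J'⟩, hJ'⟩
      obtain ⟨n, σ, v', hσ, hv'⟩ := exists_module D hJ'
      obtain ⟨i, e, he⟩ := hcompl n σ hσ
      refine ⟨i, Subtype.ext ?_⟩
      have h1 := map_hasW D (ρ i) σ e.toLinearMap he (hv i) (fun h => (hv i).1 (e.injective (h.trans (map_zero e).symm)))
      obtain ⟨a, b⟩ := weight_unique D σ hσ h1 hv'
      exact Prod.ext a b
  rw [← Nat.card_congr (Equiv.ofBijective Φ hbij), Nat.card_fin]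

end Cfsg.Agent.SimpleFacts.ModularWeightCount
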