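import Cfsg.Agent.SimpleFacts.BNUnipotentCount
import Cfsg.Agent.SimpleFacts.HeckeFamily
import Cfsg.Agent.SimpleFacts.ModularClassCount
import Cfsg.Agent.BlocksChars.TIFixed

/-!
Curtis and Richen's classification of the simple modules in the defining characteristic of a finite group
with a split (B, N)-pair: a simple module has one line fixed by `U`, and the isomorphism types correspond
to the pairs of a character of `H` and a set of simple reflections on whose rank-one torus it is trivial.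
-/

set_option autoImplicit false
set_option linter.style.haveILetI false
set_option linter.unusedSectionVars false
set_option maxHeartbeats 1000000

namespace Cfsg.Agent.SimpleFacts.ModularWeights

open Cfsg.Agent.BN.Basic Cfsg.Agent.SimpleFacts.BNReps Cfsg.Agent.SimpleFacts.BNUnipotentCount
  Cfsg.Agent.SimpleFacts.HeckeFamily Cfsg.Agent.SimpleFacts.ModularClassCount

universe u

open Classical in
/-- The value of a character of a subgroup, zero outside. -/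
noncomputable def cv {G : Type*} [Group G] {H : Subgroup G} {k : Type*} [Field k]
    (χ : H →* kˣ) (g : G) : k :=
  if h : g ∈ H then (χ ⟨g, h⟩ : k) else 0

/-- A split (B, N)-pair of characteristic `p`. -/
structure Datum (G : Type u) [Group G] (k : Type) [Field k] (p : ℕ) where
  P : Cfsg.BNPair G
  U : Subgroup G
  H : Subgroup G
  X : P.S → Subgroup G
  Hs : P.S → Subgroup G
  U_p : IsPGroup p U
  U_le : U ≤ P.B
  split : ∀ b ∈ P.B, ∃ u ∈ U, ∃ h ∈ H, b = u * h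
  H_eq : H = P.B ⊓ P.N
  H_comm : ∀ a ∈ H, ∀ b ∈ H, a * b = b * a
  H_cop : ∀ h ∈ H, (orderOf h).Coprime p
  H_conj : ∀ h ∈ H, ∀ u ∈ U, h * u * h⁻¹ ∈ U
  U_inf : U ⊓ P.N = ⊥
  X_le : ∀ s, X s ≤ U
  X_ne : ∀ s, X s ≠ ⊥
  X_conj : ∀ s, ∀ h ∈ H, ∀ x ∈ X s, h * x * h⁻¹ ∈ X s
  absorb : ∀ s : P.S, ∀ u ∈ U, ∃ x ∈ X s, ∃ u' ∈ U, u * (s : G) = x * s * u'
  Hs_le : ∀ s, Hs s ≤ H
  sq : ∀ s : P.S, (s : G) * s ∈ Hs s
  comm_mem : ∀ s : P.S, ∀ h ∈ H, (s : G) * h * (s : G)⁻¹ * h⁻¹ ∈ Hs s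
  rank_one : ∀ s : P.S, ∃ η : G → G,
    (∀ y ∈ X s, y ≠ 1 → η y ∈ Hs s ∧ ∃ σ ∈ X s, ∃ b ∈ X s, (s : G) * y * s = σ * η y * s * b) ∧
    ∀ χ : H →* kˣ, (∃ h, h ∈ Hs s ∧ cv χ h ≠ 1) → ∀ T : Finset G,
      (∀ y, y ∈ T ↔ y ∈ X s ∧ y ≠ 1) → ∑ y ∈ T, cv χ (η y) = 0
  up_conj : ∀ (s : P.S) (m : G) (hm : m ∈ P.N), len (mkW hm) < len (gen s * mkW hm) →
    ∀ x ∈ X s, m⁻¹ * x * m ∈ U
  move : ∀ (s v : P.S) (m : G) (hm : m ∈ P.N), len (mkW hm) < len (gen s * mkW hm) →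
    gen s * mkW hm = mkW hm * gen v →
    (∀ x ∈ X v, m * x * m⁻¹ ∈ X s) ∧ ∃ h ∈ Hs s, m * v * m⁻¹ = s * h

variable {G : Type u} [Group G] [Finite G] {k : Type} [Field k] {p : ℕ} [hp : Fact p.Prime] [CharP k p]
  (D : Datum G k p)

/-! ### The group -/

theorem H_le_N : D.H ≤ D.P.N := D.H_eq ▸ inf_le_right

theorem H_le_B : D.H ≤ D.P.B := D.H_eq ▸ inf_le_left

theorem mem_H {m : G} (hB : m ∈ D.P.B) (hN : m ∈ D.P.N) : m ∈ D.H := D.H_eq ▸ ⟨hB, hN⟩

theorem H_conj_N {m h : G} (hm : m ∈ D.P.N) (hh : h ∈ D.H) : m * h * m⁻¹ ∈ D.H := by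
  rw [D.H_eq] at hh
  exact mem_H D (D.P.conj_mem m hm h hh) (mul_mem (mul_mem hm hh.2) (inv_mem hm))

theorem H_conj_N' {m h : G} (hm : m ∈ D.P.N) (hh : h ∈ D.H) : m⁻¹ * h * m ∈ D.H := by
  simpa using H_conj_N D (inv_mem hm) hh

theorem cv_eq (χ : D.H →* kˣ) {h : G} (hh : h ∈ D.H) : cv χ h = (χ ⟨h, hh⟩ : k) := dif_pos hh

theorem cv_mul (χ : D.H →* kˣ) {a b : G} (ha : a ∈ D.H) (hb : b ∈ D.H) :
    cv χ (a * b) = cv χ a * cv χ b := by
  rw [cv_eq D χ (mul_mem ha hb), cv_eq D χ ha, cv_eq D χ hb, ← Units.val_mul, ← map_mul]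
  rfl

theorem cv_one (χ : D.H →* kˣ) : cv χ (1 : G) = 1 := by
  rw [cv_eq D χ (one_mem _)]
  exact congrArg Units.val (map_one χ)

theorem cv_ne (χ : D.H →* kˣ) {a : G} (ha : a ∈ D.H) : cv χ a ≠ 0 := by
  rw [cv_eq D χ ha]; exact Units.ne_zero _

theorem cv_inv (χ : D.H →* kˣ) {a : G} (ha : a ∈ D.H) : cv χ a⁻¹ = (cv χ a)⁻¹ := by
  refine eq_inv_of_mul_eq_one_left ?_
  rw [← cv_mul D χ (inv_mem ha) ha, inv_mul_cancel, cv_one]

/-- The simple reflections on whose torus the character is trivial. -/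
def triv (χ : D.H →* kˣ) : Set D.P.S := {s | ∀ h ∈ D.Hs s, cv χ h = 1}

theorem cv_conj (χ : D.H →* kˣ) {s : D.P.S} (hs : s ∈ triv D χ) {h : G} (hh : h ∈ D.H) :
    cv χ ((s : G) * h * (s : G)⁻¹) = cv χ h := by
  have h1 := hs _ (D.comm_mem s h hh)
  calc cv χ ((s : G) * h * (s : G)⁻¹) = cv χ ((s : G) * h * (s : G)⁻¹ * h⁻¹ * h) := by group
    _ = _ := by rw [cv_mul D χ (D.Hs_le s (D.comm_mem s h hh)) hh, h1, one_mul]

/-- An element of a double coset of `U` in `N` is determined by the double coset. -/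
theorem coset_unique {u u' v v' m m' : G} (hu : u ∈ D.U) (hu' : u' ∈ D.U) (hv : v ∈ D.U)
    (hv' : v' ∈ D.U) (hm : m ∈ D.P.N) (hm' : m' ∈ D.P.N) (h : u * m * u' = v * m' * v') : m = m' := by
  have hc : mkW hm = mkW hm' := cell_inj (x := u * m * u')
    (mul_right_cell (mul_left_cell (D.U_le hu) (mem_cell_mkW hm)) (D.U_le hu'))
    (h ▸ mul_right_cell (mul_left_cell (D.U_le hv) (mem_cell_mkW hm')) (D.U_le hv'))
  have hh : m⁻¹ * m' ∈ D.H := mem_H D ((mkW_eq_iff hm hm').1 hc) (mul_mem (inv_mem hm) hm')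
  obtain ⟨a, ha⟩ : ∃ a, a = v⁻¹ * u := ⟨_, rfl⟩
  obtain ⟨c, hc'⟩ : ∃ c, c = v' * u'⁻¹ := ⟨_, rfl⟩
  obtain ⟨t, ht⟩ : ∃ t, t = m⁻¹ * m' := ⟨_, rfl⟩
  have htH : t ∈ D.H := ht ▸ hh
  have hcU : c ∈ D.U := hc' ▸ mul_mem hv' (inv_mem hu')
  have e : m⁻¹ * a * m = t * c := by
    rw [ha, hc', ht]
    calc m⁻¹ * (v⁻¹ * u) * m = m⁻¹ * v⁻¹ * (u * m * u') * u'⁻¹ := by group
      _ = _ := by rw [h]; group
  obtain ⟨j, hj⟩ := D.U_p ⟨a, ha ▸ mul_mem (inv_mem hv) hu⟩
  have hja : a ^ p ^ j = 1 := congrArg Subtype.val hj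
  have hpow : ∀ i : ℕ, ∃ c' ∈ D.U, (t * c) ^ i = t ^ i * c' := by
    intro i
    induction i with
    | zero => exact ⟨1, one_mem _, by simp⟩
    | succ i ih =>
      obtain ⟨c', hc'', e'⟩ := ih
      refine ⟨t⁻¹ * c' * t * c, mul_mem ?_ hcU, by rw [pow_succ, pow_succ, e']; group⟩
      simpa using D.H_conj _ (inv_mem htH) c' hc''
  obtain ⟨c', hc'U, e'⟩ := hpow (p ^ j)
  rw [← e, show (m⁻¹ * a * m) ^ p ^ j = m⁻¹ * a ^ p ^ j * m by
    rw [show m⁻¹ * a * m = m⁻¹ * a * (m⁻¹)⁻¹ by rw [inv_inv], conj_pow, inv_inv], hja, mul_one,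
    inv_mul_cancel] at e'
  have h1 : t ^ p ^ j ∈ D.U ⊓ D.P.N :=
    Subgroup.mem_inf.2 ⟨by rw [eq_inv_of_mul_eq_one_left e'.symm]; exact inv_mem hc'U, H_le_N D (pow_mem htH _)⟩
  rw [D.U_inf, Subgroup.mem_bot] at h1
  have h2 : orderOf t = 1 :=
    Nat.Coprime.eq_one_of_dvd ((D.H_cop t htH).pow_right j) (orderOf_dvd_of_pow_eq_one h1)
  rw [orderOf_eq_one_iff, ht, inv_mul_eq_one] at h2
  exact h2

theorem exists_decomp (g : G) : ∃ u ∈ D.U, ∃ m ∈ D.P.N, ∃ u' ∈ D.U, g = u * m * u' := by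
  obtain ⟨w, hw⟩ := bruhat (P := D.P) g
  obtain ⟨n, hn, rfl⟩ := exists_mkW w
  obtain ⟨b, hb, b', hb', rfl⟩ := mem_dc.1 (cell_mkW hn ▸ hw)
  obtain ⟨u, hu, h, hh, rfl⟩ := D.split b hb
  obtain ⟨u', hu', h', hh', rfl⟩ := D.split b' hb'
  refine ⟨u, hu, h * n * h', mul_mem (mul_mem (H_le_N D hh) hn) (H_le_N D hh'), h'⁻¹ * u' * h', ?_, by group⟩
  simpa using D.H_conj _ (inv_mem hh') u' hu'

theorem X_inf (s : D.P.S) {x : G} (hx : x ∈ D.X s) (h : (s : G)⁻¹ * x * s ∈ D.U) : x = 1 := by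
  by_contra hne
  obtain ⟨η, hη, -⟩ := D.rank_one s
  obtain ⟨hηy, σ, hσ, b, hb, e⟩ := hη x hx hne
  have h1 : (s : G) * x * s ∈ cell (1 : W D.P) := by
    rw [cell_one, show (s : G) * x * s = (s : G) * s * ((s : G)⁻¹ * x * s) by group]
    exact mul_mem (D.P.sq_mem s s.2) (D.U_le h)
  have h2 : (s : G) * x * s ∈ cell (gen s) := by
    rw [e]
    exact mul_right_cell (mul_left_cell (mul_mem (D.U_le (D.X_le s hσ)) (H_le_B D (D.Hs_le s hηy)))
      (mem_cell_gen s)) (D.U_le (D.X_le s hb))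
  exact gen_ne_one s (cell_inj h1 h2).symm

theorem gen_inK {K : Set D.P.S} {s : D.P.S} (h : InK K (gen s)) : s ∈ K := by
  obtain ⟨L, hL, hw, hlen⟩ := inK_reduced h
  have h1 : len (gen s) ≤ 1 := by simpa using len_wordW_le [s]
  have h0 : len (gen s) ≠ 0 := fun h => gen_ne_one s (eq_one_of_len_eq_zero h)
  match L, hlen with
  | [t], _ =>
    rw [wordW_singleton] at hw
    exact gen_injective hw ▸ hL t (List.mem_singleton_self t)
  | [], h => simp at h; omega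
  | _ :: _ :: _, h => simp at h; omega

/-- A representative of the longest element. -/
theorem exists_n0 : ∃ (n : G) (hn : n ∈ D.P.N), IsTopIn Set.univ (mkW hn) := by
  obtain ⟨u, hu⟩ := exists_topIn (P := D.P) (Set.univ : Set D.P.S)
  obtain ⟨n, hn, rfl⟩ := exists_mkW u
  exact ⟨n, hn, hu⟩

theorem top_left {n0 : G} {hn0 : n0 ∈ D.P.N} (htop : IsTopIn Set.univ (mkW hn0)) (s : D.P.S) :
    len (gen s * mkW hn0) < len (mkW hn0) := by
  have := (topIn_inv htop).2 s trivial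
  rwa [len_mul_gen, inv_inv, len_inv] at this

theorem top_partner {n0 : G} {hn0 : n0 ∈ D.P.N} (htop : IsTopIn Set.univ (mkW hn0)) (s : D.P.S) :
    ∃ v : D.P.S, gen s * (gen s * mkW hn0) = gen s * mkW hn0 * gen v := by
  have hd := top_left D htop s
  obtain ⟨w, hw⟩ : ∃ w, w = gen s * mkW hn0 := ⟨_, rfl⟩
  have hall : ∀ v : W D.P, InK (Set.univ : Set D.P.S) v := fun v => by
    obtain ⟨L, hL⟩ := exists_word v
    exact ⟨L, fun _ _ => trivial, hL⟩
  rw [← hw] at hd ⊢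
  obtain ⟨v, hv⟩ : ∃ v : D.P.S, len w < len (w * gen v) := by
    by_contra hno
    push Not at hno
    have hwt : IsTopIn Set.univ w := ⟨hall w, fun v _ => by
      rcases len_mul_gen_cases w v with h | h
      · have := hno v; omega
      · omega⟩
    rw [topIn_unique hwt htop] at hd
    omega
  refine ⟨v, ?_⟩
  have hwv : w * gen v = mkW hn0 := by
    refine topIn_unique ⟨hall _, fun t _ => ?_⟩ htop
    have h1 := top_add htop (hall ((mkW hn0)⁻¹ * (w * gen v * gen t)))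
    rw [mul_inv_cancel_left] at h1
    have h2 := len_gen_mul_cases (mkW hn0) s
    rw [← hw] at h2
    rcases len_mul_gen_cases (w * gen v) t with h | h
    · rcases len_mul_gen_cases w v with h' | h' <;> omega
    · omega
  rw [hwv, hw, gen_mul_cancel]

/-! ### Representations -/

section Rep

variable {V : Type*} [AddCommGroup V] [Module k V] (ρ : Representation k G V)

/-- Fixed by `U`. -/
def Fixed (v : V) : Prop := ∀ u ∈ D.U, ρ u v = v

open Classical in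
/-- The finite set underlying `X s`. -/
noncomputable def XF (s : D.P.S) : Finset G :=
  haveI := Fintype.ofFinite G
  Finset.univ.filter (· ∈ D.X s)

theorem mem_XF {s : D.P.S} {y : G} : y ∈ XF D s ↔ y ∈ D.X s := by simp [XF]

/-- The operator of a simple reflection. -/
noncomputable def top (s : D.P.S) (v : V) : V := ∑ y ∈ XF D s, ρ (y * s) v

/-- The scalars of the operators. -/
noncomputable def lam (J : Set D.P.S) (s : D.P.S) : k := by
  classical exact if s ∈ J then -1 else 0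

/-- A weight vector. -/
def HasW (χ : D.H →* kˣ) (J : Set D.P.S) (v : V) : Prop :=
  v ≠ 0 ∧ Fixed D ρ v ∧ (∀ h ∈ D.H, ρ h v = cv χ h • v) ∧ ∀ s, top D ρ s v = lam D J s • v

theorem act_mul (a b : G) (v : V) : ρ (a * b) v = ρ a (ρ b v) := by rw [map_mul]; rfl

theorem top_fixed {v : V} (hv : Fixed D ρ v) (s : D.P.S) : Fixed D ρ (top D ρ s v) := by
  classical
  intro u hu
  rw [top, map_sum]
  have hsp : ∀ y ∈ XF D s, ∃ x, x ∈ XF D s ∧ ∃ u' ∈ D.U, u * y * (s : G) = x * s * u' := by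
    intro y hy
    obtain ⟨x, hx, u', hu', e⟩ := D.absorb s (u * y) (mul_mem hu (D.X_le s ((mem_XF D).1 hy)))
    exact ⟨x, (mem_XF D).2 hx, u', hu', e⟩
  choose f hf u' hu' hfe using hsp
  have hinj : ∀ a ha b hb, f a ha = f b hb → a = b := by
    intro a ha b hb e
    have h1 := hfe a ha
    have h2 := hfe b hb
    rw [e] at h1
    have h3 : (s : G)⁻¹ * (b⁻¹ * a) * s ∈ D.U := by
      have : (s : G)⁻¹ * (b⁻¹ * a) * s = (u' b hb)⁻¹ * u' a ha := by
        calc (s : G)⁻¹ * (b⁻¹ * a) * s = (u * b * s)⁻¹ * (u * a * s) := by group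
          _ = _ := by rw [h1, h2]; group
      rw [this]; exact mul_mem (inv_mem (hu' b hb)) (hu' a ha)
    exact (inv_mul_eq_one.1 (X_inf D s (mul_mem (inv_mem ((mem_XF D).1 hb)) ((mem_XF D).1 ha)) h3)).symm
  refine Finset.sum_bij f hf hinj (fun b hb => ?_) fun a ha => ?_
  · exact (Finset.surj_on_of_inj_on_of_card_le f hf (fun a b ha hb => hinj a ha b hb) le_rfl b hb).imp fun a h => ⟨h.1, h.2.symm⟩
  · rw [← act_mul, ← mul_assoc, hfe a ha, act_mul, hv _ (hu' a ha)]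

theorem map_top {W' : Type*} [AddCommGroup W'] [Module k W'] (σ : Representation k G W') (f : V →ₗ[k] W')
    (hf : ∀ g v, f (ρ g v) = σ g (f v)) (s : D.P.S) (v : V) : f (top D ρ s v) = top D σ s (f v) := by
  rw [top, top, map_sum]
  exact Finset.sum_congr rfl fun y _ => hf _ _

theorem map_hasW {W' : Type*} [AddCommGroup W'] [Module k W'] (σ : Representation k G W')
    (f : V →ₗ[k] W') (hf : ∀ g v, f (ρ g v) = σ g (f v)) {χ : D.H →* kˣ} {J : Set D.P.S} {v : V}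
    (hv : HasW D ρ χ J v) (hne : f v ≠ 0) : HasW D σ χ J (f v) :=
  ⟨hne, fun u hu => by rw [← hf, hv.2.1 u hu], fun h hh => by rw [← hf, hv.2.2.1 h hh, map_smul],
    fun s => by rw [← map_top D ρ σ f hf, hv.2.2.2 s, map_smul]⟩

/-- The vectors fixed by `U` in a non-zero representation contain an eigenvector of `H`. -/
theorem exists_eigen [IsAlgClosed k] [FiniteDimensional k V] [Nontrivial V] :
    ∃ v : V, v ≠ 0 ∧ Fixed D ρ v ∧ ∀ h ∈ D.H, ∃ c : k, ρ h v = c • v := by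
  classical
  obtain ⟨a, ha⟩ := exists_ne (0 : V)
  have hchar : ∀ x : V, p • x = 0 := fun x => by
    rw [← Nat.cast_smul_eq_nsmul k, CharP.cast_eq_zero, zero_smul]
  haveI : Module (ZMod p) V := AddCommGroup.zmodModule hchar
  let lin : D.U → Module.End (ZMod p) V := fun u =>
    (ρ (u : G)).toAddMonoidHom.toZModLinearMap p
  have l1 : lin 1 = 1 := by
    refine LinearMap.ext fun x => ?_
    show ρ ((1 : D.U) : G) x = x
    simp
  have l2 : ∀ a b, lin (a * b) = lin a * lin b := fun a b => by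
    refine LinearMap.ext fun x => ?_
    show ρ ((a * b : D.U) : G) x = ρ (a : G) (ρ (b : G) x)
    simp
  let T : Representation (ZMod p) D.U V := MonoidHom.mk ⟨lin, l1⟩ l2
  obtain ⟨b, -, hb0, hb⟩ := Cfsg.Agent.BlocksChars.TIFixed.exists_fixed D.U_p T ha
  let Fx : Submodule k V :=
    { carrier := {v | Fixed D ρ v}
      zero_mem' := fun u _ => map_zero _
      add_mem' := fun {x y} hx hy u hu => by rw [map_add, hx u hu, hy u hu]
      smul_mem' := fun c x hx u hu => by rw [map_smul, hx u hu] }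
  have hFx : Fx ≠ ⊥ := Fx.ne_bot_iff.2 ⟨b, fun u hu => hb ⟨u, hu⟩, hb0⟩
  have hst : ∀ h ∈ D.H, ∀ v ∈ Fx, ρ h v ∈ Fx := fun h hh v hv u hu => by
    rw [← act_mul, show u * h = h * (h⁻¹ * u * h) by group, act_mul,
      hv _ (by simpa using D.H_conj _ (inv_mem hh) u hu)]
  haveI : Fintype D.H := Fintype.ofFinite _
  suffices key : ∀ T : Finset G, (∀ h ∈ T, h ∈ D.H) → ∃ W' : Submodule k V, W' ≤ Fx ∧ W' ≠ ⊥ ∧
      (∀ h ∈ D.H, ∀ w ∈ W', ρ h w ∈ W') ∧ ∀ h ∈ T, ∃ c : k, ∀ w ∈ W', ρ h w = c • w by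
    obtain ⟨W', hle, hne, -, h⟩ := key (Finset.univ.image fun h : D.H => (h : G)) (fun h hh => by
      obtain ⟨x, -, rfl⟩ := Finset.mem_image.1 hh; exact x.2)
    obtain ⟨v, hv, hv0⟩ := W'.ne_bot_iff.1 hne
    refine ⟨v, hv0, hle hv, fun g hg => ?_⟩
    obtain ⟨c, hc⟩ := h g (Finset.mem_image.2 ⟨⟨g, hg⟩, Finset.mem_univ _, rfl⟩)
    exact ⟨c, hc v hv⟩
  intro T
  induction T using Finset.induction_on with
  | empty => exact fun _ => ⟨Fx, le_rfl, hFx, hst, by simp⟩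
  | insert g s _ ih =>
    intro hs
    obtain ⟨W', hle, hne, hst', hsc⟩ := ih fun a ha => hs a (Finset.mem_insert_of_mem ha)
    have hg := hs g (Finset.mem_insert_self g s)
    haveI : Nontrivial W' := Submodule.nontrivial_iff_ne_bot.2 hne
    obtain ⟨c, hc⟩ := Module.End.exists_eigenvalue ((ρ g).restrict (hst' g hg))
    obtain ⟨w, hw⟩ := hc.exists_hasEigenvector
    refine ⟨W' ⊓ Module.End.eigenspace (ρ g) c, inf_le_left.trans hle, ?_, ?_, ?_⟩
    · refine (Submodule.ne_bot_iff _).2 ⟨(w : V), ⟨w.2, ?_⟩, fun e => hw.2 (Subtype.ext e)⟩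
      exact Module.End.mem_eigenspace_iff.2 (congrArg Subtype.val hw.apply_eq_smul)
    · rintro a ha x ⟨hx, hx'⟩
      refine ⟨hst' a ha x hx, Module.End.mem_eigenspace_iff.2 ?_⟩
      rw [← act_mul, D.H_comm g hg a ha, act_mul, Module.End.mem_eigenspace_iff.1 hx', map_smul]
    · intro a ha
      rcases Finset.mem_insert.1 ha with rfl | ha
      · exact ⟨c, fun x hx => Module.End.mem_eigenspace_iff.1 hx.2⟩
      · obtain ⟨d, hd⟩ := hsc a ha
        exact ⟨d, fun x hx => hd x hx.1⟩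

variable {n0 : G} {hn0 : n0 ∈ D.P.N}

/-- The span of the opposite translates of a weight vector is stable. -/
theorem span_opp (htop : IsTopIn Set.univ (mkW hn0)) {χ : D.H →* kˣ} {J : Set D.P.S} {v : V}
    (hv : HasW D ρ χ J v) (g : G) :
    ∀ x ∈ Submodule.span k ((fun u => ρ (n0 * u * n0⁻¹) v) '' (D.U : Set G)),
      ρ g x ∈ Submodule.span k ((fun u => ρ (n0 * u * n0⁻¹) v) '' (D.U : Set G)) := by
  classical
  obtain ⟨S, hS⟩ : ∃ S, S = Submodule.span k ((fun u => ρ (n0 * u * n0⁻¹) v) '' (D.U : Set G)) :=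
    ⟨_, rfl⟩
  rw [← hS]
  have hopp : ∀ u ∈ D.U, ρ (n0 * u * n0⁻¹) v ∈ S := fun u hu =>
    hS ▸ Submodule.subset_span ⟨u, hu, rfl⟩
  have hvS : v ∈ S := by simpa using hopp 1 (one_mem _)
  let M : Submonoid G :=
    { carrier := {g | ∀ x ∈ S, ρ g x ∈ S}
      one_mem' := fun x hx => by simpa using hx
      mul_mem' := fun {a b} ha hb x hx => by rw [act_mul]; exact ha _ (hb x hx) }
  have hgen : ∀ g : G, (∀ u ∈ D.U, ρ g (ρ (n0 * u * n0⁻¹) v) ∈ S) → g ∈ M := by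
    intro g hg x hx
    rw [hS] at hx
    induction hx using Submodule.span_induction with
    | mem x hx => obtain ⟨u, hu, rfl⟩ := hx; exact hg u hu
    | zero => simp
    | add x y _ _ ih ih' => rw [map_add]; exact add_mem ih ih'
    | smul c x _ ih => rw [map_smul]; exact S.smul_mem c ih
  have hU : ∀ u ∈ D.U, n0 * u * n0⁻¹ ∈ M := fun a ha => hgen _ fun u hu => by
    rw [← act_mul, show n0 * a * n0⁻¹ * (n0 * u * n0⁻¹) = n0 * (a * u) * n0⁻¹ by group]
    exact hopp _ (mul_mem ha hu)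
  have hH : ∀ h ∈ D.H, h ∈ M := fun h hh => hgen _ fun u hu => by
    rw [← act_mul, show h * (n0 * u * n0⁻¹) =
      n0 * ((n0⁻¹ * h * n0) * u * (n0⁻¹ * h * n0)⁻¹) * n0⁻¹ * h by group, act_mul, hv.2.2.1 h hh,
      map_smul]
    exact S.smul_mem _ (hopp _ (D.H_conj _ (H_conj_N' D hn0 hh) u hu))
  have hS' : ∀ s : D.P.S, (s : G) ∈ M := by
    intro s
    obtain ⟨v', hv'⟩ := top_partner D htop s
    have hd := top_left D htop s
    have hsN : (s : G) ∈ D.P.N := D.P.subset s.2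
    have hvN : (v' : G) ∈ D.P.N := D.P.subset v'.2
    have hm : mkW (mul_mem hsN hn0) = gen s * mkW hn0 := mkW_mul hsN hn0
    have hup : len (mkW (mul_mem hsN hn0)) < len (gen s * mkW (mul_mem hsN hn0)) := by
      rw [hm, gen_mul_cancel]; exact hd
    have hmv := (D.move s v' _ (mul_mem hsN hn0) hup (by rw [hm]; exact hv')).1
    have hXS : ∀ y ∈ D.X s, ρ (y * s) v ∈ S := by
      have key : ∀ y ∈ D.X s, y ≠ 1 → ρ (y * s) v ∈ S := by
        intro y hy hne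
        obtain ⟨η, hη, -⟩ := D.rank_one s
        obtain ⟨hηy, σ, hσ, b, hb, e⟩ := hη y hy hne
        have hh : (s : G)⁻¹ * η y * s ∈ D.H := H_conj_N' D hsN (D.Hs_le s hηy)
        rw [show y * (s : G) = n0 * (((s : G) * n0)⁻¹ * σ * ((s : G) * n0)) * n0⁻¹ *
          ((s : G)⁻¹ * η y * s) * b by
            calc y * (s : G) = (s : G)⁻¹ * ((s : G) * y * s) := by group
              _ = _ := by rw [e]; group, act_mul, hv.2.1 b (D.X_le s hb), act_mul, hv.2.2.1 _ hh,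
          map_smul]
        exact S.smul_mem _ (hopp _ (D.up_conj s _ (mul_mem hsN hn0) hup σ hσ))
      intro y hy
      by_cases hy1 : y = 1
      · subst hy1
        have h := hv.2.2.2 s
        rw [top, ← Finset.add_sum_erase _ _ ((mem_XF D).2 (one_mem (D.X s))), ← eq_sub_iff_add_eq] at h
        rw [h]
        refine sub_mem (S.smul_mem _ hvS) (Submodule.sum_mem _ fun y hy => ?_)
        exact key y ((mem_XF D).1 (Finset.mem_of_mem_erase hy)) (Finset.ne_of_mem_erase hy)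
      · exact key y hy hy1
    refine hgen _ fun u hu => ?_
    have hh0 : (v' : G)⁻¹ * (n0⁻¹ * s * n0) ∈ D.H := by
      refine mem_H D ((mkW_eq_iff hvN (mul_mem (mul_mem (inv_mem hn0) hsN) hn0)).1 ?_)
        (mul_mem (inv_mem hvN) (mul_mem (mul_mem (inv_mem hn0) hsN) hn0))
      rw [mkW_mul (mul_mem (inv_mem hn0) hsN) hn0, mkW_mul (inv_mem hn0) hsN, mkW_inv hn0]
      show gen v' = (mkW hn0)⁻¹ * gen s * mkW hn0
      rw [gen_mul_cancel] at hv'
      calc gen v' = (gen s * mkW hn0)⁻¹ * (gen s * mkW hn0 * gen v') := by group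
        _ = _ := by rw [← hv', mul_inv_rev, gen_inv]
    obtain ⟨h0, hh0e⟩ : ∃ h0, h0 = (v' : G)⁻¹ * (n0⁻¹ * s * n0) := ⟨_, rfl⟩
    rw [← hh0e] at hh0
    have hc : (v' : G) * v' ∈ D.H := D.Hs_le _ (D.sq v')
    obtain ⟨x, hx, u', hu', e⟩ := D.absorb v' ((((v' : G) * v') * h0) * u⁻¹ * (((v' : G) * v') * h0)⁻¹)
      (D.H_conj _ (mul_mem hc hh0) _ (inv_mem hu))
    obtain ⟨x2, hx2e⟩ : ∃ x2, x2 = (((v' : G) * v') * h0)⁻¹ * x⁻¹ * (((v' : G) * v') * h0) := ⟨_, rfl⟩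
    have hx2 : x2 ∈ D.X v' := by
      rw [hx2e]
      simpa using D.X_conj v' _ (inv_mem (mul_mem hc hh0)) _ (inv_mem hx)
    have e2 : (v' : G) * h0 * u = u'⁻¹ * ((v' : G) * h0) * x2 := by
      rw [hx2e]
      calc (v' : G) * h0 * u = ((((v' : G) * v') * h0) * u⁻¹ * (((v' : G) * v') * h0)⁻¹ * v')⁻¹ *
            (((v' : G) * v') * h0) := by group
        _ = _ := by rw [e]; group
    have e3 : (s : G) * (n0 * u * n0⁻¹) =
        n0 * u'⁻¹ * n0⁻¹ * ((s : G) * n0 * x2 * ((s : G) * n0)⁻¹ * s) := by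
      calc (s : G) * (n0 * u * n0⁻¹) = n0 * ((v' : G) * h0 * u) * n0⁻¹ := by rw [hh0e]; group
        _ = _ := by rw [e2, hh0e]; group
    rw [← act_mul, e3, act_mul]
    exact hU _ (inv_mem hu') _ (hXS _ (hmv x2 hx2))
  have hinv : ∀ a ∈ M, a⁻¹ ∈ M := by
    intro a ha
    obtain ⟨j, hj, hja⟩ := isOfFinOrder_iff_pow_eq_one.1 (isOfFinOrder_of_finite a)
    rw [show a⁻¹ = a ^ (j - 1) from inv_eq_of_mul_eq_one_right (by
      rw [← pow_succ', Nat.sub_add_cancel hj, hja])]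
    exact pow_mem ha _
  let M' : Subgroup G := { M with inv_mem' := fun {a} => hinv a }
  have hN : D.P.N ≤ M' := by
    rw [← D.P.closure_sup]
    exact sup_le ((Subgroup.closure_le _).2 fun s hs => hS' ⟨s, hs⟩)
      fun h hh => hH h (D.H_eq.symm ▸ hh)
  have hB : D.P.B ≤ M' := by
    intro b hb
    obtain ⟨u, hu, h, hh, rfl⟩ := D.split b hb
    refine mul_mem ?_ (hN (H_le_N D hh))
    rw [show u = n0⁻¹ * (n0 * u * n0⁻¹) * n0 by group]
    exact mul_mem (mul_mem (inv_mem (hN hn0)) (hU u hu)) (hN hn0)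
  have htopG : (⊤ : Subgroup G) ≤ M' := D.P.sup_eq_top ▸ sup_le hB hN
  exact htopG (Subgroup.mem_top g)

theorem opp_eq_zero (htop : IsTopIn Set.univ (mkW hn0)) (hs : Simple ρ) {χ : D.H →* kˣ}
    {J : Set D.P.S} {v : V} (hv : HasW D ρ χ J v) (φ : V →ₗ[k] k)
    (hφ : ∀ u ∈ D.U, ∀ x, φ (ρ (n0 * u * n0⁻¹) x) = φ x) (h0 : φ v = 0) : φ = 0 := by
  have h1 := (hs.2 _ fun g x hx => span_opp D ρ htop hv g x hx).resolve_left (Submodule.ne_bot_iff _ |>.2
    ⟨v, Submodule.subset_span ⟨1, one_mem _, by simp⟩, hv.1⟩)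
  refine LinearMap.ext fun x => ?_
  have hx : x ∈ Submodule.span k ((fun u => ρ (n0 * u * n0⁻¹) v) '' (D.U : Set G)) :=
    h1 ▸ Submodule.mem_top
  refine (Submodule.span_le (p := LinearMap.ker φ)).2 ?_ hx
  rintro _ ⟨u, hu, rfl⟩
  show φ (ρ (n0 * u * n0⁻¹) v) = 0
  rw [hφ u hu, h0]

end Rep

/-! ### Functions on the group -/

/-- The regular representation on functions. -/
def reg (k : Type) [Field k] (G : Type u) [Group G] : Representation k G (G → k) where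
  toFun g := LinearMap.funLeft k k fun x => g⁻¹ * x
  map_one' := by ext f x; simp [LinearMap.funLeft]
  map_mul' a b := by ext f x; simp [LinearMap.funLeft, mul_assoc]

theorem reg_apply (g : G) (f : G → k) (x : G) : reg k G g f x = f (g⁻¹ * x) := rfl

/-- Invariant from the right under `U`. -/
def RInv (f : G → k) : Prop := ∀ x, ∀ u ∈ D.U, f (x * u) = f x

theorem fun_ext {f : G → k} (hl : Fixed D (reg k G) f) (hr : RInv D f)
    (h : ∀ m ∈ D.P.N, f m = 0) : f = 0 := by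
  funext g
  obtain ⟨u, hu, m, hm, u', hu', rfl⟩ := exists_decomp D g
  rw [hr _ u' hu', Pi.zero_apply, ← h m hm, ← congrFun (hl u⁻¹ (inv_mem hu)) m, reg_apply, inv_inv]

theorem top_rinv {f : G → k} (hr : RInv D f) (s : D.P.S) : RInv D (top D (reg k G) s f) := by
  intro x u hu
  simp only [top, Finset.sum_apply, reg_apply]
  exact Finset.sum_congr rfl fun y _ => by rw [← mul_assoc, hr _ u hu]

theorem sum_X (s : D.P.S) : ∑ _y ∈ XF D s, (1 : k) = 0 := by
  classical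
  haveI : Fintype (D.X s) := Fintype.ofFinite _
  rw [Finset.sum_const, nsmul_eq_mul, mul_one]
  have hc : (XF D s).card = Nat.card (D.X s) := by
    rw [Nat.card_eq_fintype_card]
    exact (Fintype.card_of_subtype _ fun y => mem_XF D).symm
  obtain ⟨j, hj⟩ := IsPGroup.iff_card.1 (D.U_p.to_le (D.X_le s))
  rcases Nat.eq_zero_or_pos j with rfl | h0
  · exact absurd (Subgroup.card_eq_one.1 hj) (D.X_ne s)
  rw [hc, hj, Nat.cast_pow, CharP.cast_eq_zero, zero_pow h0.ne']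

open Classical in
/-- The scalar of the operator on a weight space. -/
noncomputable def eps (χ : D.H →* kˣ) (s : D.P.S) : k := if s ∈ triv D χ then -1 else 0

/-- The operator on functions at a point of `N`. -/
theorem top_value {f : G → k} (hl : Fixed D (reg k G) f) (hr : RInv D f) {χ : D.H →* kˣ}
    (hw : ∀ h ∈ D.H, reg k G h f = cv χ h • f) (s : D.P.S) {m : G} (hm : m ∈ D.P.N) :
    (len (mkW hm) < len (gen s * mkW hm) → top D (reg k G) s f m = 0) ∧
      (len (gen s * mkW hm) < len (mkW hm) →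
        top D (reg k G) s f m = f ((s : G)⁻¹ * m) + eps D χ s * f m) := by
  classical
  have hsN : (s : G) ∈ D.P.N := D.P.subset s.2
  have htop : top D (reg k G) s f m = ∑ y ∈ XF D s, f ((s : G)⁻¹ * y * m) := by
    simp only [top, Finset.sum_apply, reg_apply]
    refine Finset.sum_bij' (fun y _ => y⁻¹) (fun y _ => y⁻¹) (fun y hy => ?_) (fun y hy => ?_)
      (fun _ _ => inv_inv _) (fun _ _ => inv_inv _) fun y _ => ?_
    · exact (mem_XF D).2 (inv_mem ((mem_XF D).1 hy))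
    · exact (mem_XF D).2 (inv_mem ((mem_XF D).1 hy))
    · rw [mul_inv_rev]
  have hweight : ∀ h ∈ D.H, ∀ x, f (h * x) = cv χ h⁻¹ * f x := fun h hh x => by
    have := congrFun (hw h⁻¹ (inv_mem hh)) x
    rwa [reg_apply, inv_inv] at this
  constructor
  · intro hup
    rw [htop, Finset.sum_congr rfl fun y hy => show f ((s : G)⁻¹ * y * m) = (1 : k) * f ((s : G)⁻¹ * m) by
      rw [one_mul, show (s : G)⁻¹ * y * m = (s : G)⁻¹ * m * (m⁻¹ * y * m) by group,
        hr _ _ (D.up_conj s m hm hup y ((mem_XF D).1 hy))], ← Finset.sum_mul, sum_X, zero_mul]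
  · intro hdown
    have hm' : (s : G)⁻¹ * m ∈ D.P.N := mul_mem (inv_mem hsN) hm
    have hme : mkW hm' = gen s * mkW hm := by
      rw [mkW_mul (inv_mem hsN) hm, mkW_inv hsN]
      show (gen s)⁻¹ * mkW hm = _
      rw [gen_inv]
    obtain ⟨η, hη, hsum⟩ := D.rank_one s
    have h1 : ((s : G)⁻¹ * 1 * m) = (s : G)⁻¹ * m := by group
    have hterm : ∀ y ∈ (XF D s).erase 1, f ((s : G)⁻¹ * y * m) =
        cv χ ((s : G) * s) * (cv χ (η y))⁻¹ * f m := by
      intro y hy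
      have hyX := (mem_XF D).1 (Finset.mem_of_mem_erase hy)
      obtain ⟨hηy, σ, hσ, b, hb, e⟩ := hη y hyX (Finset.ne_of_mem_erase hy)
      obtain ⟨c, hce⟩ : ∃ c, c = (s : G) * s := ⟨_, rfl⟩
      have hc : c ∈ D.H := hce ▸ D.Hs_le s (D.sq s)
      have hb' : ((s : G)⁻¹ * m)⁻¹ * b * ((s : G)⁻¹ * m) ∈ D.U :=
        D.up_conj s _ hm' (by rw [hme, gen_mul_cancel]; exact hdown) b hb
      have hσ' : c⁻¹ * σ * c ∈ D.U := D.X_le s (by simpa using D.X_conj s _ (inv_mem hc) σ hσ)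
      rw [show (s : G)⁻¹ * y * m = (c⁻¹ * σ * c) * ((c⁻¹ * η y) * m) *
          (((s : G)⁻¹ * m)⁻¹ * b * ((s : G)⁻¹ * m)) by
        calc (s : G)⁻¹ * y * m = ((s : G) * s)⁻¹ * ((s : G) * y * s) * ((s : G)⁻¹ * m) := by group
          _ = _ := by rw [e, hce]; group, hr _ _ hb']
      have h2 := congrFun (hl _ (inv_mem hσ')) (c⁻¹ * η y * m)
      rw [reg_apply, inv_inv] at h2
      rw [h2, hweight _ (mul_mem (inv_mem hc) (D.Hs_le s hηy)), mul_inv_rev, inv_inv,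
        cv_mul D χ (inv_mem (D.Hs_le s hηy)) hc, cv_inv D χ (D.Hs_le s hηy), ← hce]
      ring
    rw [htop, ← Finset.add_sum_erase _ _ ((mem_XF D).2 (one_mem _)), h1, Finset.sum_congr rfl hterm,
      ← Finset.sum_mul, ← Finset.mul_sum]
    congr 2
    have hT : ∀ y, y ∈ (XF D s).erase 1 ↔ y ∈ D.X s ∧ y ≠ 1 := fun y => by
      rw [Finset.mem_erase, mem_XF, and_comm]
    by_cases ht : s ∈ triv D χ
    · rw [eps, if_pos ht, ht _ (D.sq s), one_mul, Finset.sum_congr rfl fun y hy =>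
        show (cv χ (η y))⁻¹ = (1 : k) by
          rw [ht _ (hη y ((hT y).1 hy).1 ((hT y).1 hy).2).1, inv_one]]
      have := sum_X D s
      rwa [← Finset.add_sum_erase _ _ ((mem_XF D).2 (one_mem _)), add_comm, add_eq_zero_iff_eq_neg] at this
    · rw [eps, if_neg ht]
      have hne : ∃ h, h ∈ D.Hs s ∧ cv χ⁻¹ h ≠ 1 := by
        simp only [triv, Set.mem_ofPred_eq, not_forall] at ht
        obtain ⟨h, hh, hne⟩ := ht
        refine ⟨h, hh, fun e => hne ?_⟩
        rw [cv_eq D _ (D.Hs_le s hh)] at e ⊢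
        simpa using e
      rw [Finset.sum_congr rfl fun y hy => show (cv χ (η y))⁻¹ = cv χ⁻¹ (η y) by
        have hyH := D.Hs_le s (hη y ((hT y).1 hy).1 ((hT y).1 hy).2).1
        rw [cv_eq D _ hyH, cv_eq D _ hyH, MonoidHom.inv_apply, Units.val_inv_eq_inv_val],
        hsum χ⁻¹ hne _ hT, mul_zero]

end Cfsg.Agent.SimpleFacts.ModularWeights
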