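import Cfsg.Agent.Lib.Classical.Linear
import Mathlib

/-!
Lifts of the transvections of `SL_n` in a central extension, satisfying Steinberg's relations, for every finite
field and `n ≥ 3` apart from `(n,q) = (3,2), (3,4), (4,2)`.
-/

set_option autoImplicit false
set_option linter.unusedSectionVars false

namespace Cfsg.Agent.SimpleFacts.SLnRootLifts

open Matrix
open scoped commutatorElement

universe u v w

variable {n : Type u} [Fintype n] [DecidableEq n] {F : Type v} [Field F]

/-- The elementary transvection, and `1` on the diagonal. -/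
def T (i j : n) (a : F) : SpecialLinearGroup n F :=
  if h : i ≠ j then SpecialLinearGroup.transvection h a else 1

theorem T_eq {i j : n} (h : i ≠ j) (a : F) : T i j a = SpecialLinearGroup.transvection h a := dif_pos h

theorem T_coe {i j : n} (h : i ≠ j) (a : F) : (T i j a : Matrix n n F) = Matrix.transvection i j a := by
  rw [T_eq h]; rfl

theorem T_add {i j : n} (h : i ≠ j) (a b : F) : T i j (a + b) = T i j a * T i j b := by
  rw [T_eq h, T_eq h, T_eq h, SpecialLinearGroup.transvection_add h]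

theorem T_zero (i j : n) : T i j (0 : F) = 1 := by
  unfold T; split_ifs <;> simp

theorem T_comm {i j k l : n} (hij : i ≠ j) (hkl : k ≠ l) (hil : i ≠ l) (hjk : j ≠ k) (a b : F) :
    T i j a * T k l b = T k l b * T i j a := by
  apply Subtype.ext
  change (T i j a : Matrix n n F) * (T k l b : Matrix n n F) = (T k l b : Matrix n n F) * (T i j a : Matrix n n F)
  rw [T_coe hij, T_coe hkl, Matrix.transvection,
    Matrix.transvection, add_mul, one_mul, mul_add, mul_one, add_mul, one_mul, mul_add, mul_one,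
    single_mul_single_of_ne _ _ _ _ hjk, single_mul_single_of_ne _ _ _ _ hil.symm]
  abel

theorem T_bracket {i j m : n} (hij : i ≠ j) (him : i ≠ m) (hmj : m ≠ j) (a b : F) :
    ⁅T i m a, T m j b⁆ = T i j (a * b) := by
  rw [T_eq him, T_eq hmj, T_eq hij]
  exact Classical.Linear.commutator_transvection hij him hmj a b

/-- A monomial element: it permutes the transvections with scalars. -/
def IsMonomial (g : SpecialLinearGroup n F) (π : Equiv.Perm n) (d : n → F) : Prop :=
  (∀ i, d i ≠ 0) ∧ ∀ i j : n, (g : Matrix n n F) i j = if i = π j then d j else 0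

theorem IsMonomial.conj {g : SpecialLinearGroup n F} {π : Equiv.Perm n} {d : n → F} (hg : IsMonomial g π d)
    {i j : n} (hij : i ≠ j) (a : F) : g * T i j a * g⁻¹ = T (π i) (π j) (d i / d j * a) := by
  have hπ : π i ≠ π j := π.injective.ne hij
  rw [mul_inv_eq_iff_eq_mul]
  apply Subtype.ext
  change (g : Matrix n n F) * (T i j a : Matrix n n F) =
    (T (π i) (π j) (d i / d j * a) : Matrix n n F) * (g : Matrix n n F)
  rw [T_coe hij, T_coe hπ]
  ext r s
  rw [Matrix.transvection, Matrix.transvection, mul_add, mul_one, add_mul, one_mul, Matrix.add_apply,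
    Matrix.add_apply]
  congr 1
  rw [Matrix.mul_apply, Matrix.mul_apply]
  simp only [Matrix.single_apply, hg.2, mul_ite, ite_mul, zero_mul, mul_zero]
  rw [Finset.sum_eq_single i, Finset.sum_eq_single (π j)]
  · by_cases hr : r = π i
    · by_cases hs : j = s
      · subst hs
        simp only [hr, and_self, if_true]
        field_simp [hg.1 j]
      · simp [hs]
    · simp [hr, Ne.symm hr]
  all_goals first | (intro b _ hb; simp [Ne.symm hb]) | simp

/-- The diagonal element. -/
def diag (t : n → F) (ht : ∏ i, t i = 1) : SpecialLinearGroup n F :=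
  ⟨Matrix.diagonal t, by rw [Matrix.det_diagonal, ht]⟩

theorem diag_monomial (t : n → F) (ht : ∏ i, t i = 1) : IsMonomial (diag t ht) 1 t := by
  refine ⟨fun i h => ?_, fun i j => ?_⟩
  · rw [Finset.prod_eq_zero (Finset.mem_univ i) h] at ht
    exact zero_ne_one ht
  · change Matrix.diagonal t i j = _
    rw [Matrix.diagonal_apply, Equiv.Perm.one_apply]
    split_ifs with h <;> simp [h]

theorem diag_conj (t : n → F) (ht : ∏ i, t i = 1) {i j : n} (hij : i ≠ j) (a : F) :
    diag t ht * T i j a * (diag t ht)⁻¹ = T i j (t i / t j * a) := by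
  simpa using (diag_monomial t ht).conj hij a

/-- The element of an even permutation. -/
def permEl (π : Equiv.Perm n) (hπ : Equiv.Perm.sign π = 1) : SpecialLinearGroup n F :=
  ⟨π⁻¹.permMatrix F, by rw [Matrix.det_permutation, Equiv.Perm.sign_inv, hπ]; simp⟩

theorem permEl_monomial (π : Equiv.Perm n) (hπ : Equiv.Perm.sign π = 1) :
    IsMonomial (permEl (F := F) π hπ) π fun _ => 1 := by
  refine ⟨fun _ => one_ne_zero, fun i j => ?_⟩
  change π⁻¹.permMatrix F i j = _
  rw [Equiv.Perm.permMatrix, PEquiv.toMatrix_apply]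
  simp only [Equiv.toPEquiv_apply, Option.mem_def, Option.some.injEq, Equiv.Perm.inv_eq_iff_eq]

/-- A diagonal element with given values at three distinct places. -/
theorem exists_diag_three {i j m : n} (hij : i ≠ j) (him : i ≠ m) (hjm : j ≠ m) (x y z : F)
    (h : x * y * z = 1) :
    ∃ (t : n → F) (_ : ∏ l, t l = 1), t i = x ∧ t j = y ∧ t m = z := by
  refine ⟨Function.update (Function.update (Function.update (fun _ => (1 : F)) i x) j y) m z, ?_, ?_, ?_, ?_⟩
  · rw [← Finset.prod_subset (Finset.subset_univ ({i, j, m} : Finset n)) fun l _ hl => by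
      simp only [Finset.mem_insert, Finset.mem_singleton, not_or] at hl
      simp [hl.1, hl.2.1, hl.2.2]]
    rw [Finset.prod_insert (by simp [hij, him]), Finset.prod_pair hjm]
    simp [hij, him, hjm, ← mul_assoc, h]
  all_goals simp [hij, him, hjm]

/-- A unit whose cube is not `1`. -/
theorem exists_cube_ne_one [Fintype F] (h2 : Fintype.card F ≠ 2) (h4 : Fintype.card F ≠ 4) :
    ∃ s : F, s ≠ 0 ∧ s ^ 3 ≠ 1 := by
  obtain ⟨u, hu⟩ := IsCyclic.exists_generator (α := Fˣ)
  refine ⟨u, u.ne_zero, fun e => ?_⟩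
  have h1 : orderOf u = Fintype.card F - 1 := by
    rw [orderOf_eq_card_of_forall_mem_zpowers hu, Classical.Linear.natCard_units_eq]
  have h3 : orderOf u ∣ 3 := orderOf_dvd_of_pow_eq_one (Units.ext (by rw [Units.val_pow_eq_pow_val, e, Units.val_one]))
  have : 1 < Fintype.card F := Fintype.one_lt_card
  rcases (Nat.dvd_prime Nat.prime_three).1 h3 with h | h <;> omega

/-- Fields other than those with two and four elements are generated by cubes. -/
theorem subring_eq_top [Fintype F] (K : Subring F) (hK : ∀ s : F, s ≠ 0 → s ^ 3 ∈ K)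
    (h2 : Fintype.card F ≠ 4) : K = ⊤ := by
  classical
  by_contra hne
  let _ : Field K := Fintype.fieldOfDomain K
  have hcard := Module.card_eq_pow_finrank (K := K) (V := F)
  have hd0 : 0 < Module.finrank K F := Module.finrank_pos
  have hd1 : Module.finrank K F ≠ 1 := fun h1 => by
    rw [h1, pow_one] at hcard
    exact hne (SetLike.coe_injective (Set.eq_of_subset_of_ncard_le (Set.subset_univ _)
      (by
        rw [Subring.coe_top, Set.ncard_univ, ← Nat.card_coe_set_eq, Nat.card_eq_fintype_card, hcard,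
          ← Nat.card_eq_fintype_card]
        exact le_rfl) (Set.toFinite _)))
  have hsq : Fintype.card K ^ 2 ≤ Fintype.card F :=
    hcard ▸ Nat.pow_le_pow_right Fintype.card_pos (by omega)
  have hK2 : 2 ≤ Fintype.card K := Fintype.one_lt_card
  -- the cube map from the units has image inside `K`
  let f : Fˣ →* Fˣ := powMonoidHom 3
  have hrange : Nat.card f.range ≤ Fintype.card K - 1 := by
    have hle : Nat.card f.range ≤ Nat.card {x : K // x ≠ 0} := by
      refine Nat.card_le_card_of_injective (fun x : f.range => ⟨⟨((x : Fˣ) : F), ?_⟩, ?_⟩) ?_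
      · obtain ⟨s, hs⟩ := x.2
        rw [← hs]
        exact hK _ s.ne_zero
      · exact fun h => (x : Fˣ).ne_zero (congrArg Subtype.val h)
      · exact fun x y h => Subtype.ext (Units.ext (congrArg (fun z => ((z.1 : K) : F)) h))
    have hcompl : Fintype.card {x : K // x ≠ 0} = Fintype.card K - 1 := by
      rw [Fintype.card_subtype_compl, Fintype.card_subtype_eq]
    rwa [Nat.card_eq_fintype_card (α := {x : K // x ≠ 0}), hcompl] at hle
  have hmul : Nat.card f.ker * Nat.card f.range = Fintype.card F - 1 := by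
    rw [← Nat.card_congr (QuotientGroup.quotientKerEquivRange f).toEquiv, ← Classical.Linear.natCard_units_eq,
      Subgroup.card_eq_card_quotient_mul_card_subgroup f.ker, mul_comm]
  have hker : Nat.card f.ker = Nat.gcd (Fintype.card F - 1) 3 := by
    rw [IsCyclic.card_powMonoidHom_ker, Classical.Linear.natCard_units_eq]
  have h3 : Nat.card f.ker ≤ 3 := hker ▸ Nat.le_of_dvd (by norm_num) (Nat.gcd_dvd_right _ _)
  have hbound : Fintype.card F - 1 ≤ 3 * (Fintype.card K - 1) :=
    hmul ▸ Nat.mul_le_mul h3 hrange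
  obtain ⟨k, hk⟩ : ∃ k, k = Fintype.card K := ⟨_, rfl⟩
  rw [← hk] at hsq hK2 hbound
  have hk3 : k < 3 := by
    have hF : Fintype.card F ≤ 3 * (k - 1) + 1 := by omega
    obtain ⟨m, rfl⟩ : ∃ m, k = m + 1 := ⟨k - 1, by omega⟩
    rw [Nat.add_sub_cancel] at hF
    nlinarith
  have : k = 2 := by omega
  subst this
  omega

variable {Γ : Type w} [Group Γ] (σ : Γ →* SpecialLinearGroup n F) (hsurj : Function.Surjective σ)
  (hcen : σ.ker ≤ Subgroup.center Γ)

/-- A lift. -/
noncomputable def L (g : SpecialLinearGroup n F) : Γ := Function.surjInv hsurj g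

include hsurj hcen

theorem σ_L (g : SpecialLinearGroup n F) : σ (L σ hsurj g) = g := Function.surjInv_eq hsurj g

theorem central {z : Γ} (hz : σ z = 1) (g : Γ) : g * z = z * g :=
  Subgroup.mem_center_iff.1 (hcen (MonoidHom.mem_ker.2 hz)) g

theorem comm_congr {x x' y y' : Γ} (hx : σ x = σ x') (hy : σ y = σ y') : ⁅x, y⁆ = ⁅x', y'⁆ := by
  have aux : ∀ {x x' y : Γ}, σ x = σ x' → ⁅x, y⁆ = ⁅x', y⁆ := fun {x x' y} h => by
    have hz : σ (x'⁻¹ * x) = 1 := by rw [map_mul, map_inv, h, inv_mul_cancel]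
    have e : x = x' * (x'⁻¹ * x) := by simp
    rw [e]
    generalize x'⁻¹ * x = z at hz
    calc ⁅x' * z, y⁆ = x' * (z * y * z⁻¹) * x'⁻¹ * y⁻¹ := by rw [commutatorElement_def]; group
      _ = ⁅x', y⁆ := by rw [← central σ hsurj hcen hz y, mul_inv_cancel_right, commutatorElement_def]
  rw [aux hx, ← commutatorElement_inv, aux hy, commutatorElement_inv]

/-- If `y` commutes with both factors modulo the kernel it commutes with their commutator. -/
theorem commute_bracket {u v y : Γ} (hu : σ y * σ u = σ u * σ y) (hv : σ y * σ v = σ v * σ y) :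
    Commute y ⁅u, v⁆ := by
  have h1 : σ (y * u * y⁻¹) = σ u := by rw [map_mul, map_mul, map_inv, hu, mul_inv_cancel_right]
  have h2 : σ (y * v * y⁻¹) = σ v := by rw [map_mul, map_mul, map_inv, hv, mul_inv_cancel_right]
  have e : y * ⁅u, v⁆ * y⁻¹ = ⁅u, v⁆ := by
    calc y * ⁅u, v⁆ * y⁻¹ = ⁅y * u * y⁻¹, y * v * y⁻¹⁆ := by simp only [commutatorElement_def]; group
      _ = ⁅u, v⁆ := comm_congr σ hsurj hcen h1 h2
  exact mul_inv_eq_iff_eq_mul.1 e

theorem commute_of_congr {x x' y : Γ} (h : σ x = σ x') (hc : Commute x y) : Commute x' y := by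
  rw [← commutatorElement_eq_one_iff_commute, ← comm_congr σ hsurj hcen h rfl]
  exact commutatorElement_eq_one_iff_commute.2 hc

/-- The commutator pairing of two root groups that commute in `SL_n`. -/
theorem pairing_hom {i j k l : n} (hij : i ≠ j) (hkl : k ≠ l) (hil : i ≠ l) (hjk : j ≠ k) (x : Γ) (a : F)
    (hx : σ x = T i j a) (b b' : F) (y y' y'' : Γ) (hy : σ y = T k l b) (hy' : σ y' = T k l b')
    (hy'' : σ y'' = T k l (b + b')) : ⁅x, y''⁆ = ⁅x, y⁆ * ⁅x, y'⁆ := by
  rw [comm_congr σ hsurj hcen (x' := x) rfl (y' := y * y') (by rw [hy'', map_mul, hy, hy', T_add hkl])]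
  have h1 : σ ⁅x, y'⁆ = 1 := by
    rw [map_commutatorElement, hx, hy', commutatorElement_eq_one_iff_mul_comm]
    exact T_comm hij hkl hil hjk a b'
  calc ⁅x, y * y'⁆ = ⁅x, y⁆ * (y * ⁅x, y'⁆ * y⁻¹) := by simp only [commutatorElement_def]; group
    _ = _ := by rw [central σ hsurj hcen h1 y, mul_inv_cancel_right]

/-- Two root groups commute upstairs if a diagonal element centralises one and moves the other. -/
theorem com_torus {i j k l : n} (hij : i ≠ j) (hkl : k ≠ l) (hil : i ≠ l) (hjk : j ≠ k) (t : n → F)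
    (ht : ∏ m, t m = 1) (h1 : t i = t j) (h2 : t k ≠ t l) {a b : F} {x y : Γ} (hx : σ x = T i j a)
    (hy : σ y = T k l b) : Commute x y := by
  have hd := (diag_monomial t ht).1
  set h := L σ hsurj (diag t ht) with hh
  set c := t k / t l with hc
  have hc1 : c - 1 ≠ 0 := by
    rw [hc, sub_ne_zero, Ne, div_eq_one_iff_eq (hd l)]
    exact h2
  -- invariance of the pairing
  have inv : ∀ b' : F, ∀ y₁ y₂ : Γ, σ y₁ = T k l b' → σ y₂ = T k l (c * b') → ⁅x, y₂⁆ = ⁅x, y₁⁆ := by
    intro b' y₁ y₂ e1 e2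
    have hz : σ ⁅x, y₁⁆ = 1 := by
      rw [map_commutatorElement, hx, e1, commutatorElement_eq_one_iff_mul_comm]
      exact T_comm hij hkl hil hjk a b'
    have e3 : σ (h * x * h⁻¹) = σ x := by
      rw [map_mul, map_mul, map_inv, hh, σ_L σ hsurj hcen, hx, diag_conj t ht hij, h1, div_self (hd j), one_mul]
    have e4 : σ (h * y₁ * h⁻¹) = σ y₂ := by
      rw [map_mul, map_mul, map_inv, hh, σ_L σ hsurj hcen, e1, diag_conj t ht hkl, e2]
    rw [← comm_congr σ hsurj hcen e3 e4]
    calc ⁅h * x * h⁻¹, h * y₁ * h⁻¹⁆ = h * ⁅x, y₁⁆ * h⁻¹ := by simp only [commutatorElement_def]; group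
      _ = ⁅x, y₁⁆ := by rw [central σ hsurj hcen hz h, mul_inv_cancel_right]
  set b₀ := b / (c - 1) with hb₀
  set y₀ := L σ hsurj (T k l b₀)
  set y₂ := L σ hsurj (T k l (c * b₀))
  have e := pairing_hom σ hsurj hcen hij hkl hil hjk x a hx b₀ b y₀ y y₂ (σ_L σ hsurj hcen _) hy
    (by rw [σ_L σ hsurj hcen]; congr 1; rw [hb₀]; field_simp; ring)
  rw [inv b₀ y₀ y₂ (σ_L σ hsurj hcen _) (σ_L σ hsurj hcen _), left_eq_mul] at e
  exact commutatorElement_eq_one_iff_commute.1 e

variable (h3 : 3 ≤ Fintype.card n) [Fintype F]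
  (hex : (Fintype.card n = 3 → Fintype.card F ≠ 2 ∧ Fintype.card F ≠ 4) ∧
    (Fintype.card n = 4 → Fintype.card F ≠ 2))

include h3 hex

/-- Lifts of commuting root elements commute. -/
theorem com {i j k l : n} (hij : i ≠ j) (hkl : k ≠ l) (hil : i ≠ l) (hjk : j ≠ k) {a b : F} {x y : Γ}
    (hx : σ x = T i j a) (hy : σ y = T k l b) : Commute x y := by
  classical
  by_cases hm : ∃ m, m ≠ i ∧ m ≠ j ∧ m ≠ k ∧ m ≠ l
  · obtain ⟨m, hmi, hmj, hmk, hml⟩ := hm
    have e : σ ⁅L σ hsurj (T i m a), L σ hsurj (T m j 1)⁆ = σ x := by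
      rw [map_commutatorElement, σ_L σ hsurj hcen, σ_L σ hsurj hcen, T_bracket hij hmi.symm hmj, mul_one, hx]
    refine commute_of_congr σ hsurj hcen e (commute_bracket σ hsurj hcen ?_ ?_).symm <;>
      rw [hy, σ_L σ hsurj hcen]
    · exact T_comm hkl hmi.symm hmk.symm hil.symm b a
    · exact T_comm hkl hmj hjk.symm hml.symm b 1
  push Not at hm
  have huniv : (Finset.univ : Finset n) ⊆ {i, j, k, l} := fun m _ => by
    simp only [Finset.mem_insert, Finset.mem_singleton]
    tauto
  have hle := Finset.card_le_card huniv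
  rw [Finset.card_univ] at hle
  have hpair : ∀ u v : n, ({u, v} : Finset n).card ≤ 2 := fun u v => Finset.card_le_two
  by_cases hik : i = k
  · subst hik
    have hjl : j ≠ l := by
      rintro rfl
      have hh : Fintype.card n ≤ ({i, j} : Finset n).card := Finset.card_univ (α := n) ▸
        Finset.card_le_card fun m hm' => by simpa using huniv hm'
      exact absurd (hh.trans (hpair i j)) (by omega)
    -- a diagonal element trivial on `(i,j)` and not on `(i,l)`
    have hn : Fintype.card n = 3 := by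
      have hh : Fintype.card n ≤ ({i, j, l} : Finset n).card := Finset.card_univ (α := n) ▸
        Finset.card_le_card fun m hm' => by
          have := huniv hm'
          simp only [Finset.mem_insert, Finset.mem_singleton] at this ⊢
          tauto
      exact le_antisymm (hh.trans Finset.card_le_three) h3
    obtain ⟨s, hs0, hs⟩ := exists_cube_ne_one (hex.1 hn).1 (hex.1 hn).2
    obtain ⟨t, ht, t1, t2, t3⟩ := exists_diag_three hij hkl hjl s s (s * s)⁻¹ (mul_inv_cancel₀ (by simp [hs0]))
    refine com_torus σ hsurj hcen hij hkl hil hjk t ht (by rw [t1, t2]) ?_ hx hy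
    rw [t1, t3]
    intro e
    apply hs
    calc s ^ 3 = s * (s * s) := by ring
      _ = 1 := by nth_rw 1 [e]; exact inv_mul_cancel₀ (by simp [hs0])
  by_cases hjl : j = l
  · subst hjl
    have hn : Fintype.card n = 3 := by
      have hh : Fintype.card n ≤ ({i, j, k} : Finset n).card := Finset.card_univ (α := n) ▸
        Finset.card_le_card fun m hm' => by
          have := huniv hm'
          simp only [Finset.mem_insert, Finset.mem_singleton] at this ⊢
          tauto
      exact le_antisymm (hh.trans Finset.card_le_three) h3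
    obtain ⟨s, hs0, hs⟩ := exists_cube_ne_one (hex.1 hn).1 (hex.1 hn).2
    obtain ⟨t, ht, t1, t2, t3⟩ := exists_diag_three hij hik hjk s s (s * s)⁻¹ (mul_inv_cancel₀ (by simp [hs0]))
    refine com_torus σ hsurj hcen hij hkl hil hjk t ht (by rw [t1, t2]) ?_ hx hy
    rw [t3, t2]
    intro e
    apply hs
    calc s ^ 3 = s * (s * s) := by ring
      _ = 1 := by nth_rw 1 [← e]; exact inv_mul_cancel₀ (by simp [hs0])
  -- four distinct indices
  have hn : Fintype.card n = 4 := by
    refine le_antisymm (hle.trans Finset.card_le_four) ?_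
    have : ({i, j, k, l} : Finset n).card = 4 := by simp [hij, hkl, hil, hjk, hik, hjl]
    exact this ▸ Finset.card_le_univ _
  have hq2 := hex.2 hn
  have hq1 : 1 < Fintype.card F := Fintype.one_lt_card
  by_cases hq3 : Fintype.card F = 3
  · -- exchange the two roots
    set π : Equiv.Perm n := Equiv.swap i k * Equiv.swap j l with hπ
    have hsign : Equiv.Perm.sign π = 1 := by simp [hπ, hik, hjl]
    have hmon := permEl_monomial (F := F) π hsign
    have hπi : π i = k := by simp [hπ, Equiv.swap_apply_of_ne_of_ne hij hil]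
    have hπj : π j = l := by simp [hπ, Equiv.swap_apply_of_ne_of_ne hil.symm hkl.symm]
    have hπk : π k = i := by simp [hπ, Equiv.swap_apply_of_ne_of_ne hjk.symm hkl]
    have hπl : π l = j := by simp [hπ, Equiv.swap_apply_of_ne_of_ne hij.symm hjk]
    set g := L σ hsurj (permEl (F := F) π hsign) with hg
    have hz : ∀ (a b : F) (x y : Γ), σ x = T i j a → σ y = T k l b → σ ⁅x, y⁆ = 1 := fun a b x y hx hy => by
      rw [map_commutatorElement, hx, hy, commutatorElement_eq_one_iff_mul_comm]
      exact T_comm hij hkl hil hjk a b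
    have hsymm : ∀ (a b : F) (x y : Γ), σ x = T i j a → σ y = T k l b →
        ⁅x, y⁆ = (⁅L σ hsurj (T i j b), L σ hsurj (T k l a)⁆)⁻¹ := by
      intro a b x y hx hy
      rw [commutatorElement_inv]
      have e1 : σ (g * x * g⁻¹) = σ (L σ hsurj (T k l a)) := by
        rw [map_mul, map_mul, map_inv, hg, σ_L σ hsurj hcen, hx, hmon.conj hij, hπi, hπj, σ_L σ hsurj hcen,
          div_one, one_mul]
      have e2 : σ (g * y * g⁻¹) = σ (L σ hsurj (T i j b)) := by
        rw [map_mul, map_mul, map_inv, hg, σ_L σ hsurj hcen, hy, hmon.conj hkl, hπk, hπl, σ_L σ hsurj hcen,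
          div_one, one_mul]
      rw [← comm_congr σ hsurj hcen e1 e2]
      calc ⁅x, y⁆ = g * ⁅x, y⁆ * g⁻¹ := by rw [central σ hsurj hcen (hz a b x y hx hy) g, mul_inv_cancel_right]
        _ = _ := by simp only [commutatorElement_def]; group
    have h30 : (3 : F) = 0 := by
      have := FiniteField.cast_card_eq_zero (K := F)
      rw [hq3] at this
      exact_mod_cast this
    by_cases ha : a = 0
    · rw [ha, T_zero, ← map_one σ] at hx
      exact commute_of_congr σ hsurj hcen hx.symm (Commute.one_left y)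
    obtain ⟨u, hu⟩ : ∃ u, u = ⁅x, L σ hsurj (T k l a)⁆ := ⟨_, rfl⟩
    have hu2 : u = u⁻¹ := by
      nth_rw 1 [hu]
      rw [hsymm a a x _ hx (σ_L σ hsurj hcen _), hu,
        comm_congr σ hsurj hcen (x := L σ hsurj (T i j a)) (x' := x) (by rw [σ_L σ hsurj hcen, hx]) rfl]
    have hu0 : ∀ y' : Γ, σ y' = T k l 0 → ⁅x, y'⁆ = 1 := fun y' hy' => by
      rw [T_zero, ← map_one σ] at hy'
      rw [comm_congr σ hsurj hcen (x' := x) rfl hy', commutatorElement_one_right]
    have hneg : ∀ y' : Γ, σ y' = T k l (-a) → ⁅x, y'⁆ = u⁻¹ := fun y' hy' => by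
      have e := pairing_hom σ hsurj hcen hij hkl hil hjk x _ hx a (-a) (L σ hsurj (T k l a)) y'
        (L σ hsurj (T k l (a + -a))) (σ_L σ hsurj hcen _) hy' (σ_L σ hsurj hcen _)
      rw [hu0 _ (by rw [σ_L σ hsurj hcen, add_neg_cancel]), ← hu] at e
      exact eq_inv_of_mul_eq_one_right e.symm
    have hu1 : u = 1 := by
      have e := pairing_hom σ hsurj hcen hij hkl hil hjk x _ hx a a (L σ hsurj (T k l a)) (L σ hsurj (T k l a))
        (L σ hsurj (T k l (a + a))) (σ_L σ hsurj hcen _) (σ_L σ hsurj hcen _) (σ_L σ hsurj hcen _)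
      rw [hneg _ (by rw [σ_L σ hsurj hcen]; congr 1; linear_combination a * h30), ← hu, ← hu2, left_eq_mul] at e
      exact e
    -- every element is a multiple of `a`
    have hb : b = 0 ∨ b = a ∨ b = -a := by
      by_contra hb
      push Not at hb
      have ha' : a ≠ -a := fun e => ha (by linear_combination a * h30 - e)
      have hle' := Finset.card_le_univ ({b, 0, a, -a} : Finset F)
      have h4 : ({b, 0, a, -a} : Finset F).card = 4 := by
        simp [hb.1, hb.2.1, hb.2.2, Ne.symm ha, ha, ha']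
      omega
    rw [← commutatorElement_eq_one_iff_commute]
    rcases hb with hb | hb | hb <;> rw [hb] at hy
    · exact hu0 y hy
    · rw [comm_congr σ hsurj hcen (x' := x) rfl (y' := L σ hsurj (T k l a)) (by rw [σ_L σ hsurj hcen, hy]),
        ← hu, hu1]
    · rw [hneg y hy, hu1, inv_one]
  · obtain ⟨u, hu⟩ := IsCyclic.exists_generator (α := Fˣ)
    have hu2 : (u : F) * u ≠ 1 := fun e => by
      have h1 : orderOf u = Fintype.card F - 1 := by
        rw [orderOf_eq_card_of_forall_mem_zpowers hu, Classical.Linear.natCard_units_eq]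
      have h2 : orderOf u ∣ 2 := orderOf_dvd_of_pow_eq_one (Units.ext (by rw [sq]; simpa using e))
      have h3 := Nat.le_of_dvd two_pos h2
      omega
    obtain ⟨t, ht, t1, t3, t4⟩ := exists_diag_three hik hil hkl (1 : F) (u : F) ((u : F))⁻¹
      (by rw [one_mul, mul_inv_cancel₀ u.ne_zero])
    have t2 : t j = 1 := by
      have e : ∏ m, t m = t i * t j * t k * t l := by
        rw [show (Finset.univ : Finset n) = {i, j, k, l} from (Finset.eq_univ_of_forall fun m =>
          huniv (Finset.mem_univ m)).symm, Finset.prod_insert (by simp [hij, hik, hil]),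
          Finset.prod_insert (by simp [hjk, hjl]), Finset.prod_pair hkl]
        ring
      rw [e, t1, t3, t4, one_mul, mul_assoc, mul_inv_cancel₀ u.ne_zero, mul_one] at ht
      exact ht
    refine com_torus σ hsurj hcen hij hkl hil hjk t ht (by rw [t1, t2]) ?_ hx hy
    rw [t3, t4]
    intro e
    apply hu2
    nth_rw 1 [e]
    exact inv_mul_cancel₀ u.ne_zero

omit h3 hex in
/-- The bracket lift of the root `(i,j)` through `m`. -/
theorem σ_bracket {i j m : n} (hij : i ≠ j) (him : i ≠ m) (hmj : m ≠ j) (a b : F) :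
    σ ⁅L σ hsurj (T i m a), L σ hsurj (T m j b)⁆ = T i j (a * b) := by
  rw [map_commutatorElement, σ_L σ hsurj hcen, σ_L σ hsurj hcen, T_bracket hij him hmj]

theorem bracket_add_left {i j m : n} (hij : i ≠ j) (him : i ≠ m) (hmj : m ≠ j) (a a' b : F) :
    ⁅L σ hsurj (T i m (a + a')), L σ hsurj (T m j b)⁆ =
      ⁅L σ hsurj (T i m a), L σ hsurj (T m j b)⁆ * ⁅L σ hsurj (T i m a'), L σ hsurj (T m j b)⁆ := by
  rw [comm_congr σ hsurj hcen (x' := L σ hsurj (T i m a') * L σ hsurj (T i m a)) (y' := L σ hsurj (T m j b))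
    (by rw [map_mul, σ_L σ hsurj hcen, σ_L σ hsurj hcen, σ_L σ hsurj hcen, add_comm, T_add him]) rfl]
  have c1 : Commute (L σ hsurj (T i m a')) ⁅L σ hsurj (T i m a), L σ hsurj (T m j b)⁆ :=
    com σ hsurj hcen h3 hex him hij hij him.symm (σ_L σ hsurj hcen _) (σ_bracket σ hsurj hcen hij him hmj a b)
  calc ⁅L σ hsurj (T i m a') * L σ hsurj (T i m a), L σ hsurj (T m j b)⁆
      = L σ hsurj (T i m a') * ⁅L σ hsurj (T i m a), L σ hsurj (T m j b)⁆ * (L σ hsurj (T i m a'))⁻¹ *
          ⁅L σ hsurj (T i m a'), L σ hsurj (T m j b)⁆ := by simp only [commutatorElement_def]; group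
    _ = _ := by rw [c1.eq, mul_inv_cancel_right]

theorem bracket_add_right {i j m : n} (hij : i ≠ j) (him : i ≠ m) (hmj : m ≠ j) (a b b' : F) :
    ⁅L σ hsurj (T i m a), L σ hsurj (T m j (b + b'))⁆ =
      ⁅L σ hsurj (T i m a), L σ hsurj (T m j b)⁆ * ⁅L σ hsurj (T i m a), L σ hsurj (T m j b')⁆ := by
  rw [comm_congr σ hsurj hcen (x' := L σ hsurj (T i m a)) (y' := L σ hsurj (T m j b) * L σ hsurj (T m j b'))
    rfl (by rw [map_mul, σ_L σ hsurj hcen, σ_L σ hsurj hcen, σ_L σ hsurj hcen, T_add hmj])]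
  have c1 : Commute (L σ hsurj (T m j b)) ⁅L σ hsurj (T i m a), L σ hsurj (T m j b')⁆ :=
    com σ hsurj hcen h3 hex hmj hij hmj hij.symm (σ_L σ hsurj hcen _) (σ_bracket σ hsurj hcen hij him hmj a b')
  calc ⁅L σ hsurj (T i m a), L σ hsurj (T m j b) * L σ hsurj (T m j b')⁆
      = ⁅L σ hsurj (T i m a), L σ hsurj (T m j b)⁆ * (L σ hsurj (T m j b) *
          ⁅L σ hsurj (T i m a), L σ hsurj (T m j b')⁆ * (L σ hsurj (T m j b))⁻¹) := by
        simp only [commutatorElement_def]; group
    _ = _ := by rw [c1.eq, mul_inv_cancel_right]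

/-- Hall–Witt: moving a factor across the middle index. -/
theorem bracket_assoc {i j m l : n} (hij : i ≠ j) (him : i ≠ m) (hmj : m ≠ j) (hil : i ≠ l) (hlj : l ≠ j)
    (hml : m ≠ l) (a c b : F) :
    ⁅L σ hsurj (T i m a), L σ hsurj (T m j (c * b))⁆ = ⁅L σ hsurj (T i l (a * c)), L σ hsurj (T l j b)⁆ := by
  set x := L σ hsurj (T i m a) with hx
  set y := L σ hsurj (T m l c) with hy
  set z := L σ hsurj (T l j b) with hz
  set u := ⁅x, y⁆ with hu
  set w := ⁅y, z⁆ with hw
  have eu : σ u = T i l (a * c) := σ_bracket σ hsurj hcen hil him hml a c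
  have ew : σ w = T m j (c * b) := σ_bracket σ hsurj hcen hmj hml hlj c b
  rw [comm_congr σ hsurj hcen (x' := x) (y' := w) rfl (by rw [σ_L σ hsurj hcen, ew]),
    ← comm_congr σ hsurj hcen (x := u) (x' := L σ hsurj (T i l (a * c))) (y := z) (y' := z)
      (by rw [σ_L σ hsurj hcen, eu]) rfl]
  have cxz : Commute x z :=
    com σ hsurj hcen h3 hex him hlj hij hml (σ_L σ hsurj hcen _) (σ_L σ hsurj hcen _)
  have cuw : Commute u w := com σ hsurj hcen h3 hex hil hmj hij hml.symm eu ew
  have cwo : Commute w ⁅u, z⁆ :=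
    com σ hsurj hcen h3 hex hmj hij hmj hij.symm ew (by
      rw [map_commutatorElement, eu, hz, σ_L σ hsurj hcen, T_bracket hij hil hlj])
  calc ⁅x, w⁆ = ⁅x * y * x⁻¹, x * z * x⁻¹⁆ * w⁻¹ := by simp only [hw, commutatorElement_def]; group
    _ = ⁅u * y, z⁆ * w⁻¹ := by
      rw [cxz.eq, mul_inv_cancel_right]
      congr 2
      simp only [hu, commutatorElement_def]; group
    _ = u * w * u⁻¹ * ⁅u, z⁆ * w⁻¹ := by simp only [hw, commutatorElement_def]; group
    _ = ⁅u, z⁆ := by rw [cuw.eq, mul_inv_cancel_right, cwo.eq, mul_inv_cancel_right]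

/-- A factor moves across the middle index. -/
theorem bracket_balanced {i j m : n} (hij : i ≠ j) (him : i ≠ m) (hmj : m ≠ j) (a c b : F) :
    ⁅L σ hsurj (T i m (a * c)), L σ hsurj (T m j b)⁆ = ⁅L σ hsurj (T i m a), L σ hsurj (T m j (c * b))⁆ := by
  classical
  by_cases hl : ∃ l, l ≠ i ∧ l ≠ j ∧ l ≠ m
  · obtain ⟨l, hli, hlj, hlm⟩ := hl
    have e1 := bracket_assoc σ hsurj hcen h3 hex hij him hmj hli.symm hlj hlm.symm (a * c) 1 b
    have e2 := bracket_assoc σ hsurj hcen h3 hex hij him hmj hli.symm hlj hlm.symm a c b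
    rw [one_mul, mul_one] at e1
    exact e1.trans e2.symm
  push Not at hl
  have hn : Fintype.card n = 3 := by
    refine le_antisymm ?_ h3
    have : (Finset.univ : Finset n) ⊆ {i, j, m} := fun l _ => by
      simp only [Finset.mem_insert, Finset.mem_singleton]
      tauto
    exact Finset.card_univ (α := n) ▸ (Finset.card_le_card this).trans Finset.card_le_three
  obtain ⟨hq2, hq4⟩ := hex.1 hn
  -- the multipliers that may be moved form a subring with all cubes
  let K : Subring F :=
    { carrier := {c | ∀ a b : F, ⁅L σ hsurj (T i m (a * c)), L σ hsurj (T m j b)⁆ =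
        ⁅L σ hsurj (T i m a), L σ hsurj (T m j (c * b))⁆}
      one_mem' := fun a b => by rw [mul_one, one_mul]
      mul_mem' := fun {c d} hc hd a b => by rw [← mul_assoc, hd, hc, mul_assoc]
      zero_mem' := fun a b => by
        rw [mul_zero, zero_mul, T_zero, T_zero,
          comm_congr σ hsurj hcen (x' := (1 : Γ)) (y' := L σ hsurj (T m j b)) (by rw [σ_L σ hsurj hcen, map_one]) rfl,
          comm_congr σ hsurj hcen (x' := L σ hsurj (T i m a)) (y' := (1 : Γ)) rfl (by rw [σ_L σ hsurj hcen, map_one]),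
          commutatorElement_one_left, commutatorElement_one_right]
      add_mem' := fun {c d} hc hd a b => by
        rw [mul_add, add_mul, bracket_add_left σ hsurj hcen h3 hex hij him hmj,
          bracket_add_right σ hsurj hcen h3 hex hij him hmj, hc, hd]
      neg_mem' := fun {c} hc a b => by
        rw [show a * -c = -a * c by ring, hc, show -c * b = -(c * b) by ring]
        have h0 : ∀ x : F, ⁅L σ hsurj (T i m x), L σ hsurj (T m j 0)⁆ = 1 := fun x => by
          rw [T_zero, comm_congr σ hsurj hcen (x' := L σ hsurj (T i m x)) (y' := (1 : Γ)) rfl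
            (by rw [σ_L σ hsurj hcen, map_one]), commutatorElement_one_right]
        have h0' : ∀ y : F, ⁅L σ hsurj (T i m 0), L σ hsurj (T m j y)⁆ = 1 := fun y => by
          rw [T_zero, comm_congr σ hsurj hcen (x' := (1 : Γ)) (y' := L σ hsurj (T m j y))
            (by rw [σ_L σ hsurj hcen, map_one]) rfl, commutatorElement_one_left]
        refine mul_left_cancel (a := ⁅L σ hsurj (T i m a), L σ hsurj (T m j (c * b))⁆) ?_
        rw [← bracket_add_left σ hsurj hcen h3 hex hij him hmj, add_neg_cancel, h0',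
          ← bracket_add_right σ hsurj hcen h3 hex hij him hmj, add_neg_cancel, h0] }
  suffices hK : K = ⊤ from (hK.ge (Subring.mem_top c) : c ∈ K) a b
  refine subring_eq_top K (fun s hs a b => ?_) hq4
  -- the diagonal element scaling the two roots by `s ^ 3` and its inverse
  obtain ⟨t, ht, t1, t2, t3⟩ := exists_diag_three hij him hmj.symm s s (s * s)⁻¹ (mul_inv_cancel₀ (by simp [hs]))
  set h := L σ hsurj (diag t ht) with hh
  have hcom : ∀ (c : F) (y : Γ), σ y = T i j c → Commute h y := by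
    intro c y hy
    obtain ⟨u, hu0, hu⟩ : ∃ u : F, u ≠ 0 ∧ u ≠ 1 := by
      have h1 : 2 < Fintype.card F := lt_of_le_of_ne Fintype.one_lt_card (Ne.symm hq2)
      obtain ⟨u, -, hu⟩ := Finset.exists_mem_notMem_of_card_lt_card
        (show ({0, 1} : Finset F).card < (Finset.univ : Finset F).card by
          rw [Finset.card_univ]; exact lt_of_le_of_lt Finset.card_le_two h1)
      simp only [Finset.mem_insert, Finset.mem_singleton, not_or] at hu
      exact ⟨u, hu⟩
    obtain ⟨v, hv, v1, v2, v3⟩ := exists_diag_three hij him hmj.symm u 1 u⁻¹ (by rw [mul_one, mul_inv_cancel₀ hu0])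
    set g := L σ hsurj (diag v hv) with hg
    have fix : ∀ c', diag t ht * T i j c' * (diag t ht)⁻¹ = T i j c' := fun c' => by
      rw [diag_conj t ht hij, t1, t2, div_self hs, one_mul]
    have hz : ∀ (c' : F) (y' : Γ), σ y' = T i j c' → σ ⁅h, y'⁆ = 1 := fun c' y' hy' => by
      rw [map_commutatorElement, hh, σ_L σ hsurj hcen, hy', commutatorElement_eq_one_iff_mul_comm]
      exact mul_inv_eq_iff_eq_mul.1 (fix c')
    have inv : ∀ (c' : F) (y₁ y₂ : Γ), σ y₁ = T i j c' → σ y₂ = T i j (u * c') → ⁅h, y₂⁆ = ⁅h, y₁⁆ := by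
      intro c' y₁ y₂ e1 e2
      have e3 : σ (g * h * g⁻¹) = σ h := by
        rw [map_mul, map_mul, map_inv, hg, hh, σ_L σ hsurj hcen, σ_L σ hsurj hcen, mul_inv_eq_iff_eq_mul]
        apply Subtype.ext
        change Matrix.diagonal v * Matrix.diagonal t = Matrix.diagonal t * Matrix.diagonal v
        rw [Matrix.diagonal_mul_diagonal, Matrix.diagonal_mul_diagonal]
        simp_rw [mul_comm]
      have e4 : σ (g * y₁ * g⁻¹) = σ y₂ := by
        rw [map_mul, map_mul, map_inv, hg, σ_L σ hsurj hcen, e1, diag_conj v hv hij, v1, v2, div_one, e2]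
      rw [← comm_congr σ hsurj hcen e3 e4]
      calc ⁅g * h * g⁻¹, g * y₁ * g⁻¹⁆ = g * ⁅h, y₁⁆ * g⁻¹ := by simp only [commutatorElement_def]; group
        _ = ⁅h, y₁⁆ := by rw [central σ hsurj hcen (hz c' y₁ e1) g, mul_inv_cancel_right]
    set c₀ := c / (u - 1) with hc₀
    set y₀ := L σ hsurj (T i j c₀) with hy₀
    set y₂ := L σ hsurj (T i j (u * c₀)) with hy₂
    have e := inv c₀ y₀ y₂ (σ_L σ hsurj hcen _) (σ_L σ hsurj hcen _)
    rw [comm_congr σ hsurj hcen (x := h) (x' := h) (y := y₂) (y' := y₀ * y) rfl (by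
      rw [map_mul, hy, hy₀, hy₂, σ_L σ hsurj hcen, σ_L σ hsurj hcen, ← T_add hij]
      congr 1
      have : u - 1 ≠ 0 := sub_ne_zero.2 hu
      rw [hc₀]; field_simp; ring)] at e
    have e' : ⁅h, y₀ * y⁆ = ⁅h, y₀⁆ * ⁅h, y⁆ := by
      calc ⁅h, y₀ * y⁆ = ⁅h, y₀⁆ * (y₀ * ⁅h, y⁆ * y₀⁻¹) := by simp only [commutatorElement_def]; group
        _ = _ := by rw [central σ hsurj hcen (hz c y hy) y₀, mul_inv_cancel_right]
    rw [e', mul_eq_left] at e
    exact commutatorElement_eq_one_iff_commute.1 e
  have h31 : s / (s * s)⁻¹ = s ^ 3 := by field_simp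
  have h32 : (s * s)⁻¹ / s = (s ^ 3)⁻¹ := by field_simp
  have e1 : σ (h * L σ hsurj (T i m a) * h⁻¹) = σ (L σ hsurj (T i m (a * s ^ 3))) := by
    rw [map_mul, map_mul, map_inv, hh, σ_L σ hsurj hcen, σ_L σ hsurj hcen, σ_L σ hsurj hcen, diag_conj t ht him,
      t1, t3, h31, mul_comm]
  have e2 : σ (h * L σ hsurj (T m j (s ^ 3 * b)) * h⁻¹) = σ (L σ hsurj (T m j b)) := by
    rw [map_mul, map_mul, map_inv, hh, σ_L σ hsurj hcen, σ_L σ hsurj hcen, σ_L σ hsurj hcen, diag_conj t ht hmj,
      t2, t3, h32, inv_mul_cancel_left₀ (pow_ne_zero 3 hs)]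
  rw [← comm_congr σ hsurj hcen e1 e2]
  calc ⁅h * L σ hsurj (T i m a) * h⁻¹, h * L σ hsurj (T m j (s ^ 3 * b)) * h⁻¹⁆
      = h * ⁅L σ hsurj (T i m a), L σ hsurj (T m j (s ^ 3 * b))⁆ * h⁻¹ := by
        simp only [commutatorElement_def]; group
    _ = _ := by
      rw [(hcom _ _ (σ_bracket σ hsurj hcen hij him hmj a (s ^ 3 * b))).eq, mul_inv_cancel_right]

omit hsurj hcen h3 hex in
theorem exists_mid (i j : n) (h : 3 ≤ Fintype.card n) : ∃ m, m ≠ i ∧ m ≠ j :=
  Classical.Linear.exists_third h i j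

/-- Steinberg's relations for a family of lifts. -/
structure IsSystem (X : n → n → F → Γ) : Prop where
  lift : ∀ i j, i ≠ j → ∀ a, σ (X i j a) = T i j a
  add : ∀ i j, i ≠ j → ∀ a b, X i j (a + b) = X i j a * X i j b
  comm : ∀ i j k l, i ≠ j → k ≠ l → i ≠ l → j ≠ k → ∀ a b, Commute (X i j a) (X k l b)
  bracket : ∀ i j k, i ≠ j → j ≠ k → i ≠ k → ∀ a b, ⁅X i j a, X j k b⁆ = X i k (a * b)

/-- Lifts of the transvections satisfying Steinberg's relations exist. -/
theorem exists_system : ∃ X : n → n → F → Γ, IsSystem σ X := by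
  classical
  let X : n → n → F → Γ := fun i j a =>
    ⁅L σ hsurj (T i (Classical.choose (exists_mid i j h3)) a),
      L σ hsurj (T (Classical.choose (exists_mid i j h3)) j 1)⁆
  have hmid : ∀ i j : n, Classical.choose (exists_mid i j h3) ≠ i ∧ Classical.choose (exists_mid i j h3) ≠ j :=
    fun i j => Classical.choose_spec (exists_mid i j h3)
  have hX : ∀ i j m : n, i ≠ j → i ≠ m → m ≠ j → ∀ a b : F,
      ⁅L σ hsurj (T i m a), L σ hsurj (T m j b)⁆ = X i j (a * b) := by
    intro i j m hij him hmj a b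
    obtain ⟨h1, h2⟩ := hmid i j
    rw [show b = b * 1 from (mul_one b).symm, ← bracket_balanced σ hsurj hcen h3 hex hij him hmj, mul_one b]
    by_cases he : m = Classical.choose (exists_mid i j h3)
    · subst he; rfl
    · have e := bracket_assoc σ hsurj hcen h3 hex hij him hmj h1.symm h2 he (a * b) 1 1
      rw [mul_one, mul_one] at e
      exact e
  have hlift : ∀ i j : n, i ≠ j → ∀ a, σ (X i j a) = T i j a := fun i j hij a => by
    rw [σ_bracket σ hsurj hcen hij (hmid i j).1.symm (hmid i j).2, mul_one]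
  refine ⟨X, hlift, fun i j hij a b => bracket_add_left σ hsurj hcen h3 hex hij (hmid i j).1.symm (hmid i j).2 a b 1,
    fun i j k l hij hkl hil hjk a b => com σ hsurj hcen h3 hex hij hkl hil hjk (hlift i j hij a) (hlift k l hkl b),
    fun i j k hij hjk hik a b => ?_⟩
  rw [← hX i k j hik hij hjk a b]
  exact comm_congr σ hsurj hcen (by rw [hlift i j hij, σ_L σ hsurj hcen]) (by rw [hlift j k hjk, σ_L σ hsurj hcen])

end Cfsg.Agent.SimpleFacts.SLnRootLifts
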