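import Cfsg.Agent.SimpleFacts.SLnRootLifts
import Cfsg.Agent.SimpleFacts.SLTwoMultiplier
import Cfsg.Agent.Lib.Classical.Linear
import Mathlib

/-!
Consequences of Steinberg's relations among lifts of transvections: blocks, monomial conjugation, and the
upper unitriangular part.
-/

set_option autoImplicit false
set_option linter.unusedSectionVars false

namespace Cfsg.Agent.SimpleFacts.SLnSystem

open Matrix Cfsg.Agent.SimpleFacts.SLnRootLifts
open scoped commutatorElement

universe u v w

/-! ### Block embeddings -/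

section block

variable {n : Type u} [Fintype n] [DecidableEq n] {s : Type*} [Fintype s] [DecidableEq s] {R : Type v} [CommRing R]
  (e : s ↪ n)

/-- The splitting of the indices by the range of an embedding. -/
noncomputable def splitEquiv : s ⊕ {x // x ∉ Set.range e} ≃ n :=
  (Equiv.sumCongr (Equiv.ofInjective e e.injective) (Equiv.refl _)).trans (Equiv.sumCompl fun x => x ∈ Set.range e)

theorem splitEquiv_symm_apply (a : s) : (splitEquiv e).symm (e a) = Sum.inl a := by
  rw [Equiv.symm_apply_eq]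
  rfl

theorem splitEquiv_symm_of_notMem {x : n} (hx : x ∉ Set.range e) :
    (splitEquiv e).symm x = Sum.inr ⟨x, hx⟩ := by
  rw [Equiv.symm_apply_eq]
  rfl

/-- The block embedding of special linear groups. -/
noncomputable def blockHom : SpecialLinearGroup s R →* SpecialLinearGroup n R where
  toFun g := ⟨Matrix.reindex (splitEquiv e) (splitEquiv e) (Matrix.fromBlocks (g : Matrix s s R) 0 0 1), by
    rw [Matrix.det_reindex_self, Matrix.det_fromBlocks_one₂₂, Matrix.mul_zero, sub_zero]
    exact g.2⟩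
  map_one' := by
    apply Subtype.ext
    change Matrix.reindex (splitEquiv e) (splitEquiv e) (Matrix.fromBlocks (1 : Matrix s s R) 0 0 1) = 1
    rw [Matrix.fromBlocks_one, Matrix.reindex_apply, Matrix.submatrix_one_equiv]
  map_mul' g h := by
    apply Subtype.ext
    change Matrix.reindex (splitEquiv e) (splitEquiv e)
        (Matrix.fromBlocks ((g : Matrix s s R) * (h : Matrix s s R)) 0 0 1) =
      Matrix.reindex (splitEquiv e) (splitEquiv e) (Matrix.fromBlocks (g : Matrix s s R) 0 0 1) *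
        Matrix.reindex (splitEquiv e) (splitEquiv e) (Matrix.fromBlocks (h : Matrix s s R) 0 0 1)
    rw [Matrix.reindex_apply, Matrix.reindex_apply, Matrix.reindex_apply, Matrix.submatrix_mul_equiv,
      Matrix.fromBlocks_multiply]
    simp

theorem blockHom_coe (g : SpecialLinearGroup s R) : (blockHom e g : Matrix n n R) =
    Matrix.reindex (splitEquiv e) (splitEquiv e) (Matrix.fromBlocks (g : Matrix s s R) 0 0 1) := rfl

theorem blockHom_apply_emb (g : SpecialLinearGroup s R) (a b : s) :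
    (blockHom e g : Matrix n n R) (e a) (e b) = (g : Matrix s s R) a b := by
  rw [blockHom_coe, Matrix.reindex_apply, Matrix.submatrix_apply, splitEquiv_symm_apply, splitEquiv_symm_apply,
    Matrix.fromBlocks_apply₁₁]

theorem blockHom_apply_of_notMem (g : SpecialLinearGroup s R) {x y : n} (h : x ∉ Set.range e ∨ y ∉ Set.range e) :
    (blockHom e g : Matrix n n R) x y = (1 : Matrix n n R) x y := by
  classical
  rw [blockHom_coe, Matrix.reindex_apply, Matrix.submatrix_apply]
  by_cases hx : x ∈ Set.range e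
  · obtain ⟨a, rfl⟩ := hx
    have hy : y ∉ Set.range e := h.resolve_left (fun h' => h' ⟨a, rfl⟩)
    rw [splitEquiv_symm_apply, splitEquiv_symm_of_notMem e hy, Matrix.fromBlocks_apply₁₂, Matrix.zero_apply,
      Matrix.one_apply_ne]
    intro h'
    exact hy ⟨a, h'⟩
  · rw [splitEquiv_symm_of_notMem e hx]
    by_cases hy : y ∈ Set.range e
    · obtain ⟨b, rfl⟩ := hy
      rw [splitEquiv_symm_apply, Matrix.fromBlocks_apply₂₁, Matrix.zero_apply, Matrix.one_apply_ne]
      intro h'
      exact hx ⟨b, h'.symm⟩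
    · rw [splitEquiv_symm_of_notMem e hy, Matrix.fromBlocks_apply₂₂, Matrix.one_apply, Matrix.one_apply]
      simp [Subtype.ext_iff]

theorem blockHom_injective : Function.Injective (blockHom (R := R) e) := by
  intro g h hgh
  apply Subtype.ext
  ext a b
  rw [← blockHom_apply_emb e g, ← blockHom_apply_emb e h, hgh]

variable {F : Type v} [Field F]

theorem blockHom_T {a b : s} (hab : a ≠ b) (c : F) : blockHom e (T a b c) = T (e a) (e b) c := by
  classical
  apply Subtype.ext
  change (blockHom e (T a b c) : Matrix n n F) = (T (e a) (e b) c : Matrix n n F)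
  ext x y
  by_cases hxy : x ∈ Set.range e ∧ y ∈ Set.range e
  · obtain ⟨⟨x, rfl⟩, y, rfl⟩ := hxy
    rw [blockHom_apply_emb, T_coe hab, T_coe (e.injective.ne hab)]
    simp [Matrix.transvection, Matrix.one_apply, Matrix.single_apply]
  · rw [blockHom_apply_of_notMem e _ (not_and_or.1 hxy), T_coe (e.injective.ne hab), Matrix.transvection,
      Matrix.add_apply, Matrix.single_apply, if_neg, add_zero]
    rintro ⟨rfl, rfl⟩
    exact hxy ⟨⟨a, rfl⟩, b, rfl⟩

/-- The block subgroup is generated by its transvections. -/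
theorem range_blockHom : (blockHom (R := F) e).range =
    Subgroup.closure {g | ∃ a b : s, a ≠ b ∧ ∃ c : F, g = T (e a) (e b) c} := by
  rw [MonoidHom.range_eq_map, ← Classical.Linear.closure_transvectionSet, MonoidHom.map_closure]
  congr 1
  ext g
  constructor
  · rintro ⟨_, ⟨a, b, hab, c, rfl⟩, rfl⟩
    exact ⟨a, b, hab, c, by rw [← T_eq hab c, blockHom_T e hab]⟩
  · rintro ⟨a, b, hab, c, rfl⟩
    exact ⟨_, ⟨a, b, hab, c, rfl⟩, by rw [← T_eq hab c, blockHom_T e hab]⟩

end block

/-! ### Systems -/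

section sys

variable {n : Type u} [Fintype n] [DecidableEq n] {F : Type v} [Field F] {Γ : Type w} [Group Γ]
  {σ : Γ →* SpecialLinearGroup n F} {X : n → n → F → Γ} (hX : IsSystem σ X)

include hX

theorem X_zero {i j : n} (h : i ≠ j) : X i j 0 = 1 := by
  have e := hX.add i j h 0 0
  rwa [add_zero, left_eq_mul] at e

theorem X_pow {i j : n} (h : i ≠ j) (a : F) : ∀ k : ℕ, X i j a ^ k = X i j (k * a)
  | 0 => by rw [pow_zero, Nat.cast_zero, zero_mul, X_zero hX h]
  | k + 1 => by rw [pow_succ, X_pow h a k, ← hX.add i j h, Nat.cast_succ, add_mul, one_mul]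

theorem X_inv {i j : n} (h : i ≠ j) (a : F) : (X i j a)⁻¹ = X i j (-a) :=
  inv_eq_of_mul_eq_one_right (by rw [← hX.add i j h, add_neg_cancel, X_zero hX h])

theorem X_pow_char (p : ℕ) [CharP F p] {i j : n} (h : i ≠ j) (a : F) : X i j a ^ p = 1 := by
  rw [X_pow hX h, CharP.cast_eq_zero, zero_mul, X_zero hX h]

omit hX in
/-- The lifted block on a set of indices. -/
def blockLift (X : n → n → F → Γ) (S : Set n) : Subgroup Γ :=
  Subgroup.closure {g | ∃ i j, i ∈ S ∧ j ∈ S ∧ i ≠ j ∧ ∃ a, g = X i j a}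

omit hX in
theorem X_mem_blockLift {S : Set n} {i j : n} (hi : i ∈ S) (hj : j ∈ S) (h : i ≠ j) (a : F) :
    X i j a ∈ blockLift X S :=
  Subgroup.subset_closure ⟨i, j, hi, hj, h, a, rfl⟩

omit hX in
theorem blockLift_mono {S S' : Set n} (h : S ⊆ S') : blockLift X S ≤ blockLift X S' :=
  Subgroup.closure_mono fun _ ⟨i, j, hi, hj, hij, a, e⟩ => ⟨i, j, h hi, h hj, hij, a, e⟩

theorem blockLift_commute {S S' : Set n} (h : Disjoint S S') {x y : Γ} (hx : x ∈ blockLift X S)
    (hy : y ∈ blockLift X S') : Commute x y := by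
  have h1 : blockLift X S ≤ Subgroup.centralizer {g | ∃ i j, i ∈ S' ∧ j ∈ S' ∧ i ≠ j ∧ ∃ a, g = X i j a} := by
    rw [blockLift, Subgroup.closure_le]
    rintro _ ⟨i, j, hi, hj, hij, a, rfl⟩
    rw [SetLike.mem_coe, Subgroup.mem_centralizer_iff]
    rintro _ ⟨k, l, hk, hl, hkl, b, rfl⟩
    exact (hX.comm i j k l hij hkl (fun e => Set.disjoint_left.1 h hi (e ▸ hl))
      (fun e => Set.disjoint_left.1 h hj (e ▸ hk)) a b).symm.eq
  have h2 : x ∈ Subgroup.centralizer (blockLift X S' : Set Γ) := by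
    rw [blockLift, Subgroup.centralizer_closure]
    exact h1 hx
  exact ((Subgroup.mem_centralizer_iff.1 h2) y hy).symm

theorem map_blockLift {s : Type*} [Fintype s] [DecidableEq s] (e : s ↪ n) :
    (blockLift X (Set.range e)).map σ = (blockHom (R := F) e).range := by
  rw [blockLift, MonoidHom.map_closure, range_blockHom]
  congr 1
  ext g
  constructor
  · rintro ⟨_, ⟨_, _, ⟨a, rfl⟩, ⟨b, rfl⟩, hab, c, rfl⟩, rfl⟩
    exact ⟨a, b, fun h => hab (congrArg e h), c, hX.lift _ _ hab c⟩
  · rintro ⟨a, b, hab, c, rfl⟩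
    exact ⟨_, ⟨e a, e b, ⟨a, rfl⟩, ⟨b, rfl⟩, e.injective.ne hab, c, rfl⟩, hX.lift _ _ (e.injective.ne hab) c⟩

variable (hsurj : Function.Surjective σ) (hcen : σ.ker ≤ Subgroup.center Γ)
include hsurj hcen

/-- Monomial elements permute the lifts. -/
theorem conj_X (h3 : 3 ≤ Fintype.card n) {g : Γ} {π : Equiv.Perm n} {d : n → F} (hg : IsMonomial (σ g) π d)
    {i j : n} (hij : i ≠ j) (a : F) : g * X i j a * g⁻¹ = X (π i) (π j) (d i / d j * a) := by
  obtain ⟨m, hmi, hmj⟩ := Classical.Linear.exists_third h3 i j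
  have e : X i j a = ⁅X i m a, X m j 1⁆ := by rw [hX.bracket i m j hmi.symm hmj hij, mul_one]
  have hne : ∀ {x y : n}, x ≠ y → π x ≠ π y := fun h => π.injective.ne h
  rw [e]
  calc g * ⁅X i m a, X m j 1⁆ * g⁻¹ = ⁅g * X i m a * g⁻¹, g * X m j 1 * g⁻¹⁆ := by
        simp only [commutatorElement_def]; group
    _ = ⁅X (π i) (π m) (d i / d m * a), X (π m) (π j) (d m / d j * 1)⁆ :=
      comm_congr σ hsurj hcen
        (by rw [map_mul, map_mul, map_inv, hX.lift _ _ hmi.symm, hg.conj hmi.symm, hX.lift _ _ (hne hmi.symm)])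
        (by rw [map_mul, map_mul, map_inv, hX.lift _ _ hmj, hg.conj hmj, hX.lift _ _ (hne hmj)])
    _ = _ := by
      rw [hX.bracket _ _ _ (hne hmi.symm) (hne hmj) (hne hij)]
      congr 1
      field_simp [hg.1 m]

/-- Monomial elements move blocks. -/
theorem conj_blockLift (h3 : 3 ≤ Fintype.card n) {g : Γ} {π : Equiv.Perm n} {d : n → F}
    (hg : IsMonomial (σ g) π d) {S : Set n} {x : Γ} (hx : x ∈ blockLift X S) :
    g * x * g⁻¹ ∈ blockLift X (π '' S) := by
  have h : blockLift X S ≤ (blockLift X (π '' S)).comap (MulAut.conj g).toMonoidHom := by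
    rw [blockLift, Subgroup.closure_le]
    rintro _ ⟨i, j, hi, hj, hij, a, rfl⟩
    change g * X i j a * g⁻¹ ∈ blockLift X (π '' S)
    rw [conj_X hX hsurj hcen h3 hg hij]
    exact X_mem_blockLift (Set.mem_image_of_mem π hi) (Set.mem_image_of_mem π hj) (π.injective.ne hij) _
  exact h hx

/-- The lifts generate, modulo the kernel. -/
theorem blockLift_univ_sup_ker : blockLift X Set.univ ⊔ σ.ker = ⊤ := by
  rw [← Subgroup.comap_map_eq, eq_top_iff]
  intro g _
  rw [Subgroup.mem_comap, blockLift, MonoidHom.map_closure]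
  have h : Subgroup.closure (σ '' {g | ∃ i j, i ∈ Set.univ ∧ j ∈ Set.univ ∧ i ≠ j ∧ ∃ a, g = X i j a}) = ⊤ := by
    refine Classical.Linear.eq_top_of_transvection_mem _ fun i j hij c => Subgroup.subset_closure ?_
    exact ⟨_, ⟨i, j, trivial, trivial, hij, c, rfl⟩, by rw [hX.lift i j hij, T_eq hij]⟩
  rw [h]
  exact Subgroup.mem_top _

theorem commutator_le : commutator Γ ≤ blockLift X Set.univ := by
  have htop := blockLift_univ_sup_ker hX hsurj hcen
  rw [commutator_def, Subgroup.commutator_le]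
  intro a _ b _
  have key : ∀ g : Γ, ∃ x ∈ blockLift X Set.univ, σ g = σ x := fun g => by
    have hg : g ∈ blockLift X Set.univ ⊔ σ.ker := htop.symm ▸ Subgroup.mem_top g
    rw [← Subgroup.comap_map_eq, Subgroup.mem_comap] at hg
    obtain ⟨x, hx, e⟩ := hg
    exact ⟨x, hx, e.symm⟩
  obtain ⟨x, hx, ex⟩ := key a
  obtain ⟨y, hy, ey⟩ := key b
  rw [comm_congr σ hsurj hcen ex ey]
  exact Subgroup.mul_mem _ (Subgroup.mul_mem _ (Subgroup.mul_mem _ hx hy) (inv_mem hx)) (inv_mem hy)

end sys

/-! ### The transfer step -/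

section transfer

variable {Γ : Type w} [Group Γ] [Finite Γ] {G : Type*} [Group G] {σ : Γ →* G}

/-- A kernel element of `r`-power order in the derived group lies in the derived subgroup of the preimage of
any subgroup of index prime to `r`. -/
theorem mem_derived_of_index (hcen : σ.ker ≤ Subgroup.center Γ) {r : ℕ} [Fact r.Prime]
    (H : Subgroup Γ) (hker : σ.ker ≤ H) (hidx : ¬ r ∣ H.index) {z : Γ} (hz : z ∈ σ.ker)
    (hzd : z ∈ commutator Γ) (hzr : ∃ k : ℕ, z ^ r ^ k = 1) : z ∈ ⁅H, H⁆ := by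
  obtain ⟨P₀⟩ : Nonempty (Sylow r H) := inferInstance
  have hidx' : ¬ r ∣ ((P₀ : Subgroup H).map H.subtype).index := by
    rw [Subgroup.index_map_subtype]
    exact Nat.Prime.not_dvd_mul Fact.out P₀.not_dvd_index hidx
  obtain ⟨P, hP⟩ := ((IsPGroup.map P₀.isPGroup' H.subtype).exists_le_sylow)
  have hPeq : (P : Subgroup Γ) = (P₀ : Subgroup H).map H.subtype := by
    refine le_antisymm ?_ hP
    rw [← Subgroup.relIndex_eq_one]
    obtain ⟨k, hk⟩ := P.isPGroup'.index ((((P₀ : Subgroup H).map H.subtype)).subgroupOf (P : Subgroup Γ))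
    have hdvd := (Subgroup.relIndex_mul_index hP).symm ▸
      dvd_mul_right ((((P₀ : Subgroup H).map H.subtype)).relIndex (P : Subgroup Γ)) (P : Subgroup Γ).index
    rw [Subgroup.relIndex] at hdvd ⊢
    rw [hk] at hdvd ⊢
    rcases k with _ | k
    · rw [pow_zero]
    · exact absurd ((dvd_pow_self r (Nat.succ_ne_zero k)).trans hdvd) hidx'
  have hzP : z ∈ (P : Subgroup Γ) := by
    have hZ : IsPGroup r (Subgroup.zpowers z) := by
      obtain ⟨k, hk⟩ := hzr
      obtain ⟨l, -, hl⟩ := (Nat.dvd_prime_pow Fact.out).1 (orderOf_dvd_of_pow_eq_one hk)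
      exact IsPGroup.of_card (n := l) (by rw [Nat.card_zpowers, hl])
    have hN : (Subgroup.zpowers z).Normal := ⟨fun x hx g => by
      have hxc : x ∈ Subgroup.center Γ := (Subgroup.zpowers_le.2 (hcen hz)) hx
      rwa [Subgroup.mem_center_iff.1 hxc g, mul_inv_cancel_right]⟩
    obtain ⟨Q, hQ⟩ := hZ.exists_le_sylow
    obtain ⟨g, hg⟩ := MulAction.exists_smul_eq Γ Q P
    rw [← hg, Sylow.coe_subgroup_smul, Subgroup.mem_pointwise_smul_iff_inv_smul_mem]
    refine hQ ?_
    have := hN.conj_mem z (Subgroup.mem_zpowers z) g⁻¹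
    simpa [MulAut.smul_def] using this
  have h := SLTwoMultiplier.mem_commutator_sylow P (hcen hz) hzd hzP
  have h' : z ∈ (commutator (P : Subgroup Γ)).map (P : Subgroup Γ).subtype := ⟨_, h, rfl⟩
  rw [commutator_def, Subgroup.map_commutator, ← MonoidHom.range_eq_map, Subgroup.range_subtype] at h'
  have hPH : (P : Subgroup Γ) ≤ H := by rw [hPeq]; exact Subgroup.map_subtype_le _
  exact Subgroup.commutator_mono hPH hPH h'

/-- A group generated by elements of order dividing `p` has its central `r`-subgroups in the derived group,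
for `r ≠ p`. -/
theorem mem_commutator_of_generated {p r : ℕ} (hp : p.Prime) (hr : r.Prime) (hpr : r ≠ p) {s : Set Γ}
    (hs : Subgroup.closure s = ⊤) (hsp : ∀ x ∈ s, x ^ p = 1) {z : Γ} (hz : ∃ k : ℕ, z ^ r ^ k = 1) :
    z ∈ commutator Γ := by
  have hall : ∀ g : Γ, (Abelianization.of g) ^ p = 1 := by
    intro g
    have hg : g ∈ Subgroup.closure s := hs.symm ▸ Subgroup.mem_top g
    induction hg using Subgroup.closure_induction with
    | mem x hx => rw [← map_pow, hsp x hx, map_one]
    | one => rw [map_one, one_pow]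
    | mul x y _ _ hx hy => rw [map_mul, mul_pow, hx, hy, one_mul]
    | inv x _ hx => rw [map_inv, inv_pow, hx, inv_one]
  obtain ⟨k, hk⟩ := hz
  rw [← Abelianization.ker_of, MonoidHom.mem_ker, ← orderOf_eq_one_iff]
  have h1 := orderOf_dvd_of_pow_eq_one (hall z)
  have h2 := orderOf_dvd_of_pow_eq_one (show (Abelianization.of z) ^ r ^ k = 1 by rw [← map_pow, hk, map_one])
  have hco : Nat.Coprime p (r ^ k) := Nat.Coprime.pow_right k ((Nat.coprime_primes hp hr).2 hpr.symm)
  exact Nat.dvd_one.1 (hco ▸ Nat.dvd_gcd h1 h2)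

end transfer

end Cfsg.Agent.SimpleFacts.SLnSystem
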