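import Cfsg.Agent.SimpleFacts.SLnSystem
import Mathlib

/-!
The characteristic part of the kernel: the upper unitriangular lifts meet it trivially.
-/

set_option autoImplicit false
set_option linter.unusedSectionVars false

namespace Cfsg.Agent.SimpleFacts.SLnUnipotent

open Matrix Cfsg.Agent.SimpleFacts.SLnRootLifts Cfsg.Agent.SimpleFacts.SLnSystem
open scoped commutatorElement

universe v w

variable {N : ℕ} {F : Type v} [Field F] {Γ : Type w} [Group Γ]
  {σ : Γ →* SpecialLinearGroup (Fin N) F} {X : Fin N → Fin N → F → Γ} (hX : IsSystem σ X)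

/-- The upper lifts in the first `k` columns. -/
def upper (X : Fin N → Fin N → F → Γ) (k : ℕ) : Subgroup Γ :=
  Subgroup.closure {g | ∃ i j : Fin N, i < j ∧ (j : ℕ) < k ∧ ∃ a, g = X i j a}

theorem X_mem_upper {k : ℕ} {i j : Fin N} (h : i < j) (hk : (j : ℕ) < k) (a : F) : X i j a ∈ upper X k :=
  Subgroup.subset_closure ⟨i, j, h, hk, a, rfl⟩

include hX

/-- One root as a homomorphism. -/
def rootHom {i j : Fin N} (h : i ≠ j) : Multiplicative F →* Γ where
  toFun a := X i j a.toAdd
  map_one' := X_zero hX h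
  map_mul' a b := hX.add i j h a.toAdd b.toAdd

theorem column_commute (c : Fin N) : Pairwise fun i l : {i : Fin N // i < c} =>
    ∀ (a b : Multiplicative F), Commute (rootHom hX (ne_of_lt i.2) a) (rootHom hX (ne_of_lt l.2) b) :=
  fun i l _ a b => hX.comm i.1 c l.1 c (ne_of_lt i.2) (ne_of_lt l.2) (ne_of_lt i.2) (ne_of_lt l.2).symm _ _

/-- One column as a homomorphism. -/
def column (c : Fin N) : ({i : Fin N // i < c} → Multiplicative F) →* Γ :=
  MonoidHom.noncommPiCoprod _ (column_commute hX c)

theorem column_single (c : Fin N) (i : {i : Fin N // i < c}) (a : Multiplicative F) :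
    column hX c (Pi.mulSingle i a) = X i.1 c a.toAdd :=
  MonoidHom.noncommPiCoprod_mulSingle (N := fun _ => Multiplicative F) _ i a

/-- The matrix of a column element. -/
theorem column_entry (c : Fin N) (x : {i : Fin N // i < c} → Multiplicative F) (i l : Fin N) :
    (σ (column hX c x) : Matrix (Fin N) (Fin N) F) i l =
      (1 : Matrix (Fin N) (Fin N) F) i l + if h : l = c ∧ i < c then (x ⟨i, h.2⟩).toAdd else 0 := by
  classical
  have key : ∀ x : {i : Fin N // i < c} → Multiplicative F, (σ (column hX c x) : Matrix (Fin N) (Fin N) F) =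
      1 + Matrix.of fun i l => if h : l = c ∧ i < c then (x ⟨i, h.2⟩).toAdd else 0 := by
    intro x
    induction x using Pi.mulSingle_induction with
    | one =>
      ext i l
      simp [Matrix.add_apply]
    | mul x y hx hy =>
      rw [map_mul, map_mul]
      change (σ (column hX c x) : Matrix (Fin N) (Fin N) F) * (σ (column hX c y) : Matrix (Fin N) (Fin N) F) = _
      rw [hx, hy, add_mul, one_mul, mul_add, mul_one]
      ext i l
      have h0 : ∀ m : Fin N, (Matrix.of fun i l => if h : l = c ∧ i < c then (x ⟨i, h.2⟩).toAdd else (0 : F)) i m *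
          (Matrix.of fun i l => if h : l = c ∧ i < c then (y ⟨i, h.2⟩).toAdd else (0 : F)) m l = 0 := by
        intro m
        simp only [Matrix.of_apply]
        by_cases hm : m = c
        · rw [dif_neg (c := l = c ∧ m < c) (fun h => (ne_of_lt h.2) hm), mul_zero]
        · rw [dif_neg (c := m = c ∧ i < c) (fun h => hm h.1), zero_mul]
      simp only [Matrix.add_apply, Matrix.mul_apply]
      rw [Finset.sum_eq_zero fun m _ => h0 m, add_zero]
      simp only [Matrix.of_apply]
      split_ifs with h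
      · rw [Pi.mul_apply, toAdd_mul]; ring
      · ring
    | mulSingle m a =>
      rw [column_single, hX.lift _ _ (ne_of_lt m.2), T_coe (ne_of_lt m.2), Matrix.transvection]
      congr 1
      ext i l
      rw [Matrix.single_apply, Matrix.of_apply]
      by_cases h : l = c ∧ i < c
      · rw [dif_pos h]
        by_cases him : m = (⟨i, h.2⟩ : {i : Fin N // i < c})
        · subst him; rw [Pi.mulSingle_eq_same, if_pos ⟨rfl, h.1.symm⟩]
        · rw [Pi.mulSingle_eq_of_ne (Ne.symm him), toAdd_one, if_neg]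
          rintro ⟨e1, -⟩
          exact him (Subtype.ext e1)
      · rw [dif_neg h, if_neg]
        rintro ⟨e1, e2⟩
        exact h ⟨e2.symm, e1 ▸ m.2⟩
  rw [key x]
  rfl

/-- Upper lifts in earlier columns fix the basis vector of a column. -/
theorem upper_fix (c : Fin N) {u : Γ} (hu : u ∈ upper X (c : ℕ)) :
    (σ u : Matrix (Fin N) (Fin N) F) *ᵥ Pi.single c 1 = Pi.single c 1 := by
  induction hu using Subgroup.closure_induction with
  | mem g hg =>
    obtain ⟨i, j, hij, hj, a, rfl⟩ := hg
    rw [hX.lift _ _ (ne_of_lt hij), T_coe (ne_of_lt hij)]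
    funext r
    rw [Classical.Linear.transvection_mulVec_apply,
      show (Pi.single c (1 : F) : Fin N → F) j = 0 from
        Pi.single_eq_of_ne (show j ≠ c from fun e => absurd hj (e ▸ lt_irrefl _)) _, mul_zero]
    simp
  | one =>
    rw [map_one]
    exact Matrix.one_mulVec _
  | mul g h _ _ hg hh =>
    rw [map_mul]
    change ((σ g : Matrix (Fin N) (Fin N) F) * (σ h : Matrix (Fin N) (Fin N) F)) *ᵥ _ = _
    rw [← Matrix.mulVec_mulVec, hh, hg]
  | inv g _ hg =>
    nth_rw 1 [← hg]
    rw [Matrix.mulVec_mulVec]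
    change ((σ g⁻¹ * σ g : SpecialLinearGroup (Fin N) F) : Matrix (Fin N) (Fin N) F) *ᵥ _ = _
    rw [← map_mul, inv_mul_cancel, map_one]
    exact Matrix.one_mulVec _

/-- The upper lifts of earlier columns normalise a column. -/
theorem upper_conj (c : Fin N) {u : Γ} (hu : u ∈ upper X (c : ℕ))
    {v : Γ} (hv : v ∈ (column hX c).range) : u * v * u⁻¹ ∈ (column hX c).range := by
  have hgen : ∀ (l : Fin N) (h : l < c) (b : F), X l c b ∈ (column hX c).range := fun l h b =>
    ⟨Pi.mulSingle ⟨l, h⟩ (Multiplicative.ofAdd b), by rw [column_single]; rfl⟩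
  suffices h : ∀ g, (∃ i j : Fin N, i < j ∧ (j : ℕ) < c ∧ ∃ a, g = X i j a) →
      ∀ x : {i : Fin N // i < c} → Multiplicative F, g * column hX c x * g⁻¹ ∈ (column hX c).range by
    induction hu using Subgroup.closure_induction_left generalizing v with
    | one => simpa using hv
    | mul_left g hg w _ ih =>
      obtain ⟨x, hx⟩ := ih hv
      rw [show g * w * v * (g * w)⁻¹ = g * (w * v * w⁻¹) * g⁻¹ by group, ← hx]
      exact h g hg x
    | inv_mul_cancel g hg w _ ih =>
      obtain ⟨x, hx⟩ := ih hv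
      obtain ⟨i, j, hij, hj, a, rfl⟩ := hg
      rw [show (X i j a)⁻¹ * w * v * ((X i j a)⁻¹ * w)⁻¹ = (X i j a)⁻¹ * (w * v * w⁻¹) * (X i j a)⁻¹⁻¹ by group,
        ← hx, X_inv hX (ne_of_lt hij)]
      exact h _ ⟨i, j, hij, hj, -a, rfl⟩ x
  rintro g ⟨i, j, hij, hj, a, rfl⟩ x
  have hjc : j < c := hj
  induction x using Pi.mulSingle_induction with
  | one => simp
  | mul x y hx hy =>
    rw [map_mul, show X i j a * (column hX c x * column hX c y) * (X i j a)⁻¹ =
      (X i j a * column hX c x * (X i j a)⁻¹) * (X i j a * column hX c y * (X i j a)⁻¹) by group]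
    exact mul_mem hx hy
  | mulSingle m b =>
    rw [column_single]
    by_cases hjm : j = m.1
    · rw [show X i j a * X m.1 c b.toAdd * (X i j a)⁻¹ = ⁅X i j a, X m.1 c b.toAdd⁆ * X m.1 c b.toAdd by
        rw [commutatorElement_def]; group, ← hjm, hX.bracket i j c (ne_of_lt hij) (ne_of_lt hjc)
        (ne_of_lt (hij.trans hjc))]
      exact mul_mem (hgen i (hij.trans hjc) _) (hgen j hjc _)
    · rw [(hX.comm i j m.1 c (ne_of_lt hij) (ne_of_lt m.2) (ne_of_lt (hij.trans hjc)) hjm a _).eq,
        mul_inv_cancel_right]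
      exact hgen m.1 m.2 _

/-- Normal form of one more column. -/
theorem exists_column_mul (c : Fin N) {g : Γ} (hg : g ∈ upper X (c + 1 : ℕ)) :
    ∃ x, ∃ u ∈ upper X (c : ℕ), g = column hX c x * u := by
  induction hg using Subgroup.closure_induction_left with
  | one => exact ⟨1, 1, one_mem _, by simp⟩
  | mul_left g hg w _ ih =>
    obtain ⟨x, u, hu, rfl⟩ := ih
    obtain ⟨i, j, hij, hj, a, rfl⟩ := hg
    rcases (Nat.lt_succ_iff.1 hj).lt_or_eq with hlt | heq
    · obtain ⟨y, hy⟩ := upper_conj hX c (X_mem_upper (X := X) hij hlt a) ⟨x, rfl⟩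
      exact ⟨y, X i j a * u, mul_mem (X_mem_upper hij hlt a) hu, by rw [hy]; group⟩
    · have hjc : j = c := Fin.ext heq
      have hic : i < c := lt_of_lt_of_eq hij hjc
      refine ⟨Pi.mulSingle (⟨i, hic⟩ : {i : Fin N // i < c}) (Multiplicative.ofAdd a) * x, u, hu, ?_⟩
      rw [map_mul, column_single, mul_assoc, hjc]; rfl
  | inv_mul_cancel g hg w _ ih =>
    obtain ⟨x, u, hu, rfl⟩ := ih
    obtain ⟨i, j, hij, hj, a, rfl⟩ := hg
    rw [X_inv hX (ne_of_lt hij)]
    rcases (Nat.lt_succ_iff.1 hj).lt_or_eq with hlt | heq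
    · obtain ⟨y, hy⟩ := upper_conj hX c (X_mem_upper (X := X) hij hlt (-a)) ⟨x, rfl⟩
      exact ⟨y, X i j (-a) * u, mul_mem (X_mem_upper hij hlt (-a)) hu, by rw [hy]; group⟩
    · have hjc : j = c := Fin.ext heq
      have hic : i < c := lt_of_lt_of_eq hij hjc
      refine ⟨Pi.mulSingle (⟨i, hic⟩ : {i : Fin N // i < c}) (Multiplicative.ofAdd (-a)) * x, u, hu, ?_⟩
      rw [map_mul, column_single, mul_assoc, hjc]; rfl

theorem column_eq_of_image (c : Fin N) {x y : {i : Fin N // i < c} → Multiplicative F} {u u' : Γ}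
    (hu : u ∈ upper X (c : ℕ)) (hu' : u' ∈ upper X (c : ℕ))
    (h : σ (column hX c x * u) = σ (column hX c y * u')) : x = y := by
  have hv := congrArg (fun g : SpecialLinearGroup (Fin N) F => (g : Matrix (Fin N) (Fin N) F) *ᵥ Pi.single c 1) h
  simp only [map_mul] at hv
  change ((σ (column hX c x) : Matrix (Fin N) (Fin N) F) * (σ u : Matrix (Fin N) (Fin N) F)) *ᵥ _ =
    ((σ (column hX c y) : Matrix (Fin N) (Fin N) F) * (σ u' : Matrix (Fin N) (Fin N) F)) *ᵥ _ at hv
  rw [← Matrix.mulVec_mulVec, ← Matrix.mulVec_mulVec, upper_fix hX c hu, upper_fix hX c hu',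
    Matrix.mulVec_single_one, Matrix.mulVec_single_one] at hv
  funext i
  have e := congrFun hv i.1
  rw [Matrix.col_apply, Matrix.col_apply, column_entry, column_entry, dif_pos ⟨rfl, i.2⟩, dif_pos ⟨rfl, i.2⟩] at e
  exact Multiplicative.toAdd.injective (add_left_cancel e)

/-- The upper lifts meet the kernel trivially. -/
theorem upper_inj : ∀ k ≤ N, ∀ u ∈ upper X k, σ u = 1 → u = 1
  | 0, _, u, hu, _ => by
    have : upper X 0 = ⊥ := by
      rw [upper, eq_bot_iff, Subgroup.closure_le]
      rintro _ ⟨i, j, -, hj, -⟩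
      exact absurd hj (Nat.not_lt_zero _)
    rw [this, Subgroup.mem_bot] at hu
    exact hu
  | k + 1, hk, g, hg, h1 => by
    obtain ⟨x, u, hu, rfl⟩ := exists_column_mul hX ⟨k, hk⟩ hg
    have hx : x = 1 := column_eq_of_image hX ⟨k, hk⟩ hu (one_mem _) (y := 1) (by rw [h1]; simp)
    subst hx
    rw [map_one, one_mul] at h1 ⊢
    exact upper_inj k (Nat.le_of_succ_le hk) u hu h1

variable [Fintype F] [Finite Γ]

/-- The number of upper lifts. -/
theorem card_upper : ∀ k ≤ N, Nat.card (upper X k) = ∏ c ∈ Finset.range k, Fintype.card F ^ c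
  | 0, _ => by
    have : upper X 0 = ⊥ := by
      rw [upper, eq_bot_iff, Subgroup.closure_le]
      rintro _ ⟨i, j, -, hj, -⟩
      exact absurd hj (Nat.not_lt_zero _)
    rw [this, Subgroup.card_bot, Finset.prod_range_zero]
  | k + 1, hk => by
    have hle : upper X k ≤ upper X (k + 1) :=
      Subgroup.closure_mono fun _ ⟨i, j, hij, hj, a, e⟩ => ⟨i, j, hij, hj.trans (Nat.lt_succ_self k), a, e⟩
    set c : Fin N := ⟨k, hk⟩
    let f : ({i : Fin N // i < c} → Multiplicative F) × upper X k → upper X (k + 1) := fun p =>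
      ⟨column hX c p.1 * p.2.1, mul_mem (by
        have hr : (column hX c).range ≤ upper X (k + 1) := by
          rintro _ ⟨x, rfl⟩
          induction x using Pi.mulSingle_induction with
          | one => simp
          | mul x y hx hy => rw [map_mul]; exact mul_mem hx hy
          | mulSingle m a => rw [column_single]; exact X_mem_upper m.2 (Nat.lt_succ_self k) _
        exact hr ⟨p.1, rfl⟩) (hle p.2.2)⟩
    have hf : Function.Bijective f := by
      refine ⟨fun p q h => ?_, fun g => ?_⟩
      · have e := congrArg Subtype.val h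
        have h1 : p.1 = q.1 := column_eq_of_image hX c p.2.2 q.2.2 (congrArg σ e)
        exact Prod.ext h1 (Subtype.ext (by simpa [f, h1] using e))
      · obtain ⟨x, u, hu, e⟩ := exists_column_mul hX c g.2
        exact ⟨⟨x, u, hu⟩, Subtype.ext e.symm⟩
    have hcol : Nat.card {i : Fin N // i < c} = k := by
      rw [Nat.card_eq_fintype_card, Fintype.card_subtype]
      simp [Finset.filter_gt_eq_Iio, c]
    rw [← Nat.card_eq_of_bijective f hf, Nat.card_prod, card_upper k (Nat.le_of_succ_le hk), Nat.card_fun,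
      hcol, Finset.prod_range_succ, mul_comm, Nat.card_congr Multiplicative.toAdd, Nat.card_eq_fintype_card]

/-- A kernel of `p`-power order inside the derived group is trivial. -/
theorem eq_one (hsurj : Function.Surjective σ) (hcen : σ.ker ≤ Subgroup.center Γ) (hN : 1 ≤ N)
    (p : ℕ) [Fact p.Prime] [CharP F p] {z : Γ} (hz : z ∈ σ.ker) (hzd : z ∈ commutator Γ)
    (hzp : ∃ k : ℕ, z ^ p ^ k = 1) : z = 1 := by
  set H := upper X N ⊔ σ.ker with hH
  have hidx : ¬ p ∣ H.index := by
    have hi : ((upper X N).map σ).index = H.index := by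
      rw [Subgroup.index_map, MonoidHom.range_eq_top.2 hsurj, Subgroup.index_top, mul_one]
    have hinj : Function.Injective (fun u : upper X N => σ u.1) := fun u u' e => by
      have e' : σ u.1 = σ u'.1 := e
      have h := upper_inj hX N le_rfl _ (mul_mem u.2 (inv_mem u'.2)) (by rw [map_mul, map_inv, e', mul_inv_cancel])
      exact Subtype.ext (mul_inv_eq_one.1 h)
    have hcard : Nat.card ((upper X N).map σ) = ∏ c ∈ Finset.range N, Fintype.card F ^ c := by
      rw [← card_upper hX N le_rfl]
      refine (Nat.card_eq_of_bijective (fun u : upper X N => (⟨σ u.1, Subgroup.mem_map_of_mem σ u.2⟩ : (upper X N).map σ))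
        ⟨fun u u' e => hinj (congrArg Subtype.val e), ?_⟩).symm
      rintro ⟨_, u, hu, rfl⟩
      exact ⟨⟨u, hu⟩, rfl⟩
    have hmul := ((upper X N).map σ).card_mul_index
    rw [hcard, hi] at hmul
    have hSL := Classical.Linear.mul_natCard_SL_fin (F := F) hN
    have hsplit : ∏ i : Fin N, (Fintype.card F ^ N - Fintype.card F ^ (i : ℕ)) =
        (∏ c ∈ Finset.range N, Fintype.card F ^ c) *
          ∏ c ∈ Finset.range N, (Fintype.card F ^ (N - c) - 1) := by
      rw [Fin.prod_univ_eq_prod_range (fun i => Fintype.card F ^ N - Fintype.card F ^ i) N,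
        ← Finset.prod_mul_distrib]
      refine Finset.prod_congr rfl fun c hc => ?_
      rw [Nat.mul_sub, ← pow_add, mul_one, Nat.add_sub_cancel' (Finset.mem_range.1 hc).le]
    rw [hsplit, ← hmul, mul_left_comm] at hSL
    have h2 : (Fintype.card F - 1) * H.index = ∏ c ∈ Finset.range N, (Fintype.card F ^ (N - c) - 1) :=
      Nat.eq_of_mul_eq_mul_left (Finset.prod_pos fun c _ => pow_pos Fintype.card_pos c) hSL
    intro hdvd
    have h3 : p ∣ ∏ c ∈ Finset.range N, (Fintype.card F ^ (N - c) - 1) := h2 ▸ hdvd.mul_left _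
    obtain ⟨c, hc, hpc⟩ := (Nat.prime_iff.1 (Fact.out : p.Prime)).exists_mem_finset_dvd h3
    have hpq : p ∣ Fintype.card F := by
      obtain ⟨f, -, hf⟩ := FiniteField.card F p
      rw [hf]
      exact dvd_pow_self p f.pos.ne'
    have hpow : p ∣ Fintype.card F ^ (N - c) := hpq.trans (dvd_pow_self _ (by
      have := Finset.mem_range.1 hc; omega))
    have := Nat.dvd_sub hpow hpc
    rw [Nat.sub_sub_self (Nat.one_le_pow _ _ Fintype.card_pos), Nat.dvd_one] at this
    exact (Fact.out : p.Prime).ne_one this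
  have h := mem_derived_of_index hcen H le_sup_right hidx hz hzd hzp
  have hle : ⁅H, H⁆ ≤ upper X N := by
    rw [Subgroup.commutator_le]
    intro a ha b hb
    have key : ∀ g ∈ H, ∃ x ∈ upper X N, σ g = σ x := fun g hg => by
      rw [hH, ← Subgroup.comap_map_eq, Subgroup.mem_comap] at hg
      obtain ⟨x, hx, e⟩ := hg
      exact ⟨x, hx, e.symm⟩
    obtain ⟨x, hx, ex⟩ := key a ha
    obtain ⟨y, hy, ey⟩ := key b hb
    rw [comm_congr σ hsurj hcen ex ey]
    exact Subgroup.mul_mem _ (Subgroup.mul_mem _ (Subgroup.mul_mem _ hx hy) (inv_mem hx)) (inv_mem hy)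
  exact upper_inj hX N le_rfl z (hle h) (MonoidHom.mem_ker.1 hz)

end Cfsg.Agent.SimpleFacts.SLnUnipotent
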