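import Cfsg.Agent.Lib.Classical.UnitaryFrames

/-!
# Involutions of `SU₃(q)`, `q` odd, as unit vectors up to scalars
-/

set_option autoImplicit false
set_option linter.unusedSectionVars false

namespace Cfsg.Agent.SimpleFacts.UnitaryThreeReflection

open Matrix Cfsg.Agent.Classical.Unitary
open Cfsg.Agent.Forms

variable {F : Type*} [Field F] [Fintype F] {q : ℕ} (hF : Fintype.card F = q ^ 2)

local notation "Vec" => (Fin 3 → F)
local notation "Mat" => Matrix (Fin 3) (Fin 3) F
local notation "H" => Cfsg.hermForm 3 F q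

include hF

theorem two_ne (hq : Odd q) : (2 : F) ≠ 0 := by
  intro h
  have h2 : ringChar F = 2 := by
    have := (ringChar.spec F 2).1 (by exact_mod_cast h)
    rcases (Nat.dvd_prime Nat.prime_two).1 this with h1 | h1
    · exact absurd h1 (CharP.ringChar_ne_one)
    · exact h1
  haveI : CharP F 2 := ringChar.of_eq h2
  obtain ⟨n, -, hn⟩ := FiniteField.card F 2
  have : Even (q ^ 2) := by rw [← hF, hn]; exact even_two.pow_of_ne_zero n.ne_zero
  exact Nat.not_even_iff_odd.2 hq ((Nat.even_pow.1 this).1)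

theorem two_pow : (2 : F) ^ q = 2 := by
  have := HermStd.add_pow_q hF (1 : F) 1
  rw [one_pow] at this
  norm_num at this
  exact this

theorem H_three (x y : Vec) : H x y = x 0 * y 0 ^ q + x 1 * y 1 ^ q + x 2 * y 2 ^ q := by
  simp [Cfsg.hermForm, Fin.sum_univ_three]

/-! ### The reflections -/

/-- The matrix `x ↦ -x + 2 H(x,v) v`. -/
def rmat (q : ℕ) (v : Fin 3 → F) : Matrix (Fin 3) (Fin 3) F :=
  -1 + (2 : F) • Matrix.vecMulVec v (fun i => v i ^ q)

theorem rmat_mulVec (v x : Vec) : rmat q v *ᵥ x = -x + (2 * H x v) • v := by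
  have h : (fun i => v i ^ q) ⬝ᵥ x = H x v := by
    rw [dotProduct_comm]; rfl
  funext i
  rw [rmat, Matrix.add_mulVec, Matrix.neg_mulVec, Matrix.one_mulVec, Matrix.smul_mulVec,
    Matrix.vecMulVec_mulVec, h]
  simp [mul_assoc, mul_comm, mul_left_comm]

theorem det_rmat {v : Vec} (hv : H v v = 1) : (rmat q v).det = 1 := by
  rw [H_three hF] at hv
  simp only [rmat, Matrix.det_fin_three, Matrix.add_apply, Matrix.neg_apply, Matrix.smul_apply,
    Matrix.one_apply, Matrix.vecMulVec_apply, smul_eq_mul]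
  simp
  linear_combination 2 * hv

theorem rmat_preserves {v : Vec} (hv : H v v = 1) (x y : Vec) :
    H (rmat q v *ᵥ x) (rmat q v *ᵥ y) = H x y := by
  rw [rmat_mulVec hF, rmat_mulVec hF]
  simp only [H_add_left, H_add_right hF, H_neg_left, H_neg_right hF, H_smul_left, H_smul_right]
  rw [mul_pow, two_pow hF, H_conj hF y v, hv]
  ring

/-- The reflection as an element of `SU₃`. -/
def refl {v : Vec} (hv : H v v = 1) : Cfsg.SU 3 F q :=
  suMk (rmat q v) (det_rmat hF hv) (rmat_preserves hF hv)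

theorem refl_mulVec {v : Vec} (hv : H v v = 1) (x : Vec) :
    mat (refl hF hv) *ᵥ x = -x + (2 * H x v) • v := rmat_mulVec hF v x

theorem refl_self {v : Vec} (hv : H v v = 1) : mat (refl hF hv) *ᵥ v = v := by
  rw [refl_mulVec hF, hv, mul_one, two_smul]; abel

theorem refl_sq {v : Vec} (hv : H v v = 1) : refl hF hv * refl hF hv = 1 := by
  refine SU_ext fun x => ?_
  rw [mul_mulVec, refl_mulVec hF, refl_mulVec hF, mat_one, Matrix.one_mulVec, H_add_left,
    H_neg_left, H_smul_left, hv]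
  module

theorem refl_ne_one (h2 : (2 : F) ≠ 0) {v : Vec} (hv : H v v = 1) : refl hF hv ≠ 1 := by
  intro h
  have key : ∀ x : Vec, H x v • v = x := fun x => by
    have := refl_mulVec hF hv x
    rw [h, mat_one, Matrix.one_mulVec] at this
    refine smul_right_injective _ h2 ?_
    simp only [smul_smul]
    rw [eq_neg_add_iff_add_eq] at this
    rw [← this, two_smul]
  have e : ∀ i : Fin 3, (v i ^ q) • v = Pi.single i 1 := fun i => by
    have := key (Pi.single i 1)
    rwa [← H_conj hF v, H_single_right hF] at this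
  have h00 := congrFun (e 0) 0
  have h01 := congrFun (e 0) 1
  have h11 := congrFun (e 1) 1
  simp at h00 h01 h11
  rcases h01 with h' | h' <;> simp [h', zero_pow (q_ne_zero hF)] at h00 h11

theorem scal_pow {v : Vec} (hv : H v v = 1) {w : Vec} (hw : H w w = 1) {a : F} (h : w = a • v) :
    a ^ (q + 1) = 1 := by
  rw [h, H_smul_left, H_smul_right, hv, mul_one] at hw
  rw [pow_succ']; exact hw

theorem H_smul_self {v : Vec} (hv : H v v = 1) {a : F} (ha : a ^ (q + 1) = 1) :
    H (a • v) (a • v) = 1 := by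
  rw [H_smul_left, H_smul_right, hv, mul_one, ← pow_succ', ha]

theorem refl_eq_iff (h2 : (2 : F) ≠ 0) {v w : Vec} (hv : H v v = 1) (hw : H w w = 1) :
    refl hF hv = refl hF hw ↔ ∃ a : F, w = a • v := by
  constructor
  · intro h
    refine ⟨H w v, ?_⟩
    have e1 := refl_self hF hw
    rw [← h, refl_mulVec hF, neg_add_eq_iff_eq_add, ← two_smul F w, mul_smul] at e1
    exact (smul_right_injective _ h2 e1).symm
  · rintro ⟨a, rfl⟩
    have ha := scal_pow hF hv hw rfl
    refine SU_ext fun x => ?_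
    rw [refl_mulVec hF, refl_mulVec hF, H_smul_right, smul_smul]
    congr 2
    rw [pow_succ] at ha
    linear_combination (-(2 * H x v)) * ha

/-! ### The perpendicular vector -/

omit hF in
/-- The coefficients of the determinant `x ↦ det (x, u, v)`. -/
def cr (u v : Fin 3 → F) : Fin 3 → F :=
  ![u 1 * v 2 - u 2 * v 1, u 2 * v 0 - u 0 * v 2, u 0 * v 1 - u 1 * v 0]

/-- A vector perpendicular to `u` and `v`. -/
def perp (q : ℕ) (u v : Fin 3 → F) : Fin 3 → F := fun i => cr u v i ^ q

theorem H_perp (x u v : Vec) : H x (perp q u v) =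
    x 0 * cr u v 0 + x 1 * cr u v 1 + x 2 * cr u v 2 := by
  simp [H_three hF, perp, pow_qq hF]

theorem H_perp_left (u v : Vec) : H u (perp q u v) = 0 := by
  simp [H_perp hF, cr]; ring

theorem H_perp_right (u v : Vec) : H v (perp q u v) = 0 := by
  simp [H_perp hF, cr]; ring

theorem perp_left (u v : Vec) : H (perp q u v) u = 0 :=
  (H_eq_zero_comm hF).1 (H_perp_left hF u v)

theorem perp_right (u v : Vec) : H (perp q u v) v = 0 :=
  (H_eq_zero_comm hF).1 (H_perp_right hF u v)

theorem H_perp_self (u v : Vec) :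
    H (perp q u v) (perp q u v) = H u u * H v v - H u v * H v u := by
  have hq : ∀ a b : F, (a - b) ^ q = a ^ q - b ^ q := fun a b => map_sub (HermStd.qHom hF) a b
  simp only [H_perp hF, perp]
  simp [cr, hq, mul_pow, H_three hF]
  ring

theorem exists_smul_of_perp {u v z : Vec} (hu : u ≠ 0) (hnp : ∀ a : F, v ≠ a • u)
    (hzu : H z u = 0) (hzv : H z v = 0) : ∃ a : F, z = a • perp q u v := by
  have hd : cr u v ≠ 0 := by
    intro h
    obtain ⟨i, hi⟩ : ∃ i, u i ≠ 0 := Function.ne_iff.1 hu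
    refine hnp (v i / u i) (funext fun j => ?_)
    have e0 := congrFun h 0
    have e1 := congrFun h 1
    have e2 := congrFun h 2
    simp [cr] at e0 e1 e2
    rw [Pi.smul_apply, smul_eq_mul, div_mul_eq_mul_div, eq_div_iff hi]
    fin_cases i <;> fin_cases j <;> simp <;>
      first
        | linear_combination e0 | linear_combination -e0
        | linear_combination e1 | linear_combination -e1
        | linear_combination e2 | linear_combination -e2
  have h1 := (H_eq_zero_comm hF).1 hzu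
  have h2 := (H_eq_zero_comm hF).1 hzv
  rw [H_three hF] at h1 h2
  obtain ⟨i, hi⟩ : ∃ i, cr u v i ≠ 0 := Function.ne_iff.1 hd
  have hpr : perp q u v i ≠ 0 := pow_ne_zero _ hi
  refine ⟨z i / perp q u v i, funext fun j => ?_⟩
  have key : z j ^ q * cr u v i = z i ^ q * cr u v j := by
    fin_cases i <;> fin_cases j <;> simp [cr] <;>
      first
        | linear_combination (v 0) * h1 - (u 0) * h2
        | linear_combination -(v 0) * h1 + (u 0) * h2
        | linear_combination (v 1) * h1 - (u 1) * h2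
        | linear_combination -(v 1) * h1 + (u 1) * h2
        | linear_combination (v 2) * h1 - (u 2) * h2
        | linear_combination -(v 2) * h1 + (u 2) * h2
  have key' := congrArg (fun x : F => x ^ q) key
  simp only [mul_pow, pow_qq hF] at key'
  rw [Pi.smul_apply, smul_eq_mul, div_mul_eq_mul_div, eq_div_iff hpr]
  exact key'

/-! ### Commuting -/

theorem commute_iff (h2 : (2 : F) ≠ 0) {v w : Vec} (hv : H v v = 1) (hw : H w w = 1) :
    Commute (refl hF hv) (refl hF hw) ↔ (∃ a : F, w = a • v) ∨ H v w = 0 := by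
  constructor
  · intro h
    by_cases hvw : H v w = 0
    · exact Or.inr hvw
    · left
      have e : mat (refl hF hv * refl hF hw) *ᵥ w = mat (refl hF hw * refl hF hv) *ᵥ w := by rw [h.eq]
      rw [mul_mulVec, mul_mulVec, refl_self hF, refl_mulVec hF hv w, refl_mulVec hF hw, H_add_left,
        H_neg_left, H_smul_left, hw] at e
      have e' : ((2 * 2 * H v w) * H w v) • w = ((2 * 2 : F) * H w v) • v := by
        linear_combination (norm := module) -e
      refine ⟨(2 * 2 * H w v) / ((2 * 2 * H v w) * H w v), ?_⟩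
      have hne : (2 * 2 * H v w) * H w v ≠ 0 := by
        simp only [ne_eq, mul_eq_zero, not_or]
        exact ⟨⟨⟨h2, h2⟩, hvw⟩, fun h' => hvw ((H_eq_zero_comm hF).2 h')⟩
      rw [div_eq_inv_mul, mul_smul, ← e', inv_smul_smul₀ hne]
  · rintro (⟨a, ha⟩ | hvw)
    · rw [(refl_eq_iff hF h2 hv hw).2 ⟨a, ha⟩]
    · refine SU_ext fun x => ?_
      rw [mul_mulVec, mul_mulVec]
      simp only [refl_mulVec hF, H_add_left, H_neg_left, H_smul_left, hvw,
        (H_eq_zero_comm hF).1 hvw]
      module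

/-! ### Every involution is a reflection -/

theorem exists_aniso {M : Mat} (hM : ∀ x y, H (M *ᵥ x) (M *ᵥ y) = H x y) (hM2 : M * M = 1)
    (h2 : (2 : F) ≠ 0) (hne : M ≠ -1) : ∃ u : Vec, M *ᵥ u = u ∧ H u u = 1 := by
  have hinv : ∀ x : Vec, M *ᵥ (M *ᵥ x) = x := fun x => by
    rw [Matrix.mulVec_mulVec, hM2, Matrix.one_mulVec]
  by_contra hcon
  push Not at hcon
  have hiso : ∀ a : Vec, M *ᵥ a = a → H a a = 0 := by
    intro a ha
    by_contra h0
    have hc : (H a a) ^ q = H a a := H_conj hF a a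
    obtain ⟨x, hx⟩ := Classical.UnitaryCount.exists_norm_eq hF (inv_ne_zero h0) (by rw [inv_pow, hc])
    refine hcon (x • a) (by rw [Matrix.mulVec_smul, ha]) ?_
    rw [H_smul_left, H_smul_right, ← mul_assoc, ← pow_succ', hx, inv_mul_cancel₀ h0]
  obtain ⟨c, hc⟩ : ∃ c : F, c ^ q ≠ c := by
    by_contra h
    push Not at h
    exact HermStd.qHom_ne_id hF (RingHom.ext h)
  have htot : ∀ a b : Vec, M *ᵥ a = a → M *ᵥ b = b → H a b = 0 := by
    intro a b ha hb
    have h1 := hiso (a + b) (by rw [Matrix.mulVec_add, ha, hb])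
    have h3 := hiso (c • a + b) (by rw [Matrix.mulVec_add, Matrix.mulVec_smul, ha, hb])
    simp only [H_add_left, H_add_right hF, H_smul_left, H_smul_right, hiso a ha, hiso b hb] at h1 h3
    have : (c ^ q - c) * H a b = 0 := by linear_combination c ^ q * h1 - h3
    exact (mul_eq_zero.1 this).resolve_left (sub_ne_zero.2 hc)
  refine hne (mat_ext fun x => ?_)
  have hp : M *ᵥ (x + M *ᵥ x) = x + M *ᵥ x := by rw [Matrix.mulVec_add, hinv, add_comm]
  have h0 : x + M *ᵥ x = 0 := by
    refine eq_zero_of_H hF fun y => ?_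
    have h3 := htot _ (y + M *ᵥ y) hp (by rw [Matrix.mulVec_add, hinv, add_comm])
    have h4 : H (x + M *ᵥ x) (M *ᵥ y) = H (x + M *ᵥ x) y := by
      conv_lhs => rw [← hp]
      exact hM _ _
    rw [H_add_right hF, h4, ← two_mul] at h3
    exact (mul_eq_zero.1 h3).resolve_left h2
  rw [Matrix.neg_mulVec, Matrix.one_mulVec]
  exact eq_neg_of_add_eq_zero_right h0

theorem exists_refl (hq : Odd q) (t : Cfsg.SU 3 F q) (ht : t ≠ 1) (ht2 : t * t = 1) :
    ∃ (v : Vec) (hv : H v v = 1), t = refl hF hv := by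
  have h2 := two_ne hF hq
  set M := mat t with hMdef
  have hdet : M.det = 1 := t.1.2
  have hM : ∀ x y, H (M *ᵥ x) (M *ᵥ y) = H x y := SU_H t
  have hM2 : M * M = 1 := by rw [hMdef, ← mat_mul, ht2, mat_one]
  have hM1 : M ≠ 1 := fun h => ht (SU_ext fun x => by rw [← hMdef, h, mat_one])
  have hMn : M ≠ -1 := by
    intro h
    rw [h, Matrix.det_neg, Matrix.det_one, Fintype.card_fin] at hdet
    exact h2 (by linear_combination -hdet)
  obtain ⟨u, hu, huu⟩ := exists_aniso hF hM hM2 h2 hMn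
  obtain ⟨w, hw, hww⟩ := exists_aniso (M := -M) hF
    (fun x y => by rw [Matrix.neg_mulVec, Matrix.neg_mulVec, H_neg_left, H_neg_right hF, neg_neg, hM])
    (by rw [neg_mul_neg, hM2]) h2 (fun h => hM1 (neg_inj.1 h))
  rw [Matrix.neg_mulVec, neg_eq_iff_eq_neg] at hw
  have huw : H u w = 0 := by
    have := hM u w
    rw [hu, hw, H_neg_right hF] at this
    exact (mul_eq_zero.1 (show (2 : F) * H u w = 0 by linear_combination -this)).resolve_left h2
  have hu0 : u ≠ 0 := fun h => by rw [h, H_zero_left] at huu; exact zero_ne_one huu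
  have hnp : ∀ a : F, w ≠ a • u := by
    intro a h
    rw [h, H_smul_right, huu, mul_one] at huw
    rw [h, (pow_eq_zero_iff (q_ne_zero hF)).1 huw, zero_smul, H_zero_left] at hww
    exact zero_ne_one hww
  set z := perp q u w with hz
  have hzz : H z z = 1 := by rw [hz, H_perp_self hF, huu, hww, huw, zero_mul, sub_zero, mul_one]
  have hzu : H z u = 0 := perp_left hF u w
  have hzw : H z w = 0 := perp_right hF u w
  have hdec : ∀ x : Vec, x = H x u • u + H x w • w + H x z • z := by
    intro x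
    have hwu := (H_eq_zero_comm hF).1 huw
    set d := x - (H x u • u + H x w • w + H x z • z) with hd
    obtain ⟨a, ha⟩ := exists_smul_of_perp hF hu0 hnp (z := d)
      (by simp [hd, H_sub_left, H_add_left, H_smul_left, huu, hwu, hzu])
      (by simp [hd, H_sub_left, H_add_left, H_smul_left, hww, huw, hzw])
    have hdz : H d z = 0 := by
      simp [hd, H_sub_left, H_add_left, H_smul_left, hzz,
        (H_eq_zero_comm hF).1 hzu, (H_eq_zero_comm hF).1 hzw]
    rw [ha, ← hz, H_smul_left, hzz, mul_one] at hdz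
    rw [hdz, zero_smul] at ha
    exact sub_eq_zero.1 ha
  have hMz : M *ᵥ z = H (M *ᵥ z) z • z := by
    have e1 : H (M *ᵥ z) u = 0 := by
      have := hM z u
      rwa [hu, hzu] at this
    have e2 : H (M *ᵥ z) w = 0 := by
      have := hM z w
      rw [hw, H_neg_right hF, hzw] at this
      exact neg_eq_zero.1 this
    conv_lhs => rw [hdec (M *ᵥ z), e1, e2, zero_smul, zero_smul, zero_add, zero_add]
  set c := H (M *ᵥ z) z with hc
  have hc2 : c * c = 1 := by
    have e : M *ᵥ (M *ᵥ z) = z := by rw [Matrix.mulVec_mulVec, hM2, Matrix.one_mulVec]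
    rw [hMz, Matrix.mulVec_smul, hMz, smul_smul] at e
    have := congrArg (fun y => H y z) e
    simpa [H_smul_left, hzz] using this
  refine ⟨u, huu, SU_ext fun x => ?_⟩
  rcases mul_self_eq_one_iff.1 hc2 with h1 | h1
  · exfalso
    have hMx : M = 1 + (-2 : F) • Matrix.vecMulVec w (fun i => w i ^ q) := by
      refine mat_ext fun y => ?_
      have hd' : (fun i => w i ^ q) ⬝ᵥ y = H y w := by rw [dotProduct_comm]; rfl
      rw [Matrix.add_mulVec, Matrix.one_mulVec, Matrix.smul_mulVec, Matrix.vecMulVec_mulVec, hd']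
      conv_lhs => rw [hdec y, Matrix.mulVec_add, Matrix.mulVec_add, Matrix.mulVec_smul,
        Matrix.mulVec_smul, Matrix.mulVec_smul, hu, hw, hMz, h1]
      conv_rhs => arg 1; rw [hdec y]
      funext i
      simp
      ring
    rw [hMx] at hdet
    rw [H_three hF] at hww
    simp [Matrix.det_fin_three, Matrix.vecMulVec_apply, Matrix.one_apply] at hdet
    exact h2 (by linear_combination (-1 : F) * hdet - 2 * hww)
  · show M *ᵥ x = mat (refl hF huu) *ᵥ x
    rw [refl_mulVec hF]
    conv_lhs => rw [hdec x, Matrix.mulVec_add, Matrix.mulVec_add, Matrix.mulVec_smul,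
      Matrix.mulVec_smul, Matrix.mulVec_smul, hu, hw, hMz, h1]
    conv_rhs => arg 1; arg 1; rw [hdec x]
    module

/-! ### Transitivity -/

theorem exists_move {v w : Vec} (hv : H v v = 1) (hw : H w w = 1) :
    ∃ g : Cfsg.SU 3 F q, ∃ a : F, mat g *ᵥ v = a • w := by
  obtain ⟨g, hg⟩ := exists_gu_frame (k := 1) (r := 2) hF (fun _ => w)
    (fun i j => by rw [if_pos (Subsingleton.elim i j)]; exact hw)
  obtain ⟨h, hh⟩ := exists_gu_frame (k := 1) (r := 2) hF (fun _ => v)
    (fun i j => by rw [if_pos (Subsingleton.elim i j)]; exact hv)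
  have hg0 : gmat g *ᵥ Pi.single (0 : Fin 3) 1 = w := hg 0
  have hh0 : gmat h⁻¹ *ᵥ v = Pi.single (0 : Fin 3) 1 := ginv_mulVec h (hh 0)
  have hk : ∀ x y, H (gmat (g * h⁻¹) *ᵥ x) (gmat (g * h⁻¹) *ᵥ y) = H x y := GU_H _
  set δ := (gmat (g * h⁻¹)).det with hδ
  have hδ1 : δ ^ (q + 1) = 1 := HermStd.det_norm hF _ hk
  have hδ0 : δ ≠ 0 := det_ne_zero_of_preserves hF hk
  set M : Mat := gmat g * Matrix.diagonal ![δ⁻¹, 1, 1] * gmat h⁻¹ with hMdef
  have hd : M.det = 1 := by
    rw [hMdef, Matrix.det_mul, Matrix.det_mul, Matrix.det_diagonal, Fin.prod_univ_three]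
    rw [gmat_mul, Matrix.det_mul] at hδ
    simp
    field_simp
    rw [hδ]
  have hDp : ∀ x y : Vec,
      H (Matrix.diagonal ![δ⁻¹, 1, 1] *ᵥ x) (Matrix.diagonal ![δ⁻¹, 1, 1] *ᵥ y) = H x y := by
    intro x y
    have : δ⁻¹ * δ⁻¹ ^ q = 1 := by rw [← pow_succ', inv_pow, hδ1, inv_one]
    simp [H_three hF, Matrix.mulVec_diagonal, mul_pow]
    linear_combination (x 0 * y 0 ^ q) * this
  have hMp : ∀ x y, H (M *ᵥ x) (M *ᵥ y) = H x y := by
    intro x y
    simp only [hMdef, ← Matrix.mulVec_mulVec]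
    rw [GU_H, hDp, GU_H]
  refine ⟨suMk M hd hMp, δ⁻¹, ?_⟩
  rw [suMk_mulVec, hMdef, ← Matrix.mulVec_mulVec, ← Matrix.mulVec_mulVec, hh0]
  have : Matrix.diagonal ![δ⁻¹, 1, 1] *ᵥ Pi.single (0 : Fin 3) 1 = δ⁻¹ • Pi.single (0 : Fin 3) 1 := by
    funext i
    fin_cases i <;> simp [Matrix.mulVec_diagonal]
  rw [this, Matrix.mulVec_smul, hg0]

theorem refl_conj (h2 : (2 : F) ≠ 0) {v w : Vec} (hv : H v v = 1) (hw : H w w = 1) :
    ∃ g : Cfsg.SU 3 F q, g * refl hF hv * g⁻¹ = refl hF hw := by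
  obtain ⟨g, a, hg⟩ := exists_move hF hv hw
  have hgv : H (a • w) (a • w) = 1 := by rw [← hg, SU_H, hv]
  refine ⟨g, ((refl_eq_iff hF h2 hw hgv).2 ⟨a, rfl⟩).symm ▸ mul_inv_eq_iff_eq_mul.2 (SU_ext fun x => ?_)⟩
  rw [mul_mulVec, mul_mulVec, refl_mulVec hF, refl_mulVec hF, Matrix.mulVec_add, Matrix.mulVec_neg,
    Matrix.mulVec_smul, ← hg, SU_H]

end Cfsg.Agent.SimpleFacts.UnitaryThreeReflection
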